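import Cfsg.Agent.H205.TE.P2_m3
import Cfsg.Agent.H765.D3.Sub
import Cfsg.Agent.H775.PU.Bound_m3
import Cfsg.Agent.S1067
import Cfsg.Agent.Hexagon.TwD4Ident
import Cfsg.Agent.HexRec.FixedField_m3
import Mathlib
import Cfsg.Agent.KFacts.RgdAutFacts
import Cfsg.Agent.KFacts.RgdRigid
import Cfsg.Agent.CpAut.RgdTwD4
import Cfsg.Agent.Lib.FrattiniPGroup
import Cfsg.Agent.FastGrp
import Cfsg.Agent.Prune
set_option linter.all false

section
prune_inst 0x7ff0eef88ab8a9dfdfff7e3fae98ddfc31849fffa4dffd43ffe061ef8b9f03020dc123ad09e010fc0fa2421400a87803f9ffceffea6bd87ffffd1df45ffbee0fe5f7bd0851d68c3407bc0ff703f0778e7f3fffffffffffffffffffffffffffaefffdffffffff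

-- part: H15/TE/E2_mg
section
prune_inst 0x10001110054000000000001460000000240005020000800000a1070602000000440000000c802401580a090000000000001000000040000004200000000001000000100000000000000000000000000000000000000000000000000000000000000000000
set_option linter.all false
open scoped Cfsg.Agent.FastGrp

section
open scoped commutatorElement
variable {G : Type*} [Group G] {E : Subgroup G}
private theorem Cfsg.Agent.H15.TE.E2cc.c2 (a b c : E) : ((⁅a, ⁅b, c⁆⁆ : E) : G) = ⁅(a : G), ⁅(b : G), (c : G)⁆⁆ := rfl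
private theorem Cfsg.Agent.H15.TE.E2cc.i2 {a b c : E} (h : ⁅(a : G), ⁅(b : G), (c : G)⁆⁆ = 1) : ⁅a, ⁅b, c⁆⁆ = 1 :=
  Subtype.ext h
private theorem Cfsg.Agent.H15.TE.E2cc.o3 {a b : E} {c : G} {hc : c ∈ E} (h : ⁅a, ⁅b, (⟨c, hc⟩ : E)⁆⁆ = 1) :
    ⁅(a : G), ⁅(b : G), c⁆⁆ = 1 := congrArg Subtype.val h
private theorem Cfsg.Agent.H15.TE.E2cc.o4 {a : E} {b c : G} {hb : b ∈ E} {hc : c ∈ E}
    (h : ⁅a, ⁅(⟨b, hb⟩ : E), (⟨c, hc⟩ : E)⁆⁆ = 1) : ⁅(a : G), ⁅b, c⁆⁆ = 1 := congrArg Subtype.val h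
private theorem Cfsg.Agent.H15.TE.E2cc.m1 {H : Subgroup G} {a b : E} (h : ((⁅a, b⁆ : E) : G) ∈ H) :
    ⁅(a : G), (b : G)⁆ ∈ H := h
private theorem Cfsg.Agent.H15.TE.E2cc.n1 {H : Subgroup G} {a b : E} (h : ⁅(a : G), (b : G)⁆ ∈ H) :
    ((⁅a, b⁆ : E) : G) ∈ H := h
private theorem Cfsg.Agent.H15.TE.E2cc.n2 {H : Subgroup G} {a b c : E} (h : ⁅(a : G), ⁅(b : G), (c : G)⁆⁆ ∈ H) :
    ((⁅a, ⁅b, c⁆⁆ : E) : G) ∈ H := h
end

-- part: H15/TE/E2
section
/-!
# S5261, part E: (E2), the essential subgroups containing `Q1` (helper15)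
-/

set_option autoImplicit false
set_option linter.unusedSectionVars false

namespace Cfsg.Agent.H15.TE

open Cfsg Cfsg.FusionSystem Cfsg.Agent.H756.PU Cfsg.Agent.H802.TE
open Cfsg.Agent.H765.D3 Cfsg.Agent.H765.D3.Sy
open Cfsg.Agent.Hex.Defs (sh cr nm tr)
open scoped commutatorElement

universe u

/-! ### Generalities -/

section gen

variable {Ω : Type u} [Group Ω] {S E : Subgroup Ω} {p : ℕ} {Γ : Subgroup (MulAut E)}

theorem not_le_of_ess (h : Ess S E p Γ) : ¬ S ≤ E := by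
  intro hSE
  obtain ⟨H, -, -, -, h1, -⟩ := h.spe
  apply h1
  rw [autInducedBy, Subgroup.closure_le]
  rintro α ⟨g, hg, hα⟩
  exact ⟨⟨g, hSE hg⟩, MulEquiv.ext fun x => Subtype.ext (hα x).symm⟩

theorem inv_self : _root_.Cfsg.Agent.H756.PU.Inv Γ E := ⟨le_rfl, fun γ _ e _ => (γ e).2⟩

/-- the centralizer in `E` of an invariant subgroup is invariant -/
theorem inv_cent {M : Subgroup Ω} (hM : _root_.Cfsg.Agent.H756.PU.Inv Γ M) : _root_.Cfsg.Agent.H756.PU.Inv Γ (E ⊓ Subgroup.centralizer (M : Set Ω)) := by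
  refine ⟨inf_le_left, fun γ hγ e he => ?_⟩
  refine Subgroup.mem_inf.2 ⟨(γ e).2, ?_⟩
  rw [Subgroup.mem_centralizer_iff]
  intro m hm
  have h1 := hM.2 γ⁻¹ (Γ.inv_mem hγ) ⟨m, hM.1 hm⟩ hm
  have h2 := Subgroup.mem_centralizer_iff.1 (Subgroup.mem_inf.1 he).2 _ h1
  have h3 : (γ⁻¹ ⟨m, hM.1 hm⟩ : E) * e = e * (γ⁻¹ ⟨m, hM.1 hm⟩ : E) := Subtype.ext h2
  have h4 := congrArg γ h3
  rw [map_mul, map_mul, MulAut.apply_inv_self] at h4
  exact congrArg Subtype.val h4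

end gen

/-! ### The field -/

section fld

variable {F K : Type u} [Field F] [Field K] [Algebra F K] (φ : K ≃ₐ[F] K) [Cub φ]

theorem exists_tr_eq {s : K} (hs : s ≠ 0) (r : F) : ∃ h : K, tr φ (s * h) = r := by
  obtain ⟨y, hy⟩ := exists_tr_ne φ
  refine ⟨(r / tr φ y) • (s⁻¹ * y), ?_⟩
  rw [mul_smul_comm, mul_inv_cancel_left₀ hs, tr_smul, div_mul_cancel₀ _ hy]

theorem perp_perp {s b : K} (hs : s ≠ 0) (h : ∀ x, tr φ (s * x) = 0 → tr φ (b * x) = 0) : ∃ κ : F, b = κ • s := by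
  obtain ⟨h0, hh0⟩ := exists_tr_eq φ hs 1
  refine ⟨tr φ (b * h0), ?_⟩
  rw [← sub_eq_zero]
  apply tr_nondeg φ
  intro x
  have h1 := h (x - tr φ (s * x) • h0) (by
    rw [mul_sub, tr_sub, mul_smul_comm, tr_smul, hh0, mul_one, sub_self])
  rw [mul_sub, tr_sub, mul_smul_comm, tr_smul] at h1
  rw [sub_mul, tr_sub, smul_mul_assoc, tr_smul]
  linear_combination h1

/-- two independent elements of `s^⊥` -/
theorem exists_indep {s : K} (hs : s ≠ 0) :
    ∃ t1 t2 : K, tr φ (s * t1) = 0 ∧ tr φ (s * t2) = 0 ∧ t1 ≠ 0 ∧ ∀ κ : F, t2 ≠ κ • t1 := by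
  obtain ⟨θ, hθ⟩ := Cub.ne (φ := φ)
  refine ⟨s⁻¹ * (θ - φ θ), s⁻¹ * (θ ^ 2 - φ (θ ^ 2)), ?_, ?_, ?_, ?_⟩
  · rw [mul_inv_cancel_left₀ hs, tr_sub, tr_phi, sub_self]
  · rw [mul_inv_cancel_left₀ hs, tr_sub, tr_phi, sub_self]
  · exact mul_ne_zero (inv_ne_zero hs) (sub_ne_zero.2 hθ.symm)
  · intro κ h
    have h1 : θ ^ 2 - φ (θ ^ 2) = algebraMap F K κ * (θ - φ θ) := by
      have h2 := congrArg (fun y => s * y) h
      simp only [Algebra.smul_def] at h2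
      rw [mul_inv_cancel_left₀ hs] at h2
      rw [h2]
      have h3 : s * (algebraMap F K κ * (s⁻¹ * (θ - φ θ))) = algebraMap F K κ * (s * (s⁻¹ * (θ - φ θ))) := by ring
      rw [h3, mul_inv_cancel_left₀ hs]
    rw [map_pow] at h1
    have h2 : (θ - φ θ) * (θ + φ θ - algebraMap F K κ) = 0 := by linear_combination h1
    have h3 := (mul_eq_zero.1 h2).resolve_left (sub_ne_zero.2 hθ.symm)
    have h4 := congrArg φ h3
    rw [map_sub, map_add, phi_coe, map_zero] at h4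
    have h5 : φ (φ θ) = θ := by linear_combination h4 - h3
    have h6 := congrArg φ h5
    rw [phi3] at h6
    exact hθ h6.symm

/-- the trace form -/
noncomputable def trL : K →ₗ[F] K →ₗ[F] F :=
  LinearMap.mk₂ F (fun l x => tr φ (l * x)) (fun a b x => by rw [add_mul, tr_add])
    (fun r a x => by rw [smul_mul_assoc, tr_smul, smul_eq_mul]) (fun a x y => by rw [mul_add, tr_add])
    (fun r a x => by rw [mul_smul_comm, tr_smul, smul_eq_mul])

theorem exists_perp [Finite K] {T : Submodule F K} (hT : T ≠ ⊤) : ∃ l : K, l ≠ 0 ∧ ∀ x ∈ T, tr φ (l * x) = 0 := by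
  obtain ⟨f, hf, hTf⟩ := Submodule.exists_le_ker_of_lt_top T (lt_top_iff_ne_top.2 hT)
  have hinj : Function.Injective (trL φ) := by
    rw [← LinearMap.ker_eq_bot, LinearMap.ker_eq_bot']
    intro a ha
    apply tr_nondeg φ
    intro t
    exact LinearMap.congr_fun ha t
  have hfin : Module.Finite F K := Module.Finite.of_finite
  have hsurj : Function.Surjective (trL φ) :=
    (LinearMap.injective_iff_surjective_of_finrank_eq_finrank (by exact (Subspace.dual_finrank_eq).symm)).1 hinj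
  obtain ⟨l, hl⟩ := hsurj f
  refine ⟨l, ?_, fun x hx => ?_⟩
  · rintro rfl
    apply hf
    rw [← hl, map_zero]
  · have h1 := LinearMap.mem_ker.1 (hTf hx)
    rw [← hl] at h1
    exact h1

/-- `c ⋆ ·` -/
noncomputable def crL (c : K) : K →ₗ[F] K where
  toFun x := cr φ c x
  map_add' x y := cr_add_right φ c x y
  map_smul' r x := cr_smul_right φ r c x

theorem cr_sup_two [Finite K] (h2 : (2 : K) = 0) {c1 c2 : K} (h1 : c1 ≠ 0) (h12 : ∀ κ : F, c2 ≠ κ • c1) (b : K) :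
    ∃ x y : K, b = cr φ c1 x + cr φ c2 y := by
  have hT : LinearMap.range (crL φ c1) ⊔ LinearMap.range (crL φ c2) = ⊤ := by
    by_contra hcon
    obtain ⟨l, hl, hlT⟩ := exists_perp φ hcon
    have h3 : cr φ l c1 = 0 := by
      apply tr_nondeg φ
      intro x
      rw [tr_cr]
      exact hlT _ (Submodule.mem_sup_left ⟨x, rfl⟩)
    have h4 : cr φ l c2 = 0 := by
      apply tr_nondeg φ
      intro x
      rw [tr_cr]
      exact hlT _ (Submodule.mem_sup_right ⟨x, rfl⟩)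
    obtain ⟨s1, hs1⟩ := cr_eq_zero_two φ h2 hl h3
    obtain ⟨s2, hs2⟩ := cr_eq_zero_two φ h2 hl h4
    have hs10 : s1 ≠ 0 := fun h => h1 (by rw [hs1, h, zero_smul])
    apply h12 (s2 / s1)
    rw [hs1, hs2, smul_smul, div_mul_cancel₀ _ hs10]
  have hb : b ∈ LinearMap.range (crL φ c1) ⊔ LinearMap.range (crL φ c2) := by rw [hT]; trivial
  obtain ⟨y, ⟨x, rfl⟩, z, ⟨w, rfl⟩, h⟩ := Submodule.mem_sup.1 hb
  exact ⟨x, w, h.symm⟩

theorem cr_sup_sh [Finite K] (h2 : (2 : K) = 0) {t : K} (ht : t ≠ 0) (b : K) :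
    ∃ (x : K) (r : F), b = cr φ t x + r • sh φ t := by
  have hT : LinearMap.range (crL φ t) ⊔ F ∙ (sh φ t) = ⊤ := by
    by_contra hcon
    obtain ⟨l, hl, hlT⟩ := exists_perp φ hcon
    have h3 : cr φ l t = 0 := by
      apply tr_nondeg φ
      intro x
      rw [tr_cr]
      exact hlT _ (Submodule.mem_sup_left ⟨x, rfl⟩)
    obtain ⟨s1, hs1⟩ := cr_eq_zero_two φ h2 hl h3
    have h4 := hlT _ (Submodule.mem_sup_right (Submodule.mem_span_singleton_self (sh φ t)))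
    have h5 : tr φ (sh φ t * t) = 0 := by
      have h6 : sh φ t * t = s1 • (l * sh φ t) := by
        nth_rw 2 [hs1]
        rw [mul_smul_comm, mul_comm]
      rw [h6, tr_smul, h4, mul_zero]
    rw [tr_sh_mul] at h5
    have h2F : (2 : F) = 0 := by
      apply (algebraMap F K).injective
      rw [map_ofNat, map_zero, h2]
    have h7 : nm φ t = 0 := by linear_combination h5 - nm φ t * h2F
    exact ht ((nm_eq_zero φ).1 h7)
  have hb : b ∈ LinearMap.range (crL φ t) ⊔ F ∙ (sh φ t) := by rw [hT]; trivial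
  obtain ⟨y, ⟨x, rfl⟩, z, hz, h⟩ := Submodule.mem_sup.1 hb
  obtain ⟨r, rfl⟩ := Submodule.mem_span_singleton.1 hz
  exact ⟨x, r, h.symm⟩

/-- in odd characteristic there are `t ∈ s^⊥` with `t^# ∉ F s` -/
theorem exists_sh (h2 : (2 : K) ≠ 0) {s : K} (hs : s ≠ 0) :
    ∃ t : K, tr φ (s * t) = 0 ∧ t ≠ 0 ∧ ∀ κ : F, sh φ t ≠ κ • s := by
  obtain ⟨t1, t2, h1, h2', h3, h4⟩ := exists_indep φ hs
  by_contra hcon
  push Not at hcon
  have hc : ∀ t : K, tr φ (s * t) = 0 → ∃ κ : F, sh φ t = κ • s := by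
    intro t ht
    by_cases ht0 : t = 0
    · exact ⟨0, by rw [ht0, sh_zero, zero_smul]⟩
    · exact hcon t ht ht0
  obtain ⟨α, hα⟩ := hc t1 h1
  obtain ⟨β, hβ⟩ := hc t2 h2'
  obtain ⟨γ, hγ⟩ := hc (t1 + t2) (by rw [mul_add, tr_add, h1, h2', add_zero])
  have h5 : cr φ t1 t2 = (γ - α - β) • s := by
    rw [sh_add, hα, hβ] at hγ
    rw [sub_smul, sub_smul, ← hγ]
    ring
  have h6 : cr φ t1 t1 = (2 * α) • s := by
    rw [cr_self, hα, mul_smul]
    rw [Algebra.smul_def (2 : F), map_ofNat]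
  have h7 : cr φ t1 ((γ - α - β) • t1 - (2 * α) • t2) = 0 := by
    rw [sub_eq_add_neg, cr_add_right, cr_neg_right, cr_smul_right, cr_smul_right, h5, h6, smul_smul, smul_smul, mul_comm,
      add_neg_cancel]
  have h8 := (cr_eq_zero φ h2 h7).resolve_left h3
  by_cases hα0 : (2 * α) = 0
  · rw [hα0, zero_smul] at h6
    exact h3 ((cr_eq_zero φ h2 h6).elim id id)
  · apply h4 ((2 * α)⁻¹ * (γ - α - β))
    rw [mul_smul, sub_eq_zero.1 h8, smul_smul, inv_mul_cancel₀ hα0, one_smul]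

end fld

/-! ### The group -/

section grp

variable {F K : Type u} [Field F] [Field K] [Algebra F K] {φ : K ≃ₐ[F] K} [Cub φ]

theorem comm_x3g (x y : Sy φ) : (⁅x, y⁆).x3 =
    cr φ x.x1 y.x5 + y.x6 • sh φ x.x1 - cr φ y.x1 x.x5 - x.x6 • sh φ y.x1 := by
  have := congrArg Sy.x3 (comm_mul x y)
  rw [mul_x3, mul_x3, mul_x3, comm_x1] at this
  simp only [cr_zero_left, sh_zero, smul_zero, add_zero] at this
  linear_combination -this

/-! #### Elements with the same leading coordinate -/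

theorem mem_of_x2 {P : Subgroup (Sy φ)} (hP : Z1 φ ≤ P) {g z : Sy φ} (hgP : g ∈ P) (hg : g ∈ Z2 φ) (hz : z ∈ Z2 φ)
    (h : g.x2 = z.x2) : z ∈ P := by
  have h1 : g⁻¹ * z ∈ Z1 φ := by
    refine ⟨?_, ?_, ?_, ?_, ?_⟩
    · rw [mul_x1, inv_x1, hg.1, hz.1]; ring
    · rw [mul_x6, inv_x6, hg.2.1, hz.2.1]; ring
    · rw [mul_x5, inv_x5, hg.2.2.1, hz.2.2.1, hg.2.1, hz.2.1]; simp
    · rw [mul_x3, inv_x3, inv_x1, hg.2.2.2, hz.2.2.2, hg.2.1, hz.2.1, hg.1, hg.2.2.1]; simp [cr]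
    · rw [mul_x2, inv_x2, inv_x1, h, hg.1, hg.2.1, hz.2.1]; simp [tr_zero, sh]
  have h2 : z = g * (g⁻¹ * z) := by group
  rw [h2]
  exact P.mul_mem hgP (hP h1)

theorem mem_of_x3 {P : Subgroup (Sy φ)} (hP : Z2 φ ≤ P) {g z : Sy φ} (hgP : g ∈ P) (hg : g ∈ Z3 φ) (hz : z ∈ Z3 φ)
    (h : g.x3 = z.x3) : z ∈ P := by
  have h1 : g⁻¹ * z ∈ Z2 φ := by
    refine ⟨?_, ?_, ?_, ?_⟩
    · rw [mul_x1, inv_x1, hg.1, hz.1]; ring
    · rw [mul_x6, inv_x6, hg.2.1, hz.2.1]; ring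
    · rw [mul_x5, inv_x5, hg.2.2, hz.2.2, hg.2.1, hz.2.1]; simp
    · rw [mul_x3, inv_x3, inv_x1, h, hg.2.1, hz.2.1, hg.1, hg.2.2]; simp [cr]
  have h2 : z = g * (g⁻¹ * z) := by group
  rw [h2]
  exact P.mul_mem hgP (hP h1)

theorem mem_of_x5 {P : Subgroup (Sy φ)} (hP : Z3 φ ≤ P) {g z : Sy φ} (hgP : g ∈ P) (hg : g ∈ Z4 φ) (hz : z ∈ Z4 φ)
    (h : g.x5 = z.x5) : z ∈ P := by
  have h1 : g⁻¹ * z ∈ Z3 φ := by
    refine ⟨?_, ?_, ?_⟩
    · rw [mul_x1, inv_x1, hg.1, hz.1]; ring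
    · rw [mul_x6, inv_x6, hg.2, hz.2]; ring
    · rw [mul_x5, inv_x5, inv_x1, h, hg.2, hz.2, hg.1]; simp
  have h2 : z = g * (g⁻¹ * z) := by group
  rw [h2]
  exact P.mul_mem hgP (hP h1)

theorem mem_iff_x1 {E : Subgroup (Sy φ)} (hQ : Q1 φ ≤ E) (x : Sy φ) : x ∈ E ↔ u1 φ x.x1 ∈ E := by
  have h1 : x * (u1 φ x.x1)⁻¹ ∈ Q1 φ := by
    rw [mem_Q1, mul_x1, inv_x1]
    simp [u1]
  have h2 : x = (x * (u1 φ x.x1)⁻¹) * u1 φ x.x1 := by group
  constructor
  · intro hx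
    have h3 : u1 φ x.x1 = (x * (u1 φ x.x1)⁻¹)⁻¹ * x := by group
    rw [h3]
    exact E.mul_mem (E.inv_mem (hQ h1)) hx
  · intro hx
    rw [h2]
    exact E.mul_mem (hQ h1) hx

theorem exists_of_ne {E : Subgroup (Sy φ)} (hQ : Q1 φ ≤ E) (hne : E ≠ Q1 φ) : ∃ t : K, t ≠ 0 ∧ u1 φ t ∈ E := by
  by_contra hcon
  push Not at hcon
  apply hne
  refine le_antisymm (fun x hx => ?_) hQ
  by_contra hx1
  exact hcon x.x1 hx1 ((mem_iff_x1 hQ x).1 hx)

/-- `Φ` contains `Z2` -/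
theorem Z2_le_phi {E P : Subgroup (Sy φ)} (hE : Com E E P) (hQ : Q1 φ ≤ E) {t : K} (ht : t ≠ 0) (htE : u1 φ t ∈ E) :
    Z2 φ ≤ P := by
  have h1 : Z1 φ ≤ P := by
    intro z hz
    have h2 := hE (u6 φ z.x4) (hQ (u6_mem _)) (u2 φ 1) (hQ (Z4_le_Q1 (Z3_le_Z4 (Z2_le_Z3 (u2_mem _)))))
    rw [← commutatorElement_def, comm_Z2 (u2_mem 1)] at h2
    rw [eq_u4 hz]
    simpa [u6, u2] using h2
  intro z hz
  obtain ⟨b, hb⟩ := exists_tr_eq φ ht z.x2
  have h2 := hE (u1 φ t) htE (u3 φ b) (hQ (Z4_le_Q1 (Z3_le_Z4 (u3_mem _))))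
  rw [← commutatorElement_def] at h2
  exact mem_of_x2 h1 h2 (comm_mem_Z2 (u3_mem b)) hz (by rw [comm_x2' (u3_mem b)]; exact hb)

theorem exists_cr_mem {E P : Subgroup (Sy φ)} (hE : Com E E P) (hQ : Q1 φ ≤ E) {t : K} (htE : u1 φ t ∈ E) (c : K) :
    ∃ g ∈ P, g ∈ Z3 φ ∧ g.x3 = cr φ t c := by
  have h2 := hE (u1 φ t) htE (u5 φ c) (hQ (Z4_le_Q1 (u5_mem _)))
  rw [← commutatorElement_def] at h2
  exact ⟨_, h2, comm_mem_Z3 (u5_mem c), comm_x3 (u5_mem c)⟩

theorem exists_add_mem {P : Subgroup (Sy φ)} {b c : K} (hb : ∃ g ∈ P, g ∈ Z3 φ ∧ g.x3 = b)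
    (hc : ∃ g ∈ P, g ∈ Z3 φ ∧ g.x3 = c) : ∃ g ∈ P, g ∈ Z3 φ ∧ g.x3 = b + c := by
  obtain ⟨g, hg, hg3, rfl⟩ := hb
  obtain ⟨k, hk, hk3, rfl⟩ := hc
  refine ⟨g * k, P.mul_mem hg hk, (Z3 φ).mul_mem hg3 hk3, ?_⟩
  rw [mul_x3, hg3.1, hk3.2.1, cr_zero_left, zero_smul, add_zero, add_zero]

theorem exists_sh_mem {E P : Subgroup (Sy φ)} (hE : Com E E P) (hQ : Q1 φ ≤ E) {t : K} (htE : u1 φ t ∈ E) {κ : F}
    (hκE : u1 φ (κ • t) ∈ E) (hκ0 : κ ≠ 0) (hκ1 : κ ≠ 1) (r : F) : ∃ g ∈ P, g ∈ Z3 φ ∧ g.x3 = r • sh φ t := by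
  have h1 := hE _ hκE (u6 φ (r / (κ * (κ - 1)))) (hQ (u6_mem _))
  have h2 := hE _ htE (u6 φ (r / (κ * (κ - 1)) * κ)) (hQ (u6_mem _))
  rw [← commutatorElement_def] at h1 h2
  set g1 := ⁅u1 φ (κ • t), u6 φ (r / (κ * (κ - 1)))⁆ with hg1
  set g2 := ⁅u1 φ t, u6 φ (r / (κ * (κ - 1)) * κ)⁆ with hg2
  have a11 : g1.x1 = 0 := comm_x1 _ _
  have a16 : g1.x6 = 0 := comm_x6 _ _
  have a15 : g1.x5 = (r / (κ * (κ - 1)) * κ) • t := by
    rw [hg1, comm_x5]
    simp only [u1, u6, zero_smul, sub_zero, smul_smul]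
  have a13 : g1.x3 = (r / (κ * (κ - 1)) * κ ^ 2) • sh φ t := by
    rw [hg1, comm_x3g]
    simp only [u1, u6, zero_smul, sub_zero, cr_zero_right, zero_add, sh_smul, smul_smul]
  have a21 : g2.x1 = 0 := comm_x1 _ _
  have a26 : g2.x6 = 0 := comm_x6 _ _
  have a25 : g2.x5 = (r / (κ * (κ - 1)) * κ) • t := by
    rw [hg2, comm_x5]
    simp only [u1, u6, zero_smul, sub_zero]
  have a23 : g2.x3 = (r / (κ * (κ - 1)) * κ) • sh φ t := by
    rw [hg2, comm_x3g]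
    simp only [u1, u6, zero_smul, sub_zero, cr_zero_right, zero_add]
  refine ⟨g1 * g2⁻¹, P.mul_mem h1 (P.inv_mem h2), ⟨?_, ?_, ?_⟩, ?_⟩
  · rw [mul_x1, inv_x1, a11, a21]; ring
  · rw [mul_x6, inv_x6, a16, a26]; ring
  · rw [mul_x5, inv_x5, inv_x6, a15, a25, a26, a11]; simp
  · rw [mul_x3, inv_x3, inv_x6, a11, a21, a26, a13, a23]
    simp only [cr_zero_left, zero_smul, neg_zero, sub_zero, add_zero]
    rw [← sub_eq_add_neg, ← sub_smul]
    congr 1
    have : κ - 1 ≠ 0 := sub_ne_zero.2 hκ1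
    field_simp

theorem Z3_le_of_forall {P : Subgroup (Sy φ)} (h2 : Z2 φ ≤ P) (hT : ∀ b : K, ∃ g ∈ P, g ∈ Z3 φ ∧ g.x3 = b) :
    Z3 φ ≤ P := by
  intro z hz
  obtain ⟨g, hg, hg3, h⟩ := hT z.x3
  exact mem_of_x3 h2 hg hg3 hz h

/-- `Z3 ≤ Φ`, `p` odd -/
theorem Z3_le_odd [Finite K] (h2 : (2 : K) ≠ 0) {E P : Subgroup (Sy φ)} (hE : Com E E P) (hQ : Q1 φ ≤ E) {t : K}
    (ht : t ≠ 0) (htE : u1 φ t ∈ E) : Z3 φ ≤ P := by
  refine Z3_le_of_forall (Z2_le_phi hE hQ ht htE) fun b => ?_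
  have hinj : Function.Injective (fun c => cr φ t c) := by
    intro c c' hcc
    have h1 : cr φ t (c - c') = 0 := by
      have h3 : cr φ t c = cr φ t c' := hcc
      rw [sub_eq_add_neg, cr_add_right, cr_neg_right, h3, add_neg_cancel]
    exact sub_eq_zero.1 ((cr_eq_zero φ h2 h1).resolve_left ht)
  obtain ⟨c, hc⟩ := (Finite.injective_iff_surjective.1 hinj) b
  have hc' : cr φ t c = b := hc
  rw [← hc']
  exact exists_cr_mem hE hQ htE c

/-- `Z3 ≤ Φ`, `p = 2`, two independent elements -/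
theorem Z3_le_two [Finite K] (h2 : (2 : K) = 0) {E P : Subgroup (Sy φ)} (hE : Com E E P) (hQ : Q1 φ ≤ E) {t1 t2 : K}
    (ht : t1 ≠ 0) (ht1 : u1 φ t1 ∈ E) (ht2 : u1 φ t2 ∈ E) (h12 : ∀ κ : F, t2 ≠ κ • t1) : Z3 φ ≤ P := by
  refine Z3_le_of_forall (Z2_le_phi hE hQ ht ht1) fun b => ?_
  obtain ⟨x, y, rfl⟩ := cr_sup_two φ h2 ht h12 b
  exact exists_add_mem (exists_cr_mem hE hQ ht1 x) (exists_cr_mem hE hQ ht2 y)

/-- `Z3 ≤ Φ`, `p = 2`, `t` and `κ t` -/
theorem Z3_le_two' [Finite K] (h2 : (2 : K) = 0) {E P : Subgroup (Sy φ)} (hE : Com E E P) (hQ : Q1 φ ≤ E) {t : K}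
    (ht : t ≠ 0) (htE : u1 φ t ∈ E) {κ : F} (hκE : u1 φ (κ • t) ∈ E) (hκ0 : κ ≠ 0) (hκ1 : κ ≠ 1) : Z3 φ ≤ P := by
  refine Z3_le_of_forall (Z2_le_phi hE hQ ht htE) fun b => ?_
  obtain ⟨x, r, rfl⟩ := cr_sup_sh φ h2 ht b
  exact exists_add_mem (exists_cr_mem hE hQ htE x) (exists_sh_mem hE hQ htE hκE hκ0 hκ1 r)

/-- the quotient of `Z4` by `Z3` -/
def hom5 (φ : K ≃ₐ[F] K) [Cub φ] : Z4 φ →* Multiplicative K where
  toFun x := Multiplicative.ofAdd x.1.x5
  map_one' := rfl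
  map_mul' x y := by
    have h1 : ((x * y : Z4 φ) : Sy φ).x5 = x.1.x5 + y.1.x5 := by
      rw [Subgroup.coe_mul, mul_x5, y.2.2, zero_smul, add_zero]
    show Multiplicative.ofAdd ((x * y : Z4 φ) : Sy φ).x5 = _
    rw [h1]
    rfl

theorem hom5_surjective : Function.Surjective (hom5 φ) := fun a => ⟨⟨u5 φ a.toAdd, u5_mem _⟩, rfl⟩

theorem normIn_top {E : Subgroup (Sy φ)} (hZ : Z4 φ ≤ E) : normalizerIn ⊤ E = ⊤ := by
  have hn : E.Normal := normal_of_comm fun x y _ => hZ (comm_mem_Z4 x y)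
  rw [normalizerIn, Subgroup.normalizer_eq_top, top_inf_eq]

/-- the functional `x ↦ Tr(s x1)` -/
noncomputable def homT (φ : K ≃ₐ[F] K) [Cub φ] (s : K) : Sy φ →* Multiplicative F where
  toFun x := Multiplicative.ofAdd (tr φ (s * x.x1))
  map_one' := by
    show Multiplicative.ofAdd (tr φ (s * 0)) = _
    rw [mul_zero, tr_zero]; rfl
  map_mul' x y := by
    show Multiplicative.ofAdd (tr φ (s * (x.x1 + y.x1))) = _
    rw [mul_add, tr_add]; rfl

theorem homT_surjective {s : K} (hs : s ≠ 0) : Function.Surjective (homT φ s) := fun a => by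
  obtain ⟨h, hh⟩ := exists_tr_eq φ hs a.toAdd
  exact ⟨u1 φ h, congrArg Multiplicative.ofAdd hh⟩

end grp

/-! ### The shape of `E` and `Φ(E)` if `Z3 ≤ Φ(E)` -/

section lemA

variable {F K : Type u} [Field F] [Field K] [Finite F] [Finite K] [Algebra F K] {φ : K ≃ₐ[F] K} [Cub φ]
  {p : ℕ} [CharP K p] {E : Subgroup (Sy φ)} {Γ : Subgroup (MulAut E)}

theorem p_smul (x : K) : p • x = 0 := by rw [nsmul_eq_mul, CharP.cast_eq_zero, zero_mul]

omit [CharP K p] in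
theorem isPGroup_of_ess (h : Ess ⊤ E p Γ) : IsPGroup p E := by
  have h1 := h.pgr.of_injective (Subgroup.inclusion h.E_le) (Subgroup.inclusion_injective _)
  exact h1

theorem pow_mem_Z4 (x : Sy φ) : x ^ p ∈ Z4 φ := by
  refine ⟨?_, ?_⟩
  · have h1 : hom1 φ (x ^ p) = 1 := by
      rw [map_pow]
      show Multiplicative.ofAdd (p • x.x1) = 1
      rw [p_smul]
      rfl
    exact h1
  · have h1 : hom6 φ (x ^ p) = 1 := by
      rw [map_pow]
      show Multiplicative.ofAdd (p • x.x6) = 1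
      have h2 : p • x.x6 = 0 := by
        apply (algebraMap F K).injective
        rw [map_nsmul, p_smul, map_zero]
      rw [h2]
      rfl
    exact h1

theorem phi_le_Z4 (hphi : StPhi.{u}) (h : Ess ⊤ E p Γ) (hZ : Z4 φ ≤ E) : Phi E ≤ Z4 φ := by
  obtain ⟨-, -, -, h4, -, -⟩ := hphi E p h.pp inferInstance (isPGroup_of_ess h)
  exact h4 (Z4 φ) hZ (fun a _ b _ => comm_mem_Z4 a b) (fun x _ => pow_mem_Z4 x)

theorem lemA (hphi : StPhi.{u}) (hp2 : StP2.{u}) (hp2w : StP2w.{u}) (h : Ess ⊤ E p Γ) (hQ : Q1 φ ≤ E)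
    (hZ : Z3 φ ≤ Phi E) :
    ∃ s : K, s ≠ 0 ∧ (∀ x : Sy φ, x ∈ E ↔ tr φ (s * x.x1) = 0) ∧
      ∀ x : Sy φ, x ∈ Phi E ↔ x ∈ Z4 φ ∧ tr φ (s * x.x5) = 0 := by
  have hZ4 : Z4 φ ≤ E := Z4_le_Q1.trans hQ
  have hN : normalizerIn ⊤ E = ⊤ := normIn_top hZ4
  have hTE : ¬ (⊤ : Subgroup (Sy φ)) ≤ E := not_le_of_ess h
  obtain ⟨hΦE, hEE, -, -, -, -⟩ := hphi E p h.pp inferInstance (isPGroup_of_ess h)
  have hΦ4 : Phi E ≤ Z4 φ := phi_le_Z4 hphi h hZ4
  -- the index inequality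
  have i1 : E.index ≤ (Phi E).relIndex (Z4 φ) := by
    have := hp2 h ⊤ ⊤ (Z4 φ) (Z4 φ) (Phi E) (Phi E) hN.ge hN.ge hTE hZ4 hZ4 (fun a _ b _ => comm_mem_Z4 a b)
      (fun a _ b _ => comm_mem_Z4 a b) le_rfl le_rfl
    rw [Subgroup.relIndex_top_right, ← sq] at this
    exact (Nat.pow_le_pow_iff_left two_ne_zero).1 this
  set B : Subgroup (Multiplicative K) := E.map (hom1 φ) with hB
  set P : Subgroup (Multiplicative K) := ((Phi E).subgroupOf (Z4 φ)).map (hom5 φ) with hP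
  have i2 : B.index = E.index := Subgroup.index_map_eq E hom1_surjective (by rw [ker_hom1]; exact hQ)
  have i3 : P.index = (Phi E).relIndex (Z4 φ) := by
    refine Subgroup.index_map_eq _ hom5_surjective ?_
    intro x hx
    rw [Subgroup.mem_subgroupOf]
    exact hZ ⟨x.2.1, x.2.2, hx⟩
  have hBP : B ≤ P := by
    rintro _ ⟨e, he, rfl⟩
    have h1 : u1 φ e.x1 ∈ E := (mem_iff_x1 hQ e).1 he
    have h2 := hEE _ h1 (u6 φ 1) (hQ (u6_mem _))
    rw [← commutatorElement_def] at h2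
    refine ⟨⟨_, comm_mem_Z4 _ _⟩, Subgroup.mem_subgroupOf.2 h2, ?_⟩
    show Multiplicative.ofAdd (⁅u1 φ e.x1, u6 φ 1⁆).x5 = Multiplicative.ofAdd e.x1
    rw [comm_x5]
    simp [u1, u6]
  have hPB : P ≤ B := by
    rw [← Subgroup.relIndex_eq_one]
    have h1 := Subgroup.relIndex_mul_index hBP
    have h2 : P.index ≠ 0 := Subgroup.index_ne_zero_of_finite
    have h3 : B.relIndex P ≠ 0 := by
      intro h0
      rw [h0, zero_mul] at h1
      exact Subgroup.index_ne_zero_of_finite h1.symm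
    have h4 : B.relIndex P * P.index ≤ 1 * P.index := by rw [h1, one_mul, i2, i3]; exact i1
    have h5 := Nat.le_of_mul_le_mul_right h4 (Nat.pos_of_ne_zero h2)
    omega
  have hΦ : ∀ x : Sy φ, x ∈ Z4 φ → (x ∈ Phi E ↔ u1 φ x.x5 ∈ E) := by
    intro x hx
    constructor
    · intro hxP
      have h1 : hom5 φ ⟨x, hx⟩ ∈ P := ⟨⟨x, hx⟩, Subgroup.mem_subgroupOf.2 hxP, rfl⟩
      obtain ⟨e, he, h2⟩ := hPB h1
      have h3 : e.x1 = x.x5 := h2
      rw [← h3]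
      exact (mem_iff_x1 hQ e).1 he
    · intro hxE
      have h2 := hEE _ hxE (u6 φ 1) (hQ (u6_mem _))
      rw [← commutatorElement_def] at h2
      refine mem_of_x5 hZ h2 (comm_mem_Z4 _ _) hx ?_
      rw [comm_x5]
      simp [u1, u6]
  -- the subspace
  let T : Submodule F K :=
    { carrier := {a | u1 φ a ∈ E}
      add_mem' := fun {a b} ha hb => by
        show u1 φ (a + b) ∈ E
        rw [u1_add]; exact E.mul_mem ha hb
      zero_mem' := E.one_mem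
      smul_mem' := fun r a ha => by
        have h2 := hEE _ ha (u6 φ r) (hQ (u6_mem _))
        rw [← commutatorElement_def] at h2
        have h3 := (hΦ _ (comm_mem_Z4 _ _)).1 h2
        rw [comm_x5] at h3
        simp only [u1, u6, zero_smul, sub_zero] at h3
        exact h3 }
  have hTm : ∀ a : K, a ∈ T ↔ u1 φ a ∈ E := fun a => Iff.rfl
  have hTtop : T ≠ ⊤ := by
    intro hT
    apply hTE
    intro x _
    rw [mem_iff_x1 hQ, ← hTm, hT]
    trivial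
  obtain ⟨l, hl, hlT⟩ := exists_perp φ hTtop
  -- the second inequality
  have i4 : E.index ≤ Nat.card F := by
    have := hp2w h ⊤ ⊤ (E ⊓ Q2 φ) (E ⊓ Q2 φ) hN.ge hN.ge hTE inf_le_left inf_le_left ?_ ?_
    · rw [Subgroup.relIndex_top_right, ← sq] at this
      have h1 := (Nat.pow_le_pow_iff_left two_ne_zero).1 this
      rw [Subgroup.inf_relIndex_left] at h1
      have h2 : (Q2 φ).relIndex E ≤ (Q2 φ).index :=
        Nat.le_of_dvd (Nat.pos_of_ne_zero Subgroup.index_ne_zero_of_finite) (Subgroup.relIndex_dvd_index_of_normal _ _)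
      rw [index_Q2] at h2
      exact h1.trans h2
    all_goals
      intro g _ x hx
      obtain ⟨hx1, hx2⟩ := Subgroup.mem_inf.1 hx
      rw [mem_Q2] at hx2
      rw [← commutatorElement_def, hΦ _ (comm_mem_Z4 _ _), ← hTm, comm_x5, hx2, zero_smul, zero_sub]
      exact T.neg_mem (T.smul_mem _ ((hTm _).2 ((mem_iff_x1 hQ x).1 hx1)))
  have hEL : E ≤ (homT φ l).ker := by
    intro x hx
    exact congrArg Multiplicative.ofAdd (hlT x.x1 ((mem_iff_x1 hQ x).1 hx))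
  have hLE : (homT φ l).ker ≤ E := by
    rw [← Subgroup.relIndex_eq_one]
    have h1 := Subgroup.relIndex_mul_index hEL
    have h2 : (homT φ l).ker.index = Nat.card F := by
      rw [Subgroup.index_ker, MonoidHom.range_eq_top.2 ((by exact homT_surjective hl))]
      exact Subgroup.card_top
    have h3 : E.relIndex (homT φ l).ker ≠ 0 := by
      intro h0
      rw [h0, zero_mul] at h1
      exact Subgroup.index_ne_zero_of_finite h1.symm
    have h4 : E.relIndex (homT φ l).ker * (homT φ l).ker.index ≤ 1 * (homT φ l).ker.index := by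
      rw [h1, one_mul, h2]; exact i4
    have h5 := Nat.le_of_mul_le_mul_right h4 (Nat.pos_of_ne_zero Subgroup.index_ne_zero_of_finite)
    omega
  have hE : ∀ x : Sy φ, x ∈ E ↔ tr φ (l * x.x1) = 0 := fun x => ⟨fun hx => hEL hx, fun hx => hLE hx⟩
  refine ⟨l, hl, hE, fun x => ?_⟩
  constructor
  · intro hx
    exact ⟨hΦ4 hx, (hE _).1 ((hΦ x (hΦ4 hx)).1 hx)⟩
  · rintro ⟨hx4, hx5⟩
    exact (hΦ x hx4).2 ((hE _).2 hx5)

end lemA

/-! ### The plane case -/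

section plane

variable {F K : Type u} [Field F] [Field K] [Finite F] [Finite K] [Algebra F K] {φ : K ≃ₐ[F] K} [Cub φ]
  {p : ℕ} [CharP K p] {E : Subgroup (Sy φ)} {Γ : Subgroup (MulAut E)}

omit [Finite F] [Finite K] in
theorem conj_comm_E (γ : MulAut E) (w e : E) :
    ⁅((γ w : E) : Sy φ), ⁅((γ w : E) : Sy φ), ((γ e : E) : Sy φ)⁆⁆ = ((γ ⁅w, ⁅w, e⁆⁆ : E) : Sy φ) := by
  rw [map_commutatorElement, map_commutatorElement]
  exact (Cfsg.Agent.H15.TE.E2cc.c2 _ _ _).symm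

omit [Finite F] [Finite K] in
/-- `[w, [w, e]]` for an involution `w ∈ Q2`, `p = 2` -/
theorem comm_comm_two (h2 : (2 : K) = 0) {w : Sy φ} (hw : w * w = 1) (hw6 : w.x6 = 0) (e : Sy φ) :
    ⁅w, ⁅w, e⁆⁆ = u4 φ (e.x6 ^ 2 * nm φ w.x1) := by
  have h2F : (2 : F) = 0 := by
    apply (algebraMap F K).injective
    rw [map_ofNat, map_zero, h2]
  have hinv : w⁻¹ = w := inv_eq_of_mul_eq_one_right hw
  set z := ⁅w, e⁆ with hz
  have hzz : ⁅w, z⁆ = (z * z)⁻¹ := by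
    rw [hz]
    simp only [commutatorElement_def, mul_inv_rev, inv_inv]
    rw [hinv]
    have h3 : w * (w * e * w * e⁻¹) * w * (e * (w * (e⁻¹ * w))) = (w * w) * e * w * e⁻¹ * w * (e * (w * (e⁻¹ * w))) := by
      group
    rw [h3, hw, one_mul]
    simp only [mul_assoc]
  have hz1 : z.x1 = 0 := comm_x1 _ _
  have hz6 : z.x6 = 0 := comm_x6 _ _
  have hz5 : z.x5 = e.x6 • w.x1 := by rw [hz, comm_x5, hw6, zero_smul, sub_zero]
  have hz3 : z.x3 = cr φ w.x1 e.x5 + e.x6 • sh φ w.x1 - cr φ e.x1 w.x5 := by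
    rw [hz, comm_x3g, hw6, zero_smul, sub_zero]
  -- `w.x5` is a multiple of `w.x1`
  have h5 : cr φ w.x1 w.x5 = 0 := by
    have := congrArg Sy.x3 hw
    rw [mul_x3, hw6, zero_smul, add_zero, one_x3] at this
    linear_combination this - w.x3 * h2
  have h4 : tr φ (z.x3 * z.x5) = e.x6 ^ 2 * nm φ w.x1 := by
    rw [hz3, hz5]
    have a1 : tr φ (cr φ w.x1 e.x5 * w.x1) = 0 := by
      rw [cr_comm, tr_cr, cr_self, h2, zero_mul, mul_zero, tr_zero]
    have a2 : tr φ (cr φ e.x1 w.x5 * w.x1) = 0 := by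
      rw [tr_cr, cr_comm φ w.x5 w.x1, h5, mul_zero, tr_zero]
    have a3 : tr φ (sh φ w.x1 * w.x1) = nm φ w.x1 := by
      rw [tr_sh_mul]
      linear_combination nm φ w.x1 * h2F
    rw [mul_smul_comm, tr_smul, sub_mul, add_mul, tr_sub, tr_add, a1, a2, smul_mul_assoc, tr_smul, a3]
    ring
  have hneg : ∀ r : F, -r = r := fun r => by linear_combination -r * h2F
  have hzsq : z * z = u4 φ (e.x6 ^ 2 * nm φ w.x1) := by
    ext
    · rw [mul_x1, hz1]; simp [u4]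
    · rw [mul_x6, hz6]; simp [u4]
    · rw [mul_x5, hz6, zero_smul, add_zero]
      simp only [u4]
      linear_combination z.x5 * h2
    · rw [mul_x3, hz1, hz6, cr_zero_left, zero_smul, add_zero, add_zero]
      simp only [u4]
      linear_combination z.x3 * h2
    · rw [mul_x2, hz1, hz6, zero_mul, tr_zero, sh_zero, zero_mul, tr_zero, zero_mul, add_zero, add_zero, add_zero]
      simp only [u4]
      linear_combination z.x2 * h2F
    · rw [mul_x4, hz1, hz6, zero_smul, add_zero, h4]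
      simp only [u4, zero_mul, tr_zero, sh_zero, mul_zero, add_zero, sub_zero, nm_zero]
      linear_combination z.x4 * h2F
  rw [hzz, hzsq]
  ext
  · rw [inv_x1]; simp [u4]
  · rw [inv_x6]; simp [u4]
  · rw [inv_x5]; simp [u4]
  · rw [inv_x3]; simp [u4, cr]
  · rw [inv_x2]; simp [u4, tr_zero]
  · rw [inv_x4]
    simp only [u4]
    simp [tr_zero, nm_zero, sh_zero, hneg]

theorem plane_false (hphi : StPhi.{u}) (hl : StL.{u}) (hch : StCh.{u}) (h : Ess ⊤ E p Γ) {s : K} (hs : s ≠ 0)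
    (hE : ∀ x : Sy φ, x ∈ E ↔ tr φ (s * x.x1) = 0)
    (hΦ : ∀ x : Sy φ, x ∈ Phi E ↔ x ∈ Z4 φ ∧ tr φ (s * x.x5) = 0) : False := by
  obtain ⟨hΦE, -, -, -, hinv, hnorm⟩ := hphi E p h.pp inferInstance (isPGroup_of_ess h)
  have hQ : Q1 φ ≤ E := fun x hx => (hE x).2 (by rw [mem_Q1.1 hx, mul_zero, tr_zero])
  have hZ4E : Z4 φ ≤ E := Z4_le_Q1.trans hQ
  have hZ3 : Z3 φ ≤ Phi E := fun x hx => (hΦ x).2 ⟨Z3_le_Z4 hx, by rw [hx.2.2, mul_zero, tr_zero]⟩
  have hN : normalizerIn ⊤ E = ⊤ := normIn_top hZ4E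
  set D : Subgroup (Sy φ) := E ⊓ Subgroup.centralizer (Phi E : Set (Sy φ)) with hD
  set C : Subgroup (Sy φ) := E ⊓ Subgroup.centralizer (D : Set (Sy φ)) with hC
  have hDinv : _root_.Cfsg.Agent.H756.PU.Inv Γ D := inv_cent (hinv Γ)
  have hCinv : _root_.Cfsg.Agent.H756.PU.Inv Γ C := inv_cent hDinv
  -- elements of `D`
  have hD3 : ∀ x ∈ D, x ∈ Z3 φ ∧ ∃ κ : F, x.x3 = κ • s := by
    intro x hx
    have h1 := (Subgroup.mem_inf.1 hx).2
    have h2 : x ∈ Z3 φ := by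
      rw [← centralizer_Z3]
      exact Subgroup.centralizer_le hZ3 h1
    refine ⟨h2, perp_perp φ hs fun c hc => ?_⟩
    rw [mem_centralizer] at h1
    have h3 := h1 (u5 φ c) ((hΦ _).2 ⟨u5_mem c, hc⟩)
    rw [comm_Q1 h2.1 (u5_mem c).1, form, h2.2.1, h2.2.2] at h3
    have h4 := congrArg Sy.x4 h3
    simpa [u4, u5, tr_zero] using h4
  have hZ2D : Z2 φ ≤ D := by
    intro x hx
    refine Subgroup.mem_inf.2 ⟨hZ4E (Z3_le_Z4 (Z2_le_Z3 hx)), ?_⟩
    rw [← centralizer_Z4] at hx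
    exact Subgroup.centralizer_le (fun y hy => ((hΦ y).1 hy).1) hx
  -- elements of `C`
  have hCm : ∀ x : Sy φ, x ∈ E → x.x6 = 0 → tr φ (s * x.x5) = 0 → x ∈ C := by
    intro x hxE hx6 hx5
    refine Subgroup.mem_inf.2 ⟨hxE, ?_⟩
    rw [mem_centralizer]
    intro y hy
    obtain ⟨hy3, κ, hκ⟩ := hD3 y hy
    have h1 := comm_mem_Z2 (x := x) hy3
    have h3 : tr φ (x.x1 * y.x3) = 0 := by
      rw [hκ, mul_smul_comm, tr_smul, mul_comm x.x1, (hE x).1 hxE, mul_zero]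
    ext
    · exact h1.1
    · exact h1.2.1
    · exact h1.2.2.1
    · exact h1.2.2.2
    · rw [comm_x2' hy3, h3]; rfl
    · rw [comm_x4' hy3, h3, hx6, hκ, smul_mul_assoc, tr_smul, hx5]
      simp
  have hCQ2 : C ≤ Q2 φ := by
    intro x hx
    rw [← centralizer_Z2]
    exact Subgroup.centralizer_le hZ2D (Subgroup.mem_inf.1 hx).2
  have hΦC : Phi E ≤ C := fun x hx => hCm x (hΦE hx) ((hΦ x).1 hx).1.2 ((hΦ x).1 hx).2
  -- `S` is trivial on `(E ∩ Q2) / Φ`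
  have hcomX : Com ⊤ (E ⊓ Q2 φ) (Phi E) := by
    intro g _ x hx
    obtain ⟨hx1, hx2⟩ := Subgroup.mem_inf.1 hx
    rw [mem_Q2] at hx2
    rw [← commutatorElement_def, hΦ]
    refine ⟨comm_mem_Z4 _ _, ?_⟩
    rw [comm_x5, hx2, zero_smul, zero_sub, mul_neg, tr_neg, mul_smul_comm, tr_smul, (hE x).1 hx1, mul_zero, neg_zero]
  have hcomC : Com ⊤ C (Phi E) := fun g hg x hx => hcomX g hg x (Subgroup.mem_inf.2 ⟨(Subgroup.mem_inf.1 hx).1, hCQ2 hx⟩)
  obtain ⟨L, hLΓ, hL, hLN⟩ := hl h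
  have hLD : _root_.Cfsg.Agent.H756.PU.Inv L D := ⟨hDinv.1, fun γ hγ => hDinv.2 γ (hLΓ hγ)⟩
  have hLC : _root_.Cfsg.Agent.H756.PU.Inv L C := ⟨hCinv.1, fun γ hγ => hCinv.2 γ (hLΓ hγ)⟩
  have hkey := hLN (Phi E) C (hinv L) hLC hΦC
    (fun m hm n hn => hnorm m (Subgroup.le_normalizer ((Subgroup.mem_inf.1 hm).1)) n hn) (by rw [hN]; exact hcomC)
  have hw' : ∀ γ ∈ L, ∀ w : E, (w : Sy φ) ∈ C →
      ((γ w : E) : Sy φ).x1 = (w : Sy φ).x1 ∧ ((γ w : E) : Sy φ).x6 = (w : Sy φ).x6 := by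
    intro γ hγ w hw
    have h1 := ((hΦ _).1 (hkey γ hγ w hw)).1
    have h2 := h1.1
    have h3 := h1.2
    rw [mul_x1, inv_x1] at h2
    rw [mul_x6, inv_x6] at h3
    exact ⟨by linear_combination h2, by linear_combination h3⟩
  -- invariance of `X = E ∩ Q2`
  have hX : _root_.Cfsg.Agent.H756.PU.Inv L (E ⊓ Q2 φ) := by
    refine ⟨inf_le_left, fun γ hγ e he => Subgroup.mem_inf.2 ⟨(γ e).2, ?_⟩⟩
    have he6 : (e : Sy φ).x6 = 0 := (Subgroup.mem_inf.1 he).2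
    rw [mem_Q2]
    by_cases h2 : (2 : K) = 0
    · obtain ⟨t, -, ht, -, ht0, -⟩ := exists_indep φ hs
      have htE : u1 φ t ∈ E := (hE _).2 ht
      set w : E := ⟨u1 φ t, htE⟩ with hw
      have hwC : (w : Sy φ) ∈ C := hCm _ htE rfl (by
        show tr φ (s * 0) = 0
        rw [mul_zero, tr_zero])
      have hww : w * w = 1 := by
        refine Subtype.ext ?_
        show u1 φ t * u1 φ t = 1
        rw [← u1_add]
        have : t + t = 0 := by linear_combination t * h2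
        rw [this]
        rfl
      obtain ⟨a1, a6⟩ := hw' γ hγ w hwC
      have b1 : ((⁅w, ⁅w, e⁆⁆ : E) : Sy φ) = 1 := by
        have := comm_comm_two h2 (w := (w : Sy φ)) (by rw [← Subgroup.coe_mul, hww]; rfl) rfl (e : Sy φ)
        rw [he6] at this
        have h3 : ((⁅w, ⁅w, e⁆⁆ : E) : Sy φ) = ⁅(w : Sy φ), ⁅(w : Sy φ), (e : Sy φ)⁆⁆ := Cfsg.Agent.H15.TE.E2cc.c2 _ _ _
        rw [h3, this]
        simp [u4]
        rfl
      have b2 : ⁅w, ⁅w, e⁆⁆ = 1 := Subtype.ext b1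
      have b3 := conj_comm_E γ w e
      rw [b2, map_one] at b3
      have b4 := comm_comm_two h2 (w := ((γ w : E) : Sy φ)) (by
        rw [← Subgroup.coe_mul, ← map_mul, hww, map_one]; rfl) (a6.trans rfl) ((γ e : E) : Sy φ)
      rw [b3, a1] at b4
      have b5 := congrArg Sy.x4 b4
      have b6 : (0 : F) = ((γ e : E) : Sy φ).x6 ^ 2 * nm φ t := b5
      have b7 : nm φ t ≠ 0 := fun h => ht0 ((nm_eq_zero φ).1 h)
      exact pow_eq_zero_iff (two_ne_zero) |>.1 ((mul_eq_zero.1 b6.symm).resolve_right b7)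
    · obtain ⟨t, ht, ht0, hts⟩ := exists_sh φ h2 hs
      have htE : u1 φ t ∈ E := (hE _).2 ht
      set w : E := ⟨u1 φ t, htE⟩ with hw
      have hwC : (w : Sy φ) ∈ C := hCm _ htE rfl (by
        show tr φ (s * 0) = 0
        rw [mul_zero, tr_zero])
      obtain ⟨a1, a6⟩ := hw' γ hγ w hwC
      have hx3 : ∀ (w : Sy φ), w.x6 = 0 → ∀ e : Sy φ, ⁅w, ⁅w, e⁆⁆ ∈ Z3 φ ∧
          (⁅w, ⁅w, e⁆⁆).x3 = (2 * e.x6) • sh φ w.x1 := by
        intro w hw6 e
        refine ⟨comm_mem_Z3 (comm_mem_Z4 _ _), ?_⟩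
        rw [comm_x3 (comm_mem_Z4 _ _), comm_x5, hw6, zero_smul, sub_zero, cr_smul_right, cr_self, mul_comm (2 : F),
          mul_smul, Algebra.smul_def (2 : F), map_ofNat]
      have b1 : ((⁅w, ⁅w, e⁆⁆ : E) : Sy φ) ∈ D := by
        obtain ⟨c1, c2⟩ := hx3 (w : Sy φ) rfl (e : Sy φ)
        rw [he6, mul_zero, zero_smul] at c2
        exact Cfsg.Agent.H15.TE.E2cc.n2 (hZ2D ⟨c1.1, c1.2.1, c1.2.2, c2⟩)
      have b2 := hLD.2 γ hγ _ b1
      rw [← conj_comm_E] at b2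
      obtain ⟨-, κ, hκ⟩ := hD3 _ b2
      rw [(hx3 _ (a6.trans rfl) _).2, a1] at hκ
      by_contra hne
      have h2F : (2 : F) ≠ 0 := by
        intro h3
        apply h2
        rw [← map_ofNat (algebraMap F K) 2]
        show algebraMap F K 2 = 0
        rw [h3, map_zero]
      apply hts ((2 * ((γ e : E) : Sy φ).x6)⁻¹ * κ)
      have h4 : (2 * ((γ e : E) : Sy φ).x6) ≠ 0 := mul_ne_zero h2F hne
      have h5 : sh φ t = (2 * ((γ e : E) : Sy φ).x6)⁻¹ • ((2 * ((γ e : E) : Sy φ).x6) • sh φ t) := by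
        rw [smul_smul, inv_mul_cancel₀ h4, one_smul]
      have hκ' : (2 * ((γ e : E) : Sy φ).x6) • sh φ t = κ • s := hκ
      rw [h5, hκ', smul_smul]
  -- the chain
  refine not_le_of_ess h (hch hL 2 (fun i => if i = 0 then Phi E else if i = 1 then E ⊓ Q2 φ else E) ?_ ?_ ?_ ?_ ⊤ le_rfl ?_)
  · exact le_rfl
  · rfl
  · intro i hi
    interval_cases i
    · exact hinv L
    · exact hX
    · exact inv_self
  · intro i hi
    interval_cases i
    · exact le_inf hΦE (hΦC.trans hCQ2)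
    · exact inf_le_left
  · intro i hi
    interval_cases i
    · exact hcomX
    · intro g _ x hx
      show g * x * g⁻¹ * x⁻¹ ∈ E ⊓ Q2 φ
      rw [← commutatorElement_def]
      exact ⟨hZ4E (comm_mem_Z4 g x), Z4_le_Q2 (comm_mem_Z4 g x)⟩

end plane

/-! ### `|E : Q1| = 2` -/

section two

variable {F K : Type u} [Field F] [Field K] [Finite F] [Finite K] [Algebra F K] {φ : K ≃ₐ[F] K} [Cub φ]
  [CharP K 2] {E : Subgroup (Sy φ)} {Γ : Subgroup (MulAut E)}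

end two

/-! ### The statements -/

theorem stE2o (hphi : StPhi.{u}) (hp2 : StP2.{u}) (hp2w : StP2w.{u}) (hl : StL.{u}) (hch : StCh.{u}) :
    StE2o.{u} := by
  intro F K _ _ _ _ _ φ _ p _ E Γ h hp hQ
  by_contra hne
  have h2 : (2 : K) ≠ 0 := by
    intro h2
    have h1 : p ∣ 2 := (CharP.cast_eq_zero_iff K p 2).1 (by exact_mod_cast h2)
    exact hp ((Nat.prime_dvd_prime_iff_eq h.pp Nat.prime_two).1 h1)
  obtain ⟨-, hEE, -, -, -, -⟩ := hphi E p h.pp inferInstance (isPGroup_of_ess h)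
  obtain ⟨t, ht, htE⟩ := exists_of_ne hQ hne
  obtain ⟨s, hs, hE, hΦ⟩ := lemA hphi hp2 hp2w h hQ (Z3_le_odd h2 hEE hQ ht htE)
  exact plane_false hphi hl hch h hs hE hΦ

theorem stE2a (hphi : StPhi.{u}) (hp2 : StP2.{u}) (hp2w : StP2w.{u}) : StE2a.{u} := by
  intro F K _ _ _ _ _ φ _ _ E Γ h hQ hne
  have h2K : (2 : K) = 0 := CharTwo.two_eq_zero
  obtain ⟨-, hEE, -, -, -, -⟩ := hphi E 2 h.pp inferInstance (isPGroup_of_ess h)
  obtain ⟨t, ht, htE⟩ := exists_of_ne hQ hne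
  by_cases hcon : ∀ x ∈ E, x.x1 = 0 ∨ x.x1 = t
  · right
    refine ⟨t, ht, fun x => ⟨hcon x, ?_⟩⟩
    rintro (hx | hx)
    · exact hQ hx
    · rw [mem_iff_x1 hQ, hx]
      exact htE
  left
  push Not at hcon
  obtain ⟨x, hxE, hx0, hxt⟩ := hcon
  have hZ3 : Z3 φ ≤ Phi E := by
    by_cases hx : ∃ κ : F, x.x1 = κ • t
    · obtain ⟨κ, hκ⟩ := hx
      refine Z3_le_two' h2K hEE hQ ht htE (κ := κ) ?_ ?_ ?_
      · rw [← hκ]
        exact (mem_iff_x1 hQ x).1 hxE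
      · rintro rfl
        exact hx0 (by rw [hκ, zero_smul])
      · rintro rfl
        exact hxt (by rw [hκ, one_smul])
    · push Not at hx
      exact Z3_le_two h2K hEE hQ ht htE ((mem_iff_x1 hQ x).1 hxE) hx
  obtain ⟨s, hs, hE, -⟩ := lemA hphi hp2 hp2w h hQ hZ3
  exact ⟨s, hs, hE⟩

theorem stE2b (hphi : StPhi.{u}) (hp2 : StP2.{u}) (hp2w : StP2w.{u}) (hl : StL.{u}) (hch : StCh.{u}) :
    StE2b.{u} := by
  intro F K _ _ _ _ _ φ _ _ E Γ h s hs hE
  have h2K : (2 : K) = 0 := CharTwo.two_eq_zero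
  obtain ⟨-, hEE, -, -, -, -⟩ := hphi E 2 h.pp inferInstance (isPGroup_of_ess h)
  have hQ : Q1 φ ≤ E := fun x hx => (hE x).2 (by rw [mem_Q1.1 hx, mul_zero, tr_zero])
  obtain ⟨t1, t2, h1, h2, h3, h4⟩ := exists_indep φ hs
  have hZ3 : Z3 φ ≤ Phi E := Z3_le_two h2K hEE hQ h3 ((hE _).2 h1) ((hE _).2 h2) h4
  obtain ⟨s', hs', hE', hΦ⟩ := lemA hphi hp2 hp2w h hQ hZ3
  exact plane_false hphi hl hch h hs' hE' hΦ

theorem stE2o_eng (e : Eng.{u}) : StE2o.{u} := stE2o e.phi e.p2 e.p2w e.l e.ch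
theorem stE2a_eng (e : Eng.{u}) : StE2a.{u} := stE2a e.phi e.p2 e.p2w
theorem stE2b_eng (e : Eng.{u}) : StE2b.{u} := stE2b e.phi e.p2 e.p2w e.l e.ch
end Cfsg.Agent.H15.TE
end

-- part: H511/TE/LA2
section
/-!
# S5261, part E, [TE-LA2]: linear algebra of the cross product on the cubic extension `K / F`
-/

set_option autoImplicit false
set_option linter.unusedSectionVars false

namespace Cfsg.Agent.H511.TE

open Cfsg.Agent.H765.D3
open Cfsg.Agent.Hex.Defs (sh cr nm tr)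

variable {F K : Type*} [Field F] [Field K] [Algebra F K]
variable (φ : K ≃ₐ[F] K) [Cub φ]

/-- `1, t, t²` are independent over `F` if `t ∉ F` -/
theorem quad_indep {t : K} (ht : φ t ≠ t) {x y z : F}
    (h : algebraMap F K x + algebraMap F K y * t + algebraMap F K z * t ^ 2 = 0) : x = 0 ∧ y = 0 ∧ z = 0 := by
  have ht2 : φ (φ t) ≠ t := fun e => ht (by
    have := congrArg φ e
    rw [phi3] at this
    exact this.symm)
  have ht3 : φ (φ t) ≠ φ t := fun e => ht (φ.injective e)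
  have h1 := congrArg φ h
  have h2 := congrArg φ h1
  simp only [map_add, map_mul, map_pow, phi_coe, map_zero] at h1 h2
  have e1 : (φ t - t) * (algebraMap F K z * (t + φ t) + algebraMap F K y) = 0 := by linear_combination h1 - h
  have e2 : (φ (φ t) - t) * (algebraMap F K z * (t + φ (φ t)) + algebraMap F K y) = 0 := by
    linear_combination h2 - h
  have f1 := (mul_eq_zero.1 e1).resolve_left (sub_ne_zero.2 ht)
  have f2 := (mul_eq_zero.1 e2).resolve_left (sub_ne_zero.2 ht2)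
  have f3 : algebraMap F K z * (φ (φ t) - φ t) = 0 := by linear_combination f2 - f1
  have hz := (mul_eq_zero.1 f3).resolve_right (sub_ne_zero.2 ht3)
  have hy : algebraMap F K y = 0 := by rw [hz, zero_mul, zero_add] at f1; exact f1
  have hx : algebraMap F K x = 0 := by rw [hz, hy, zero_mul, zero_mul, add_zero, add_zero] at h; exact h
  exact ⟨(map_eq_zero _).1 hx, (map_eq_zero _).1 hy, (map_eq_zero _).1 hz⟩

/-- `1, t, t²` span `K` if `t ∉ F` -/
theorem quad_span {t : K} (ht : φ t ≠ t) (s : K) :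
    ∃ x y z : F, s = algebraMap F K x + algebraMap F K y * t + algebraMap F K z * t ^ 2 := by
  have ht2 : φ (φ t) ≠ t := fun e => ht (by
    have := congrArg φ e
    rw [phi3] at this
    exact this.symm)
  have hd : (t - φ t) * (t - φ (φ t)) ≠ 0 := mul_ne_zero (sub_ne_zero.2 ht.symm) (sub_ne_zero.2 ht2.symm)
  obtain ⟨w, hw⟩ : ∃ w : K, w * ((t - φ t) * (t - φ (φ t))) = s := ⟨s / _, div_mul_cancel₀ s hd⟩
  refine ⟨tr φ (w * sh φ t), -tr φ (w * (φ t + φ (φ t))), tr φ w, ?_⟩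
  rw [← hw]
  simp only [map_neg, coe_tr, map_mul, map_add, phi3, sh]
  ring

/-- (2) the additive maps `f` with `cr a (f b) = cr (f a) b` are the multiplications by elements of `F`. -/
theorem exists_smul_of_cr (h2 : (2 : K) ≠ 0) (f : K →+ K) (h : ∀ a b : K, cr φ a (f b) = cr φ (f a) b) :
    ∃ k : F, ∀ a : K, f a = k • a := by
  set k : K := f 1 with hk
  -- the formula for `2 f a`
  have h3 : ∀ a : K, 2 * f a = (φ k + φ (φ k)) * a + (k - φ (φ k)) * φ a + (k - φ k) * φ (φ a) := fun a => by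
    have e1 := h a 1
    rw [← hk, cr, cr, map_one, map_one, mul_one, mul_one] at e1
    have e2 := congrArg φ e1
    have e3 := congrArg φ e2
    simp only [map_add, map_mul, phi3] at e2 e3
    linear_combination e1 - e2 - e3
  -- compare coefficients
  have h4 : ∀ b a : K, (-(φ (k - φ k) * φ (φ b) + φ (φ (k - φ (φ k))) * φ b)) * a +
      (φ (φ (2 * f b)) - φ (φ k + φ (φ k)) * φ (φ b) - φ (φ (k - φ k)) * φ b) * φ a +
      (φ (2 * f b) - φ (k - φ (φ k)) * φ (φ b) - φ (φ (φ k + φ (φ k))) * φ b) * φ (φ a) = 0 := fun b a => by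
    have e1 : cr φ a (2 * f b) = cr φ (2 * f a) b := by
      have := h a b
      rw [cr, cr] at this ⊢
      simp only [map_mul, map_ofNat]
      linear_combination 2 * this
    rw [cr, cr, h3 a] at e1
    simp only [map_add, map_sub, map_mul, phi3] at e1 ⊢
    linear_combination e1
  have h5 : ∀ b : K, (0 : K) * b + φ (φ (k - φ (φ k))) * φ b + φ (k - φ k) * φ (φ b) = 0 := fun b => by
    have := (dedekind φ (h4 b)).1
    linear_combination -this
  have h6 := (dedekind φ h5).2.2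
  have h7 : k - φ k = 0 := (map_eq_zero φ).1 h6
  obtain ⟨s, hs⟩ := exists_coe φ (sub_eq_zero.1 h7).symm
  refine ⟨s, fun a => mul_left_cancel₀ h2 ?_⟩
  rw [h3 a, ← hs, phi_coe, phi_coe, Algebra.smul_def]
  ring

/-- (3) `cr a` is bijective for `a ≠ 0`. -/
theorem cr_bijective (h2 : (2 : K) ≠ 0) {a : K} (ha : a ≠ 0) : Function.Bijective (fun b : K => cr φ a b) := by
  have ha1 : φ a ≠ 0 := by simpa using ha
  have ha2 : φ (φ a) ≠ 0 := by simpa using ha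
  refine ⟨fun b b' e => ?_, fun c => ?_⟩
  · have e1 : cr φ a (b - b') = 0 := by
      have e2 : cr φ a b = cr φ a b' := e
      rw [sub_eq_add_neg, cr_add_right, cr_neg_right, e2, add_neg_cancel]
    exact sub_eq_zero.1 ((cr_eq_zero φ h2 e1).resolve_left ha)
  · refine ⟨(φ a * φ c + φ (φ a) * φ (φ c) - a * c) / (2 * (φ a * φ (φ a))), ?_⟩
    show cr φ a _ = c
    rw [cr]
    simp only [map_div₀, map_sub, map_add, map_mul, phi3, map_ofNat]
    field_simp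
    ring

theorem exists_cr_eq (h2 : (2 : K) ≠ 0) {a : K} (ha : a ≠ 0) (c : K) : ∃ b : K, cr φ a b = c :=
  (cr_bijective φ h2 ha).2 c

theorem cr_injective (h2 : (2 : K) ≠ 0) {a : K} (ha : a ≠ 0) {b b' : K} (h : cr φ a b = cr φ a b') : b = b' :=
  (cr_bijective φ h2 ha).1 h

/-- `p ≠ 2` in the form used with `CharP` -/
theorem two_ne_of_charP {p : ℕ} [CharP K p] (hp : p ≠ 2) : (2 : K) ≠ 0 := by
  intro e
  have h1 : p ∣ 2 := (CharP.cast_eq_zero_iff K p 2).1 (by exact_mod_cast e)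
  rcases (Nat.dvd_prime Nat.prime_two).1 h1 with h3 | h3
  · have : (1 : K) = 0 := by
      have := (CharP.cast_eq_zero_iff K p 1).2 (by rw [h3])
      exact_mod_cast this
    exact one_ne_zero this
  · exact hp h3

end Cfsg.Agent.H511.TE
end

-- part: H406/TE/M4
section
/-!
# S5261, part E: `Z4 ≤ E`, mixed (helper406)

* `card_K` : `|K| = |F| ^ 3`;
* `stM4a`, `stM4b`, `stM4c`.
-/

set_option autoImplicit false
set_option linter.unusedSectionVars false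

namespace Cfsg.Agent.H406.TE

open Cfsg Cfsg.FusionSystem Cfsg.Agent.H756.PU Cfsg.Agent.H802.TE
open Cfsg.Agent.H765.D3 Cfsg.Agent.H765.D3.Sy
open Cfsg.Agent.Hex.Defs (sh cr nm tr)
open scoped commutatorElement

universe u

/-! ### The cubic extension -/

section Field

variable {F K : Type*} [Field F] [Field K] [Algebra F K] (φ : K ≃ₐ[F] K) [Cub φ]

theorem phi_pow3 : φ ^ 3 = 1 := by
  ext t
  exact phi3 φ t

include φ in
/-- `|K| = |F| ^ 3` -/
theorem finrank_K [Finite K] : Module.finrank F K = 3 := by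
  have : Finite F := Finite.of_injective _ (algebraMap F K).injective
  have h1 : IntermediateField.fixedField (Subgroup.zpowers φ) = ⊥ := by
    rw [eq_bot_iff]
    intro t ht
    obtain ⟨s, hs⟩ := exists_coe φ (ht ⟨φ, Subgroup.mem_zpowers φ⟩)
    rw [IntermediateField.mem_bot]
    exact ⟨s, hs⟩
  have h2 : Subgroup.zpowers φ = ⊤ := by
    rw [← IntermediateField.fixingSubgroup_fixedField (Subgroup.zpowers φ), h1,
      IntermediateField.fixingSubgroup_bot]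
  have h3 : orderOf φ = 3 := by
    refine orderOf_eq_prime (phi_pow3 φ) ?_
    rintro h
    obtain ⟨t, ht⟩ := Cub.ne (φ := φ)
    exact ht (by rw [h]; rfl)
  rw [← IsGalois.card_aut_eq_finrank, ← h3, ← Nat.card_zpowers, h2, Subgroup.card_top]

include φ in
theorem card_K [Finite K] [Finite F] : Nat.card K = Nat.card F ^ 3 := by
  have := Fintype.ofFinite F
  have := Fintype.ofFinite K
  rw [Nat.card_eq_fintype_card, Nat.card_eq_fintype_card, Module.card_eq_pow_finrank (K := F) (V := K), finrank_K φ]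

/-- a subspace without orthogonal vectors is everything -/
theorem eq_top_of_tr [Finite K] (W : Submodule F K) (h : ∀ s : K, (∀ w ∈ W, tr φ (s * w) = 0) → s = 0) : W = ⊤ := by
  have : Finite F := Finite.of_injective _ (algebraMap F K).injective
  have hfd : FiniteDimensional F K := Module.finite_of_finrank_pos (by rw [finrank_K φ]; norm_num)
  by_contra hne
  obtain ⟨f, hf0, hf⟩ := Submodule.exists_le_ker_of_lt_top W (lt_top_iff_ne_top.2 hne)
  let B : K →ₗ[F] Module.Dual F K :=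
    { toFun := fun s =>
        { toFun := fun t => tr φ (s * t)
          map_add' := fun t t' => by rw [mul_add, tr_add]
          map_smul' := fun c t => by rw [mul_smul_comm, tr_smul]; rfl }
      map_add' := fun s s' => by ext t; exact (congrArg _ (add_mul s s' t)).trans (tr_add φ _ _)
      map_smul' := fun c s => by ext t; exact (congrArg _ (smul_mul_assoc c s t)).trans (tr_smul φ _ _) }
  have hB : Function.Injective B := by
    rw [injective_iff_map_eq_zero]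
    intro s hs
    exact tr_nondeg φ fun t => congrArg (fun g : Module.Dual F K => g t) hs
  have hBs : Function.Surjective B :=
    (LinearMap.injective_iff_surjective_of_finrank_eq_finrank (by exact (Subspace.dual_finrank_eq).symm)).1 hB
  obtain ⟨s, hs⟩ := hBs f
  have h1 : s = 0 := h s fun w hw => by
    have h2 : f w = 0 := hf hw
    rw [← hs] at h2
    exact h2
  apply hf0
  rw [← hs, h1, map_zero]

/-- a nonzero vector orthogonal to a given one -/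
theorem exists_orth (a : K) : ∃ s : K, s ≠ 0 ∧ tr φ (s * a) = 0 := by
  obtain ⟨θ, hθ⟩ := Cub.ne (φ := φ)
  by_cases ha : a = 0
  · exact ⟨1, one_ne_zero, by rw [ha, mul_zero, tr_zero]⟩
  · refine ⟨(φ θ - θ) * a⁻¹, mul_ne_zero (sub_ne_zero.2 hθ) (inv_ne_zero ha), ?_⟩
    rw [inv_mul_cancel_right₀ ha, tr_sub, tr_phi, sub_self]

end Field

/-! ### Generalities -/

section Gen

variable {Ω : Type*} [Group Ω] {E : Subgroup Ω} {p : ℕ} {Γ : Subgroup (MulAut E)}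

theorem inv_bot : _root_.Cfsg.Agent.H756.PU.Inv Γ ⊥ := ⟨bot_le, fun γ _ e he => by
  have h1 : e = 1 := Subtype.ext (Subgroup.mem_bot.1 he)
  rw [h1, map_one]
  exact one_mem _⟩

/-- the elements of `E` centralizing `E` modulo an invariant subgroup form an invariant subgroup -/
theorem inv_of_char {M N : Subgroup Ω} (hN : _root_.Cfsg.Agent.H756.PU.Inv Γ N) (hM : M ≤ E) (h : ∀ z ∈ E, z ∈ M ↔ ∀ e ∈ E, ⁅z, e⁆ ∈ N) :
    _root_.Cfsg.Agent.H756.PU.Inv Γ M := by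
  refine ⟨hM, fun γ hγ z hz => (h _ (γ z).2).2 fun e he => ?_⟩
  have h1 := (h z z.2).1 hz ((γ⁻¹ ⟨e, he⟩ : E) : Ω) (γ⁻¹ ⟨e, he⟩ : E).2
  have h2 := hN.2 γ hγ ⁅z, γ⁻¹ ⟨e, he⟩⁆ h1
  rwa [map_commutatorElement, MulAut.apply_inv_self] at h2

theorem ne_top (h : Ess ⊤ E p Γ) : E ≠ ⊤ := by
  rintro rfl
  obtain ⟨H, -, -, -, hn, -⟩ := h.spe
  apply hn
  intro α hα
  obtain ⟨g, -, hg⟩ := (Cfsg.Agent.H802.mem_autInducedBy_iff ⊤ ⊤ α).1 hα
  exact ⟨⟨g, trivial⟩, MulEquiv.ext fun x => Subtype.ext (hg x).symm⟩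

end Gen

/-! ### The group `Sy φ` -/

section Sy

variable {F K : Type*} [Field F] [Field K] [Algebra F K] {φ : K ≃ₐ[F] K} [Cub φ] {E : Subgroup (Sy φ)}

theorem comm_sw {x y : Sy φ} {N : Subgroup (Sy φ)} (h : ⁅x, y⁆ ∈ N) : ⁅y, x⁆ ∈ N := by
  rw [← commutatorElement_inv]
  exact _root_.InvMemClass.inv_mem h

theorem bot_sw {x y : Sy φ} (h : ⁅x, y⁆ = 1) : ⁅y, x⁆ = 1 := by
  rw [← commutatorElement_inv, h, inv_one]

/-- `cr` detects zero on a spanning set -/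
theorem eq_zero_of_cr (hs : ∀ s : K, (∀ x ∈ E, tr φ (s * x.x1) = 0) → s = 0) {c : K} (h : ∀ x ∈ E, cr φ x.x1 c = 0) :
    c = 0 := by
  refine cr_nondeg' φ fun t => hs _ fun x hx => ?_
  rw [mul_comm, ← tr_cr, h x hx, zero_mul, tr_zero]

theorem x6_zero {e1 : Sy φ} (h1 : e1.x1 ≠ 0) {z : Sy φ} (hz : z.x1 = 0) (h : (⁅z, e1⁆).x5 = 0) : z.x6 = 0 := by
  rw [comm_x5, hz, smul_zero, zero_sub, neg_eq_zero] at h
  exact (smul_eq_zero.1 h).resolve_right h1

end Sy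

/-- **(M4a)** -/
theorem stM4a (hch : StCh.{u}) : StM4a.{u} := by
  intro F K _ _ _ _ _ φ _ p _ E Γ h hm h4 hs
  obtain ⟨e1, he1, h11⟩ := SetLike.not_le_iff_exists.1 hm.1
  obtain ⟨e6, he6, h66⟩ := SetLike.not_le_iff_exists.1 hm.2
  rw [mem_Q1] at h11
  rw [mem_Q2] at h66
  have h3 : Z3 φ ≤ E := Z3_le_Z4.trans h4
  have h2 : Z2 φ ≤ E := Z2_le_Z3.trans h3
  have i1 : _root_.Cfsg.Agent.H756.PU.Inv Γ (Z1 φ) := by
    refine inv_of_char inv_bot (Z1_le_Z2.trans h2) fun z hz => ⟨fun hz1 e _ => ?_, fun H => ?_⟩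
    · exact Subgroup.mem_bot.2 (bot_sw (comm_Z1 hz1))
    · have hz2 : z ∈ Z2 φ := by
        rw [← centralizer_Z4, mem_centralizer]
        exact fun y hy => Subgroup.mem_bot.1 (H y (h4 hy))
      refine ⟨hz2.1, hz2.2.1, hz2.2.2.1, hz2.2.2.2, ?_⟩
      have h5 := bot_sw (Subgroup.mem_bot.1 (H e6 he6))
      rw [comm_Z2 hz2] at h5
      have h6 : e6.x6 * z.x2 = 0 := congrArg Sy.x4 h5
      exact (mul_eq_zero.1 h6).resolve_left h66
  have i2 : _root_.Cfsg.Agent.H756.PU.Inv Γ (Z2 φ) := by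
    refine inv_of_char i1 h2 fun z hz => ⟨fun hz1 e _ => ?_, fun H => ?_⟩
    · exact comm_sw (by rw [comm_Z2 hz1]; exact u4_mem _)
    · have z1 : z.x1 = 0 := tr_nondeg φ fun b => by
        have := (H _ (h3 (u3_mem b))).2.2.2.2
        rw [comm_x2' (u3_mem b)] at this
        exact this
      have z6 := x6_zero h11 z1 (H _ he1).2.2.1
      have z5 : z.x5 = 0 := eq_zero_of_cr hs fun x hx => by
        have := (comm_sw (H x hx)).2.2.2.1
        rwa [comm_x3 ⟨z1, z6⟩] at this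
      refine ⟨z1, z6, z5, hs _ fun x hx => ?_⟩
      have := (comm_sw (H x hx)).2.2.2.2
      rwa [comm_x2' ⟨z1, z6, z5⟩, mul_comm] at this
  have i3 : _root_.Cfsg.Agent.H756.PU.Inv Γ (Z3 φ) := by
    refine inv_of_char i2 h3 fun z hz => ⟨fun hz1 e _ => ?_, fun H => ?_⟩
    · exact comm_sw (comm_mem_Z2 hz1)
    · have z1 : z.x1 = 0 := cr_nondeg' φ fun b => by
        have := (H _ (h4 (u5_mem b))).2.2.2
        rw [comm_x3 (u5_mem b)] at this
        exact this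
      have z6 := x6_zero h11 z1 (H _ he1).2.2.1
      refine ⟨z1, z6, eq_zero_of_cr hs fun x hx => ?_⟩
      have := (comm_sw (H x hx)).2.2.2
      rwa [comm_x3 ⟨z1, z6⟩] at this
  have i4 : _root_.Cfsg.Agent.H756.PU.Inv Γ (Z4 φ) := by
    refine inv_of_char i3 h4 fun z hz => ⟨fun hz1 e _ => ?_, fun H => ?_⟩
    · exact comm_sw (comm_mem_Z3 hz1)
    · have hc : ∀ x ∈ E, x.x6 • z.x1 = z.x6 • x.x1 := fun x hx => by
        have := (H x hx).2.2
        rw [comm_x5] at this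
        exact sub_eq_zero.1 this
      have z6 : z.x6 = 0 := by
        by_contra hne
        obtain ⟨s, hs0, hs1⟩ := exists_orth φ z.x1
        refine hs0 (hs s fun x hx => ?_)
        have h5 : x.x1 = (z.x6⁻¹ * x.x6) • z.x1 := by
          rw [mul_smul, hc x hx, smul_smul, inv_mul_cancel₀ hne, one_smul]
        rw [h5, mul_smul_comm, tr_smul, hs1, mul_zero]
      have h6 := hc e6 he6
      rw [z6, zero_smul] at h6
      exact ⟨(smul_eq_zero.1 h6).resolve_left h66, z6⟩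
  refine ne_top h (top_le_iff.1 ?_)
  let M : ℕ → Subgroup (Sy φ) := fun i => match i with
    | 0 => ⊥
    | 1 => Z1 φ
    | 2 => Z2 φ
    | 3 => Z3 φ
    | 4 => Z4 φ
    | _ => E
  refine hch h 5 M bot_le rfl ?_ ?_ ⊤ le_top ?_
  · intro i hi
    interval_cases i
    · exact inv_bot
    · exact i1
    · exact i2
    · exact i3
    · exact i4
    · exact ⟨le_rfl, fun γ _ e _ => (γ e).2⟩
  · intro i hi
    interval_cases i
    · exact bot_le
    · exact Z1_le_Z2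
    · exact Z2_le_Z3
    · exact Z3_le_Z4
    · exact h4
  · intro i hi
    interval_cases i
    · exact fun a _ m hm => (Subgroup.mem_bot.2 (comm_Z1 hm) :)
    · exact fun a _ m hm => by
        show ⁅a, m⁆ ∈ Z1 φ
        rw [comm_Z2 hm]; exact u4_mem _
    · exact fun a _ m hm => comm_mem_Z2 hm
    · exact fun a _ m hm => comm_mem_Z3 hm
    · exact fun a _ m hm => comm_mem_Z4 a m

end Cfsg.Agent.H406.TE
end

-- part: H406/TE/M4bc
section
/-!
# S5261, part E: `Z4 ≤ E`, mixed, the `x1`-coordinates lie in a plane (helper406)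

* `stM4b`, `stM4c`.
-/

set_option autoImplicit false
set_option linter.unusedSectionVars false

namespace Cfsg.Agent.H406.TE

open Cfsg Cfsg.FusionSystem Cfsg.Agent.H756.PU Cfsg.Agent.H802.TE
open Cfsg.Agent.H765.D3 Cfsg.Agent.H765.D3.Sy
open Cfsg.Agent.Hex.Defs (sh cr nm tr)
open scoped commutatorElement

universe u

section Sy

variable {F K : Type u} [Field F] [Field K] [Algebra F K] {φ : K ≃ₐ[F] K} [Cub φ]

/-! ### Quotients -/

theorem sub_Z3 {z w : Sy φ} (hz : z ∈ Z4 φ) (hw : w ∈ Z4 φ) (h : z.x5 = w.x5) : w⁻¹ * z ∈ Z3 φ := by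
  refine ⟨?_, ?_, ?_⟩
  · rw [mul_x1, inv_x1, hw.1, hz.1]; ring
  · rw [mul_x6, inv_x6, hw.2, hz.2]; ring
  · rw [mul_x5, inv_x5, hw.1, hz.2, hw.2, h]; simp

theorem sub_Z2 {z w : Sy φ} (hz : z ∈ Z3 φ) (hw : w ∈ Z3 φ) (h : z.x3 = w.x3) : w⁻¹ * z ∈ Z2 φ := by
  refine ⟨?_, ?_, ?_, ?_⟩
  · rw [mul_x1, inv_x1, hw.1, hz.1]; ring
  · rw [mul_x6, inv_x6, hw.2.1, hz.2.1]; ring
  · rw [mul_x5, inv_x5, hw.1, hz.2.1, hw.2.1, hw.2.2, hz.2.2]; simp
  · rw [mul_x3, inv_x3, inv_x1, hw.1, hz.2.1, hw.2.1, hw.2.2, hz.2.2, h]; simp [cr]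

theorem sub_Z1 {z w : Sy φ} (hz : z ∈ Z2 φ) (hw : w ∈ Z2 φ) (h : z.x2 = w.x2) : w⁻¹ * z ∈ Z1 φ := by
  refine ⟨?_, ?_, ?_, ?_, ?_⟩
  · rw [mul_x1, inv_x1, hw.1, hz.1]; ring
  · rw [mul_x6, inv_x6, hw.2.1, hz.2.1]; ring
  · rw [mul_x5, inv_x5, hw.1, hz.2.1, hw.2.1, hw.2.2.1, hz.2.2.1]; simp
  · rw [mul_x3, inv_x3, inv_x1, hw.1, hz.2.1, hw.2.1, hw.2.2.1, hz.2.2.1, hw.2.2.2, hz.2.2.2]; simp [cr]
  · rw [mul_x2, inv_x2, inv_x1, hw.1, hz.2.1, hw.2.1, hw.2.2.1, hz.2.2.1, hw.2.2.2, hz.2.2.2, h]; simp [tr_zero, sh]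

theorem mem_of_sub {N : Subgroup (Sy φ)} {z w : Sy φ} (hw : w ∈ N) (h : w⁻¹ * z ∈ N) : z ∈ N := by
  have := mul_mem hw h
  rwa [mul_inv_cancel_left] at this

theorem exists_tr_mul {a : K} (ha : a ≠ 0) (t : F) : ∃ b : K, tr φ (a * b) = t := by
  obtain ⟨s, hs⟩ := exists_tr_ne φ
  refine ⟨(t / tr φ s) • (a⁻¹ * s), ?_⟩
  rw [mul_smul_comm, mul_inv_cancel_left₀ ha, tr_smul, div_mul_cancel₀ _ hs]

/-- the `x5`-coordinate on `Z4` -/
def k5 (φ : K ≃ₐ[F] K) [Cub φ] : ↥(Z4 φ) →* Multiplicative K where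
  toFun z := Multiplicative.ofAdd z.1.x5
  map_one' := rfl
  map_mul' z w := by
    show Multiplicative.ofAdd (z.1 * w.1).x5 = _
    rw [mul_x5, w.2.2, zero_smul, add_zero]; rfl

theorem k5_surj : Function.Surjective (k5 φ) := fun c => ⟨⟨u5 φ c.toAdd, u5_mem _⟩, rfl⟩

/-- the `x3`-coordinate on `Z3` -/
def k3 (φ : K ≃ₐ[F] K) [Cub φ] : ↥(Z3 φ) →* Multiplicative K where
  toFun z := Multiplicative.ofAdd z.1.x3
  map_one' := rfl
  map_mul' z w := by
    show Multiplicative.ofAdd (z.1 * w.1).x3 = _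
    rw [mul_x3, z.2.1, w.2.2.1, zero_smul, cr_zero_left, add_zero, add_zero]; rfl

theorem k3_surj : Function.Surjective (k3 φ) := fun c => ⟨⟨u3 φ c.toAdd, u3_mem _⟩, rfl⟩

/-- `g ↦ [e, g].x5` -/
def kap (e : Sy φ) : Sy φ →* Multiplicative K where
  toFun g := Multiplicative.ofAdd (g.x6 • e.x1 - e.x6 • g.x1)
  map_one' := by simp
  map_mul' g h := by
    rw [← ofAdd_add]
    congr 1
    rw [mul_x6, mul_x1]
    module

theorem kap_surj {e : Sy φ} (he : e.x6 ≠ 0) : Function.Surjective (kap e) := fun c => ⟨u1 φ (-(e.x6⁻¹ • c.toAdd)), by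
  show Multiplicative.ofAdd ((0 : F) • e.x1 - e.x6 • (-(e.x6⁻¹ • c.toAdd))) = c
  rw [zero_smul, smul_neg, smul_smul, mul_inv_cancel₀ he, one_smul, zero_sub, neg_neg]
  rfl⟩

/-- `c ↦ cr a c` -/
noncomputable def kcr (φ : K ≃ₐ[F] K) [Cub φ] (a : K) : Multiplicative K →* Multiplicative K where
  toFun c := Multiplicative.ofAdd (cr φ a c.toAdd)
  map_one' := by
    show Multiplicative.ofAdd (cr φ a 0) = 1
    rw [cr_zero_right]; rfl
  map_mul' c d := by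
    rw [← ofAdd_add, ← cr_add_right]; rfl

/-- `t ↦ t a` -/
def kl (F : Type u) {K : Type u} [Field F] [Field K] [Algebra F K] (a : K) : Multiplicative F →* Multiplicative K where
  toFun t := Multiplicative.ofAdd (t.toAdd • a)
  map_one' := by
    show Multiplicative.ofAdd ((0 : F) • a) = 1
    rw [zero_smul]; rfl
  map_mul' s t := by
    rw [← ofAdd_add, ← add_smul]; rfl

theorem card_kl_le [Finite F] (a : K) : Nat.card ↥(kl F a).range ≤ Nat.card F :=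
  Nat.card_le_card_of_surjective (α := Multiplicative F) (kl F a).rangeRestrict (kl F a).rangeRestrict_surjective

theorem card_kl [Finite F] {a : K} (ha : a ≠ 0) : Nat.card ↥(kl F a).range = Nat.card F := by
  have h1 : Function.Injective (kl F a) := by
    rw [injective_iff_map_eq_one]
    intro t ht
    have h2 : t.toAdd • a = 0 := congrArg Multiplicative.toAdd ht
    exact congrArg Multiplicative.ofAdd ((smul_eq_zero.1 h2).resolve_right ha)
  exact (Nat.card_congr (MonoidHom.ofInjective h1).toEquiv).symm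

theorem index_kl [Finite F] [Finite K] {a : K} (ha : a ≠ 0) (φ : K ≃ₐ[F] K) [Cub φ] :
    (kl F a).range.index = Nat.card F ^ 2 := by
  have h1 := (kl F a).range.index_mul_card
  rw [card_kl ha] at h1
  have h2 : Nat.card (Multiplicative K) = Nat.card F ^ 3 := (Nat.card_congr Multiplicative.toAdd).trans (card_K φ)
  rw [h2, pow_succ] at h1
  exact Nat.eq_of_mul_eq_mul_right Nat.card_pos h1

theorem cr_line {a c : K} (ha : a ≠ 0) (h : cr φ a c = 0) : ∃ t : F, c = t • a := by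
  by_cases h2 : (2 : K) = 0
  · exact cr_eq_zero_two φ h2 ha h
  · exact ⟨0, by rw [zero_smul]; exact (cr_eq_zero φ h2 h).resolve_left ha⟩

/-- `|K : cr a K| ≤ |F|` -/
theorem index_kcr [Finite F] [Finite K] {a : K} (ha : a ≠ 0) : (kcr φ a).range.index ≤ Nat.card F := by
  have h1 := (kcr φ a).range.index_mul_card
  have h2 := (kcr φ a).ker.index_mul_card
  rw [Subgroup.index_ker] at h2
  have h3 : (kcr φ a).range.index = Nat.card ↥(kcr φ a).ker := by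
    refine Nat.eq_of_mul_eq_mul_right (Nat.card_pos (α := ↥(kcr φ a).range)) ?_
    rw [h1, mul_comm, h2]
  rw [h3]
  refine (Nat.card_le_card_of_injective (Subgroup.inclusion ?_) (Subgroup.inclusion_injective _)).trans
    (card_kl_le (F := F) a)
  intro c hc
  obtain ⟨t, ht⟩ := cr_line ha (congrArg Multiplicative.toAdd (MonoidHom.mem_ker.1 hc))
  exact ⟨Multiplicative.ofAdd t, congrArg Multiplicative.ofAdd ht.symm⟩

end Sy

/-! ### The common part -/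

section Common

variable {F K : Type u} [Field F] [Field K] [Finite F] [Finite K] [Algebra F K] {φ : K ≃ₐ[F] K} [Cub φ]
  {E : Subgroup (Sy φ)}

/-- a regular element -/
theorem exists_reg (hm : Mixed E) : ∃ e ∈ E, e.x1 ≠ 0 ∧ e.x6 ≠ 0 := by
  obtain ⟨e1, he1, h11⟩ := SetLike.not_le_iff_exists.1 hm.1
  obtain ⟨e6, he6, h66⟩ := SetLike.not_le_iff_exists.1 hm.2
  rw [mem_Q1] at h11
  rw [mem_Q2] at h66
  by_cases h1 : e1.x6 = 0
  · by_cases h6 : e6.x1 = 0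
    · refine ⟨e1 * e6, mul_mem he1 he6, ?_, ?_⟩
      · rw [mul_x1, h6, add_zero]; exact h11
      · rw [mul_x6, h1, zero_add]; exact h66
    · exact ⟨e6, he6, h6, h66⟩
  · exact ⟨e1, he1, h11, h1⟩

theorem top_le_norm (h4 : Z4 φ ≤ E) : ⊤ ≤ normalizerIn ⊤ E := by
  refine le_inf le_rfl fun x _ => Subgroup.mem_normalizer_iff.2 fun y => ?_
  have h1 : x * y * x⁻¹ = ⁅x, y⁆ * y := by rw [commutatorElement_def]; group
  rw [h1]
  exact (Subgroup.mul_mem_cancel_left E (h4 (comm_mem_Z4 x y))).symm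

variable {N : Subgroup (Sy φ)} (hN : Com E E N) (h4 : Z4 φ ≤ E) {e : Sy φ} (he : e ∈ E)

include hN h4 he in
theorem Z1_le_of (h6 : e.x6 ≠ 0) : Z1 φ ≤ N := by
  intro z hz
  have h1 : ⁅e, u2 φ (e.x6⁻¹ * z.x4)⁆ ∈ N := hN e he _ (h4 (Z3_le_Z4 (Z2_le_Z3 (u2_mem _))))
  rw [comm_Z2 (u2_mem _)] at h1
  have h2 : e.x6 * (u2 φ (e.x6⁻¹ * z.x4)).x2 = z.x4 := by
    show e.x6 * (e.x6⁻¹ * z.x4) = z.x4
    rw [mul_inv_cancel_left₀ h6]
  rw [h2, ← eq_u4 hz] at h1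
  exact h1

include hN h4 he in
theorem Z2_le_of (h1 : e.x1 ≠ 0) (h6 : e.x6 ≠ 0) : Z2 φ ≤ N := by
  intro z hz
  obtain ⟨b, hb⟩ := exists_tr_mul (φ := φ) h1 z.x2
  have hw : ⁅e, u3 φ b⁆ ∈ N := hN e he _ (h4 (Z3_le_Z4 (u3_mem _)))
  refine mem_of_sub hw (Z1_le_of hN h4 he h6 (sub_Z1 hz (comm_mem_Z2 (u3_mem _)) ?_))
  rw [comm_x2' (u3_mem _)]
  exact hb.symm

include hN h4 he in
/-- `cr e.x1 c` is an `x3`-coordinate of `N` -/
theorem u3_cr_mem (h2 : Z2 φ ≤ N) (c : K) : u3 φ (cr φ e.x1 c) ∈ N := by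
  have hw : ⁅e, u5 φ c⁆ ∈ N := hN e he _ (h4 (u5_mem _))
  refine mem_of_sub hw (h2 (sub_Z2 (u3_mem _) (comm_mem_Z3 (u5_mem _)) ?_))
  rw [comm_x3 (u5_mem _)]
  rfl

include hN h4 he in
/-- `|Z4 : Z4 ∩ N Z3| ≤ |S : E|` -/
theorem relIndex_Z4_le (h6 : e.x6 ≠ 0) : (N ⊔ Z3 φ).relIndex (Z4 φ) ≤ E.index := by
  have h1 : ((E.map (kap e)).comap (k5 φ)) ≤ (N ⊔ Z3 φ).subgroupOf (Z4 φ) := by
    intro z hz
    obtain ⟨g, hg, hge⟩ := hz
    rw [Subgroup.mem_subgroupOf]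
    have hw : ⁅e, g⁆ ∈ N := (hN e he g hg :)
    refine mem_of_sub (le_sup_left (a := N) hw) (le_sup_right (a := N) (sub_Z3 z.2 (comm_mem_Z4 _ _) ?_))
    rw [comm_x5]
    exact (congrArg Multiplicative.toAdd hge).symm
  calc (N ⊔ Z3 φ).relIndex (Z4 φ) ≤ ((E.map (kap e)).comap (k5 φ)).index := Subgroup.index_antitone h1
    _ = (E.map (kap e)).index := Subgroup.index_comap_of_surjective _ k5_surj
    _ ≤ E.index := Nat.le_of_dvd (Nat.pos_of_ne_zero Subgroup.FiniteIndex.index_ne_zero)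
        (Subgroup.index_map_dvd _ (kap_surj h6))

include hN h4 he in
/-- `|Z3 : Z3 ∩ N| ≤ q` -/
theorem relIndex_Z3_le (h1 : e.x1 ≠ 0) (h2 : Z2 φ ≤ N) : N.relIndex (Z3 φ) ≤ Nat.card F := by
  have h3 : ((kcr φ e.x1).range.comap (k3 φ)) ≤ N.subgroupOf (Z3 φ) := by
    rintro z ⟨c, hc⟩
    rw [Subgroup.mem_subgroupOf]
    refine mem_of_sub (u3_cr_mem hN h4 he h2 c.toAdd) (h2 (sub_Z2 z.2 (u3_mem _) ?_))
    exact (congrArg Multiplicative.toAdd hc).symm
  calc N.relIndex (Z3 φ) ≤ ((kcr φ e.x1).range.comap (k3 φ)).index := Subgroup.index_antitone h3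
    _ = (kcr φ e.x1).range.index := Subgroup.index_comap_of_surjective _ k3_surj
    _ ≤ Nat.card F := index_kcr h1

include hN h4 in
/-- `Z3 ≤ N` if the `x1`-coordinates of `E` do not lie in a line -/
theorem Z3_le_of (h2 : Z2 φ ≤ N) (hl : ¬ ∃ a : K, ∀ x ∈ E, ∃ t : F, x.x1 = t • a) : Z3 φ ≤ N := by
  let W : Submodule F K := Submodule.span F {b | ∃ x ∈ E, ∃ c : K, b = cr φ x.x1 c}
  have hW : W = ⊤ := by
    refine eq_top_of_tr φ W fun s hs => ?_
    by_contra hs0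
    apply hl
    refine ⟨s, fun x hx => cr_line (φ := φ) hs0 ?_⟩
    refine tr_nondeg φ fun t => ?_
    have h3 := hs (cr φ x.x1 t) (Submodule.subset_span ⟨x, hx, t, rfl⟩)
    rw [← tr_cr] at h3
    exact h3
  have hP : ∀ b ∈ W, ∀ f : F, u3 φ (f • b) ∈ N := by
    intro b hb
    induction hb using Submodule.span_induction with
    | mem b hb =>
      obtain ⟨x, hx, c, rfl⟩ := hb
      intro f
      rw [← cr_smul_right]
      exact u3_cr_mem hN h4 hx h2 _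
    | zero =>
      intro f
      rw [smul_zero]
      exact one_mem _
    | add b b' _ _ ih ih' =>
      intro f
      rw [smul_add, u3_add]
      exact mul_mem (ih f) (ih' f)
    | smul g b _ ih =>
      intro f
      rw [smul_smul]
      exact ih _
  intro z hz
  have h3 := hP z.x3 (by rw [hW]; trivial) 1
  rw [one_smul] at h3
  exact mem_of_sub h3 (h2 (sub_Z2 hz (u3_mem _) rfl))

end Common

/-- `Φ(E) ≤ Z4` if `Z4 ≤ E` -/
theorem phi_le_Z4 {F K : Type u} [Field F] [Field K] [Algebra F K] {φ : K ≃ₐ[F] K} [Cub φ]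
    {E : Subgroup (Sy φ)} {p : ℕ} [CharP K p] [CharP F p] (h4 : Z4 φ ≤ E)
    (hmin : ∀ N : Subgroup (Sy φ), N ≤ E → Com E E N → (∀ x ∈ E, x ^ p ∈ N) → Phi E ≤ N) : Phi E ≤ Z4 φ := by
  refine hmin _ h4 (fun a _ m _ => comm_mem_Z4 a m) fun x _ => ⟨?_, ?_⟩
  · have h1 : hom1 φ (x ^ p) = (hom1 φ x) ^ p := map_pow _ _ _
    have h2 : (x ^ p).x1 = p • x.x1 := congrArg Multiplicative.toAdd h1
    rw [h2, nsmul_eq_mul, CharP.cast_eq_zero, zero_mul]
  · have h1 : hom6 φ (x ^ p) = (hom6 φ x) ^ p := map_pow _ _ _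
    have h2 : (x ^ p).x6 = p • x.x6 := congrArg Multiplicative.toAdd h1
    rw [h2, nsmul_eq_mul, CharP.cast_eq_zero, zero_mul]

theorem charP_F {F K : Type*} [Field F] [Field K] [Algebra F K] {p : ℕ} [CharP K p] : CharP F p :=
  (algebraMap F K).charP (algebraMap F K).injective p

/-- **(M4b)** -/
theorem stM4b (hphi : StPhi.{u}) (hp2c : StP2c.{u}) : StM4b.{u} := by
  intro F K _ _ _ _ _ φ _ p _ E Γ h hm h4 ⟨s, hs0, hs⟩ hl
  obtain ⟨e, he, h1, h6⟩ := exists_reg hm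
  obtain ⟨P1, P2, P3, P4, P5, P6⟩ := hphi E p h.pp (Finite.of_injective _ E.subtype_injective)
    (h.pgr.of_injective (Subgroup.inclusion le_top) (Subgroup.inclusion_injective _))
  have z2 := Z2_le_of P2 h4 he h1 h6
  have z3 := Z3_le_of P2 h4 z2 hl
  have hpi := relIndex_Z4_le P2 h4 he h6
  rw [sup_eq_left.2 z3] at hpi
  -- `b`
  obtain ⟨a', ha'⟩ : ∃ a' : K, tr φ (s * a') ≠ 0 := by
    by_contra hcon
    push Not at hcon
    exact hs0 (tr_nondeg φ hcon)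
  have hb : u1 φ a' ∉ E := fun hb => ha' (hs _ hb)
  have hq := hp2c h ⊤ (Z4 φ) (Phi E) (E ⊓ Q2 φ) (u1 φ a') (top_le_norm h4) (top_le_norm h4 trivial) hb h4
    (fun x _ y _ => comm_mem_Z4 x y) le_rfl inf_le_left (fun x hx => z3 ⟨comm_x1 _ _, comm_x6 _ _, by
      show (⁅u1 φ a', x⁆).x5 = 0
      rw [comm_x5, show x.x6 = 0 from hx.2]
      simp [u1]⟩)
  rw [Subgroup.relIndex_top_right, Subgroup.inf_relIndex_left] at hq
  have hq2 : (Q2 φ).relIndex E ≤ Nat.card F := by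
    rw [← index_Q2 (φ := φ)]
    exact Nat.le_of_dvd (Nat.pos_of_ne_zero Subgroup.FiniteIndex.index_ne_zero)
      (Subgroup.relIndex_dvd_index_of_normal _ _)
  have hi0 : 0 < E.index := Nat.pos_of_ne_zero Subgroup.FiniteIndex.index_ne_zero
  have hi : E.index ≤ Nat.card F := by
    have h5 := hq.trans (Nat.mul_le_mul hpi hq2)
    rw [_root_.sq] at h5
    exact Nat.le_of_mul_le_mul_left h5 hi0
  -- the plane
  let τ : Sy φ →* Multiplicative F :=
    { toFun := fun x => Multiplicative.ofAdd (tr φ (s * x.x1))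
      map_one' := by
        show Multiplicative.ofAdd (tr φ (s * 0)) = 1
        rw [mul_zero, tr_zero]; rfl
      map_mul' := fun x y => by
        rw [← ofAdd_add, ← tr_add, ← mul_add]; rfl }
  have hτ : Function.Surjective τ := fun t => by
    obtain ⟨b, hb⟩ := exists_tr_mul (φ := φ) hs0 t.toAdd
    exact ⟨u1 φ b, congrArg Multiplicative.ofAdd hb⟩
  have hE : E ≤ τ.ker := fun x hx => congrArg Multiplicative.ofAdd (hs x hx)
  have hT : τ.ker.index = Nat.card F := by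
    rw [Subgroup.index_ker, MonoidHom.range_eq_top.2 hτ]
    exact Subgroup.card_top
  have h5 := Subgroup.relIndex_mul_index hE
  rw [hT] at h5
  have h7 : E.relIndex τ.ker ≤ 1 := by
    rw [← h5] at hi
    exact Nat.le_of_mul_le_mul_right (by rwa [one_mul]) (Nat.card_pos (α := F))
  have h8 : τ.ker ≤ E := by
    rw [← Subgroup.relIndex_eq_one]
    exact le_antisymm h7 (Nat.pos_of_ne_zero Subgroup.FiniteIndex.index_ne_zero)
  refine le_trans (fun x hx => ?_) h8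
  rw [MonoidHom.mem_ker]
  show Multiplicative.ofAdd (tr φ (s * x.x1)) = 1
  rw [show x.x1 = 0 from hx, mul_zero, tr_zero]
  rfl

/-- **(M4c)** -/
theorem stM4c (hphi : StPhi.{u}) (hp2c : StP2c.{u}) : StM4c.{u} := by
  intro F K _ _ _ _ _ φ _ p _ E Γ h hm h4 ⟨a, ha⟩
  have : CharP F p := charP_F (K := K)
  obtain ⟨e, he, h1, h6⟩ := exists_reg hm
  obtain ⟨P1, P2, P3, P4, P5, P6⟩ := hphi E p h.pp (Finite.of_injective _ E.subtype_injective)
    (h.pgr.of_injective (Subgroup.inclusion le_top) (Subgroup.inclusion_injective _))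
  have ha0 : a ≠ 0 := by
    rintro rfl
    obtain ⟨t, ht⟩ := ha e he
    exact h1 (by rw [ht, smul_zero])
  have z2 := Z2_le_of P2 h4 he h1 h6
  have z1 := Z1_le_Z2.trans z2
  have hpi := relIndex_Z4_le P2 h4 he h6
  have hph4 : Phi E ≤ Z4 φ := phi_le_Z4 h4 P4
  have hnorm : (Phi E).Normal := ⟨fun n hn g => P6 g (top_le_norm h4 trivial).2 n hn⟩
  have hpi2 : (Phi E).relIndex (Z4 φ) ≤ Nat.card F * E.index := by
    rw [← Subgroup.relIndex_mul_relIndex (Phi E) (Phi E ⊔ Z3 φ) (Z4 φ) le_sup_left (sup_le hph4 Z3_le_Z4),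
      Subgroup.relIndex_sup_left]
    exact Nat.mul_le_mul (relIndex_Z3_le P2 h4 he h1 z2) hpi
  by_contra hcon
  obtain ⟨b, hb, hbE⟩ := SetLike.not_le_iff_exists.1 hcon
  have hq := hp2c h ⊤ (Z4 φ) (Phi E) (E ⊓ Q1 φ) b (top_le_norm h4) (top_le_norm h4 trivial) hbE h4
    (fun x _ y _ => comm_mem_Z4 x y) le_rfl inf_le_left (fun x hx => z1 (by
      show ⁅b, x⁆ ∈ Z1 φ
      rw [comm_Q1 hb hx.2]
      exact u4_mem _))
  rw [Subgroup.relIndex_top_right, Subgroup.inf_relIndex_left] at hq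
  have hE1 : E.map (hom1 φ) ≤ (kl F a).range := by
    rintro _ ⟨x, hx, rfl⟩
    obtain ⟨t, ht⟩ := ha x hx
    exact ⟨Multiplicative.ofAdd t, congrArg Multiplicative.ofAdd ht.symm⟩
  have hq1 : (Q1 φ).relIndex E ≤ Nat.card F := by
    rw [← ker_hom1, Subgroup.relIndex_ker]
    exact (Nat.card_le_card_of_injective _ (Subgroup.inclusion_injective hE1)).trans (card_kl_le a)
  have hi0 : 0 < E.index := Nat.pos_of_ne_zero Subgroup.FiniteIndex.index_ne_zero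
  have hi : E.index ≤ Nat.card F ^ 2 := by
    have h5 := hq.trans (Nat.mul_le_mul hpi2 hq1)
    refine Nat.le_of_mul_le_mul_left (a := E.index) ?_ hi0
    calc E.index * E.index = E.index ^ 2 := (_root_.sq _).symm
      _ ≤ Nat.card F * E.index * Nat.card F := h5
      _ = _ := by ring
  have hT : ((kl F a).range.comap (hom1 φ)).index = Nat.card F ^ 2 := by
    rw [Subgroup.index_comap_of_surjective _ (by exact hom1_surjective), index_kl ha0 φ]
  have hE : E ≤ (kl F a).range.comap (hom1 φ) := Subgroup.map_le_iff_le_comap.1 hE1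
  have h5 := Subgroup.relIndex_mul_index hE
  rw [hT] at h5
  have h7 : E.relIndex ((kl F a).range.comap (hom1 φ)) ≤ 1 := by
    rw [← h5] at hi
    exact Nat.le_of_mul_le_mul_right (by rwa [one_mul]) (pow_pos (Nat.card_pos (α := F)) 2)
  have h8 : (kl F a).range.comap (hom1 φ) ≤ E := by
    rw [← Subgroup.relIndex_eq_one]
    exact le_antisymm h7 (Nat.pos_of_ne_zero Subgroup.FiniteIndex.index_ne_zero)
  apply hbE
  apply h8
  rw [Subgroup.mem_comap]
  have : hom1 φ b = 1 := congrArg Multiplicative.ofAdd (show b.x1 = 0 from hb)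
  rw [this]
  exact one_mem _

end Cfsg.Agent.H406.TE
end

-- part: H406/TE/E2c
section
/-!
# S5261, part E: `p = 2`, `|E : Q1| = 2` (helper406)

* `stE2c`.
-/

set_option autoImplicit false
set_option linter.unusedSectionVars false

namespace Cfsg.Agent.H406.TE

open Cfsg Cfsg.FusionSystem Cfsg.Agent.H756.PU Cfsg.Agent.H802.TE
open Cfsg.Agent.H765.D3 Cfsg.Agent.H765.D3.Sy
open Cfsg.Agent.Hex.Defs (sh cr nm tr)
open scoped commutatorElement

universe u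

section Comm

variable {F K : Type u} [Field F] [Field K] [Algebra F K] {φ : K ≃ₐ[F] K} [Cub φ]

theorem u1_x1 (t : K) : (u1 φ t).x1 = t := rfl
theorem u1_x6 (t : K) : (u1 φ t).x6 = 0 := rfl
theorem u1_x5 (t : K) : (u1 φ t).x5 = 0 := rfl
theorem u1_x3 (t : K) : (u1 φ t).x3 = 0 := rfl
theorem u1_x2 (t : K) : (u1 φ t).x2 = 0 := rfl

theorem comm_u1_x3 {v : Sy φ} (hv : v.x1 = 0) (t : K) : (⁅v, u1 φ t⁆).x3 = -(cr φ t v.x5 + v.x6 • sh φ t) := by
  have h := congrArg Sy.x3 (comm_mul v (u1 φ t))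
  rw [mul_x3, mul_x3, mul_x3, comm_x1, hv] at h
  simp only [u1_x1, u1_x6, u1_x5, u1_x3, sh_zero, cr_zero_left, smul_zero, add_zero, zero_add] at h
  linear_combination -h

theorem comm_u1_x2 {v : Sy φ} (hv : v.x1 = 0) (t : K) :
    (⁅v, u1 φ t⁆).x2 = -(tr φ (t * v.x3) + tr φ (sh φ t * v.x5) + v.x6 * nm φ t) := by
  have h := congrArg Sy.x2 (comm_mul v (u1 φ t))
  rw [mul_x2, mul_x2, mul_x2, comm_x1, hv] at h
  simp only [u1_x1, u1_x6, u1_x5, u1_x3, u1_x2, sh_zero, nm_zero, zero_mul, mul_zero, tr_zero, add_zero, zero_add] at h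
  linear_combination -h

/-- `[v, [v, u1 t]]` for `v ∈ Q1`, characteristic two -/
theorem comm_comm_u1 (h2 : (2 : K) = 0) {v : Sy φ} (hv : v.x1 = 0) (t : K) :
    ⁅v, ⁅v, u1 φ t⁆⁆ = u4 φ (v.x6 ^ 2 * nm φ t) := by
  rw [comm_Q1 hv (comm_x1 _ _)]
  congr 1
  unfold form
  rw [comm_u1_x3 hv, comm_u1_x2 hv, comm_x6, comm_x5]
  simp only [u1_x1, u1_x6, zero_smul, zero_sub, hv]
  apply (algebraMap F K).injective
  simp only [map_add, map_sub, map_mul, map_neg, map_pow, coe_tr, coe_nm, sh, cr, phi3, phi_coe, Algebra.smul_def, map_zero]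
  linear_combination (-(algebraMap F K v.x6 * t * v.x3) - algebraMap F K v.x6 * φ t * φ v.x3 -
    algebraMap F K v.x6 * φ (φ t) * φ (φ v.x3) - algebraMap F K v.x6 ^ 2 * t * φ t * φ (φ t) +
    t * φ v.x5 * φ (φ v.x5) + φ t * v.x5 * φ (φ v.x5) + φ (φ t) * v.x5 * φ v.x5) * h2

/-- `form v w = - tr (v.x5 w.x3)` for `v ∈ Z4`, `w ∈ Z3` -/
theorem form_Z4_Z3 {v w : Sy φ} (hv : v ∈ Z4 φ) (hw : w ∈ Z3 φ) : form v w = -tr φ (v.x5 * w.x3) := by
  rw [form, hv.2, hw.2.1, hw.2.2, zero_mul, mul_zero, mul_zero, tr_zero]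
  ring

theorem comm_x3_sw {v g : Sy φ} (hv : v ∈ Z4 φ) : (⁅v, g⁆).x3 = -cr φ g.x1 v.x5 := by
  have h1 : ⁅v, g⁆ = (⁅g, v⁆)⁻¹ := (commutatorElement_inv _ _).symm
  rw [h1, inv_x3, comm_x1, comm_x6, comm_x3 hv, cr_zero_left, zero_smul]
  ring

/-- `[v, [z, g]] = u4 (tr (v.x5 * (g.x1 ⋆ z.x5)))` for `v, z ∈ Z4` -/
theorem comm_Z4_comm {v z g : Sy φ} (hv : v ∈ Z4 φ) (hz : z ∈ Z4 φ) :
    ⁅v, ⁅z, g⁆⁆ = u4 φ (tr φ (v.x5 * cr φ g.x1 z.x5)) := by
  have hw : ⁅z, g⁆ ∈ Z3 φ := comm_sw (comm_mem_Z3 hz)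
  rw [comm_Q1 hv.1 hw.1, form_Z4_Z3 hv hw, comm_x3_sw hz, mul_neg, tr_neg, neg_neg]

theorem u4_eq_one {w : F} (h : u4 φ w = 1) : w = 0 := congrArg Sy.x4 h

end Comm

/-- **(E2c)** -/
theorem stE2c (hphi : StPhi.{u}) (hch : StCh.{u}) : StE2c.{u} := by
  intro F K _ _ _ _ _ φ _ _ E Γ h t ht hE
  have : CharP F 2 := charP_F (K := K)
  have h2 : (2 : K) = 0 := by exact_mod_cast CharP.cast_eq_zero K 2
  have hq : Q1 φ ≤ E := fun x hx => (hE x).2 (Or.inl hx)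
  have h4 : Z4 φ ≤ E := Z4_le_Q1.trans hq
  have h3 : Z3 φ ≤ E := Z3_le_Z4.trans h4
  have ht1 : u1 φ t ∈ E := (hE _).2 (Or.inr rfl)
  obtain ⟨P1, P2, P3, P4, P5, P6⟩ := hphi E 2 h.pp (Finite.of_injective _ E.subtype_injective)
    (h.pgr.of_injective (Subgroup.inclusion le_top) (Subgroup.inclusion_injective _))
  -- a regular element
  have hreg : u1 φ t * u6 φ 1 ∈ E := mul_mem ht1 (hq (u6_mem _))
  have hr1 : (u1 φ t * u6 φ 1).x1 = t := by rw [mul_x1]; exact add_zero _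
  have hr6 : (u1 φ t * u6 φ 1).x6 = 1 := by rw [mul_x6]; exact zero_add _
  have z2 : Z2 φ ≤ Phi E := Z2_le_of P2 h4 hreg (by rw [hr1]; exact ht) (by rw [hr6]; exact one_ne_zero)
  have hnt : nm φ t ≠ 0 := fun e => ht ((nm_eq_zero φ).1 e)
  -- `Z1`
  have i1 : _root_.Cfsg.Agent.H756.PU.Inv Γ (Z1 φ) := by
    refine inv_of_char inv_bot (Z1_le_Z2.trans (Z2_le_Z3.trans h3)) fun z hz => ⟨fun hz1 e _ => ?_, fun H => ?_⟩
    · exact Subgroup.mem_bot.2 (bot_sw (comm_Z1 hz1))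
    · rw [← centralizer_Q1, mem_centralizer]
      exact fun y hy => Subgroup.mem_bot.1 (H y (hq hy))
  -- `Q1`
  obtain ⟨c, hc⟩ : ∃ c : K, cr φ t c ≠ 0 := by
    by_contra hcon
    push Not at hcon
    exact ht (cr_nondeg' φ hcon)
  have iq : _root_.Cfsg.Agent.H756.PU.Inv Γ (Q1 φ) := by
    refine ⟨hq, fun γ hγ e he => ?_⟩
    by_contra hne
    -- `b = γ e` is not in `Q1`
    have hb1 : ((γ e : E) : Sy φ).x1 = t := ((hE _).1 (γ e).2).resolve_left hne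
    -- the elements of `Q1` are of the form `γ y` or `γ y` times an element of ...
    have key : ∀ v : E, (v : Sy φ) ∈ Q1 φ → (γ⁻¹ v : E) ∈ (Q1 φ).subgroupOf E → (⁅((γ e : E) : Sy φ), (v : Sy φ)⁆) ∈ Z1 φ := by
      intro v _ hv'
      have h5 : ⁅(e : Sy φ), ((γ⁻¹ v : E) : Sy φ)⁆ ∈ Z1 φ := by
        rw [comm_Q1 he (Subgroup.mem_subgroupOf.1 hv')]
        exact u4_mem _
      have h6 := i1.2 γ hγ ⁅e, γ⁻¹ v⁆ (Cfsg.Agent.H15.TE.E2cc.n1 h5)
      rw [map_commutatorElement, MulAut.apply_inv_self] at h6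
      exact Cfsg.Agent.H15.TE.E2cc.m1 h6
    -- index two: one of three
    have three : ∀ v w : E, v ∈ (Q1 φ).subgroupOf E ∨ w ∈ (Q1 φ).subgroupOf E ∨ v⁻¹ * w ∈ (Q1 φ).subgroupOf E := by
      intro v w
      rcases (hE _).1 v.2 with h5 | h5
      · exact Or.inl h5
      rcases (hE _).1 w.2 with h6 | h6
      · exact Or.inr (Or.inl h6)
      · refine Or.inr (Or.inr ?_)
        show ((v : Sy φ)⁻¹ * (w : Sy φ)).x1 = 0
        rw [mul_x1, inv_x1, h5, h6, neg_add_cancel]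
    let v : E := ⟨u6 φ 1, hq (u6_mem _)⟩
    let w : E := ⟨u5 φ c, h4 (u5_mem _)⟩
    have n1 : ¬ ⁅((γ e : E) : Sy φ), (v : Sy φ)⁆ ∈ Z1 φ := by
      intro h5
      have h6 := h5.2.2.1
      rw [comm_x5, hb1] at h6
      have h7 : (1 : F) • t - ((γ e : E) : Sy φ).x6 • (0 : K) = 0 := h6
      rw [one_smul, smul_zero, sub_zero] at h7
      exact ht h7
    have n2 : ¬ ⁅((γ e : E) : Sy φ), (w : Sy φ)⁆ ∈ Z1 φ := by
      intro h5
      have h6 := h5.2.2.2.1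
      rw [comm_x3 (u5_mem _), hb1] at h6
      exact hc h6
    have n3 : ¬ ⁅((γ e : E) : Sy φ), ((v⁻¹ * w : E) : Sy φ)⁆ ∈ Z1 φ := by
      intro h5
      have h6 := h5.2.2.1
      rw [comm_x5, hb1] at h6
      have h7 : ((v⁻¹ * w : E) : Sy φ).x6 = -1 := by
        show ((u6 φ 1)⁻¹ * u5 φ c).x6 = -1
        rw [mul_x6, inv_x6]; exact add_zero _
      have h8 : ((v⁻¹ * w : E) : Sy φ).x1 = 0 := by
        show ((u6 φ 1)⁻¹ * u5 φ c).x1 = 0
        rw [mul_x1, inv_x1]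
        show -(0 : K) + 0 = 0
        ring
      rw [h7, h8, smul_zero, sub_zero, neg_smul, one_smul, neg_eq_zero] at h6
      exact ht h6
    have hq3 : ((v⁻¹ * w : E) : Sy φ) ∈ Q1 φ := mul_mem (_root_.InvMemClass.inv_mem (u6_mem _)) (Z4_le_Q1 (u5_mem _))
    rcases three (γ⁻¹ v) (γ⁻¹ w) with h5 | h5 | h5
    · exact n1 (key v (u6_mem _) h5)
    · exact n2 (key w (Z4_le_Q1 (u5_mem _)) h5)
    · rw [← map_inv, ← map_mul] at h5
      exact n3 (key _ hq3 h5)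
  -- `Z4`
  have i4 : _root_.Cfsg.Agent.H756.PU.Inv Γ (Z4 φ) := by
    have hch4 : ∀ v : Sy φ, v ∈ Z4 φ ↔ v ∈ Q1 φ ∧ ∀ g ∈ E, ⁅v, ⁅v, g⁆⁆ = 1 := by
      intro v
      constructor
      · intro hv
        refine ⟨Z4_le_Q1 hv, fun g _ => ?_⟩
        rw [comm_Z4_comm hv hv]
        have h5 : tr φ (v.x5 * cr φ g.x1 v.x5) = 0 := by
          rw [cr_comm, ← tr_cr, cr_self, h2, zero_mul, zero_mul, tr_zero]
        rw [h5]; rfl
      · rintro ⟨hv, H⟩
        refine ⟨hv, ?_⟩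
        have h5 := H _ ht1
        rw [comm_comm_u1 h2 hv] at h5
        have h6 := u4_eq_one h5
        exact pow_eq_zero_iff two_ne_zero |>.1 ((mul_eq_zero.1 h6).resolve_right hnt)
    refine ⟨h4, fun γ hγ v hv => (hch4 _).2 ⟨iq.2 γ hγ v (Z4_le_Q1 hv), fun g hg => ?_⟩⟩
    have h5 := ((hch4 _).1 hv).2 ((γ⁻¹ ⟨g, hg⟩ : E) : Sy φ) (γ⁻¹ ⟨g, hg⟩ : E).2
    have h6 : ⁅v, ⁅v, γ⁻¹ ⟨g, hg⟩⁆⁆ = (1 : E) := Cfsg.Agent.H15.TE.E2cc.i2 h5
    have h7 := congrArg γ h6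
    rw [map_commutatorElement, map_commutatorElement, MulAut.apply_inv_self, map_one] at h7
    exact Cfsg.Agent.H15.TE.E2cc.o3 h7
  -- `X`
  let X : Subgroup (Sy φ) :=
    { carrier := {x | x ∈ Z4 φ ∧ ∃ l : F, x.x5 = l • t}
      one_mem' := ⟨one_mem _, 0, by rw [zero_smul]; rfl⟩
      mul_mem' := by
        rintro x y ⟨hx, l, hl⟩ ⟨hy, m, hm⟩
        refine ⟨mul_mem hx hy, l + m, ?_⟩
        rw [mul_x5, hy.2, hl, hm, zero_smul, add_zero, add_smul]
      inv_mem' := by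
        rintro x ⟨hx, l, hl⟩
        refine ⟨_root_.InvMemClass.inv_mem hx, -l, ?_⟩
        rw [inv_x5, hx.2, hl, zero_smul, add_zero, neg_smul] }
  have hX4 : X ≤ Z4 φ := fun x hx => hx.1
  have iX : _root_.Cfsg.Agent.H756.PU.Inv Γ X := by
    have hchX : ∀ x ∈ Z4 φ, (x ∈ X ↔ ∀ z ∈ Z4 φ, ∀ g ∈ E, ⁅x, ⁅z, g⁆⁆ = 1) := by
      intro x hx
      constructor
      · rintro ⟨-, l, hl⟩ z hz g hg
        rw [comm_Z4_comm hx hz, hl]
        have h5 : tr φ (l • t * cr φ g.x1 z.x5) = 0 := by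
          rcases (hE g).1 hg with h6 | h6
          · rw [h6, cr_zero_left, mul_zero, tr_zero]
          · rw [h6, smul_mul_assoc, tr_smul, ← tr_cr, cr_self, h2, zero_mul, zero_mul, tr_zero, mul_zero]
        rw [h5]; rfl
      · intro H
        refine ⟨hx, cr_line (φ := φ) ht (tr_nondeg φ fun c => ?_)⟩
        have h5 := H _ (u5_mem c) _ ht1
        rw [comm_Z4_comm hx (u5_mem c)] at h5
        have h6 : tr φ (x.x5 * cr φ t c) = 0 := u4_eq_one h5
        rw [cr_comm φ t x.x5, tr_cr]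
        exact h6
    refine ⟨hX4.trans h4, fun γ hγ x hx => (hchX _ (i4.2 γ hγ x (hX4 hx))).2 fun z hz g hg => ?_⟩
    have hz' : ((γ⁻¹ ⟨z, h4 hz⟩ : E) : Sy φ) ∈ Z4 φ := i4.2 γ⁻¹ (_root_.InvMemClass.inv_mem hγ) ⟨z, h4 hz⟩ hz
    have h5 := (hchX _ (hX4 hx)).1 hx _ hz' ((γ⁻¹ ⟨g, hg⟩ : E) : Sy φ) (γ⁻¹ ⟨g, hg⟩ : E).2
    have h6 : ⁅x, ⁅γ⁻¹ ⟨z, h4 hz⟩, γ⁻¹ ⟨g, hg⟩⁆⁆ = (1 : E) := Cfsg.Agent.H15.TE.E2cc.i2 h5
    have h7 := congrArg γ h6
    rw [map_commutatorElement, map_commutatorElement, MulAut.apply_inv_self, MulAut.apply_inv_self, map_one] at h7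
    exact Cfsg.Agent.H15.TE.E2cc.o4 h7
  have h3X : Z3 φ ≤ X := fun z hz => ⟨Z3_le_Z4 hz, 0, by rw [zero_smul]; exact hz.2.2⟩
  have hPX : Phi E ≤ X := by
    have hx5 : ∀ x ∈ E, ∀ f : F, ∃ l : F, f • x.x1 = l • t := by
      intro x hx f
      rcases (hE x).1 hx with h5 | h5
      · exact ⟨0, by rw [h5, smul_zero, zero_smul]⟩
      · exact ⟨f, by rw [h5]⟩
    refine P4 X (hX4.trans h4) (fun a ha b hb => ?_) fun x hx => ?_
    · show ⁅a, b⁆ ∈ X
      obtain ⟨l, hl⟩ := hx5 a ha b.x6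
      obtain ⟨m, hm⟩ := hx5 b hb a.x6
      exact ⟨comm_mem_Z4 a b, l - m, by rw [comm_x5, hl, hm, sub_smul]⟩
    · obtain ⟨l, hl⟩ := hx5 x hx x.x6
      have h22 : (2 : F) = 0 := by exact_mod_cast CharP.cast_eq_zero F 2
      refine ⟨⟨?_, ?_⟩, l, ?_⟩
      · rw [_root_.sq, mul_x1, ← two_mul, h2, zero_mul]
      · rw [_root_.sq, mul_x6, ← two_mul, h22, zero_mul]
      · rw [_root_.sq, mul_x5, ← two_mul, h2, zero_mul, zero_add, hl]
  -- the chain
  refine ne_top h (top_le_iff.1 ?_)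
  let M : ℕ → Subgroup (Sy φ) := fun i => match i with
    | 0 => Phi E
    | 1 => X
    | 2 => Z4 φ
    | 3 => Q1 φ
    | _ => E
  refine hch h 4 M le_rfl rfl ?_ ?_ ⊤ le_top ?_
  · intro i hi
    interval_cases i
    · exact P5 Γ
    · exact iX
    · exact i4
    · exact iq
    · exact ⟨le_rfl, fun γ _ e _ => (γ e).2⟩
  · intro i hi
    interval_cases i
    · exact hPX
    · exact hX4
    · exact Z4_le_Q1
    · exact hq
  · intro i hi
    interval_cases i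
    · rintro a _ x ⟨hx, l, hl⟩
      show ⁅a, x⁆ ∈ Phi E
      refine mem_of_sub (u3_cr_mem P2 h4 ht1 z2 (l • a.x1)) (z2 (sub_Z2 (comm_mem_Z3 hx) (u3_mem _) ?_))
      rw [comm_x3 hx, hl]
      show cr φ a.x1 (l • t) = cr φ t (l • a.x1)
      rw [cr_smul_right, cr_smul_right, cr_comm]
    · exact fun a _ m hm => h3X (comm_mem_Z3 hm)
    · exact fun a _ m hm => comm_mem_Z4 a m
    · exact fun a _ m hm => Z4_le_Q1 (comm_mem_Z4 a m)

end Cfsg.Agent.H406.TE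
end

-- part: H807/TE/M3d
section
/-!
# S5261, part E, `StM3d` (helper807)

`p = 2`, `Z3 ≤ E` mixed, `x.x1 ∈ {0, a}` on `E`, `y ∈ E` with `y.x1 = a`, `y.x6 = 0`: then `Z4 ≤ E`.
Proof: suppose not. `F a ≤ C := x5(E ∩ Z4)` (`StCh`), so `Q1` normalizes `E`; (P2w) for `A = B = Q1`, `X = X' = E ∩ Q1`
gives `|Q1 : Q1 ∩ E| = 2`, so `|K : C| = 2` and `x6(E ∩ Q1) = F`. `N = {n : F n ≤ C}` has order at least `q²`. (P2w) for
`A = {x6 = 0, x1 ∈ N}`, `X = {x ∈ Z4 : x5 ∈ N}`, `B = Q1`, `X' = E ∩ Q1` gives `|N|³ ≤ 2 q⁴`: contradiction.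
-/

set_option autoImplicit false
set_option linter.unusedSectionVars false

namespace Cfsg.Agent.H807.TE

open Cfsg Cfsg.FusionSystem Cfsg.Agent.H756.PU
open Cfsg.Agent.H765.D3 Cfsg.Agent.H765.D3.Sy Cfsg.Agent.H802.TE
open Cfsg.Agent.Hex.Defs (sh cr nm tr)
open scoped commutatorElement

universe u

section Gen

theorem le_norm {Ω : Type*} [Group Ω] {A E : Subgroup Ω} (h : Com A E E) : A ≤ normalizerIn ⊤ E := by
  intro x hx
  refine ⟨Subgroup.mem_top x, ?_⟩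
  show x ∈ Subgroup.normalizer (E : Set Ω)
  rw [Subgroup.mem_normalizer_iff]
  intro e
  constructor
  · intro he
    have h1 := mul_mem (h x hx e he) he
    rwa [inv_mul_cancel_right] at h1
  · intro he
    have h1 := mul_mem (h x⁻¹ (_root_.InvMemClass.inv_mem hx) _ he) he
    rw [inv_mul_cancel_right, inv_inv] at h1
    have h2 : x⁻¹ * (x * e * x⁻¹) * x = e := by group
    rwa [h2] at h1

/-- the index of a subgroup without "two cosets" -/
theorem relIndex_le_two {Ω : Type*} [Group Ω] {H L : Subgroup Ω} [Finite L] (h : ∀ x ∈ L, ∀ y ∈ L, x ∉ H → y ∉ H → x * y ∈ H) :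
    H.relIndex L ≤ 2 := by
  refine Nat.le_of_dvd two_pos ?_
  rw [Subgroup.relIndex_dvd_two_iff]
  by_cases hL : L ≤ H
  · exact ⟨1, one_mem _, fun b hb => Or.inr (hL hb)⟩
  · obtain ⟨a, ha, haH⟩ := SetLike.not_le_iff_exists.1 hL
    refine ⟨a, ha, fun b hb => ?_⟩
    by_cases hbH : b ∈ H
    · exact Or.inr hbH
    · exact Or.inl (h b hb a ha hbH haH)

theorem mul_mem_of_relIndex {Ω : Type*} [Group Ω] {H L : Subgroup Ω} [Finite L] (h : H.relIndex L ≤ 2) {x y : Ω} (hx : x ∈ L)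
    (hy : y ∈ L) (hxH : x ∉ H) (hyH : y ∉ H) : x * y ∈ H := by
  have h0 : H.relIndex L ≠ 0 := by
    rw [Subgroup.relIndex]
    exact Subgroup.index_ne_zero_of_finite
  have h1 : H.relIndex L ≠ 1 := fun h1 => hxH (Subgroup.relIndex_eq_one.1 h1 hx)
  have h2 : (H.subgroupOf L).index = 2 := by
    have : H.relIndex L = 2 := by omega
    exact this
  have h3 := (Subgroup.mul_mem_iff_of_index_two h2 (a := ⟨x, hx⟩) (b := ⟨y, hy⟩)).2
    (iff_of_false (fun h => hxH h) (fun h => hyH h))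
  exact h3

end Gen

section Field

variable {F K : Type*} [Field F] [Field K] [Algebra F K]

/-- a subgroup `C` of index at most two of a vector space contains a subspace of codimension at most one -/
theorem card_le_mul [Finite F] [Finite K] (C : AddSubgroup K) (hC : ∀ x y, x ∉ C → y ∉ C → x + y ∈ C)
    (N : Submodule F K) (hN : ∀ n : K, n ∈ N ↔ ∀ u : F, u • n ∈ C) : Nat.card K ≤ Nat.card N * Nat.card F := by
  classical
  let χ : AddChar K ℂ :=
    { toFun := fun x => if x ∈ C then 1 else -1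
      map_zero_eq_one' := by simp
      map_add_eq_mul' := fun x y => by
        by_cases hx : x ∈ C
        · by_cases hy : y ∈ C
          · simp [hx, hy, add_mem hx hy]
          · have : x + y ∉ C := fun h => hy (by simpa using add_mem (neg_mem hx) h)
            simp [hx, hy, this]
        · by_cases hy : y ∈ C
          · have : x + y ∉ C := fun h => hx (by simpa using add_mem h (neg_mem hy))
            simp [hx, hy, this]
          · simp [hx, hy, hC x y hx hy] }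
  have hχ : ∀ x, χ x = 1 → x ∈ C := by
    intro x hx
    by_contra hxC
    have h1 : (if x ∈ C then (1 : ℂ) else -1) = 1 := hx
    rw [if_neg hxC] at h1
    norm_num at h1
  let ψ : Multiplicative K →* AddChar F ℂ :=
    { toFun := fun n =>
        { toFun := fun u => χ (u • n.toAdd)
          map_zero_eq_one' := by simp
          map_add_eq_mul' := fun u v => by rw [add_smul, AddChar.map_add_eq_mul] }
      map_one' := by
        ext u
        show χ (u • (0 : K)) = 1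
        rw [smul_zero, AddChar.map_zero_eq_one]
      map_mul' := fun n m => by
        ext u
        show χ (u • (n.toAdd + m.toAdd)) = χ (u • n.toAdd) * χ (u • m.toAdd)
        rw [smul_add, AddChar.map_add_eq_mul] }
  have h1 : Nat.card ψ.ker * ψ.ker.index = Nat.card K := by
    rw [Subgroup.card_mul_index]; rfl
  have h2 : ψ.ker.index ≤ Nat.card F := by
    rw [Subgroup.index_ker]
    have : Fintype F := Fintype.ofFinite F
    have h3 : Nat.card (AddChar F ℂ) = Nat.card F := by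
      rw [Nat.card_eq_fintype_card, Nat.card_eq_fintype_card, AddChar.card_eq]
    rw [← h3]
    exact Nat.card_le_card_of_injective _ Subtype.val_injective
  have h3 : Nat.card ψ.ker ≤ Nat.card N := by
    refine Nat.card_le_card_of_injective (fun x : ψ.ker => (⟨x.1.toAdd, ?_⟩ : N)) ?_
    · rw [hN]
      intro u
      have := congrArg (fun ξ : AddChar F ℂ => ξ u) (MonoidHom.mem_ker.1 x.2)
      exact hχ _ this
    · intro x y h
      exact Subtype.ext (congrArg (fun z : N => Multiplicative.ofAdd (z : K)) h)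
  calc Nat.card K = Nat.card ψ.ker * ψ.ker.index := h1.symm
    _ ≤ Nat.card N * Nat.card F := Nat.mul_le_mul h3 h2

variable (φ : K ≃ₐ[F] K) [Cub φ]

include φ

theorem finrank_three [Finite K] [Finite F] : Module.finrank F K = 3 := by
  have hfd : FiniteDimensional F K := Module.Finite.of_finite
  have h3 : φ ^ 3 = 1 := by
    ext t
    show φ (φ (φ t)) = t
    exact phi3 φ t
  have h1 : φ ≠ 1 := fun h => by
    obtain ⟨t, ht⟩ := Cub.ne (φ := φ)
    exact ht (by rw [h]; rfl)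
  have h2 : orderOf φ = 3 := orderOf_eq_prime h3 h1
  have h4 := IntermediateField.finrank_fixedField_eq_card (Subgroup.zpowers φ)
  rw [Nat.card_zpowers, h2] at h4
  have h5 : IntermediateField.fixedField (Subgroup.zpowers φ) = ⊥ := by
    rw [eq_bot_iff]
    intro t ht
    rw [IntermediateField.mem_fixedField_iff] at ht
    have := ht φ (Subgroup.mem_zpowers φ)
    obtain ⟨s, hs⟩ := exists_coe φ this
    rw [IntermediateField.mem_bot]
    exact ⟨s, hs⟩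
  rw [h5] at h4
  rwa [IntermediateField.finrank_bot'] at h4

theorem card_K [Finite K] [Finite F] : Nat.card K = Nat.card F ^ 3 := by
  have : Fintype K := Fintype.ofFinite K
  have : Fintype F := Fintype.ofFinite F
  rw [Nat.card_eq_fintype_card, Nat.card_eq_fintype_card, Module.card_eq_pow_finrank (K := F) (V := K), finrank_three φ]

end Field

section Box

variable {F K : Type*} [Field F] [Field K] [Algebra F K] {φ : K ≃ₐ[F] K} [Cub φ]

/-- `{x ∈ Z4 | x5 ∈ D}` -/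
def ZD (φ : K ≃ₐ[F] K) [Cub φ] (D : AddSubgroup K) : Subgroup (Sy φ) where
  carrier := {x | x.x1 = 0 ∧ x.x6 = 0 ∧ x.x5 ∈ D}
  one_mem' := ⟨rfl, rfl, zero_mem D⟩
  mul_mem' {x y} hx hy := by
    simp only [Set.mem_ofPred_eq] at hx hy ⊢
    rw [mul_x1, mul_x6, mul_x5, hx.1, hy.1, hx.2.1, hy.2.1, smul_zero, add_zero, add_zero, add_zero]
    exact ⟨rfl, rfl, add_mem hx.2.2 hy.2.2⟩
  inv_mem' {x} hx := by
    simp only [Set.mem_ofPred_eq] at hx ⊢
    rw [inv_x1, inv_x6, inv_x5, hx.1, hx.2.1, smul_zero, neg_zero, neg_zero, add_zero]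
    exact ⟨rfl, rfl, neg_mem hx.2.2⟩

/-- `{x | x6 = 0, x1 ∈ N}` -/
def AN (φ : K ≃ₐ[F] K) [Cub φ] (N : AddSubgroup K) : Subgroup (Sy φ) where
  carrier := {x | x.x6 = 0 ∧ x.x1 ∈ N}
  one_mem' := ⟨rfl, zero_mem N⟩
  mul_mem' {x y} hx hy := by
    simp only [Set.mem_ofPred_eq] at hx hy ⊢
    rw [mul_x1, mul_x6, hx.1, hy.1, add_zero]
    exact ⟨rfl, add_mem hx.2 hy.2⟩
  inv_mem' {x} hx := by
    simp only [Set.mem_ofPred_eq] at hx ⊢
    rw [inv_x1, inv_x6, hx.1, neg_zero]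
    exact ⟨rfl, neg_mem hx.2⟩

theorem card_ZD (D : AddSubgroup K) : Nat.card (ZD φ D) = Nat.card D * (Nat.card K * Nat.card F ^ 2) := by
  rw [Nat.card_congr (β := D × K × F × F) ⟨fun x => (⟨x.1.x5, x.2.2.2⟩, x.1.x3, x.1.x2, x.1.x4),
    fun w => ⟨⟨0, 0, w.1, w.2.1, w.2.2.1, w.2.2.2⟩, rfl, rfl, w.1.2⟩,
    fun x => ?_, fun w => rfl⟩, Nat.card_prod, Nat.card_prod, Nat.card_prod]
  · ring
  obtain ⟨x, h1, h2, h3⟩ := x
  apply Subtype.ext
  ext
  exacts [h1.symm, h2.symm, rfl, rfl, rfl, rfl]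

theorem card_AN (N : AddSubgroup K) : Nat.card (AN φ N) = Nat.card N * (Nat.card K ^ 2 * Nat.card F ^ 2) := by
  rw [Nat.card_congr (β := N × K × K × F × F) ⟨fun x => (⟨x.1.x1, x.2.2⟩, x.1.x5, x.1.x3, x.1.x2, x.1.x4),
    fun w => ⟨⟨w.1, 0, w.2.1, w.2.2.1, w.2.2.2.1, w.2.2.2.2⟩, rfl, w.1.2⟩,
    fun x => ?_, fun w => rfl⟩, Nat.card_prod, Nat.card_prod, Nat.card_prod, Nat.card_prod]
  · ring
  obtain ⟨x, h1, h2⟩ := x
  apply Subtype.ext
  ext
  exacts [rfl, Eq.symm h1, rfl, rfl, rfl, rfl]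

/-- `c` with `u5 c ∈ E` -/
def CC (E : Subgroup (Sy φ)) : AddSubgroup K where
  carrier := {c | u5 φ c ∈ E}
  zero_mem' := one_mem E
  add_mem' {x y} hx hy := by
    simp only [Set.mem_ofPred_eq] at hx hy ⊢
    rw [u5_add]
    exact mul_mem hx hy
  neg_mem' {x} hx := by
    simp only [Set.mem_ofPred_eq] at hx ⊢
    have h : u5 φ (-x) = (u5 φ x)⁻¹ := by
      apply eq_inv_of_mul_eq_one_left
      rw [← u5_add, neg_add_cancel]; rfl
    rw [h]
    exact _root_.InvMemClass.inv_mem hx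

theorem mem_CC {E : Subgroup (Sy φ)} {c : K} : c ∈ CC E ↔ u5 φ c ∈ E := Iff.rfl

/-- if `Z3 ≤ E`, elements of `Z4` lie in `E` according to `x5` -/
theorem mem_iff_CC {E : Subgroup (Sy φ)} (h3 : Z3 φ ≤ E) {x : Sy φ} (hx : x ∈ Z4 φ) : x ∈ E ↔ x.x5 ∈ CC E := by
  have h1 : (u5 φ x.x5)⁻¹ * x ∈ Z3 φ := by
    refine ⟨?_, ?_, ?_⟩
    · rw [mul_x1, inv_x1, hx.1]; simp [u5]
    · rw [mul_x6, inv_x6, hx.2]; simp [u5]
    · rw [mul_x5, inv_x5, hx.2]; simp only [u5, _root_.smul_zero, _root_.add_zero, _root_.neg_add_cancel, _root_.zero_smul]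
  rw [mem_CC]
  constructor
  · intro h
    have h2 := mul_mem h (_root_.InvMemClass.inv_mem (h3 h1))
    rwa [mul_inv_rev, inv_inv, mul_inv_cancel_left] at h2
  · intro h
    have h2 := mul_mem h (h3 h1)
    rwa [mul_inv_cancel_left] at h2

theorem ZD_le_iff {E : Subgroup (Sy φ)} (h3 : Z3 φ ≤ E) {D : AddSubgroup K} (hD : D ≤ CC E) : ZD φ D ≤ E :=
  fun _ hx => (mem_iff_CC h3 ⟨hx.1, hx.2.1⟩).2 (hD hx.2.2)

theorem inf_Z4 {E : Subgroup (Sy φ)} (h3 : Z3 φ ≤ E) : E ⊓ Z4 φ = ZD φ (CC E) := by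
  ext x
  constructor
  · rintro ⟨h1, h2⟩
    exact ⟨h2.1, h2.2, (mem_iff_CC h3 h2).1 h1⟩
  · rintro ⟨h1, h2, h4⟩
    exact ⟨(mem_iff_CC h3 ⟨h1, h2⟩).2 h4, h1, h2⟩

/-- an element of `Z3` is determined modulo `Z2` by `x3` -/
theorem mul_inv_mem_Z2 {x y : Sy φ} (hx : x ∈ Z3 φ) (hy : y ∈ Z3 φ) (h : x.x3 = y.x3) : x⁻¹ * y ∈ Z2 φ := by
  refine ⟨?_, ?_, ?_, ?_⟩
  · rw [mul_x1, inv_x1, hx.1, hy.1]; ring
  · rw [mul_x6, inv_x6, hx.2.1, hy.2.1]; ring
  · rw [mul_x5, inv_x5, hx.2.1, hx.2.2, hy.2.1, hy.2.2]; simp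
  · rw [mul_x3, inv_x3, hx.1, hx.2.1, hx.2.2, inv_x1, hx.1, hy.2.1, hy.2.2, h]; simp [cr]

/-- the commutators of `E` lie in `Φ(E)`: `Z1 ≤ Φ(E)` -/
theorem Z1_le {E P : Subgroup (Sy φ)} (hc : Com E E P) (h2 : Z2 φ ≤ E) {e : Sy φ} (he : e ∈ E) (he6 : e.x6 ≠ 0) :
    Z1 φ ≤ P := by
  intro x hx
  have h1 := hc e he (u2 φ (x.x4 / e.x6)) (h2 (u2_mem _))
  rw [← commutatorElement_def, comm_Z2 (u2_mem _)] at h1
  have h3 : e.x6 * (u2 φ (x.x4 / e.x6)).x2 = x.x4 := by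
    show e.x6 * (x.x4 / e.x6) = x.x4
    field_simp
  rw [h3, ← eq_u4 hx] at h1
  exact h1

theorem Z2_le {E P : Subgroup (Sy φ)} (hc : Com E E P) (h3 : Z3 φ ≤ E) {e : Sy φ} (he : e ∈ E) (he6 : e.x6 ≠ 0)
    {y : Sy φ} (hy : y ∈ E) (hy1 : y.x1 ≠ 0) : Z2 φ ≤ P := by
  have h1 := Z1_le hc (Z2_le_Z3.trans h3) he he6
  intro x hx
  obtain ⟨s, hs⟩ := exists_tr_ne φ
  have h4 := hc y hy (u3 φ ((x.x2 / tr φ s) • (s / y.x1))) (h3 (u3_mem _))
  rw [← commutatorElement_def] at h4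
  have h5 : (⁅y, u3 φ ((x.x2 / tr φ s) • (s / y.x1))⁆).x2 = x.x2 := by
    rw [comm_x2' (u3_mem _)]
    show tr φ (y.x1 * ((x.x2 / tr φ s) • (s / y.x1))) = x.x2
    rw [mul_smul_comm, mul_div_cancel₀ _ hy1, tr_smul, div_mul_cancel₀ _ hs]
  have h6 := comm_mem_Z2 (x := y) (u3_mem (φ := φ) ((x.x2 / tr φ s) • (s / y.x1)))
  obtain ⟨z, hz⟩ : ∃ z, z = ⁅y, u3 φ ((x.x2 / tr φ s) • (s / y.x1))⁆ := ⟨_, rfl⟩
  rw [← hz] at h4 h5 h6
  have h7 : z⁻¹ * x ∈ Z1 φ := by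
    refine ⟨?_, ?_, ?_, ?_, ?_⟩
    · rw [mul_x1, inv_x1, h6.1, hx.1]; ring
    · rw [mul_x6, inv_x6, h6.2.1, hx.2.1]; ring
    · rw [mul_x5, inv_x5, h6.2.2.1, hx.2.2.1, hx.2.1, h6.1]; simp
    · rw [mul_x3, inv_x3, h6.2.2.2, hx.2.2.2, hx.2.1, hx.2.2.1, h6.1, h6.2.1]; simp [cr]
    · rw [mul_x2, inv_x2, h5, hx.2.2.2, hx.2.1, hx.2.2.1, h6.1, h6.2.1]; simp [tr_zero, sh]
  have h8 := mul_mem h4 (h1 h7)
  rwa [mul_inv_cancel_left] at h8

end Box

section Main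

variable {F K : Type u} [Field F] [Field K] [Finite F] [Finite K] [Algebra F K] {φ : K ≃ₐ[F] K} [Cub φ] [CharP K 2]
    {E : Subgroup (Sy φ)} {Γ : Subgroup (MulAut E)}

theorem two_zero : (2 : K) = 0 := CharTwo.two_eq_zero

theorem two_le_F (F : Type u) [Field F] [Finite F] : 2 ≤ Nat.card F := Finite.one_lt_card

/-- `F a ≤ C` -/
theorem line_le (hphi : StPhi.{u}) (hch : StCh.{u}) (hE : Ess ⊤ E 2 Γ) (h2 : Z2 φ ≤ Phi E) {a : K}
    (hx1 : ∀ x ∈ E, x.x1 = 0 ∨ x.x1 = a) (h3 : Z3 φ ≤ E) (s : F) : s • a ∈ CC E := by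
  have hfin : Finite E := inferInstance
  have hpE : IsPGroup 2 E := hE.pgr.to_le le_top
  obtain ⟨hp1, hp2, hp3, hp4, hp5, hp6⟩ := hphi E 2 Nat.prime_two hfin hpE
  let D : AddSubgroup K := (Submodule.span F {a}).toAddSubgroup
  have h : ZD φ D ≤ E := by
    refine hch hE 1 (fun i => if i = 0 then Phi E else E) le_rfl rfl ?_ ?_ (ZD φ D) le_top ?_
    · intro i hi
      by_cases h0 : i = 0
      · simp only [h0, if_true]
        exact hp5 Γ
      · simp only [h0, if_false]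
        exact ⟨le_rfl, fun γ _ e _ => (γ e).2⟩
    · intro i hi
      have h0 : i = 0 := by omega
      simp only [h0, if_true]
      exact hp1
    · intro i hi
      have h0 : i = 0 := by omega
      simp only [h0, if_true]
      intro x hx e he
      have h5 : ⁅e, x⁆ ∈ Z2 φ := by
        refine ⟨comm_x1 _ _, comm_x6 _ _, ?_, ?_⟩
        · rw [comm_x5, hx.1, hx.2.1]; simp
        · rw [comm_x3 ⟨hx.1, hx.2.1⟩]
          obtain ⟨t, ht⟩ := Submodule.mem_span_singleton.1 hx.2.2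
          rw [← ht]
          rcases hx1 e he with h6 | h6
          · rw [h6, cr_zero_left]
          · rw [h6, cr_smul_self_two φ two_zero]
      have h6 := _root_.InvMemClass.inv_mem (h2 h5)
      rw [commutatorElement_inv, commutatorElement_def] at h6
      exact h6
  have h7 : u5 φ (s • a) ∈ ZD φ D := ⟨rfl, rfl, Submodule.mem_span_singleton.2 ⟨s, rfl⟩⟩
  exact h h7

theorem card_mul_relIndex' {Ω : Type*} [Group Ω] {H L : Subgroup Ω} (h : H ≤ L) :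
    Nat.card H * H.relIndex L = Nat.card L := by
  rw [← Subgroup.relIndex_bot_left H, Subgroup.relIndex_mul_relIndex _ _ _ bot_le h, Subgroup.relIndex_bot_left]

omit [Finite F] [Finite K] [CharP K 2] in
theorem cr_plane [Finite F] [Finite K] [CharP K 2] {N : Submodule F K} (hN : N ≠ ⊤) {a : K} (ha : a ≠ 0) (haN : a ∈ N)
    {n d : K} (hn : n ∈ N) (hd : d ∈ N) : ∃ c ∈ N, cr φ n d = cr φ a c := by
  have hdep : ¬ LinearIndependent F ![a, n, d] := by
    intro hli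
    have h := hli.span_eq_top_of_card_eq_finrank' (by rw [finrank_three φ]; rfl)
    apply hN
    rw [eq_top_iff, ← h, Submodule.span_le]
    rintro _ ⟨i, rfl⟩
    fin_cases i
    · exact haN
    · exact hn
    · exact hd
  rw [Fintype.not_linearIndependent_iff] at hdep
  obtain ⟨g, hg, i, hi⟩ := hdep
  rw [Fin.sum_univ_three] at hg
  have hg' : g 0 • a + g 1 • n + g 2 • d = 0 := hg
  by_cases h2 : g 2 = 0
  · rw [h2, zero_smul, add_zero] at hg'
    by_cases h1 : g 1 = 0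
    · rw [h1, zero_smul, add_zero, smul_eq_zero] at hg'
      have h0 := hg'.resolve_right ha
      exfalso
      fin_cases i
      · exact hi h0
      · exact hi h1
      · exact hi h2
    · have h5 : n = (-(g 0 / g 1)) • a := by
        have h6 : g 1 • n = g 1 • ((-(g 0 / g 1)) • a) := by
          rw [smul_smul, mul_neg, mul_div_cancel₀ _ h1, neg_smul]
          exact eq_neg_of_add_eq_zero_right hg'
        exact smul_right_injective K h1 h6
      refine ⟨(-(g 0 / g 1)) • d, N.smul_mem _ hd, ?_⟩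
      rw [h5, cr_smul_left, cr_smul_right]
  · have h5 : d = (-(g 0 / g 2)) • a + (-(g 1 / g 2)) • n := by
      have h6 : g 2 • d = g 2 • ((-(g 0 / g 2)) • a + (-(g 1 / g 2)) • n) := by
        rw [smul_add, smul_smul, smul_smul, mul_neg, mul_neg, mul_div_cancel₀ _ h2, mul_div_cancel₀ _ h2, neg_smul,
          neg_smul, ← neg_add]
        exact eq_neg_of_add_eq_zero_right hg'
      exact smul_right_injective K h2 h6
    refine ⟨(-(g 0 / g 2)) • n, N.smul_mem _ hn, ?_⟩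
    rw [h5, cr_add_right, cr_smul_right, cr_smul_right, cr_self, two_zero, zero_mul, smul_zero, add_zero,
      cr_smul_right, cr_comm φ a n]

theorem stM3d (hphi : StPhi.{u}) (hp2w : StP2w.{u}) (hch : StCh.{u}) : StM3d.{u} := by
  intro F K _ _ _ _ _ φ _ _ E Γ hE hm h3 a ha hx1 hy
  by_contra h4
  obtain ⟨y, hyE, hy1, hy6⟩ := hy
  obtain ⟨hp1, hp2, hp3, hp4, hp5, hp6⟩ := hphi E 2 Nat.prime_two inferInstance (hE.pgr.to_le le_top)
  obtain ⟨e, heE, he6⟩ := SetLike.not_le_iff_exists.1 hm.2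
  have he6' : e.x6 ≠ 0 := he6
  have hZ2 : Z2 φ ≤ Phi E := Z2_le hp2 h3 heE he6' hyE (by rw [hy1]; exact ha)
  have hZ1 : Z1 φ ≤ Phi E := Z1_le_Z2.trans hZ2
  have hline := line_le hphi hch hE hZ2 hx1 h3
  -- `Q1` normalizes `E`
  have hQ : Com (Q1 φ) E E := by
    intro x hx z hz
    rw [← commutatorElement_def, mem_iff_CC h3 (comm_mem_Z4 x z), comm_x5]
    have hx' : x.x1 = 0 := hx
    rw [hx', smul_zero, zero_sub]
    apply neg_mem
    rcases hx1 z hz with h | h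
    · rw [h, smul_zero]; exact zero_mem _
    · rw [h]; exact hline _
  have hQN := le_norm hQ
  have hQE : ¬ Q1 φ ≤ E := fun h => h4 (Z4_le_Q1.trans h)
  have hi : (E ⊓ Q1 φ).relIndex E ≤ 2 := by
    refine relIndex_le_two fun x hx z hz hxn hzn => ?_
    have hx' : x.x1 = a := (hx1 x hx).resolve_left fun h => hxn ⟨hx, h⟩
    have hz' : z.x1 = a := (hx1 z hz).resolve_left fun h => hzn ⟨hz, h⟩
    refine ⟨mul_mem hx hz, ?_⟩
    show (x * z).x1 = 0
    rw [mul_x1, hx', hz', CharTwo.add_self_eq_zero]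
  have hi2 : (E ⊓ Z4 φ).relIndex (E ⊓ Q2 φ) ≤ 2 := by
    refine relIndex_le_two fun x hx z hz hxn hzn => ?_
    have hx' : x.x1 = a := (hx1 x hx.1).resolve_left fun h => hxn ⟨hx.1, h, hx.2⟩
    have hz' : z.x1 = a := (hx1 z hz.1).resolve_left fun h => hzn ⟨hz.1, h, hz.2⟩
    refine ⟨mul_mem hx.1 hz.1, ?_, mul_mem hx.2 hz.2⟩
    show (x * z).x1 = 0
    rw [mul_x1, hx', hz', CharTwo.add_self_eq_zero]
  have hcom : Com (Q1 φ) (E ⊓ Q1 φ) (Phi E) := by
    intro x hx z hz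
    rw [← commutatorElement_def, comm_Q1 hx hz.2]
    exact hZ1 (u4_mem _)
  have hr : E.relIndex (Q1 φ) ≤ 2 := by
    have := hp2w hE (Q1 φ) (Q1 φ) (E ⊓ Q1 φ) (E ⊓ Q1 φ) hQN hQN hQE inf_le_left inf_le_left hcom hcom
    nlinarith only [hi, this]
  -- `C` has index two
  have hC : ∀ c c' : K, c ∉ CC E → c' ∉ CC E → c + c' ∈ CC E := by
    intro c c' hc hc'
    rw [mem_CC, u5_add]
    exact mul_mem_of_relIndex hr (Z4_le_Q1 (u5_mem c)) (Z4_le_Q1 (u5_mem c')) hc hc'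
  obtain ⟨c0, hc0⟩ : ∃ c0, c0 ∉ CC E := by
    by_contra hcon
    push Not at hcon
    exact h4 fun x hx => (mem_iff_CC h3 hx).2 (hcon _)
  let N : Submodule F K :=
    { carrier := {n | ∀ u : F, u • n ∈ CC E}
      zero_mem' := fun u => by rw [smul_zero]; exact zero_mem _
      add_mem' := fun {x y} hx hy u => by rw [smul_add]; exact add_mem (hx u) (hy u)
      smul_mem' := fun s x hx u => by rw [smul_smul]; exact hx _ }
  have hN : ∀ n : K, n ∈ N ↔ ∀ u : F, u • n ∈ CC E := fun _ => Iff.rfl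
  have haN : a ∈ N := hline
  have hNC : N.toAddSubgroup ≤ CC E := fun n hn => by
    have := (hN n).1 hn 1
    rwa [one_smul] at this
  have hNtop : N ≠ ⊤ := fun h => hc0 (hNC (by
    show c0 ∈ N
    rw [h]; exact Submodule.mem_top))
  have hcardN := card_le_mul (CC E) hC N hN
  -- `Φ(E)` contains the elements of `Z3` with `x3 ∈ a × C`
  have hP : ∀ x ∈ Z3 φ, ∀ c ∈ CC E, x.x3 = cr φ a c → x ∈ Phi E := by
    intro x hx c hc hxc
    have h5 := hp2 y hyE (u5 φ c) hc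
    rw [← commutatorElement_def] at h5
    have h6 : (⁅y, u5 φ c⁆).x3 = x.x3 := by rw [comm_x3 (u5_mem c), hy1, hxc]; rfl
    have h7 := mul_inv_mem_Z2 (comm_mem_Z3 (x := y) (u5_mem c)) hx h6
    have h8 := mul_mem h5 (hZ2 h7)
    rwa [mul_inv_cancel_left] at h8
  have hA : Com (AN φ N.toAddSubgroup) E E := by
    intro x hx z hz
    rw [← commutatorElement_def, mem_iff_CC h3 (comm_mem_Z4 x z), comm_x5, hx.1, zero_smul, sub_zero]
    exact hx.2 z.x6
  have hX : Com (AN φ N.toAddSubgroup) (ZD φ N.toAddSubgroup) (Phi E) := by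
    intro x hx z hz
    rw [← commutatorElement_def]
    obtain ⟨c, hc, hxc⟩ := cr_plane (φ := φ) hNtop ha haN (n := x.x1) (d := z.x5) hx.2 hz.2.2
    refine hP _ (comm_mem_Z3 ⟨hz.1, hz.2.1⟩) c (hNC hc) ?_
    rw [comm_x3 ⟨hz.1, hz.2.1⟩, hxc]
  have key := hp2w hE (AN φ N.toAddSubgroup) (Q1 φ) (ZD φ N.toAddSubgroup) (E ⊓ Q1 φ) (le_norm hA) hQN hQE
    (ZD_le_iff h3 hNC) inf_le_left hX hcom
  -- numbers
  have hq := two_le_F F
  have hk := card_K φ
  have e1 := card_mul_relIndex' (ZD_le_iff h3 hNC)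
  have e2 := card_mul_relIndex' (inf_le_left : E ⊓ Z4 φ ≤ E)
  have e3 : (E ⊓ Z4 φ).relIndex E ≤ 2 * Nat.card F := by
    have h5 : E ⊓ Z4 φ = (E ⊓ Q1 φ) ⊓ (E ⊓ Q2 φ) := by
      rw [← Q1_inf_Q2, inf_inf_distrib_left]
    have h6 : (E ⊓ Q2 φ).relIndex E ≤ Nat.card F := by
      rw [Subgroup.inf_relIndex_left, ← index_Q2 (φ := φ)]
      exact Nat.le_of_dvd (Nat.pos_of_ne_zero Subgroup.index_ne_zero_of_finite)
        (Subgroup.relIndex_dvd_index_of_normal _ _)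
    rw [h5]
    exact (Subgroup.relIndex_inf_le).trans (Nat.mul_le_mul hi h6)
  have e4 : Nat.card (E ⊓ Z4 φ : Subgroup (Sy φ)) = Nat.card (CC E) * (Nat.card K * Nat.card F ^ 2) := by
    rw [inf_Z4 h3, card_ZD]
  have e5 : 2 * Nat.card (CC E) ≤ Nat.card K := by
    have h5 : Nat.card (CC E) * (CC E).index = Nat.card K := AddSubgroup.card_mul_index _
    have h6 : (CC E).index ≠ 1 := fun h => hc0 (by
      rw [AddSubgroup.index_eq_one.1 h]; exact AddSubgroup.mem_top _)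
    have h7 : (CC E).index ≠ 0 := AddSubgroup.index_ne_zero_of_finite
    have h8 : 2 ≤ (CC E).index := by omega
    rw [← h5, mul_comm]
    exact Nat.mul_le_mul le_rfl h8
  have e6 := card_mul_relIndex' (inf_le_right : E ⊓ AN φ N.toAddSubgroup ≤ AN φ N.toAddSubgroup)
  rw [Subgroup.inf_relIndex_right, card_AN] at e6
  have e7 : Nat.card (E ⊓ AN φ N.toAddSubgroup : Subgroup (Sy φ)) ≤ Nat.card (E ⊓ Z4 φ : Subgroup (Sy φ)) * 2 := by
    have h5 : E ⊓ AN φ N.toAddSubgroup ≤ E ⊓ Q2 φ := inf_le_inf_left _ fun x hx => hx.1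
    have h6 := Nat.card_le_card_of_injective _ (Subgroup.inclusion_injective h5)
    have h7 := card_mul_relIndex' (inf_le_inf_left E Z4_le_Q2 : E ⊓ Z4 φ ≤ E ⊓ Q2 φ)
    calc _ ≤ _ := h6
      _ = _ := h7.symm
      _ ≤ _ := Nat.mul_le_mul le_rfl hi2
  rw [card_ZD] at e1
  have eN : Nat.card N.toAddSubgroup = Nat.card N := rfl
  rw [eN] at e1 e6
  generalize Nat.card F = q at *
  generalize Nat.card K = k at *
  generalize Nat.card N = n at *
  generalize Nat.card (CC E) = c at *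
  generalize Nat.card (E ⊓ Z4 φ : Subgroup (Sy φ)) = z at *
  generalize (E ⊓ Z4 φ).relIndex E = z' at *
  generalize E.relIndex (AN φ N.toAddSubgroup) = r at *
  generalize (ZD φ N.toAddSubgroup).relIndex E = i at *
  generalize (E ⊓ Q1 φ).relIndex E = j at *
  generalize Nat.card (E ⊓ AN φ N.toAddSubgroup : Subgroup (Sy φ)) = w at *
  have hkq : 0 < k * q ^ 2 := by rw [hk]; (clear * - hq; positivity)
  have f1 : n * i ≤ k * q := by
    have h5 : (n * i) * (k * q ^ 2) ≤ (k * q) * (k * q ^ 2) := by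
      calc (n * i) * (k * q ^ 2) = n * (k * q ^ 2) * i := by ring
        _ = z * z' := by rw [e1, e2]
        _ ≤ (c * (k * q ^ 2)) * (2 * q) := by rw [e4]; exact Nat.mul_le_mul le_rfl e3
        _ = (2 * c) * q * (k * q ^ 2) := by ring
        _ ≤ k * q * (k * q ^ 2) := Nat.mul_le_mul (Nat.mul_le_mul e5 le_rfl) le_rfl
    exact Nat.le_of_mul_le_mul_right h5 hkq
  have f2 : n ≤ r := by
    have h5 : n * (k ^ 2 * q ^ 2) ≤ r * (k ^ 2 * q ^ 2) := by
      calc n * (k ^ 2 * q ^ 2) = w * r := e6.symm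
        _ ≤ (z * 2) * r := Nat.mul_le_mul e7 le_rfl
        _ = (2 * c) * (k * q ^ 2) * r := by rw [e4]; ring
        _ ≤ k * (k * q ^ 2) * r := Nat.mul_le_mul (Nat.mul_le_mul e5 le_rfl) le_rfl
        _ = r * (k ^ 2 * q ^ 2) := by ring
    refine Nat.le_of_mul_le_mul_right h5 ?_
    have : 0 < k := Nat.pos_of_mul_pos_right hkq |> fun _ => by rw [hk]; (clear * - hq; positivity)
    (clear * - hq this; positivity)
  have f3 : n ^ 3 ≤ 2 * (k * q) := by
    calc n ^ 3 = n ^ 2 * n := by ring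
      _ ≤ r ^ 2 * n := Nat.mul_le_mul (Nat.pow_le_pow_left f2 2) le_rfl
      _ ≤ (i * j) * n := Nat.mul_le_mul key le_rfl
      _ ≤ (i * 2) * n := Nat.mul_le_mul (Nat.mul_le_mul le_rfl hi) le_rfl
      _ = 2 * (n * i) := by ring
      _ ≤ 2 * (k * q) := Nat.mul_le_mul le_rfl f1
  have f4 : q ^ 2 ≤ n := by
    have h5 : q ^ 2 * q ≤ n * q := by
      calc q ^ 2 * q = q ^ 3 := by ring
        _ ≤ n * q := by rw [← hk]; exact hcardN
    exact Nat.le_of_mul_le_mul_right h5 (by omega)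
  have f5 : q ^ 6 ≤ 2 * q ^ 4 := by
    calc q ^ 6 = (q ^ 2) ^ 3 := by ring
      _ ≤ n ^ 3 := Nat.pow_le_pow_left f4 3
      _ ≤ 2 * (k * q) := f3
      _ = 2 * q ^ 4 := by rw [hk]; ring
  have f6 : 0 < q ^ 4 := by (clear * - hq; positivity)
  have f7 : q ^ 4 * 4 ≤ q ^ 6 := by
    calc q ^ 4 * 4 ≤ q ^ 4 * q ^ 2 := Nat.mul_le_mul le_rfl (by nlinarith only [hq])
      _ = q ^ 6 := by ring
  omega

end Main

end Cfsg.Agent.H807.TE
end

private theorem dce_bc2a73959d8e : _root_.True := by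
  try have : _root_.True := by simp only [_root_.Cfsg.autInducedBy.eq_1]
  try have : _root_.True := by simp only [_root_.Cfsg.FusionSystem.normalizerIn.eq_1]
  exact _root_.True.intro
end

-- part: H802/TE/Ro_mg
section
prune_inst 0x10000300040000000004001040000081200005020000000020a105060200400004000000088005014800090000040000010000000000000000200000000100000000100080080080000000000000000000000000000000000000000000010000000000000
set_option linter.all false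
open scoped Cfsg.Agent.FastGrp

-- part: H802/TE/Setup2
section
/-!
# S5261, part E: the `Setup` of helper205 with the extra information that it comes from `Γ`
-/

set_option autoImplicit false
set_option linter.unusedSectionVars false

namespace Cfsg.Agent.H802.TE

open Subgroup Cfsg Cfsg.FusionSystem Cfsg.Agent.H756.PU Cfsg.Agent.H218.Fus Cfsg.Agent.H205.TE
open Cfsg.Agent.H775.PU (B3083 act act_mk mem_ker_act ker_act_le inn_le_ker lin lin_apply lin_injective)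

universe u

variable {Ω : Type u} [Group Ω] {S E : Subgroup Ω} {p : ℕ} {Γ : Subgroup (MulAut E)}

theorem mem_range_of_induced {x : MulAut E} (hx : x ∈ autInducedBy S E) :
    ∃ r ∈ normalizerIn S E, ∀ e : E, ((x e : E) : Ω) = r * e * r⁻¹ := by
  obtain ⟨r, hr, hrx⟩ := (Cfsg.Agent.H802.mem_autInducedBy_iff _ _ _).1 hx
  refine ⟨r, ⟨hr, ?_⟩, hrx⟩
  have h1 : ∀ e ∈ E, r * e * r⁻¹ ∈ E := by
    intro e he
    have h2 := hrx ⟨e, he⟩
    rw [← h2]
    exact (x ⟨e, he⟩).2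
  refine mem_normalizer_iff.2 ?_
  intro e
  refine ⟨h1 e, fun h3 => ?_⟩
  have h4 : r * (x⁻¹ ⟨_, h3⟩ : E) * r⁻¹ = r * e * r⁻¹ := by
    have h5 := hrx (x⁻¹ ⟨_, h3⟩)
    rw [← h5]
    simp
  have h6 : ((x⁻¹ ⟨_, h3⟩ : E) : Ω) = e := by
    have := congrArg (fun y => r⁻¹ * y * r) h4
    simpa only [mul_assoc, _root_.MulAut.inv_apply, _root_.inv_mul_cancel_left, _root_.inv_mul_cancel, _root_.mul_one] using this
  rw [← h6]
  exact (x⁻¹ ⟨_, h3⟩ : E).2

/-- `Inn(E)` and `Aut_S(E)` are `p`-groups -/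
theorem pg_induced (h : Ess S E p Γ) : IsPGroup p (autInducedBy S E) := by
  have := h.fin
  have hpN : IsPGroup p (normalizerIn S E) :=
    h.pgr.of_injective (inclusion (inf_le_left : normalizerIn S E ≤ S)) (inclusion_injective _)
  let c : normalizerIn S E →* MulAut E :=
    (normalizerMonoidHom E).comp (inclusion (inf_le_right : normalizerIn S E ≤ normalizer (E : Set Ω)))
  have hle : autInducedBy S E ≤ c.range := by
    intro x hx
    obtain ⟨r, hr, hrx⟩ := mem_range_of_induced hx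
    refine ⟨⟨r, hr⟩, ?_⟩
    ext e
    exact (hrx e).symm
  have h2 : IsPGroup p c.range := hpN.of_surjective c.rangeRestrict c.rangeRestrict_surjective
  exact h2.to_le hle

theorem sylQ (h : Ess S E p Γ) (P : Subgroup (Γ ⧸ (act Γ).ker)) (hP : IsPGroup p P) :
    ∃ g : Γ, ∀ x : Γ, (x : Γ ⧸ (act Γ).ker) ∈ P → ((g * x * g⁻¹ : Γ) : MulAut E) ∈ autInducedBy S E := by
  have := Fact.mk h.pp
  have hker : IsPGroup p (act Γ).ker := by
    have h1 : IsPGroup p (Inn E) := (pg_induced h).to_le (inn_le_T h)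
    have h2 : (act Γ).ker.map Γ.subtype ≤ Inn E := by
      rintro _ ⟨g, hg, rfl⟩
      exact ker_act_le h g hg
    have h3 := h1.to_le h2
    intro x
    obtain ⟨k, hk⟩ := h3 ⟨x, ⟨x, x.2, rfl⟩⟩
    refine ⟨k, ?_⟩
    apply Subtype.ext
    apply Subtype.ext
    have := congrArg Subtype.val hk
    simpa only [_root_.SubmonoidClass.coe_pow, _root_.OneMemClass.coe_one] using this
  have hQ : IsPGroup p (P.comap (QuotientGroup.mk' (act Γ).ker)) :=
    hP.comap_of_ker_isPGroup _ (by rw [QuotientGroup.ker_mk']; exact hker)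
  have hQ' : IsPGroup p ((P.comap (QuotientGroup.mk' (act Γ).ker)).map Γ.subtype) := hQ.map _
  obtain ⟨g, hg, hgx⟩ := h.syl _ (Subgroup.map_subtype_le _) hQ'
  refine ⟨⟨g, hg⟩, fun x hx => ?_⟩
  exact hgx x ⟨x, hx, rfl⟩

theorem exists_setup2 (h : Ess S E p Γ) : ∃ D : Setup S E p,
    (∀ k : D.K, ∃ γ ∈ Γ, ∀ e : E, D.ρ k (D.π (Additive.ofMul e)) = D.π (Additive.ofMul (γ e))) ∧
    (∀ P : Subgroup D.K, IsPGroup p P → ∃ g : D.K, ∀ x ∈ P, ∃ a : normalizerIn S E, g * x * g⁻¹ = D.ψ a) := by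
  have hfE : Finite E := Cfsg.Agent.H775.PU.finE h
  have := Fact.mk h.pp
  have := h.fin
  have hpE : IsPGroup p E := Cfsg.Agent.H775.PU.pE h
  obtain ⟨H, hHΓ, hHne, hAH, hAI, hspe⟩ := h.spe
  set C := (act Γ).ker with hC
  have hCI : ∀ g : Γ, g ∈ C ↔ (g : MulAut E) ∈ Inn E := fun g => ⟨ker_act_le h g, inn_le_ker h g⟩
  have hcomm : ∀ a b : E ⧸ frattini E, a * b = b * a := by
    intro a b
    obtain ⟨a, rfl⟩ := QuotientGroup.mk_surjective a
    obtain ⟨b, rfl⟩ := QuotientGroup.mk_surjective b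
    rw [← QuotientGroup.mk_mul, ← QuotientGroup.mk_mul, QuotientGroup.eq]
    have h1 := Cfsg.Agent.Lib.FrattiniPGroup.commutator_le_frattini hpE
      (Subgroup.commutator_mem_commutator (mem_top b⁻¹) (mem_top a⁻¹))
    rw [commutatorElement_def] at h1
    convert h1 using 1
    group
  let cg : CommGroup (E ⧸ frattini E) :=
    { (inferInstance : Group (E ⧸ frattini E)) with mul_comm := hcomm }
  have hpow : ∀ x : E ⧸ frattini E, x ^ p = 1 := by
    intro x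
    obtain ⟨x, rfl⟩ := QuotientGroup.mk_surjective x
    rw [← QuotientGroup.mk_pow, QuotientGroup.eq_one_iff]
    exact Cfsg.Agent.Lib.FrattiniPGroup.pow_mem_frattini hpE x
  obtain ⟨inst⟩ : Nonempty (Module (ZMod p) (Additive (E ⧸ frattini E))) :=
    ⟨AddCommGroup.zmodModule (n := p) (fun v => by exact hpow v.toMul)⟩
  have hSEm : SEm p C (H.subgroupOf Γ) := by
    refine ⟨?_, ?_, ?_⟩
    · intro g hg
      rw [mem_subgroupOf]
      exact hAH (inn_le_T h ((hCI g).1 hg))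
    · by_contra hcon
      push Not at hcon
      exact hHne (le_antisymm hHΓ fun g hg => hcon ⟨g, hg⟩)
    · intro q hq hqC hqp g hg hgq
      apply hqC
      rw [hCI]
      refine hspe g g.2 (fun h' => hg h') q hq hgq ?_
      obtain ⟨k, hk⟩ := hqp
      exact ⟨k, congrArg Subtype.val hk⟩
  let c : normalizerIn S E →* MulAut E :=
    (normalizerMonoidHom E).comp (inclusion (inf_le_right : normalizerIn S E ≤ normalizer (E : Set Ω)))
  have hc : ∀ (r : normalizerIn S E) (x : E), ((c r x : E) : Ω) = r * x * (r : Ω)⁻¹ := fun r x => rfl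
  have hcA : ∀ r, c r ∈ autInducedBy S E := fun r =>
    (Cfsg.Agent.H802.mem_autInducedBy_iff _ _ _).2 ⟨r, r.2.1, fun x => rfl⟩
  let cΓ : normalizerIn S E →* Γ := c.codRestrict Γ (fun r => h.indu (hcA r))
  let D : Setup S E p :=
    { K := Γ ⧸ C, gK := inferInstance, fK := inferInstance, V := Additive (E ⧸ frattini E),
      aV := inferInstance, mV := inst, fV := inferInstanceAs (Finite (E ⧸ frattini E)),
      ρ := lin p (QuotientGroup.kerLift (act Γ)), X := (H.subgroupOf Γ).map (QuotientGroup.mk' C),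
      ψ := (QuotientGroup.mk' C).comp cΓ,
      π := MonoidHom.toAdditive (QuotientGroup.mk' (frattini E)),
      inj := lin_injective p (QuotientGroup.kerLift_injective (act Γ)),
      se := hSEm.quot
      ker := by
        ext r
        rw [MonoidHom.mem_ker, mem_subgroupOf]
        change (QuotientGroup.mk' C) (cΓ r) = 1 ↔ _
        rw [QuotientGroup.mk'_apply, QuotientGroup.eq_one_iff, hCI]
        constructor
        · intro h1
          exact mem_of_inn h r.2.1 (α := c r) (fun e => hc r e) h1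
        · intro h1
          refine ⟨⟨r, h1⟩, ?_⟩
          ext x
          rfl
      rg := fun r => ⟨cΓ r, mem_subgroupOf.2 (hAH (hcA r)), rfl⟩
      sur := by
        intro v
        obtain ⟨e, he⟩ := QuotientGroup.mk'_surjective (frattini E) v.toMul
        exact ⟨Additive.ofMul e, he⟩
      kerπ := fun e => QuotientGroup.eq_one_iff e
      act := by
        intro a e e' hee
        have h1 : e' = c a e := Subtype.ext (hee.trans (hc a e).symm)
        rw [h1]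
        rfl }
  have hsyl : ∀ P : Subgroup (Γ ⧸ C), IsPGroup p P → ∃ g : Γ ⧸ C, ∀ x ∈ P, ∃ a : normalizerIn S E,
      g * x * g⁻¹ = ((cΓ a : Γ) : Γ ⧸ C) := by
    intro P hP
    obtain ⟨g, hg⟩ := sylQ h P hP
    refine ⟨(g : Γ ⧸ C), fun x hx => ?_⟩
    obtain ⟨x, rfl⟩ := QuotientGroup.mk_surjective x
    obtain ⟨r, hr, hrx⟩ := mem_range_of_induced (hg x hx)
    refine ⟨⟨r, hr⟩, ?_⟩
    rw [← QuotientGroup.mk_inv, ← QuotientGroup.mk_mul, ← QuotientGroup.mk_mul]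
    congr 1
    apply Subtype.ext
    ext e
    rw [hrx e]
    rfl
  refine ⟨D, ?_, fun P hP => hsyl P hP⟩
  intro k
  obtain ⟨g, rfl⟩ := QuotientGroup.mk_surjective k
  exact ⟨g, g.2, fun e => rfl⟩

end Cfsg.Agent.H802.TE
end

-- part: H802/TE/Line
section
/-!
# S5261, part E: StLine, StReg
-/

set_option autoImplicit false
set_option linter.unusedSectionVars false

namespace Cfsg.Agent.H802.TE

open Cfsg Cfsg.FusionSystem Cfsg.Agent.H756.PU
open Cfsg.Agent.H765.D3 Cfsg.Agent.H765.D3.Sy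
open Cfsg.Agent.Hex.Defs (sh cr nm tr)
open scoped commutatorElement

universe u

/-- `2 ≠ 0` if the characteristic is not two -/
theorem two_ne {K : Type*} [Field K] (p : ℕ) [CharP K p] (hp : p ≠ 2) : (2 : K) ≠ 0 := by
  intro h
  have h1 : p ∣ 2 := (CharP.cast_eq_zero_iff K p 2).1 (by exact_mod_cast h)
  rcases (Nat.dvd_prime Nat.prime_two).1 h1 with h2 | h2
  · subst h2
    exact one_ne_zero (CharP.cast_eq_zero K 1 ▸ Nat.cast_one (R := K)).symm
  · exact hp h2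

theorem stLine (hE1 : StE1.{u}) (hR0 : StR0.{u}) (hRo : StRo.{u}) (hR2 : StR2.{u}) (hcj : StConj.{u}) : StLine.{u} := by
  intro F K _ _ _ _ _ φ _ p _ E Γ h hQ hL
  obtain ⟨l, m, hlm, hx⟩ := hL
  by_cases hm : m = 0
  · have hl : l ≠ 0 := hlm.resolve_right (fun h => h hm)
    have h1 : E ≤ Q1 φ := by
      intro x hxE
      have h2 := hx x hxE
      rw [hm, zero_smul, add_zero] at h2
      exact (smul_eq_zero.1 h2).resolve_left hl
    have h2 := hE1 h h1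
    have h3 : u6 φ (1 : F) ∈ Q2 φ := hQ (h2 ▸ u6_mem 1)
    exact one_ne_zero (show (1 : F) = 0 from h3)
  · obtain ⟨Γ', h'⟩ := hcj h (u6 φ (-(l / m))) trivial
    have hle : E.map (MulAut.conj (u6 φ (-(l / m)))).toMonoidHom ≤ R φ := by
      rintro _ ⟨x, hxE, rfl⟩
      have hx6 : x.x6 = 0 := hQ hxE
      have h2 := hx x hxE
      have h3 : x.x5 = -(l / m) • x.x1 := by
        have h4 : m • x.x5 = -(l • x.x1) := eq_neg_of_add_eq_zero_right h2
        have h5 : x.x5 = m⁻¹ • (m • x.x5) := by rw [smul_smul, inv_mul_cancel₀ hm, one_smul]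
        rw [h5, h4, smul_neg, smul_smul, neg_smul, div_eq_inv_mul]
      show u6 φ (-(l / m)) * x * (u6 φ (-(l / m)))⁻¹ ∈ R φ
      rw [mem_R]
      constructor
      · rw [mul_x6, mul_x6, inv_x6, hx6]
        ring
      · rw [mul_x5, mul_x5, inv_x5, inv_x6, mul_x1, hx6, h3]
        simp only [u6]
        simp
    have h3 := hR0 h' hle
    have h4 : ∃ Γ'' : Subgroup (MulAut (R φ)), Ess ⊤ (R φ) p Γ'' := h3 ▸ ⟨Γ', h'⟩
    obtain ⟨Γ'', h5⟩ := h4
    by_cases hp : p = 2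
    · subst hp
      exact hR2 h5
    · exact hRo h5 hp

section Reg

variable {F K : Type u} [Field F] [Field K] [Finite F] [Finite K] [Algebra F K] {φ : K ≃ₐ[F] K} [Cub φ]

/-- `cr a` is onto for `a ≠ 0` in odd characteristic -/
theorem cr_surj (h2 : (2 : K) ≠ 0) {a : K} (ha : a ≠ 0) (b : K) : ∃ c, cr φ a c = b := by
  have hinj : Function.Injective (fun c => cr φ a c) := by
    intro c c' hcc
    have h1 : cr φ a (c - c') = 0 := by
      have h3 : cr φ a c = cr φ a c' := hcc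
      rw [sub_eq_add_neg, cr_add_right, cr_neg_right, h3, add_neg_cancel]
    exact sub_eq_zero.1 ((cr_eq_zero φ h2 h1).resolve_left ha)
  exact (Finite.injective_iff_surjective.1 hinj) b

theorem conj_eq (g y : Sy φ) : g * y * g⁻¹ = ⁅g, y⁆ * y := by
  rw [commutatorElement_def]; group

theorem stReg_aux (h2 : (2 : K) ≠ 0) (y : Sy φ) (ha : y.x1 ≠ 0) (hu : y.x6 ≠ 0) :
    ∀ t : Sy φ, t.x1 = y.x1 → t.x6 = y.x6 → ∃ g : Sy φ, g * y * g⁻¹ = t := by
  intro t ht1 ht6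
  -- step 1
  obtain ⟨g1, y1, e1, h11, h16, h15⟩ : ∃ g1 y1 : Sy φ, g1 * y * g1⁻¹ = y1 ∧ y1.x1 = y.x1 ∧ y1.x6 = y.x6 ∧
      y1.x5 = t.x5 := by
    refine ⟨u1 φ (y.x6⁻¹ • (t.x5 - y.x5)), _, rfl, ?_, ?_, ?_⟩
    · rw [conj_eq, mul_x1, comm_x1, zero_add]
    · rw [conj_eq, mul_x6, comm_x6, zero_add]
    · rw [conj_eq, mul_x5, comm_x1, comm_x5]
      simp only [u1]
      rw [smul_smul, mul_inv_cancel₀ hu, one_smul]
      simp
  -- step 2
  obtain ⟨g2, y2, e2, h21, h26, h25, h23⟩ : ∃ g2 y2 : Sy φ, g2 * y1 * g2⁻¹ = y2 ∧ y2.x1 = y.x1 ∧ y2.x6 = y.x6 ∧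
      y2.x5 = t.x5 ∧ y2.x3 = t.x3 := by
    obtain ⟨c, hc⟩ := cr_surj (φ := φ) h2 ha (y1.x3 - t.x3)
    have hz : ⁅u5 φ c, y1⁆ ∈ Z3 φ := by
      rw [← commutatorElement_inv]
      exact inv_mem (comm_mem_Z3 (u5_mem c))
    have hz3 : (⁅u5 φ c, y1⁆).x3 = t.x3 - y1.x3 := by
      have hz' : ⁅y1, u5 φ c⁆ ∈ Z3 φ := comm_mem_Z3 (u5_mem c)
      rw [← commutatorElement_inv, inv_x3, hz'.1, hz'.2.1, comm_x3 (u5_mem c), h11]
      simp only [u5, hc, cr_zero_left, sh_zero, zero_smul]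
      ring
    refine ⟨u5 φ c, _, rfl, ?_, ?_, ?_, ?_⟩
    · rw [conj_eq, mul_x1, hz.1, zero_add, h11]
    · rw [conj_eq, mul_x6, hz.2.1, zero_add, h16]
    · rw [conj_eq, mul_x5, hz.1, hz.2.2, smul_zero, zero_add, add_zero, h15]
    · rw [conj_eq, mul_x3, hz.1, hz3]
      simp only [cr_zero_left, sh_zero, smul_zero, add_zero]
      ring
  -- step 3
  obtain ⟨g3, y3, e3, h31, h36, h35, h33, h32⟩ : ∃ g3 y3 : Sy φ, g3 * y2 * g3⁻¹ = y3 ∧ y3.x1 = y.x1 ∧ y3.x6 = y.x6 ∧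
      y3.x5 = t.x5 ∧ y3.x3 = t.x3 ∧ y3.x2 = t.x2 := by
    obtain ⟨s, hs⟩ := exists_tr_ne φ
    obtain ⟨b, hb⟩ : ∃ b : K, tr φ (y.x1 * b) = y2.x2 - t.x2 := by
      refine ⟨((y2.x2 - t.x2) / tr φ s) • (y.x1⁻¹ * s), ?_⟩
      rw [mul_smul_comm, mul_inv_cancel_left₀ ha, tr_smul, div_mul_cancel₀ _ hs]
    have hz' : ⁅y2, u3 φ b⁆ ∈ Z2 φ := comm_mem_Z2 (u3_mem b)
    have hz : ⁅u3 φ b, y2⁆ ∈ Z2 φ := by
      rw [← commutatorElement_inv]
      exact inv_mem hz'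
    have hz2 : (⁅u3 φ b, y2⁆).x2 = t.x2 - y2.x2 := by
      rw [← commutatorElement_inv, inv_x2, hz'.1, hz'.2.1, comm_x2' (u3_mem b), h21]
      simp only [u3, hb, zero_mul, tr_zero, sh_zero, zero_mul]
      ring
    refine ⟨u3 φ b, _, rfl, ?_, ?_, ?_, ?_, ?_⟩
    · rw [conj_eq, mul_x1, hz.1, zero_add, h21]
    · rw [conj_eq, mul_x6, hz.2.1, zero_add, h26]
    · rw [conj_eq, mul_x5, hz.1, hz.2.2.1, smul_zero, zero_add, add_zero, h25]
    · rw [conj_eq, mul_x3, hz.1, hz.2.2.2]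
      simp only [cr_zero_left, sh_zero, smul_zero, add_zero, zero_add, h23]
    · rw [conj_eq, mul_x2, hz.1, hz2]
      simp only [zero_mul, tr_zero, sh_zero, nm_zero, mul_zero, add_zero]
      ring
  -- step 4
  obtain ⟨g4, e4⟩ : ∃ g4 : Sy φ, g4 * y3 * g4⁻¹ = t := by
    have hr : ⁅u2 φ (y.x6⁻¹ * (y3.x4 - t.x4)), y3⁆ = u4 φ (t.x4 - y3.x4) := by
      rw [← commutatorElement_inv, comm_Z2 (u2_mem _), h36]
      simp only [u2]
      rw [mul_inv_cancel_left₀ hu]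
      ext
      · rw [inv_x1]; simp [u4]
      · rw [inv_x6]; simp [u4]
      · rw [inv_x5]; simp [u4]
      · rw [inv_x3]; simp [u4, cr]
      · rw [inv_x2]; simp [u4, tr_zero]
      · rw [inv_x4]; simp [u4, tr_zero, nm_zero, sh_zero, cr]
    refine ⟨u2 φ (y.x6⁻¹ * (y3.x4 - t.x4)), ?_⟩
    rw [conj_eq, hr]
    ext
    · rw [mul_x1, h31, ht1]; simp [u4]
    · rw [mul_x6, h36, ht6]; simp [u4]
    · rw [mul_x5, h35]; simp [u4]
    · rw [mul_x3, h33]; simp [u4, cr, sh]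
    · rw [mul_x2, h32]; simp [u4, sh, tr_zero, nm_zero]
    · rw [mul_x4]; simp [u4, sh, tr_zero, nm_zero]
  refine ⟨g4 * g3 * g2 * g1, ?_⟩
  rw [← e4, ← e3, ← e2, ← e1]
  group

end Reg

theorem stReg : StReg.{u} := by
  intro F K _ _ _ _ _ φ _ p _ y hp ha hu
  refine stReg_aux (two_ne p hp) y ha hu _ ?_ ?_
  · rw [mul_x1]; simp [u1, u6]
  · rw [mul_x6]; simp [u1, u6]

end Cfsg.Agent.H802.TE
end

-- part: H659/TE/R2
section
/-!
# S5261, part E: for `p = 2` the subgroups `R` and `Cs s` are not essential (helper659)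

`stR2`, `stC2`.
-/

set_option autoImplicit false
set_option linter.unusedSectionVars false

namespace Cfsg.Agent.H659.TE

open Cfsg Cfsg.FusionSystem Cfsg.Agent.H756.PU Cfsg.Agent.H802.TE
open Cfsg.Agent.H765.D3 Cfsg.Agent.H765.D3.Sy
open Cfsg.Agent.Hex.Defs (sh cr nm tr)
open scoped commutatorElement

universe u

section

variable {F K : Type u} [Field F] [Field K] [Algebra F K] {φ : K ≃ₐ[F] K} [Cub φ]

/-! ### general facts -/

theorem comm_Q2 {x y : Sy φ} (hx : x.x6 = 0) (hy : y.x6 = 0) :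
    ⁅x, y⁆ ∈ Z3 φ ∧ (⁅x, y⁆).x3 = cr φ x.x1 y.x5 - cr φ y.x1 x.x5 := by
  refine ⟨⟨comm_x1 x y, comm_x6 x y, ?_⟩, ?_⟩
  · rw [comm_x5, hx, hy, zero_smul, zero_smul, sub_zero]
  · have := congrArg Sy.x3 (comm_mul x y)
    rw [mul_x3, mul_x3, mul_x3, comm_x1, mul_x6, hx, hy] at this
    simp only [cr_zero_left, sh_zero, smul_zero, zero_smul, add_zero] at this
    linear_combination -this

theorem two_K [CharP K 2] : (2 : K) = 0 := by
  have := CharP.cast_eq_zero K 2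
  exact_mod_cast this

theorem two_F [CharP K 2] (φ : K ≃ₐ[F] K) : (2 : F) = 0 := by
  apply FK_inj φ
  rw [map_ofNat, map_zero]
  exact two_K

theorem double_K [CharP K 2] (a : K) : a + a = 0 := by linear_combination a * two_K (K := K)

theorem double_F [CharP K 2] (φ : K ≃ₐ[F] K) (a : F) : a + a = 0 := by linear_combination a * two_F φ

/-- squares in `Q2`, `p = 2` -/
theorem sq_Q2 [CharP K 2] {x : Sy φ} (hx : x.x6 = 0) : (x ^ 2).x1 = 0 ∧ (x ^ 2).x6 = 0 ∧ (x ^ 2).x5 = 0 ∧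
    (x ^ 2).x3 = cr φ x.x1 x.x5 := by
  rw [pow_two]
  refine ⟨?_, ?_, ?_, ?_⟩
  · rw [mul_x1]
    exact double_K _
  · rw [mul_x6, hx, add_zero]
  · rw [mul_x5, hx, zero_smul, add_zero]
    exact double_K _
  · rw [mul_x3, hx, zero_smul, add_zero, double_K, zero_add]

theorem exists_tr_eq {s : K} (hs : s ≠ 0) (t : F) : ∃ a : K, tr φ (s * a) = t := by
  obtain ⟨r, hr⟩ := exists_tr_ne φ
  refine ⟨s⁻¹ * ((t / tr φ r) • r), ?_⟩
  rw [mul_inv_cancel_left₀ hs, tr_smul, div_mul_cancel₀ _ hr]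

/-- `(s^⊥)^⊥ = F s` -/
theorem perp_perp {s t : K} (hs : s ≠ 0) (h : ∀ a, tr φ (s * a) = 0 → tr φ (t * a) = 0) : ∃ l : F, t = l • s := by
  obtain ⟨r, hr⟩ := exists_tr_eq (φ := φ) hs 1
  refine ⟨tr φ (t * r), ?_⟩
  rw [← sub_eq_zero]
  apply tr_nondeg φ
  intro a
  have h1 := h (a - tr φ (s * a) • r) (by
    rw [mul_sub, tr_sub, mul_smul_comm, tr_smul, hr, mul_one, sub_self])
  rw [mul_sub, tr_sub, mul_smul_comm, tr_smul] at h1
  rw [sub_mul, tr_sub, smul_mul_assoc, tr_smul]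
  linear_combination h1

theorem two_lt_K [Finite K] (φ : K ≃ₐ[F] K) [Cub φ] : 2 < Nat.card K := by
  classical
  haveI := Fintype.ofFinite K
  obtain ⟨t, ht⟩ := Cub.ne (φ := φ)
  have h0 : t ≠ 0 := by
    rintro rfl
    exact ht (map_zero φ)
  have h1 : t ≠ 1 := by
    rintro rfl
    exact ht (map_one φ)
  have h2 : ({0, 1, t} : Finset K).card = 3 := by
    rw [Finset.card_eq_three]
    exact ⟨0, 1, t, zero_ne_one, h0.symm, h1.symm, rfl⟩
  rw [Nat.card_eq_fintype_card]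
  have h3 := Finset.card_le_univ ({0, 1, t} : Finset K)
  omega

/-- the index of a kernel in `Q2` -/
theorem relIndex_of_hom {A : Type u} [AddCommGroup A] {H M : Subgroup (Sy φ)} (f : Sy φ → A)
    (hf : ∀ x ∈ M, ∀ y ∈ M, f (x * y) = f x + f y) (hker : ∀ x ∈ M, x ∈ H ↔ f x = 0) (hsurj : ∀ a, ∃ x ∈ M, f x = a) :
    H.relIndex M = Nat.card A := by
  let g : M →* Multiplicative A := MonoidHom.mk' (fun x => Multiplicative.ofAdd (f x))
    (fun x y => by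
      rw [Subgroup.coe_mul, hf _ x.2 _ y.2]
      exact ofAdd_add _ _)
  have hg : g.ker = H.subgroupOf M := by
    ext x
    rw [MonoidHom.mem_ker, Subgroup.mem_subgroupOf, hker _ x.2]
    exact ⟨fun h => ofAdd_eq_one.1 h, fun h => ofAdd_eq_one.2 h⟩
  have hs : Function.Surjective g := by
    intro a
    obtain ⟨x, hx, h⟩ := hsurj (Multiplicative.toAdd a)
    exact ⟨⟨x, hx⟩, by
      change Multiplicative.ofAdd (f x) = a
      rw [h, ofAdd_toAdd]⟩
  rw [Subgroup.relIndex, ← hg, Subgroup.index_ker, MonoidHom.range_eq_top.2 hs]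
  exact (Nat.card_congr Subgroup.topEquiv.toEquiv).trans (Nat.card_congr Multiplicative.toAdd)

/-! ### `R` -/

/-- `Q2` normalizes every subgroup between `Z3` and `Q2` -/
theorem Q2_le_norm {E : Subgroup (Sy φ)} (h3 : Z3 φ ≤ E) (h2 : E ≤ Q2 φ) :
    Q2 φ ≤ normalizerIn (⊤ : Subgroup (Sy φ)) E := by
  intro x hx
  refine ⟨trivial, ?_⟩
  have key : ∀ y : Sy φ, y ∈ Q2 φ → ∀ e ∈ E, y * e * y⁻¹ ∈ E := by
    intro y hy e he
    have h4 : y * e * y⁻¹ = ⁅y, e⁆ * e := by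
      rw [commutatorElement_def]
      group
    rw [h4]
    exact E.mul_mem (h3 (comm_Q2 hy (h2 he)).1) he
  change x ∈ Subgroup.normalizer (E : Set (Sy φ))
  rw [Subgroup.mem_normalizer_iff]
  intro e
  constructor
  · exact key x hx e
  · intro h
    have h5 := key x⁻¹ ((Q2 φ).inv_mem hx) _ h
    have h6 : x⁻¹ * (x * e * x⁻¹) * x⁻¹⁻¹ = e := by group
    rwa [h6] at h5

theorem Z3_le_R : Z3 φ ≤ R φ := fun _ h => ⟨h.2.1, h.2.2⟩

theorem comm_def' (x y : Sy φ) : x * y * x⁻¹ * y⁻¹ = ⁅x, y⁆ := rfl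

theorem comm_R {x y : Sy φ} (hx : x ∈ R φ) (hy : y ∈ R φ) : ⁅x, y⁆ ∈ Z2 φ := by
  obtain ⟨h1, h2⟩ := comm_Q2 (φ := φ) hx.1 hy.1
  exact ⟨h1.1, h1.2.1, h1.2.2, by rw [h2, hx.2, hy.2, cr_zero_right, cr_zero_right, sub_zero]⟩

/-- `Z2 = Z(R)` -/
theorem Z2_iff_R {x : Sy φ} (hx : x ∈ R φ) : x ∈ Z2 φ ↔ ∀ y ∈ R φ, ⁅x, y⁆ = 1 := by
  constructor
  · intro h y hy
    rw [← commutatorElement_inv, comm_Z2 h, hy.1, zero_mul]
    exact inv_one
  · intro h
    have h1 : x.x1 = 0 := by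
      apply tr_nondeg φ
      intro b
      have := congrArg Sy.x2 (h _ (Z3_le_R (u3_mem b)))
      rw [comm_x2' (u3_mem b)] at this
      exact this
    have h3 : x ∈ Z3 φ := ⟨h1, hx.1, hx.2⟩
    refine ⟨h1, hx.1, hx.2, x3_eq_zero h3 fun a => ?_⟩
    rw [← commutatorElement_inv, h _ (show u1 φ a ∈ R φ from ⟨rfl, rfl⟩), inv_one]
    rfl

/-- a subgroup which is the centre of `E` is invariant -/
theorem inv_of_center {E M : Subgroup (Sy φ)} (Γ : Subgroup (MulAut E)) (hM : M ≤ E)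
    (h : ∀ x ∈ E, x ∈ M ↔ ∀ y ∈ E, ⁅x, y⁆ = 1) : Inv Γ M := by
  refine ⟨hM, fun γ _ e he => ?_⟩
  rw [h _ (γ e).2]
  intro y hy
  rw [h _ e.2] at he
  have h1 := he (γ⁻¹ ⟨y, hy⟩ : E) (γ⁻¹ ⟨y, hy⟩ : E).2
  have h2 : ⁅e, γ⁻¹ ⟨y, hy⟩⁆ = 1 := Subtype.ext h1
  have h3 := congrArg γ h2
  rw [map_commutatorElement, MulAut.apply_inv_self, map_one] at h3
  exact congrArg Subtype.val h3

variable (φ) in
/-- `{x ∈ Z3 | Tr(x3) = 0}` -/
def W3 : Subgroup (Sy φ) where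
  carrier := {x | x ∈ Z3 φ ∧ tr φ x.x3 = 0}
  one_mem' := ⟨one_mem _, tr_zero φ⟩
  mul_mem' {x y} hx hy := by
    refine ⟨mul_mem hx.1 hy.1, ?_⟩
    rw [mul_x3, hx.1.1, hy.1.2.1, cr_zero_left, zero_smul, add_zero, add_zero, tr_add, hx.2, hy.2, add_zero]
  inv_mem' {x} hx := by
    refine ⟨inv_mem hx.1, ?_⟩
    rw [inv_x3, hx.1.1, hx.1.2.1, cr_zero_left, zero_smul, add_zero, sub_zero, tr_neg, hx.2, neg_zero]

variable (φ) in
/-- `{x ∈ Z4 | x5 ∈ F}` -/
def B5 : Subgroup (Sy φ) where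
  carrier := {x | x ∈ Z4 φ ∧ φ x.x5 = x.x5}
  one_mem' := ⟨one_mem _, map_zero φ⟩
  mul_mem' {x y} hx hy := by
    refine ⟨mul_mem hx.1 hy.1, ?_⟩
    rw [mul_x5, hx.1.1, smul_zero, add_zero, map_add, hx.2, hy.2]
  inv_mem' {x} hx := by
    refine ⟨inv_mem hx.1, ?_⟩
    rw [inv_x5, hx.1.1, smul_zero, add_zero, map_neg, hx.2]

theorem stR2 (hS : StSecC.{u}) : StR2.{u} := by
  intro F K _ _ _ _ _ φ _ _ Γ h
  have hQn := Q2_le_norm (φ := φ) (E := R φ) Z3_le_R (fun _ h => h.1)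
  have hRQ : (R φ).relIndex (Q2 φ) = Nat.card K := by
    refine relIndex_of_hom (fun x => x.x5) ?_ ?_ ?_
    · intro x _ y hy
      change (x * y).x5 = x.x5 + y.x5
      rw [mul_x5, show y.x6 = 0 from hy, zero_smul, add_zero]
    · intro x hx
      exact ⟨fun h => h.2, fun h => ⟨hx, h⟩⟩
    · intro a
      exact ⟨u5 φ a, rfl, rfl⟩
  have hZ : (Z2 φ).relIndex (Z3 φ) = Nat.card K := by
    refine relIndex_of_hom (fun x => x.x3) ?_ ?_ ?_
    · intro x hx y hy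
      change (x * y).x3 = x.x3 + y.x3
      rw [mul_x3, hx.1, hy.2.1, cr_zero_left, zero_smul, add_zero, add_zero]
    · intro x hx
      exact ⟨fun h => h.2.2.2, fun h => ⟨hx.1, hx.2.1, hx.2.2, h⟩⟩
    · intro a
      exact ⟨u3 φ a, u3_mem a, rfl⟩
  have hWle : W3 φ ≤ Z3 φ := fun _ h => h.1
  have hZW : Z2 φ ≤ W3 φ := fun x h => ⟨⟨h.1, h.2.1, h.2.2.1⟩, by rw [h.2.2.2]; exact tr_zero φ⟩
  have hmul : (Z2 φ).relIndex (W3 φ) * (W3 φ).relIndex (Z3 φ) = (Z2 φ).relIndex (Z3 φ) :=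
    Subgroup.relIndex_mul_relIndex _ _ _ hZW hWle
  have hW : (W3 φ).relIndex (Z3 φ) = Nat.card F := by
    refine relIndex_of_hom (fun x => tr φ x.x3) ?_ ?_ ?_
    · intro x hx y hy
      change tr φ (x * y).x3 = tr φ x.x3 + tr φ y.x3
      rw [mul_x3, hx.1, hy.2.1, cr_zero_left, zero_smul, add_zero, add_zero, tr_add]
    · intro x hx
      exact ⟨fun h => h.2, fun h => ⟨hx, h⟩⟩
    · intro a
      obtain ⟨b, hb⟩ := exists_tr_eq (φ := φ) one_ne_zero a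
      exact ⟨u3 φ b, u3_mem b, by rw [← hb, one_mul]; rfl⟩
  have hkey := hS h (Z2 φ) (R φ) (Q2 φ) (Q2 φ) (B5 φ) (Z3 φ) (W3 φ)
    (inv_of_center Γ (fun x hx => ⟨hx.2.1, hx.2.2.1⟩) fun x hx => Z2_iff_R hx)
    ⟨le_rfl, fun γ _ e _ => (γ e).2⟩ (fun x hx => ⟨hx.2.1, hx.2.2.1⟩)
    (fun x hx y hy => comm_R hx hy)
    (fun x hx => by
      obtain ⟨h1, h2, h3, h4⟩ := sq_Q2 (φ := φ) hx.1
      exact ⟨h1, h2, h3, by rw [h4, hx.2, cr_zero_right]⟩)
    (fun x _ hx => by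
      have h6 : x.x6 = 0 := x6_eq_zero (by
        rw [← comm_def']
        exact (hx (u1 φ 1) ⟨rfl, rfl⟩).2.2.1)
      refine ⟨h6, cr_nondeg φ fun a => ?_⟩
      have h7 := (hx (u1 φ a) ⟨rfl, rfl⟩).2.2.2
      rw [comm_def', (comm_Q2 h6 (show (u1 φ a).x6 = 0 from rfl)).2] at h7
      have e5 : (u1 φ a).x5 = 0 := rfl
      have e1 : (u1 φ a).x1 = a := rfl
      rw [e5, e1, cr_zero_right, zero_sub, neg_eq_zero] at h7
      exact h7)
    hQn (fun x hx y hy => Z3_le_R (comm_Q2 hx hy).1)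
    (fun x hx => by
      obtain ⟨h1, h2, h3, h4⟩ := sq_Q2 (φ := φ) hx
      exact ⟨h2, h3⟩)
    (by rw [hRQ]; exact two_lt_K φ)
    hQn (fun x hx => hQn hx.1.2)
    (fun hB => by
      have := (hB (show u5 φ 1 ∈ B5 φ from ⟨u5_mem 1, map_one φ⟩)).2
      exact one_ne_zero this)
    Z3_le_R (hWle.trans Z3_le_R)
    (fun x hx y hy => (comm_Q2 hx hy.1).1)
    (fun x hx y hy => by
      rw [comm_def']
      obtain ⟨h1, h2⟩ := comm_Q2 (φ := φ) hx.1.2 hy.1
      refine ⟨h1, ?_⟩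
      rw [h2, hy.2, cr_zero_right, zero_sub, tr_neg, neg_eq_zero]
      have e1 := tr_cr φ y.x1 x.x5 1
      rw [mul_one] at e1
      rw [e1]
      have e2 : cr φ x.x5 1 = 0 := by
        rw [cr_comm, cr_one_left, coe_tr, hx.2, hx.2]
        linear_combination x.x5 * two_K (K := K)
      rw [e2, mul_zero, tr_zero])
  rw [hRQ, hZ] at hkey
  rw [hW, hZ] at hmul
  have hq : 2 ≤ Nat.card F := Finite.one_lt_card
  have hk := two_lt_K φ
  have h1 : Nat.card K ≤ (Z2 φ).relIndex (W3 φ) := by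
    refine Nat.le_of_mul_le_mul_left ?_ (show 0 < Nat.card K by omega)
    rw [← pow_two]
    exact hkey
  nlinarith only [hmul, hq, hk, h1]

/-! ### `Cs s` -/

theorem Z3_le_Cs (s : K) : Z3 φ ≤ Cs φ s := fun x h =>
  ⟨h.2.1, by rw [h.1, mul_zero]; exact tr_zero φ, by rw [h.2.2, mul_zero]; exact tr_zero φ⟩

variable (φ) in
/-- `Z(Cs s)` -/
def Zs (s : K) : Subgroup (Sy φ) where
  carrier := {x | x ∈ Z3 φ ∧ ∃ l : F, x.x3 = l • s}
  one_mem' := ⟨one_mem _, 0, by rw [zero_smul]; rfl⟩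
  mul_mem' {x y} hx hy := by
    obtain ⟨hx, l, hl⟩ := hx
    obtain ⟨hy, m, hm⟩ := hy
    refine ⟨mul_mem hx hy, l + m, ?_⟩
    rw [mul_x3, hx.1, hy.2.1, cr_zero_left, zero_smul, add_zero, add_zero, hl, hm, add_smul]
  inv_mem' {x} hx := by
    obtain ⟨hx, l, hl⟩ := hx
    refine ⟨inv_mem hx, -l, ?_⟩
    rw [inv_x3, hx.1, hx.2.1, cr_zero_left, zero_smul, add_zero, sub_zero, hl, neg_smul]

theorem Zs_iff {s : K} (hs : s ≠ 0) {x : Sy φ} (hx : x ∈ Cs φ s) : x ∈ Zs φ s ↔ ∀ y ∈ Cs φ s, ⁅x, y⁆ = 1 := by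
  constructor
  · rintro ⟨h3, l, hl⟩ y hy
    rw [← commutatorElement_inv, inv_eq_one]
    have hz := comm_mem_Z2 (x := y) h3
    ext
    · exact hz.1
    · exact hz.2.1
    · exact hz.2.2.1
    · exact hz.2.2.2
    · rw [comm_x2' h3, hl, mul_smul_comm, tr_smul, mul_comm y.x1, hy.2.1, mul_zero]
      rfl
    · rw [comm_x4' h3, hl, hy.1, zero_mul, zero_mul, add_zero, zero_sub, smul_mul_assoc, tr_smul, hy.2.2, mul_zero,
        neg_zero]
      rfl
  · intro h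
    have h1 : x.x1 = 0 := by
      apply tr_nondeg φ
      intro b
      have := congrArg Sy.x2 (h _ (Z3_le_Cs s (u3_mem b)))
      rw [comm_x2' (u3_mem b)] at this
      exact this
    have h5 : x.x5 = 0 := by
      apply tr_nondeg φ
      intro b
      have := congrArg Sy.x4 (h _ (Z3_le_Cs s (u3_mem b)))
      rw [comm_x4' (u3_mem b), hx.1] at this
      have e : (u3 φ b).x3 = b := rfl
      rw [e, zero_mul, zero_mul, zero_sub, add_zero] at this
      rw [mul_comm]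
      exact neg_eq_zero.1 this
    have h3 : x ∈ Z3 φ := ⟨h1, hx.1, h5⟩
    refine ⟨h3, perp_perp (φ := φ) hs fun a ha => ?_⟩
    have h4 : ⁅u1 φ a, x⁆ = 1 := by
      rw [← commutatorElement_inv, h _ (show u1 φ a ∈ Cs φ s from ⟨rfl, ha, by
        change tr φ (s * 0) = 0
        rw [mul_zero]; exact tr_zero φ⟩), inv_one]
    have h6 := congrArg Sy.x2 h4
    rw [comm_x2' h3] at h6
    rw [mul_comm]
    exact h6

theorem stC2 (hS : StSecW.{u}) : StC2.{u} := by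
  intro F K _ _ _ _ _ φ _ _ s Γ hs h
  have hQn := Q2_le_norm (φ := φ) (E := Cs φ s) (Z3_le_Cs s) (fun _ h => h.1)
  have hEQ : (Cs φ s).relIndex (Q2 φ) = Nat.card (F × F) := by
    refine relIndex_of_hom (fun x => (tr φ (s * x.x1), tr φ (s * x.x5))) ?_ ?_ ?_
    · intro x _ y hy
      refine Prod.ext ?_ ?_
      · change tr φ (s * (x * y).x1) = tr φ (s * x.x1) + tr φ (s * y.x1)
        rw [mul_x1, mul_add, tr_add]
      · change tr φ (s * (x * y).x5) = tr φ (s * x.x5) + tr φ (s * y.x5)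
        rw [mul_x5, show y.x6 = 0 from hy, zero_smul, add_zero, mul_add, tr_add]
    · intro x hx
      exact ⟨fun h => Prod.ext h.2.1 h.2.2, fun h => ⟨hx, congrArg Prod.fst h, congrArg Prod.snd h⟩⟩
    · rintro ⟨a, b⟩
      obtain ⟨c, hc⟩ := exists_tr_eq (φ := φ) hs a
      obtain ⟨d, hd⟩ := exists_tr_eq (φ := φ) hs b
      exact ⟨⟨c, 0, d, 0, 0, 0⟩, rfl, Prod.ext hc hd⟩
  have hZ : (Z2 φ).relIndex (Zs φ s) = Nat.card F := by
    obtain ⟨r, hr⟩ := exists_tr_eq (φ := φ) hs 1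
    refine relIndex_of_hom (fun x => tr φ (x.x3 * r)) ?_ ?_ ?_
    · intro x hx y hy
      change tr φ ((x * y).x3 * r) = tr φ (x.x3 * r) + tr φ (y.x3 * r)
      rw [mul_x3, hx.1.1, hy.1.2.1, cr_zero_left, zero_smul, add_zero, add_zero, add_mul, tr_add]
    · rintro x ⟨h3, l, hl⟩
      have e1 : tr φ (x.x3 * r) = l := by
        rw [hl, smul_mul_assoc, tr_smul, hr, mul_one]
      constructor
      · intro h0
        change tr φ (x.x3 * r) = 0
        rw [h0.2.2.2, zero_mul, tr_zero]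
      · intro h0
        change tr φ (x.x3 * r) = 0 at h0
        rw [e1] at h0
        exact ⟨h3.1, h3.2.1, h3.2.2, by rw [hl, h0, zero_smul]⟩
    · intro a
      refine ⟨u3 φ (a • s), ⟨u3_mem _, a, rfl⟩, ?_⟩
      change tr φ ((a • s) * r) = a
      rw [smul_mul_assoc, tr_smul, hr, mul_one]
  have hkey := hS h ⊥ (Zs φ s) (Q2 φ) (Q2 φ) (Q2 φ) (Z2 φ) (Z2 φ)
    ⟨bot_le, fun γ _ e he => by
      have h1 : e = 1 := Subtype.ext (Subgroup.mem_bot.1 he)
      rw [h1, map_one]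
      exact Subgroup.one_mem _⟩
    (inv_of_center Γ (fun x hx => Z3_le_Cs s hx.1) fun x hx => Zs_iff hs hx) bot_le
    (fun x hx y hy => by
      have h1 := (Zs_iff hs (Z3_le_Cs s hy.1)).1 hy x hx
      rw [comm_def', ← commutatorElement_inv, h1, inv_one]
      exact Subgroup.one_mem _)
    (fun x hx => by
      have h3 : x ∈ Z3 φ := hx.1
      rw [Subgroup.mem_bot, pow_two]
      ext
      · rw [mul_x1]
        exact double_K _
      · rw [mul_x6]
        exact double_F φ _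
      · rw [mul_x5, h3.2.1, zero_smul, add_zero]
        exact double_K _
      · rw [mul_x3, h3.1, h3.2.1, cr_zero_left, zero_smul, add_zero, add_zero]
        exact double_K _
      · rw [mul_x2, h3.1, h3.2.1, sh_zero, zero_mul, zero_mul, zero_mul, tr_zero, add_zero, add_zero, add_zero]
        exact double_F φ _
      · rw [mul_x4, h3.1, h3.2.1, h3.2.2]
        simp only [sh_zero, mul_zero, zero_mul, tr_zero, add_zero, sub_zero, smul_zero, ne_eq, OfNat.ofNat_ne_zero,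
          not_false_eq_true, zero_pow]
        exact double_F φ _)
    (fun x _ hx => by
      have h2 : ∀ b ∈ Z2 φ, ⁅x, b⁆ = 1 := fun b hb =>
        Subgroup.mem_bot.1 (hx b ⟨⟨hb.1, hb.2.1, hb.2.2.1⟩, 0, by rw [hb.2.2.2, zero_smul]⟩)
      have h6 : x.x6 = 0 := x6_eq_zero' (h2 _ (u2_mem 1))
      have h3 : ⁅x, u3 φ s⁆ = 1 := Subgroup.mem_bot.1 (hx (u3 φ s) ⟨u3_mem s, 1, by rw [one_smul]; rfl⟩)
      refine ⟨h6, ?_, ?_⟩
      · have h4 := congrArg Sy.x2 h3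
        rw [comm_x2' (u3_mem s)] at h4
        rw [mul_comm]
        exact h4
      · have h4 := congrArg Sy.x4 h3
        rw [comm_x4' (u3_mem s), h6, zero_mul, zero_mul, zero_sub, add_zero] at h4
        exact neg_eq_zero.1 h4)
    hQn (fun x hx y hy => Z3_le_Cs s (comm_Q2 hx hy).1)
    (fun x hx => by
      obtain ⟨h1, h2, h3, h4⟩ := sq_Q2 (φ := φ) hx
      exact Z3_le_Cs s ⟨h1, h2, h3⟩)
    (by
      rw [hEQ, Nat.card_prod]
      have hq : 2 ≤ Nat.card F := Finite.one_lt_card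
      nlinarith only [hq])
    hQn hQn
    (fun hB => by
      obtain ⟨a, ha⟩ := exists_tr_eq (φ := φ) hs 1
      have := (hB (show u1 φ a ∈ Q2 φ from rfl)).2.1
      rw [show (u1 φ a).x1 = a from rfl, ha] at this
      exact one_ne_zero this)
    (fun x hx => ⟨⟨hx.1, hx.2.1, hx.2.2.1⟩, 0, by rw [hx.2.2.2, zero_smul]⟩)
    (fun x hx => ⟨⟨hx.1, hx.2.1, hx.2.2.1⟩, 0, by rw [hx.2.2.2, zero_smul]⟩)
    (fun x hx y hy => by
      rw [comm_def', comm_Z2 hy, hx, zero_mul]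
      exact Subgroup.mem_bot.2 rfl)
    (fun x hx y hy => by
      rw [comm_def', comm_Z2 hy, hx, zero_mul]
      exact Subgroup.mem_bot.2 rfl)
  rw [hEQ, hZ, Nat.card_prod] at hkey
  have hq : 2 ≤ Nat.card F := Finite.one_lt_card
  have hn : 4 ≤ Nat.card F * Nat.card F := by nlinarith only [hq]
  generalize Nat.card F * Nat.card F = n at hkey hn
  nlinarith only [hkey, hn]

end

end Cfsg.Agent.H659.TE
end

-- part: H128/TE/R0
section
/-!
# S5261 [TE-R0]: an essential subgroup `E ≤ R` is `R`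
-/

set_option autoImplicit false
set_option linter.unusedSectionVars false

namespace Cfsg.Agent.H128.TE

open Cfsg Cfsg.FusionSystem Cfsg.Agent.H756.PU
open Cfsg.Agent.H765.D3 Cfsg.Agent.H765.D3.Sy Cfsg.Agent.H802.TE
open Cfsg.Agent.Hex.Defs (sh cr nm tr)
open scoped commutatorElement

universe u

theorem card_sq_le_aux {p : ℕ} [Fact p.Prime] {V : Type*} [AddCommGroup V] [Module (ZMod p) V] [Finite V]
    (f : V →+ V →+ ZMod p) (D : Submodule (ZMod p) V) (hD : ∀ x ∈ D, ∀ y ∈ D, f x y = 0)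
    (hnd : ∀ x ∈ D, (∀ y, f x y = 0) → x = 0) : Nat.card D ^ 2 ≤ Nat.card V := by
  let g : D →+ Module.Dual (ZMod p) V :=
    { toFun := fun x => (f x.1).toZModLinearMap p
      map_zero' := by
        ext y
        simp
      map_add' := fun x y => by
        ext z
        simp }
  let g' : D →ₗ[ZMod p] D.dualAnnihilator := LinearMap.codRestrict _ (g.toZModLinearMap p) (by
    intro x
    rw [Submodule.mem_dualAnnihilator]
    intro y hy
    exact hD x.1 x.2 y hy)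
  have hg' : Function.Injective g' := by
    rw [injective_iff_map_eq_zero]
    intro x hx
    apply Subtype.ext
    apply hnd x.1 x.2
    intro y
    have h1 := congrArg (fun z : D.dualAnnihilator => (z : Module.Dual (ZMod p) V) y) hx
    exact h1
  have h1 := LinearMap.finrank_le_finrank_of_injective hg'
  have h2 := Subspace.finrank_add_finrank_dualAnnihilator_eq D
  have h3 : Nat.card V = p ^ Module.finrank (ZMod p) V := by
    rw [Module.natCard_eq_pow_finrank (K := ZMod p), Nat.card_zmod]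
  have h4 : Nat.card D = p ^ Module.finrank (ZMod p) D := by
    rw [Module.natCard_eq_pow_finrank (K := ZMod p), Nat.card_zmod]
  rw [h3, h4, ← pow_mul]
  exact Nat.pow_le_pow_right (Nat.Prime.pos Fact.out) (by omega)

/-- totally isotropic subgroups: `|D|² ≤ |V|` if the form is nondegenerate (on `D`) -/
theorem card_sq_le_of_isotropic {V : Type*} [AddCommGroup V] [Finite V] {p : ℕ} [Fact p.Prime]
    (hp : ∀ v : V, p • v = 0) (f : V →+ V →+ ZMod p) (D : AddSubgroup V)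
    (hD : ∀ x ∈ D, ∀ y ∈ D, f x y = 0) (hnd : ∀ x ∈ D, (∀ y, f x y = 0) → x = 0) :
    Nat.card D ^ 2 ≤ Nat.card V := by
  let _ : Module (ZMod p) V := AddCommGroup.zmodModule hp
  exact card_sq_le_aux f (AddSubgroup.toZModSubmodule p D) hD hnd

section

variable {F K : Type u} [Field F] [Field K] [Algebra F K]

theorem card_lt [Finite K] (φ : K ≃ₐ[F] K) [Cub φ] : Nat.card F < Nat.card K := by
  have hinj : Function.Injective (algebraMap F K) := (algebraMap F K).injective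
  have hfin : Finite F := Finite.of_injective _ hinj
  refine lt_of_le_of_ne (Nat.card_le_card_of_injective _ hinj) fun h => ?_
  obtain ⟨t, ht⟩ := Cub.ne (φ := φ)
  have hs : Function.Surjective (algebraMap F K) := by
    have := (Nat.bijective_iff_injective_and_card (algebraMap F K)).2 ⟨hinj, h⟩
    exact this.2
  obtain ⟨s, rfl⟩ := hs t
  exact ht (φ.commutes s)

variable {φ : K ≃ₐ[F] K} [Cub φ]

theorem comm_R {x y : Sy φ} (hx : x ∈ R φ) (hy : y ∈ R φ) :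
    ⁅x, y⁆ = u2 φ (tr φ (x.x1 * y.x3) - tr φ (y.x1 * x.x3)) := by
  obtain ⟨hx6, hx5⟩ := hx
  obtain ⟨hy6, hy5⟩ := hy
  apply comm_eq
  ext
  · simp only [mul_def, u2]; ring
  · simp only [mul_def, u2]; ring
  · simp only [mul_def, u2, hx5, hy5, hx6, hy6]; cub
  · simp only [mul_def, u2, hx5, hy5, hx6, hy6]; cub
  · simp only [mul_def, u2, hx5, hy5, hx6, hy6]; apply (algebraMap F K).injective; cub
  · simp only [mul_def, u2, hx5, hy5, hx6, hy6]; apply (algebraMap F K).injective; cub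

/-- `U2` -/
def U2 (φ : K ≃ₐ[F] K) [Cub φ] : Subgroup (Sy φ) where
  carrier := {x | x.x1 = 0 ∧ x.x6 = 0 ∧ x.x5 = 0 ∧ x.x3 = 0 ∧ x.x4 = 0}
  one_mem' := ⟨rfl, rfl, rfl, rfl, rfl⟩
  mul_mem' {x y} hx hy := by
    simp only [Set.mem_ofPred_eq] at hx hy ⊢
    obtain ⟨h1, h2, h3, h4, h5⟩ := hx
    obtain ⟨h1', h2', h3', h4', h5'⟩ := hy
    rw [mul_x1, mul_x6, mul_x5, mul_x3, mul_x4, h1, h2, h3, h4, h5, h1', h2', h3', h4', h5']
    simp [cr, tr_zero]
  inv_mem' {x} hx := by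
    simp only [Set.mem_ofPred_eq] at hx ⊢
    obtain ⟨h1, h2, h3, h4, h5⟩ := hx
    rw [inv_x1, inv_x6, inv_x5, inv_x3, inv_x4, h1, h2, h3, h4, h5]
    simp [cr, tr_zero]

theorem u2_mem_U2 (t : F) : u2 φ t ∈ U2 φ := ⟨rfl, rfl, rfl, rfl, rfl⟩

theorem eq_u2 {x : Sy φ} (h : x ∈ U2 φ) : x = u2 φ x.x2 := by
  obtain ⟨h1, h2, h3, h4, h5⟩ := h
  ext
  · exact h1
  · exact h2
  · exact h3
  · exact h4
  · rfl
  · exact h5

theorem card_U2 : Nat.card (U2 φ) = Nat.card F :=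
  Nat.card_congr ⟨fun x => x.1.x2, fun w => ⟨u2 φ w, u2_mem_U2 w⟩, fun x => Subtype.ext (eq_u2 x.2).symm, fun _ => rfl⟩

theorem card_R [Finite K] [Finite F] : Nat.card (R φ) = Nat.card K ^ 2 * Nat.card F ^ 2 := by
  rw [Nat.card_congr (β := K × K × F × F) ⟨fun x => (x.1.x1, x.1.x3, x.1.x2, x.1.x4),
    fun w => ⟨⟨w.1, 0, 0, w.2.1, w.2.2.1, w.2.2.2⟩, rfl, rfl⟩,
    fun x => ?_, fun _ => rfl⟩, Nat.card_prod, Nat.card_prod, Nat.card_prod]
  · ring
  obtain ⟨x, h1, h2⟩ := x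
  apply Subtype.ext
  ext
  exacts [rfl, h1.symm, h2.symm, rfl, rfl, rfl]

/-- the image of `E ≤ R` in `R/Z2 = K × K` -/
def img (E : Subgroup (Sy φ)) (hE : E ≤ R φ) : AddSubgroup (K × K) where
  carrier := {v | ∃ x ∈ E, x.x1 = v.1 ∧ x.x3 = v.2}
  zero_mem' := ⟨1, E.one_mem, rfl, rfl⟩
  add_mem' := by
    rintro v w ⟨x, hx, h1, h2⟩ ⟨y, hy, h3, h4⟩
    refine ⟨x * y, E.mul_mem hx hy, ?_, ?_⟩
    · rw [mul_x1, h1, h3]; rfl
    · rw [mul_x3, (hE hy).1, (hE hy).2, cr_zero_right, zero_smul, add_zero, add_zero, h2, h4]; rfl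
  neg_mem' := by
    rintro v ⟨x, hx, h1, h2⟩
    refine ⟨x⁻¹, E.inv_mem hx, ?_, ?_⟩
    · rw [inv_x1, h1]; rfl
    · rw [inv_x3, (hE hx).1, (hE hx).2, cr_zero_right, zero_smul, add_zero, sub_zero, h2]; rfl

theorem card_le_img [Finite K] [Finite F] (E : Subgroup (Sy φ)) (hE : E ≤ R φ) :
    Nat.card E ≤ Nat.card (img E hE) * Nat.card F ^ 2 := by
  have h := Nat.card_le_card_of_injective
    (fun x : E => ((⟨(x.1.x1, x.1.x3), ⟨x.1, x.2, rfl, rfl⟩⟩ : img E hE), x.1.x2, x.1.x4)) (by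
      intro x y hxy
      have h1 : x.1.x1 = y.1.x1 := congrArg (fun z : ↥(img E hE) × F × F => (z.1 : K × K).1) hxy
      have h2 : x.1.x3 = y.1.x3 := congrArg (fun z : ↥(img E hE) × F × F => (z.1 : K × K).2) hxy
      have h3 : x.1.x2 = y.1.x2 := congrArg (fun z : ↥(img E hE) × F × F => z.2.1) hxy
      have h4 : x.1.x4 = y.1.x4 := congrArg (fun z : ↥(img E hE) × F × F => z.2.2) hxy
      apply Subtype.ext
      ext
      exacts [h1, (hE x.2).1.trans (hE y.2).1.symm, (hE x.2).2.trans (hE y.2).2.symm, h2, h3, h4])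
  rw [Nat.card_prod, Nat.card_prod] at h
  rwa [sq]

end

theorem stR0 (hphi : StPhi.{u}) (hp2 : StP2.{u}) : StR0.{u} := by
  intro F K _ _ _ _ _ φ _ p _ E Γ hEss hE
  have : Fact p.Prime := ⟨hEss.pp⟩
  have hCF : CharP F p := (Algebra.charP_iff F K p).2 inferInstance
  have hS : Finite (Sy φ) := inferInstance
  have hEp : IsPGroup p E := by
    have h1 : IsPGroup p (⊤ : Subgroup (Sy φ)) := hEss.pgr
    exact h1.to_le le_top
  obtain ⟨hPE, hcomE, -, -, -, -⟩ := hphi E p hEss.pp inferInstance hEp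
  have hZ2 : Z2 φ ≤ E := by
    intro x hx
    refine hEss.cent x trivial fun e he => ?_
    have h1 : ⁅e, x⁆ = 1 := by
      rw [comm_Z2 hx, (hE he).1, zero_mul]; rfl
    exact (commutatorElement_eq_one_iff_mul_comm.1 h1).symm
  have hU2 : U2 φ ≤ E := fun x hx => hZ2 ⟨hx.1, hx.2.1, hx.2.2.1, hx.2.2.2.1⟩
  have hcomRE : Com (R φ) E (U2 φ) := by
    intro a ha m hm
    have := comm_R ha (hE hm)
    rw [commutatorElement_def] at this
    rw [this]
    exact u2_mem_U2 _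
  have hRN : R φ ≤ normalizerIn ⊤ E := by
    have key : ∀ r ∈ R φ, ∀ x ∈ E, r * x * r⁻¹ ∈ E := by
      intro r hr x hx
      have h1 := E.mul_mem (hU2 (hcomRE r hr x hx)) hx
      rwa [inv_mul_cancel_right] at h1
    intro r hr
    refine ⟨trivial, ?_⟩
    show r ∈ Subgroup.normalizer (E : Set (Sy φ))
    rw [Subgroup.mem_normalizer_iff]
    intro x
    refine ⟨key r hr x, fun hx => ?_⟩
    have h1 := key r⁻¹ ((R φ).inv_mem hr) _ hx
    have h2 : r⁻¹ * (r * x * r⁻¹) * r⁻¹⁻¹ = x := by group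
    rwa [h2] at h1
  by_contra hne
  have hRE : ¬ R φ ≤ E := fun h => hne (le_antisymm hE h)
  have hin := hp2 hEss (R φ) (R φ) (U2 φ) (U2 φ) (U2 φ ⊓ Phi E) (U2 φ ⊓ Phi E) hRN hRN hRE hU2 hU2 hcomRE hcomRE
    inf_le_right inf_le_right
  rw [← sq, Nat.pow_le_pow_iff_left two_ne_zero] at hin
  -- `|R : E| ≤ q`
  have hW : (U2 φ ⊓ Phi E).relIndex (U2 φ) ≤ Nat.card F := by
    rw [← card_U2 (φ := φ)]
    exact Nat.le_of_dvd Nat.card_pos (Subgroup.relIndex_dvd_card _ _)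
  have hmul : Nat.card E * E.relIndex (R φ) = Nat.card (R φ) := by
    have h1 := Subgroup.card_mul_index (E.subgroupOf (R φ))
    rwa [Nat.card_congr (Subgroup.subgroupOfEquivOfLe hE).toEquiv] at h1
  have h1lt : 1 < E.relIndex (R φ) := by
    have h0 : E.relIndex (R φ) ≠ 0 := by
      intro h0
      rw [h0, mul_zero] at hmul
      exact (Nat.card_pos (α := R φ)).ne hmul
    have h1 : E.relIndex (R φ) ≠ 1 := fun h => hRE (Subgroup.relIndex_eq_one.1 h)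
    omega
  -- some `u2 t` is not in `Φ(E)`
  obtain ⟨x, hx, hxP⟩ : ∃ x ∈ U2 φ, x ∉ Phi E := by
    by_contra hcon
    push Not at hcon
    have h1 : (U2 φ ⊓ Phi E).relIndex (U2 φ) = 1 :=
      Subgroup.relIndex_eq_one.2 (le_inf le_rfl hcon)
    omega
  let _ := ZMod.algebra F p
  let L : AddSubgroup F :=
    { carrier := {t | u2 φ t ∈ Phi E}
      zero_mem' := (Phi E).one_mem
      add_mem' := fun {a b} ha hb => by
        show u2 φ (a + b) ∈ Phi E
        rw [u2_add]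
        exact (Phi E).mul_mem ha hb
      neg_mem' := fun {a} ha => by
        show u2 φ (-a) ∈ Phi E
        have h1 : u2 φ (-a) = (u2 φ a)⁻¹ := by
          rw [eq_inv_iff_mul_eq_one, ← u2_add, neg_add_cancel]
          rfl
        rw [h1]
        exact (Phi E).inv_mem ha }
  have hxL : x.x2 ∉ AddSubgroup.toZModSubmodule p L := by
    intro h
    have h1 : u2 φ x.x2 ∈ Phi E := h
    rw [← eq_u2 hx] at h1
    exact hxP h1
  obtain ⟨l, hl, hlL⟩ := Submodule.exists_le_ker_of_notMem hxL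
  have hl0 : ∃ t, l t ≠ 0 := ⟨x.x2, hl⟩
  let f : K × K →+ K × K →+ ZMod p :=
    AddMonoidHom.mk' (fun v => AddMonoidHom.mk' (fun w => l (tr φ (v.1 * w.2) - tr φ (w.1 * v.2))) (by
      intro a b
      simp only [Prod.fst_add, Prod.snd_add, mul_add, add_mul, tr_add, map_add, map_sub]
      ring)) (by
      intro a b
      ext w
      simp only [Prod.fst_add, Prod.snd_add, mul_add, add_mul, tr_add, map_add, map_sub, AddMonoidHom.mk'_apply,
        AddMonoidHom.add_apply]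
      ring)
  have hfa : ∀ v w, f v w = l (tr φ (v.1 * w.2) - tr φ (w.1 * v.2)) := fun _ _ => rfl
  have hpV : ∀ v : K × K, p • v = 0 := by
    rintro ⟨a, b⟩
    simp
  have hiso := card_sq_le_of_isotropic hpV f (img E hE) (by
    rintro v ⟨x, hx, h1, h2⟩ w ⟨y, hy, h3, h4⟩
    rw [hfa, ← h1, ← h2, ← h3, ← h4]
    have h5 := hcomE x hx y hy
    have h6 := comm_R (hE hx) (hE hy)
    rw [commutatorElement_def] at h6
    rw [h6] at h5
    exact hlL h5) (by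
    obtain ⟨t, ht⟩ := hl0
    have key : ∀ a : K, (∀ b : K, l (tr φ (a * b)) = 0) → a = 0 := by
      intro a ha
      by_contra ha0
      obtain ⟨s, hs⟩ := exists_tr_ne φ
      apply ht
      have h1 := ha (a⁻¹ * ((t / tr φ s) • s))
      rwa [mul_inv_cancel_left₀ ha0, tr_smul, div_mul_cancel₀ _ hs] at h1
    rintro ⟨a, b⟩ - h
    have h1 : a = 0 := key a fun c => by
      have := h (0, c)
      rw [hfa] at this
      simpa only [tr_zero, _root_.MulZeroClass.zero_mul, _root_.sub_zero] using this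
    have h2 : b = 0 := key b fun c => by
      have := h (c, 0)
      rw [hfa] at this
      simp only [mul_zero, tr_zero, zero_sub, map_neg, neg_eq_zero] at this
      rwa [mul_comm]
    rw [h1, h2]
    rfl)
  rw [Nat.card_prod, ← sq, Nat.pow_le_pow_iff_left two_ne_zero] at hiso
  have hcE := card_le_img E hE
  have hlt := card_lt φ
  rw [card_R] at hmul
  have hFpos : 0 < Nat.card F := Nat.card_pos
  have hKpos : 0 < Nat.card K := Nat.card_pos
  -- numbers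
  have h1 : Nat.card K ^ 2 * Nat.card F ^ 2 ≤ (Nat.card K * Nat.card F ^ 2) * Nat.card F := by
    rw [← hmul]
    exact Nat.mul_le_mul (hcE.trans (Nat.mul_le_mul_right _ hiso)) (hin.trans hW)
  have h2 : Nat.card K ≤ Nat.card F := by
    have h3 : (Nat.card K * Nat.card F ^ 2) * Nat.card K ≤ (Nat.card K * Nat.card F ^ 2) * Nat.card F := by
      calc (Nat.card K * Nat.card F ^ 2) * Nat.card K = Nat.card K ^ 2 * Nat.card F ^ 2 := by ring
        _ ≤ _ := h1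
    exact Nat.le_of_mul_le_mul_left h3 (by (clear * - hFpos hKpos; positivity))
  omega

end Cfsg.Agent.H128.TE
end

-- part: H802/TE/Ro
section
/-!
# S5261, part E: `R = U1 U3 U2 U4` is not essential, `p` odd

The abstract theorem `StRoAbs` is proved in `H205/TE/RoAbs.lean`.
-/

set_option autoImplicit false
set_option linter.unusedSectionVars false

namespace Cfsg.Agent.H802.TE

open Subgroup Cfsg Cfsg.FusionSystem Cfsg.Agent.H756.PU Cfsg.Agent.H218.Fus Cfsg.Agent.H205.TE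
open Cfsg.Agent.H765.D3 Cfsg.Agent.H765.D3.Sy
open Cfsg.Agent.Hex.Defs (sh cr nm tr)
open scoped commutatorElement

universe u

/-- the abstract theorem behind `StRo` -/
def StRoAbs : Prop :=
  ∀ {G : Type u} [Group G] [Finite G] {p : ℕ} [Fact p.Prime] {V : Type u} [AddCommGroup V] [Module (ZMod p) V]
    [Finite V] (ρ : Representation (ZMod p) G V) (T X : Subgroup G) (Z M : Submodule (ZMod p) V), p ≠ 2 →
    Function.Injective ρ → SE p X → T ≤ X → IsPGroup p T → T ≠ ⊥ →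
    (∀ P : Subgroup G, IsPGroup p P → ∃ g, ∀ x ∈ P, g * x * g⁻¹ ∈ T) → Z ≤ M → (∀ g, ∀ z ∈ Z, ρ g z ∈ Z) →
    (∀ t ∈ T, ∀ z ∈ Z, ρ t z = z) → (∀ v, (∀ t ∈ T, ρ t v = v) → v ∈ Z) → (∀ t ∈ T, ∀ v, ρ t v - v ∈ M) →
    (∀ t ∈ T, t ≠ 1 → ∀ v, ρ t v - v ∈ Z ↔ v ∈ M) → Nat.card V = Nat.card Z * Nat.card T ^ 2 →
    Nat.card M = Nat.card Z * Nat.card T → False

section
variable {Ω : Type u} [Group Ω] {S E : Subgroup Ω} {p : ℕ} {Γ : Subgroup (MulAut E)}

/-- the image of a subgroup in `E/Φ(E)` -/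
def imV (D : Setup S E p) (M : Subgroup Ω) : Submodule (ZMod p) D.V :=
  AddSubgroup.toZModSubmodule p ((Subgroup.toAddSubgroup (M.subgroupOf E)).map D.π)

theorem mem_imV (D : Setup S E p) {M : Subgroup Ω} (hM : Phi E ≤ M) (e : E) :
    D.π (Additive.ofMul e) ∈ imV D M ↔ (e : Ω) ∈ M := by
  constructor
  · rintro ⟨f, hf, hfe⟩
    have h1 : D.π (Additive.ofMul (e * (Additive.toMul f)⁻¹)) = 0 := by
      rw [ofMul_mul, ofMul_inv, map_add, map_neg, ← sub_eq_add_neg, sub_eq_zero]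
      exact hfe.symm
    rw [D.kerπ] at h1
    have h2 : ((e * (Additive.toMul f)⁻¹ : E) : Ω) ∈ M := hM ⟨_, h1, rfl⟩
    have h3 : ((Additive.toMul f : E) : Ω) ∈ M := hf
    have h4 := M.mul_mem h2 h3
    simpa only [_root_.Subgroup.coe_mul, _root_.InvMemClass.coe_inv, _root_.inv_mul_cancel_right] using h4
  · intro h
    exact ⟨Additive.ofMul e, h, rfl⟩

theorem card_imV (D : Setup S E p) {M : Subgroup Ω} (hME : M ≤ E) :
    Nat.card (imV D M) = (Phi E).relIndex M := by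
  have h3 : Nat.card ((Subgroup.toAddSubgroup (M.subgroupOf E)).map D.π) =
      D.π.ker.relIndex (Subgroup.toAddSubgroup (M.subgroupOf E)) := (AddSubgroup.relIndex_ker _ _).symm
  have h4 : D.π.ker = Subgroup.toAddSubgroup (frattini E) := by
    ext e
    rw [AddMonoidHom.mem_ker]
    exact D.kerπ e.toMul
  have h5 : (Subgroup.toAddSubgroup (frattini E)).relIndex (Subgroup.toAddSubgroup (M.subgroupOf E)) =
      (frattini E).relIndex (M.subgroupOf E) := Subgroup.relIndex_toAddSubgroup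
  have h6 : (Phi E).subgroupOf E = frattini E := by
    ext x
    rw [mem_subgroupOf]
    constructor
    · rintro ⟨y, hy, hyx⟩
      rwa [← show y = x from Subtype.ext hyx]
    · intro hx
      exact ⟨x, hx, rfl⟩
  change Nat.card ((Subgroup.toAddSubgroup (M.subgroupOf E)).map D.π) = _
  rw [h3, h4, h5, ← relIndex_subgroupOf (H := Phi E) hME, h6]

theorem card_V (D : Setup S E p) : Nat.card D.V = (Phi E).relIndex E := by
  rw [← card_imV D le_rfl]
  have : imV D E = ⊤ := by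
    rw [eq_top_iff]
    intro v _
    obtain ⟨e, rfl⟩ := D.sur v
    exact ⟨e, (Additive.toMul e).2, rfl⟩
  rw [this]
  exact (Nat.card_congr (Submodule.topEquiv (R := ZMod p) (M := D.V)).toEquiv).symm

/-- the action in terms of commutators -/
theorem act_sub (D : Setup S E p) (a : normalizerIn S E) (e : E) :
    ∃ c : E, (c : Ω) = (a : Ω) * e * (a : Ω)⁻¹ * (e : Ω)⁻¹ ∧
      D.ρ (D.ψ a) (D.π (Additive.ofMul e)) - D.π (Additive.ofMul e) = D.π (Additive.ofMul c) := by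
  have hae : (a : Ω) * e * (a : Ω)⁻¹ ∈ E := (mem_normalizer_iff.1 a.2.2 _).1 e.2
  refine ⟨⟨_, hae⟩ * e⁻¹, rfl, ?_⟩
  rw [D.act a e ⟨_, hae⟩ rfl, ofMul_mul, ofMul_inv, map_add, map_neg, ← sub_eq_add_neg]

end

section
variable {F K : Type u} [Field F] [Field K] [Algebra F K] {φ : K ≃ₐ[F] K} [Cub φ]

variable (φ) in
/-- `U2` -/
def U2' : Subgroup (Sy φ) where
  carrier := {x | x ∈ Z2 φ ∧ x.x4 = 0}
  one_mem' := ⟨one_mem _, rfl⟩
  mul_mem' {x y} hx hy := by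
    refine ⟨mul_mem hx.1 hy.1, ?_⟩
    rw [mul_x4, hx.2, hy.2, hy.1.2.1, hx.1.1, hx.1.2.2.2]
    simp [tr_zero]
  inv_mem' {x} hx := by
    refine ⟨inv_mem hx.1, ?_⟩
    rw [inv_x4, hx.2, hx.1.1, hx.1.2.1, hx.1.2.2.1, hx.1.2.2.2]
    simp [tr_zero, cr_zero_left]

theorem R_pow {x : Sy φ} (hx : x ∈ R φ) (n : ℕ) :
    (x ^ n).x6 = 0 ∧ (x ^ n).x5 = 0 ∧ (x ^ n).x1 = n • x.x1 ∧ (x ^ n).x3 = n • x.x3 ∧ (x ^ n).x4 = n • x.x4 := by
  induction n with
  | zero => simp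
  | succ n ih =>
    obtain ⟨h6, h5, h1, h3, h4⟩ := ih
    rw [pow_succ]
    refine ⟨?_, ?_, ?_, ?_, ?_⟩
    · rw [mul_x6, h6, hx.1, add_zero]
    · rw [mul_x5, h5, hx.1, hx.2, zero_smul, add_zero, add_zero]
    · rw [mul_x1, h1, succ_nsmul]
    · rw [mul_x3, h3, hx.1, hx.2, cr_zero_right, zero_smul, add_zero, add_zero, succ_nsmul]
    · rw [mul_x4, h4, hx.1, hx.2, succ_nsmul, show sh φ (0 : K) = 0 from by rw [sh, map_zero, zero_mul]]
      simp [tr_zero]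

theorem norm_R_le : normalizerIn (⊤ : Subgroup (Sy φ)) (R φ) ≤ Q2 φ := by
  intro x hx
  have h1 : u1 φ 1 ∈ R φ := ⟨rfl, rfl⟩
  have h2 := (mem_normalizer_iff.1 hx.2 (u1 φ 1)).1 h1
  have h3 : ⁅x, u1 φ 1⁆ ∈ R φ := by
    rw [commutatorElement_def]
    exact (R φ).mul_mem h2 ((R φ).inv_mem h1)
  exact x6_eq_zero h3.2

end

section
variable {F K : Type u} [Field F] [Field K] [Algebra F K]

theorem stRo_of (hphi : StPhi.{u}) (hro : StRoAbs.{u}) : StRo.{u} := by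
  intro F K _ _ _ _ _ φ _ p _ Γ h hp2
  have := Fact.mk h.pp
  have h2 : (2 : K) ≠ 0 := two_ne p hp2
  obtain ⟨D, hΓ, hsyl⟩ := exists_setup2 h
  have hQn : Q2 φ ≤ normalizerIn (⊤ : Subgroup (Sy φ)) (R φ) :=
    Cfsg.Agent.H659.TE.Q2_le_norm Cfsg.Agent.H659.TE.Z3_le_R (fun _ h => h.1)
  obtain ⟨hPE, hPc, hPp, hPmin, hPinv, hPn⟩ := hphi (R φ) p h.pp inferInstance (Cfsg.Agent.H775.PU.pE h)
  have hp0 : (p : K) = 0 := CharP.cast_eq_zero K p
  have hpF : (p : F) = 0 := by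
    apply FK_inj φ
    rw [map_natCast, map_zero, hp0]
  have hZ2R : Z2 φ ≤ R φ := fun x hx => ⟨hx.2.1, hx.2.2.1⟩
  have hZ3R : Z3 φ ≤ R φ := Cfsg.Agent.H659.TE.Z3_le_R
  have hZ23 : Z2 φ ≤ Z3 φ := Z2_le_Z3
  -- `Φ(R) ≤ U2`
  have hPU : Phi (R φ) ≤ U2' φ := by
    refine hPmin (U2' φ) (fun x hx => hZ2R hx.1) ?_ ?_
    · intro x hx y hy
      rw [Cfsg.Agent.H659.TE.comm_def', Cfsg.Agent.H128.TE.comm_R hx hy]
      exact ⟨u2_mem _, rfl⟩
    · intro x hx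
      obtain ⟨h6, h5, h1, h3, h4⟩ := R_pow hx p
      refine ⟨⟨?_, h6, h5, ?_⟩, ?_⟩
      · rw [h1, nsmul_eq_mul, hp0, zero_mul]
      · rw [h3, nsmul_eq_mul, hp0, zero_mul]
      · rw [h4, nsmul_eq_mul, hpF, zero_mul]
  have hPZ2 : Phi (R φ) ≤ Z2 φ := fun x hx => (hPU hx).1
  have hPZ3 : Phi (R φ) ≤ Z3 φ := hPZ2.trans hZ23
  -- commutators with elements of `Q2`
  have hcx3 : ∀ a ∈ Q2 φ, ∀ e ∈ R φ, ⁅a, e⁆ ∈ Z3 φ ∧ (⁅a, e⁆).x3 = -cr φ e.x1 a.x5 := by
    intro a ha e he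
    obtain ⟨h1, h3⟩ := Cfsg.Agent.H659.TE.comm_Q2 (φ := φ) ha he.1
    refine ⟨h1, ?_⟩
    rw [h3, he.2, cr_zero_right, zero_sub]
  -- orders
  have hRQ : (R φ).relIndex (Q2 φ) = Nat.card K := by
    refine Cfsg.Agent.H659.TE.relIndex_of_hom (fun x => x.x5) ?_ ?_ ?_
    · intro x _ y hy
      change (x * y).x5 = x.x5 + y.x5
      rw [mul_x5, show y.x6 = 0 from hy, zero_smul, add_zero]
    · intro x hx
      exact ⟨fun h => h.2, fun h => ⟨hx, h⟩⟩
    · intro a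
      exact ⟨u5 φ a, rfl, rfl⟩
  have hZZ : (Z2 φ).relIndex (Z3 φ) = Nat.card K := by
    refine Cfsg.Agent.H659.TE.relIndex_of_hom (fun x => x.x3) ?_ ?_ ?_
    · intro x hx y hy
      change (x * y).x3 = x.x3 + y.x3
      rw [mul_x3, hx.1, hy.2.1, cr_zero_left, zero_smul, add_zero, add_zero]
    · intro x hx
      exact ⟨fun h => h.2.2.2, fun h => ⟨hx.1, hx.2.1, hx.2.2, h⟩⟩
    · intro a
      exact ⟨u3 φ a, u3_mem a, rfl⟩
  have hZR : (Z3 φ).relIndex (R φ) = Nat.card K := by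
    refine Cfsg.Agent.H659.TE.relIndex_of_hom (fun x => x.x1) ?_ ?_ ?_
    · intro x hx y hy
      exact mul_x1 x y
    · intro x hx
      exact ⟨fun h => h.1, fun h => ⟨h, hx.1, hx.2⟩⟩
    · intro a
      exact ⟨u1 φ a, ⟨rfl, rfl⟩, rfl⟩
  have hT : Nat.card (D.im (Q2 φ)) = Nat.card K := by rw [D.card_im hQn, hRQ]
  have cZ : Nat.card (imV D (Z2 φ)) = (Phi (R φ)).relIndex (Z2 φ) := card_imV D hZ2R
  have cM : Nat.card (imV D (Z3 φ)) = Nat.card (imV D (Z2 φ)) * Nat.card K := by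
    rw [card_imV D hZ3R, cZ, ← hZZ]
    exact (Subgroup.relIndex_mul_relIndex _ _ _ hPZ2 hZ23).symm
  have cV : Nat.card D.V = Nat.card (imV D (Z2 φ)) * Nat.card K ^ 2 := by
    rw [card_V D, pow_two, ← mul_assoc, ← cM, card_imV D hZ3R, ← hZR]
    exact (Subgroup.relIndex_mul_relIndex _ _ _ hPZ3 hZ3R).symm
  refine hro D.ρ (D.im (Q2 φ)) D.X (imV D (Z2 φ)) (imV D (Z3 φ)) hp2 D.inj D.se (D.im_le _) (D.pg h _)
    (D.ne_bot hQn fun hQ => ?_) ?_ ?_ ?_ ?_ ?_ ?_ ?_ (by rw [hT]; exact cV) (by rw [hT]; exact cM)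
  · have := (hQ (show u5 φ 1 ∈ Q2 φ from rfl)).2
    exact one_ne_zero this
  · intro P hP
    obtain ⟨g, hg⟩ := hsyl P hP
    refine ⟨g, fun x hx => ?_⟩
    obtain ⟨a, ha⟩ := hg x hx
    rw [ha]
    exact D.mem_im hQn (norm_R_le a.2)
  · rintro _ ⟨e, he, rfl⟩
    exact ⟨e, hZ23 he, rfl⟩
  · rintro g _ ⟨e, he, rfl⟩
    obtain ⟨γ, hγ, hγe⟩ := hΓ g
    have h3 := hγe (Additive.toMul e)
    change D.ρ g (D.π (Additive.ofMul (Additive.toMul e))) ∈ _
    rw [h3]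
    have hinv : Inv Γ (Z2 φ) := Cfsg.Agent.H659.TE.inv_of_center Γ hZ2R fun x hx => Cfsg.Agent.H659.TE.Z2_iff_R hx
    exact ⟨_, hinv.2 γ hγ _ he, rfl⟩
  · rintro _ ⟨a, ha, rfl⟩ _ ⟨e, he, rfl⟩
    obtain ⟨c, hc, hce⟩ := act_sub D a (Additive.toMul e)
    have h4 : c = 1 := by
      apply Subtype.ext
      have h5 : ((Additive.toMul e : R φ) : Sy φ) ∈ Z2 φ := he
      rw [hc, Cfsg.Agent.H659.TE.comm_def', comm_Z2 h5, show (a : Sy φ).x6 = 0 from ha, zero_mul]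
      rfl
    rw [h4] at hce
    rw [← sub_eq_zero]
    exact hce.trans (map_zero D.π)
  · intro v hv
    obtain ⟨e, rfl⟩ := D.sur v
    change D.π (Additive.ofMul (Additive.toMul e)) ∈ _
    rw [mem_imV D hPZ2]
    have hcom : ∀ a ∈ Q2 φ, ⁅a, ((Additive.toMul e : R φ) : Sy φ)⁆ ∈ Phi (R φ) := by
      intro a ha
      obtain ⟨c, hc, hce⟩ := act_sub D ⟨a, hQn ha⟩ (Additive.toMul e)
      have h5 := hv _ (D.mem_im hQn ha)
      have h6 : D.π (Additive.ofMul c) = 0 := by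
        rw [← hce, sub_eq_zero]
        exact h5
      rw [D.kerπ] at h6
      exact ⟨c, h6, hc⟩
    have he := (Additive.toMul e : R φ).2
    have h1 : ((Additive.toMul e : R φ) : Sy φ).x1 = 0 := by
      have h7 := (hPZ2 (hcom (u5 φ 1) rfl)).2.2.2
      rw [(hcx3 _ rfl _ he).2, neg_eq_zero] at h7
      rcases cr_eq_zero φ h2 h7 with h8 | h8
      · exact h8
      · exact (one_ne_zero h8).elim
    have h3 : ((Additive.toMul e : R φ) : Sy φ) ∈ Z3 φ := ⟨h1, he.1, he.2⟩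
    refine ⟨h1, he.1, he.2, tr_nondeg φ fun c => ?_⟩
    have h7 := (hPU (hcom (u5 φ c) rfl)).2
    rw [comm_x4' h3] at h7
    have e6 : (u5 φ c).x6 = 0 := rfl
    have e5 : (u5 φ c).x5 = c := rfl
    have e1 : (u5 φ c).x1 = 0 := rfl
    have e3 : (u5 φ c).x3 = 0 := rfl
    rw [e6, e5, zero_mul, zero_mul, zero_sub, add_zero, neg_eq_zero] at h7
    exact h7
  · rintro _ ⟨a, ha, rfl⟩ v
    obtain ⟨e, rfl⟩ := D.sur v
    obtain ⟨c, hc, hce⟩ := act_sub D a (Additive.toMul e)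
    change D.ρ (D.ψ a) (D.π (Additive.ofMul (Additive.toMul e))) - D.π (Additive.ofMul (Additive.toMul e)) ∈ _
    rw [hce, mem_imV D hPZ3, hc]
    exact (hcx3 _ ha _ (Additive.toMul e : R φ).2).1
  · rintro _ ⟨a, ha, rfl⟩ ha1 v
    obtain ⟨e, rfl⟩ := D.sur v
    obtain ⟨c, hc, hce⟩ := act_sub D a (Additive.toMul e)
    have he := (Additive.toMul e : R φ).2
    change D.ρ (D.ψ a) (D.π (Additive.ofMul (Additive.toMul e))) - D.π (Additive.ofMul (Additive.toMul e)) ∈ _ ↔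
      D.π (Additive.ofMul (Additive.toMul e)) ∈ _
    rw [hce, mem_imV D hPZ2, mem_imV D hPZ3, hc, Cfsg.Agent.H659.TE.comm_def']
    obtain ⟨h5, h6⟩ := hcx3 (a : Sy φ) ha _ he
    have ha5 : (a : Sy φ).x5 ≠ 0 := by
      intro h7
      apply ha1
      have h8 : a ∈ D.ψ.ker := by
        rw [D.ker]
        exact ⟨ha, h7⟩
      exact h8
    constructor
    · intro h7
      have h8 := h7.2.2.2
      rw [h6, neg_eq_zero] at h8
      rcases cr_eq_zero φ h2 h8 with h9 | h9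
      · exact ⟨h9, he.1, he.2⟩
      · exact (ha5 h9).elim
    · intro h7
      refine ⟨h5.1, h5.2.1, h5.2.2, ?_⟩
      rw [h6, h7.1, cr_zero_left, neg_zero]

end

end Cfsg.Agent.H802.TE
end

-- part: H534/TE/M0
section
/-!
# S5261, part E, (M0): a mixed essential subgroup contains `Z2`
-/

set_option autoImplicit false
set_option linter.unusedSectionVars false

namespace Cfsg.Agent.H534.TE

open Cfsg Cfsg.FusionSystem Cfsg.Agent.H756.PU
open Cfsg.Agent.H765.D3 Cfsg.Agent.H765.D3.Sy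
open Cfsg.Agent.Hex.Defs (sh cr nm tr)
open Cfsg.Agent.H802.TE
open scoped commutatorElement

universe u

section Model

variable {F K : Type u} [Field F] [Field K] [Algebra F K] {φ : K ≃ₐ[F] K} [Cub φ]

/-- `F` has the characteristic of `K` -/
theorem cast_zero {p : ℕ} [CharP K p] : ((p : ℕ) : F) = 0 := by
  apply (algebraMap F K).injective
  rw [map_natCast, map_zero]
  exact CharP.cast_eq_zero K p

theorem two_ne {p : ℕ} (hp : p.Prime) [CharP K p] (h2 : p ≠ 2) : (2 : K) ≠ 0 := by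
  intro h
  have h1 : ((2 : ℕ) : K) = 0 := by exact_mod_cast h
  have h3 := (CharP.cast_eq_zero_iff K p 2).1 h1
  exact h2 ((Nat.prime_dvd_prime_iff_eq hp Nat.prime_two).1 h3)

/-- `s ↦ tr (a s)` as an additive map -/
noncomputable def trHom (φ : K ≃ₐ[F] K) [Cub φ] (a : K) : K →+ F where
  toFun s := tr φ (a * s)
  map_zero' := by rw [mul_zero, tr_zero]
  map_add' s t := by rw [mul_add, tr_add]

theorem trHom_apply (a s : K) : trHom φ a s = tr φ (a * s) := rfl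

theorem trHom_surj {a : K} (ha : a ≠ 0) : Function.Surjective (trHom φ a) := by
  intro t
  obtain ⟨s, hs⟩ := exists_tr_ne φ
  refine ⟨(t / tr φ s) • (a⁻¹ * s), ?_⟩
  rw [trHom_apply, mul_smul_comm, tr_smul, mul_inv_cancel_left₀ ha, div_mul_cancel₀ _ hs]

/-- `|a^⊥| q = |K|` -/
theorem card_ker [Finite F] [Finite K] {a : K} (ha : a ≠ 0) :
    Nat.card (trHom φ a).ker * Nat.card F = Nat.card K := by
  rw [← AddSubgroup.card_mul_index (trHom φ a).ker, AddSubgroup.index_ker,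
    AddMonoidHom.range_eq_top.2 (trHom_surj ha), AddSubgroup.card_top]

/-- the cardinality of `a^⊥` is greater than one -/
theorem one_lt_ker [Finite F] [Finite K] (a : K) : 1 < Nat.card (trHom φ a).ker := by
  rw [Finite.one_lt_card_iff_nontrivial, AddSubgroup.nontrivial_iff_ne_bot]
  intro hbot
  -- then `K → F` is injective, and `F → K` is surjective
  have hinj : Function.Injective (trHom φ a) := (AddMonoidHom.ker_eq_bot_iff _).1 hbot
  have h1 : Nat.card K ≤ Nat.card F := Nat.card_le_card_of_injective _ hinj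
  have h2 : Function.Bijective (algebraMap F K) :=
    (Nat.bijective_iff_injective_and_card _).2 ⟨(algebraMap F K).injective,
      le_antisymm (Nat.card_le_card_of_injective _ (algebraMap F K).injective) h1⟩
  obtain ⟨θ, hθ⟩ := Cub.ne (φ := φ)
  obtain ⟨s, rfl⟩ := h2.2 θ
  exact hθ (φ.commutes s)

theorem mem_of_comm' {H : Subgroup (Sy φ)} {x y : Sy φ} (h : ⁅x, y⁆ ∈ H) : ⁅y, x⁆ ∈ H := by
  rw [← commutatorElement_inv]
  exact inv_mem h

/-- the centre lies in every essential subgroup -/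
theorem Z1_le {E : Subgroup (Sy φ)} {p : ℕ} {Γ : Subgroup (MulAut E)} (h : Ess ⊤ E p Γ) : Z1 φ ≤ E := by
  intro x hx
  refine h.cent x trivial fun e _ => ?_
  exact (commutatorElement_eq_one_iff_mul_comm.1 (comm_Z1 (x := e) hx)).symm

/-- a mixed subgroup contains a regular element -/
theorem exists_reg {E : Subgroup (Sy φ)} (hm : Mixed E) : ∃ e ∈ E, e.x1 ≠ 0 ∧ e.x6 ≠ 0 := by
  obtain ⟨x, hx, hx1⟩ := SetLike.not_le_iff_exists.1 hm.1
  obtain ⟨y, hy, hy1⟩ := SetLike.not_le_iff_exists.1 hm.2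
  rw [mem_Q1] at hx1
  rw [mem_Q2] at hy1
  by_cases h6 : x.x6 = 0
  · by_cases h1 : y.x1 = 0
    · refine ⟨x * y, mul_mem hx hy, ?_, ?_⟩
      · rw [mul_x1, h1, add_zero]
        exact hx1
      · rw [mul_x6, h6, zero_add]
        exact hy1
    · exact ⟨y, hy, h1, hy1⟩
  · exact ⟨x, hx, hx1, h6⟩

theorem u4_pow (w : F) (n : ℕ) : u4 φ w ^ n = u4 φ (n • w) := by
  induction n with
  | zero => rw [pow_zero, zero_smul]; rfl
  | succ n ih => rw [pow_succ, ih, succ_nsmul, u4_add]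

theorem pow_Z1 {p : ℕ} [CharP K p] {x : Sy φ} (hx : x ∈ Z1 φ) : x ^ p = 1 := by
  rw [eq_u4 hx, u4_pow, nsmul_eq_mul, cast_zero (K := K), zero_mul]
  rfl

/-- `Z1` centralizes everything -/
theorem Z1_comm {x : Sy φ} (hx : x ∈ Z1 φ) (y : Sy φ) : x * y = y * x :=
  (commutatorElement_eq_one_iff_mul_comm.1 (comm_Z1 (x := y) hx)).symm

/-- the first step in (M0): a central element `z` of `E` of order `p` with `z.x6 ≠ 0` -/
theorem exists_z (hull : StHull.{u}) {p : ℕ} [CharP K p] {E : Subgroup (Sy φ)} {Γ : Subgroup (MulAut E)}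
    (h : Ess ⊤ E p Γ) (hz : ¬ Z2 φ ≤ E) :
    ∃ z ∈ E, (∀ e ∈ E, z * e = e * z) ∧ z ^ p = 1 ∧ z.x6 ≠ 0 := by
  obtain ⟨γ, -, y, hy, a, ha, hay⟩ := hull h (Z2 φ) (Z1 φ) le_top (Z1_le h)
    (fun a ha m _ => mem_of_comm' (by rw [comm_Z2 ha]; exact u4_mem _)) hz
  refine ⟨γ y, (γ y).2, fun e he => ?_, ?_, fun h6 => hay ?_⟩
  · have h1 : γ y * γ (γ.symm ⟨e, he⟩) = γ (γ.symm ⟨e, he⟩) * γ y := by
      rw [← map_mul, ← map_mul]
      congr 1
      exact Subtype.ext (Z1_comm hy _)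
    rw [MulEquiv.apply_symm_apply] at h1
    exact congrArg Subtype.val h1
  · have h1 : y ^ p = 1 := Subtype.ext (pow_Z1 hy)
    have h2 : (γ y) ^ p = 1 := by rw [← map_pow, h1, map_one]
    exact congrArg Subtype.val h2
  · have h1 : ⁅((γ y : E) : Sy φ), a⁆ = 1 := by
      rw [comm_Z2 ha, h6, zero_mul]
      rfl
    have h2 : ⁅a, ((γ y : E) : Sy φ)⁆ = 1 := by
      rw [← commutatorElement_inv, h1, inv_one]
    rw [commutatorElement_def] at h2
    rw [h2]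
    exact one_mem _

/-- a central element of `E` with `z.x6 ≠ 0` is regular, all `(x1, x6)` are multiples of it -/
theorem reg_of {E : Subgroup (Sy φ)} (hm : Mixed E) {z : Sy φ} (hc : ∀ e ∈ E, z * e = e * z) (h6 : z.x6 ≠ 0) :
    z.x1 ≠ 0 ∧ ∀ e ∈ E, e.x1 = (e.x6 / z.x6) • z.x1 := by
  have key : ∀ e ∈ E, e.x1 = (e.x6 / z.x6) • z.x1 := by
    intro e he
    have h1 : ⁅z, e⁆ = 1 := commutatorElement_eq_one_iff_mul_comm.2 (hc e he)
    have h2 := comm_x5 z e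
    rw [h1, one_x5] at h2
    have h3 : z.x6 • e.x1 = e.x6 • z.x1 := (sub_eq_zero.1 h2.symm).symm
    rw [div_eq_mul_inv, mul_comm, mul_smul, ← h3, smul_smul, inv_mul_cancel₀ h6, one_smul]
  refine ⟨fun h1 => ?_, key⟩
  obtain ⟨e, he, he1, -⟩ := exists_reg hm
  apply he1
  rw [key e he, h1, smul_zero]

/-- **(M0), `p = 2`.** -/
theorem stM02 (hull : StHull.{u}) : StM02.{u} := by
  intro F K _ _ _ _ _ φ _ _ E Γ h hm
  by_contra hz
  obtain ⟨z, hzE, hc, hp, h6⟩ := exists_z hull h hz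
  obtain ⟨h1, -⟩ := reg_of hm hc h6
  have h2 := congrArg Sy.x5 hp
  rw [pow_two, mul_x5, one_x5] at h2
  have h3 : z.x5 + z.x5 = 0 := by
    rw [← two_mul]
    have : ((2 : ℕ) : K) = 0 := CharP.cast_eq_zero K 2
    rw [show (2 : K) = 0 by exact_mod_cast this, zero_mul]
  rw [h3, zero_add, smul_eq_zero] at h2
  exact h2.elim h6 h1

/-! ### `p` odd -/

/-- a subgroup `A` with `[A, E] ≤ M ≤ E` normalizes `E` -/
theorem le_norm {Ω : Type*} [Group Ω] {A E M : Subgroup Ω} (hM : M ≤ E) (h : Com A E M) :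
    A ≤ normalizerIn ⊤ E := by
  have key : ∀ x ∈ A, ∀ e ∈ E, x * e * x⁻¹ ∈ E := fun x hx e he => by
    have h1 := mul_mem (hM (h x hx e he)) he
    rwa [inv_mul_cancel_right] at h1
  intro x hx
  refine ⟨trivial, Subgroup.mem_normalizer_iff.2 fun e => ?_⟩
  constructor
  · intro he
    exact key x hx e he
  · intro he
    have h1 := key x⁻¹ (inv_mem hx) _ he
    have h2 : x⁻¹ * (x * e * x⁻¹) * x⁻¹⁻¹ = e := by group
    rwa [h2] at h1

theorem card_inf_mul {Ω : Type*} [Group Ω] (E A : Subgroup Ω) :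
    Nat.card (E ⊓ A : Subgroup Ω) * E.relIndex A = Nat.card A := by
  rw [Subgroup.relIndex, ← Subgroup.card_mul_index (E.subgroupOf A)]
  congr 1
  rw [← Subgroup.inf_subgroupOf_right]
  exact (Nat.card_congr (Subgroup.subgroupOfEquivOfLe inf_le_right).toEquiv).symm

/-- `A2 = {x ∈ Z4 | tr (a# x5) = 0, tr (a x3) = 0}` -/
def A2 (φ : K ≃ₐ[F] K) [Cub φ] (a : K) : Subgroup (Sy φ) where
  carrier := {x | x.x1 = 0 ∧ x.x6 = 0 ∧ tr φ (sh φ a * x.x5) = 0 ∧ tr φ (a * x.x3) = 0}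
  one_mem' := ⟨rfl, rfl, by simp [tr_zero], by simp [tr_zero]⟩
  mul_mem' {x y} hx hy := by
    simp only [Set.mem_ofPred_eq] at hx hy ⊢
    obtain ⟨h1, h2, h3, h4⟩ := hx
    obtain ⟨k1, k2, k3, k4⟩ := hy
    rw [mul_x1, mul_x6, mul_x5, mul_x3, h1, h2, k1, k2]
    simp only [cr_zero_left, zero_smul, add_zero, mul_add, tr_add, h3, h4, k3, k4, and_self]
  inv_mem' {x} hx := by
    simp only [Set.mem_ofPred_eq] at hx ⊢
    obtain ⟨h1, h2, h3, h4⟩ := hx
    rw [inv_x1, inv_x6, inv_x5, inv_x3, h1, h2, cr_zero_left, zero_smul, zero_smul, add_zero, add_zero, sub_zero,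
      mul_neg, mul_neg, tr_neg, tr_neg, h3, h4]
    simp only [neg_zero, and_self]

/-- `A1 = {x ∈ Z3 | tr (a x3) = 0}` -/
def A1 (φ : K ≃ₐ[F] K) [Cub φ] (a : K) : Subgroup (Sy φ) where
  carrier := {x | x.x1 = 0 ∧ x.x6 = 0 ∧ x.x5 = 0 ∧ tr φ (a * x.x3) = 0}
  one_mem' := ⟨rfl, rfl, rfl, by simp [tr_zero]⟩
  mul_mem' {x y} hx hy := by
    simp only [Set.mem_ofPred_eq] at hx hy ⊢
    obtain ⟨h1, h2, h3, h4⟩ := hx
    obtain ⟨k1, k2, k3, k4⟩ := hy
    rw [mul_x1, mul_x6, mul_x5, mul_x3, h1, h2, k1, k2, h3, k3]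
    simp only [cr_zero_left, zero_smul, add_zero, mul_add, tr_add, h4, k4, and_self]
  inv_mem' {x} hx := by
    simp only [Set.mem_ofPred_eq] at hx ⊢
    obtain ⟨h1, h2, h3, h4⟩ := hx
    rw [inv_x1, inv_x6, inv_x5, inv_x3, h1, h2, h3, cr_zero_left, zero_smul, zero_smul, add_zero, add_zero, sub_zero,
      mul_neg, tr_neg, h4]
    simp only [neg_zero, and_self]

/-- `Y0 = {x ∈ Z3 | tr (a x3) = 0, x2 = 0}` -/
def Y0 (φ : K ≃ₐ[F] K) [Cub φ] (a : K) : Subgroup (Sy φ) where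
  carrier := {x | x.x1 = 0 ∧ x.x6 = 0 ∧ x.x5 = 0 ∧ tr φ (a * x.x3) = 0 ∧ x.x2 = 0}
  one_mem' := ⟨rfl, rfl, rfl, by simp [tr_zero], rfl⟩
  mul_mem' {x y} hx hy := by
    simp only [Set.mem_ofPred_eq] at hx hy ⊢
    obtain ⟨h1, h2, h3, h4, h5⟩ := hx
    obtain ⟨k1, k2, k3, k4, k5⟩ := hy
    rw [mul_x1, mul_x6, mul_x5, mul_x3, mul_x2, h1, h2, k1, k2, h3, k3, h5, k5]
    simp only [cr_zero_left, zero_smul, add_zero, mul_add, tr_add, h4, k4, zero_mul, mul_zero, tr_zero, and_self]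
  inv_mem' {x} hx := by
    simp only [Set.mem_ofPred_eq] at hx ⊢
    obtain ⟨h1, h2, h3, h4, h5⟩ := hx
    rw [inv_x1, inv_x6, inv_x5, inv_x3, inv_x2, h1, h2, h3, h5, cr_zero_left, zero_smul, zero_smul, add_zero, add_zero,
      sub_zero, mul_neg, tr_neg, h4]
    simp [tr_zero, sh_zero, nm_zero]

section Card

variable [Finite K] [Finite F]

theorem card_A2 (a : K) : Nat.card (A2 φ a) =
    Nat.card (trHom φ (sh φ a)).ker * Nat.card (trHom φ a).ker * Nat.card F ^ 2 := by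
  rw [Nat.card_congr (β := (trHom φ (sh φ a)).ker × (trHom φ a).ker × F × F)
    ⟨fun x => (⟨x.1.x5, x.2.2.2.1⟩, ⟨x.1.x3, x.2.2.2.2⟩, x.1.x2, x.1.x4),
    fun w => ⟨⟨0, 0, w.1, w.2.1, w.2.2.1, w.2.2.2⟩, rfl, rfl, w.1.2, w.2.1.2⟩,
    fun x => ?_, fun w => rfl⟩, Nat.card_prod, Nat.card_prod, Nat.card_prod]
  · ring
  obtain ⟨x, h1, h2, h3⟩ := x
  apply Subtype.ext
  ext
  exacts [h1.symm, h2.symm, rfl, rfl, rfl, rfl]

theorem card_A1 (a : K) : Nat.card (A1 φ a) = Nat.card (trHom φ a).ker * Nat.card F ^ 2 := by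
  rw [Nat.card_congr (β := (trHom φ a).ker × F × F)
    ⟨fun x => (⟨x.1.x3, x.2.2.2.2⟩, x.1.x2, x.1.x4),
    fun w => ⟨⟨0, 0, 0, w.1, w.2.1, w.2.2⟩, rfl, rfl, rfl, w.1.2⟩,
    fun x => ?_, fun w => rfl⟩, Nat.card_prod, Nat.card_prod]
  · ring
  obtain ⟨x, h1, h2, h3, h4⟩ := x
  apply Subtype.ext
  ext
  exacts [h1.symm, h2.symm, h3.symm, rfl, rfl, rfl]

theorem card_Y0 (a : K) : Nat.card (Y0 φ a) = Nat.card (trHom φ a).ker * Nat.card F := by
  rw [Nat.card_congr (β := (trHom φ a).ker × F)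
    ⟨fun x => (⟨x.1.x3, x.2.2.2.2.1⟩, x.1.x4),
    fun w => ⟨⟨0, 0, 0, w.1, 0, w.2⟩, rfl, rfl, rfl, w.1.2, rfl⟩,
    fun x => ?_, fun w => rfl⟩, Nat.card_prod]
  obtain ⟨x, h1, h2, h3, h4, h5⟩ := x
  apply Subtype.ext
  ext
  exacts [h1.symm, h2.symm, h3.symm, rfl, h5.symm, rfl]

end Card

theorem comm_u4_mem {x y : Sy φ} {H : Subgroup (Sy φ)} (h : ⁅y, x⁆ ∈ H) : x * y * x⁻¹ * y⁻¹ ∈ H := by
  have h1 := mem_of_comm' h
  rwa [commutatorElement_def] at h1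

/-- (M0), `p` odd, in normal form -/
theorem core (p2 : StP2.{u}) [Finite F] [Finite K] {p : ℕ} {E : Subgroup (Sy φ)} {Γ : Subgroup (MulAut E)}
    (h : Ess ⊤ E p Γ) (h2 : (2 : K) ≠ 0) {a : K} {v : F} (ha : a ≠ 0) (hv : v ≠ 0)
    (hc : ∀ e ∈ E, (u1 φ a * u6 φ v) * e = e * (u1 φ a * u6 φ v))
    (hx : ∀ e ∈ E, ∃ k : F, e.x1 = k • a) (hZ : ¬ Z2 φ ≤ E) : False := by
  set z := u1 φ a * u6 φ v with hz
  have z1 : z.x1 = a := by simp [hz, mul_x1, u1, u6]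
  have z6 : z.x6 = v := by simp [hz, mul_x6, u1, u6]
  have z5 : z.x5 = v • a := by simp [hz, mul_x5, u1, u6]
  have hcom : ∀ e ∈ E, ⁅z, e⁆ = 1 := fun e he => commutatorElement_eq_one_iff_mul_comm.2 (hc e he)
  have hEZ : E ⊓ Z4 φ ≤ Y0 φ a := by
    rintro x ⟨hxE, hx4⟩
    have h5 : x.x5 = 0 := by
      have h1 := comm_x3 (x := z) hx4
      rw [hcom x hxE, one_x3, z1] at h1
      exact (cr_eq_zero φ h2 h1.symm).resolve_left ha
    have hx3 : x ∈ Z3 φ := ⟨hx4.1, hx4.2, h5⟩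
    have h3 : tr φ (a * x.x3) = 0 := by
      have h1 := comm_x2' (x := z) hx3
      rw [hcom x hxE, one_x2, z1] at h1
      exact h1.symm
    have h4 : x.x2 = 0 := by
      have h1 := comm_x4' (x := z) hx3
      rw [hcom x hxE, one_x4, z1, z5, z6, mul_smul_comm, tr_smul, mul_comm x.x3 a, h3] at h1
      simp only [mul_zero, sub_zero, add_zero] at h1
      exact (mul_eq_zero.1 h1.symm).resolve_left hv
    exact ⟨hx4.1, hx4.2, h5, h3, h4⟩
  have hZ1 := Z1_le h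
  have c1 : Com (A1 φ a) E (Z1 φ) := by
    intro x hx1 e he
    apply comm_u4_mem
    have hx3 : x ∈ Z3 φ := ⟨hx1.1, hx1.2.1, hx1.2.2.1⟩
    obtain ⟨k, hk⟩ := hx e he
    obtain ⟨d1, d2, d3, d4⟩ := comm_mem_Z2 (x := e) hx3
    refine ⟨d1, d2, d3, d4, ?_⟩
    rw [comm_x2' hx3, hk, smul_mul_assoc, tr_smul, hx1.2.2.2, mul_zero]
  have c2 : Com (Z2 φ) E (Z1 φ) := fun x hx2 e _ => comm_u4_mem (by rw [comm_Z2 hx2]; exact u4_mem _)
  have hZA : Z2 φ ≤ A1 φ a := fun x hx2 => ⟨hx2.1, hx2.2.1, hx2.2.2.1, by rw [hx2.2.2.2, mul_zero, tr_zero]⟩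
  have hA1 : ¬ A1 φ a ≤ E := fun hle => hZ (hZA.trans hle)
  have i1 := p2 h (A1 φ a) (A1 φ a) (Z1 φ) (Z1 φ) ⊥ ⊥ (le_norm hZ1 c1) (le_norm hZ1 c1) hA1 hZ1 hZ1 c1 c1 bot_le bot_le
  rw [Subgroup.relIndex_bot_left, card_Z1, ← pow_two] at i1
  have i2 : E.relIndex (A1 φ a) ≤ Nat.card F := (Nat.pow_le_pow_iff_left two_ne_zero).1 i1
  have hq : 0 < Nat.card F := Nat.card_pos
  have ht : 0 < Nat.card (trHom φ a).ker := Nat.card_pos
  have i3 := card_inf_mul E (A1 φ a)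
  rw [card_A1] at i3
  have hle : E ⊓ A1 φ a ≤ Y0 φ a := fun x hx1 => hEZ ⟨hx1.1, hx1.2.1, hx1.2.2.1⟩
  have i4 : Nat.card (trHom φ a).ker * Nat.card F ≤ Nat.card (E ⊓ A1 φ a : Subgroup (Sy φ)) := by
    have : Nat.card (trHom φ a).ker * Nat.card F * Nat.card F ≤
        Nat.card (E ⊓ A1 φ a : Subgroup (Sy φ)) * Nat.card F := by
      calc _ = Nat.card (trHom φ a).ker * Nat.card F ^ 2 := by ring
        _ = _ := i3.symm
        _ ≤ _ := Nat.mul_le_mul le_rfl i2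
    exact Nat.le_of_mul_le_mul_right this hq
  have hY : E ⊓ A1 φ a = Y0 φ a := by
    apply Subgroup.eq_of_le_of_card_ge hle
    rw [card_Y0]
    exact i4
  have hYE : Y0 φ a ≤ E := hY ▸ inf_le_left
  have c3 : Com (A2 φ a) E (Y0 φ a) := by
    intro x hx2 e he
    apply comm_u4_mem
    have hx4 : x ∈ Z4 φ := ⟨hx2.1, hx2.2.1⟩
    obtain ⟨k, hk⟩ := hx e he
    obtain ⟨d1, d2, d3⟩ := comm_mem_Z3 (x := e) hx4
    refine ⟨d1, d2, d3, ?_, ?_⟩
    · rw [comm_x3 hx4, hk, cr_smul_left, mul_smul_comm, tr_smul, ← tr_cr, cr_self, mul_assoc, two_mul, tr_add,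
        hx2.2.2.1, add_zero, mul_zero]
    · rw [comm_x2 hx4, hk, smul_mul_assoc, tr_smul, hx2.2.2.2, sh_smul, smul_mul_assoc, tr_smul, hx2.2.2.1]
      ring
  have hZ2 : ¬ Z2 φ ≤ E := hZ
  have i5 := p2 h (A2 φ a) (Z2 φ) (Y0 φ a) (Z1 φ) ⊥ ⊥ (le_norm hYE c3) (le_norm hZ1 c2) hZ2 hYE hZ1 c3 c2 bot_le bot_le
  rw [Subgroup.relIndex_bot_left, Subgroup.relIndex_bot_left, card_Z1, card_Y0] at i5
  have i6 := card_inf_mul E (A2 φ a)
  rw [card_A2] at i6
  have hle2 : E ⊓ A2 φ a ≤ Y0 φ a := fun x hx1 => hEZ ⟨hx1.1, hx1.2.1, hx1.2.2.1⟩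
  have i7 : Nat.card (E ⊓ A2 φ a : Subgroup (Sy φ)) ≤ Nat.card (trHom φ a).ker * Nat.card F := by
    rw [← card_Y0]
    exact Nat.card_mono (Set.toFinite _) hle2
  have hsa : sh φ a ≠ 0 := fun h0 => ha ((sh_eq_zero φ).1 h0)
  have i8 : Nat.card (trHom φ (sh φ a)).ker = Nat.card (trHom φ a).ker := by
    have e1 := card_ker (φ := φ) hsa
    have e2 := card_ker (φ := φ) ha
    exact Nat.eq_of_mul_eq_mul_right hq (e1.trans e2.symm)
  rw [i8] at i6
  have i9 := one_lt_ker (φ := φ) a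
  set t := Nat.card (trHom φ a).ker
  set q := Nat.card F
  set r := E.relIndex (A2 φ a)
  have j1 : t * t * q ^ 2 ≤ t * q * r := by
    rw [← i6]
    exact Nat.mul_le_mul i7 le_rfl
  have j2 : t * q ≤ r := by
    have : t * q * (t * q) ≤ t * q * r := by
      calc _ = t * t * q ^ 2 := by ring
        _ ≤ _ := j1
    exact Nat.le_of_mul_le_mul_left this (Nat.mul_pos ht hq)
  have j3 : (t * q) ^ 2 ≤ t * q * q := (Nat.pow_le_pow_left j2 2).trans i5
  have j4 : t ≤ 1 := by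
    have : (t * q * q) * t ≤ (t * q * q) * 1 := by
      calc _ = (t * q) ^ 2 := by ring
        _ ≤ _ := j3
        _ = _ := by ring
    exact Nat.le_of_mul_le_mul_left this (Nat.mul_pos (Nat.mul_pos ht hq) hq)
  omega

/-- **(M0), `p` odd.** -/
theorem stM0o (p2 : StP2.{u}) (hull : StHull.{u}) (cj : StConj.{u}) (reg : StReg.{u}) : StM0o.{u} := by
  intro F K _ _ _ _ _ φ _ p _ E Γ h hp2 hm
  by_contra hz
  obtain ⟨z, hzE, hc, hp, h6⟩ := exists_z hull h hz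
  obtain ⟨h1, hk⟩ := reg_of hm hc h6
  obtain ⟨g, hg⟩ := reg z hp2 h1 h6
  obtain ⟨Γ', h'⟩ := cj h g trivial
  refine core p2 h' (two_ne h.pp hp2) h1 h6 ?_ ?_ ?_
  · rintro _ ⟨e, he, rfl⟩
    rw [← hg]
    change g * z * g⁻¹ * (g * e * g⁻¹) = (g * e * g⁻¹) * (g * z * g⁻¹)
    have e1 : g * z * g⁻¹ * (g * e * g⁻¹) = g * (z * e) * g⁻¹ := by group
    have e2 : (g * e * g⁻¹) * (g * z * g⁻¹) = g * (e * z) * g⁻¹ := by group
    rw [e1, e2, hc e he]
  · rintro _ ⟨e, he, rfl⟩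
    refine ⟨e.x6 / z.x6, ?_⟩
    change (g * e * g⁻¹).x1 = _
    rw [mul_x1, mul_x1, inv_x1, ← hk e he]
    ring
  · intro hle
    apply hz
    intro x hx
    have h3 : g * x * g⁻¹ ∈ Z2 φ := (inferInstance : (Z2 φ).Normal).conj_mem x hx g
    obtain ⟨e, he, h4⟩ := hle h3
    have h5 : e = x := (MulAut.conj g).injective h4
    exact h5 ▸ he

end Model

end Cfsg.Agent.H534.TE
end

-- part: H744/TE/A2
section
/-!
# S5261, part E: (A2) `Z3 ≤ E < Q2`, `p = 2` (task 5419)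
-/

set_option autoImplicit false
set_option linter.unusedSectionVars false

namespace Cfsg.Agent.H744.TE

open Cfsg Cfsg.FusionSystem Cfsg.Agent.H756.PU Cfsg.Agent.H802.TE
open Cfsg.Agent.H765.D3 Cfsg.Agent.H765.D3.Sy
open Cfsg.Agent.Hex.Defs (sh cr nm tr)
open Module (finrank)
open scoped commutatorElement

universe u

/-! ### Symmetric forms with values in `ZMod 2` -/

section perp

variable {V : Type*} [AddCommGroup V] [Module (ZMod 2) V]

/-- a biadditive map is bilinear -/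
def mkB (f : V → V → ZMod 2) (h1 : ∀ x y z, f (x + y) z = f x z + f y z)
    (h2 : ∀ x y z, f x (y + z) = f x y + f x z) : LinearMap.BilinForm (ZMod 2) V :=
  LinearMap.mk₂ (ZMod 2) f h1
    (fun c x z => ZMod.map_smul (AddMonoidHom.mk' (fun x => f x z) (fun x y => h1 x y z)) c x) h2
    (fun c x z => ZMod.map_smul (AddMonoidHom.mk' (fun z => f x z) (fun y z => h2 x y z)) c z)

theorem finrank_perp [Finite V] (f : V → V → ZMod 2) (h1 : ∀ x y z, f (x + y) z = f x z + f y z)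
    (hs : ∀ x y, f x y = f y x) (D R : Submodule (ZMod 2) V) (hR : ∀ x, x ∈ R ↔ x ∈ D ∧ ∀ y, f x y = 0) :
    ∃ D' : Submodule (ZMod 2) V, (∀ y, y ∈ D' ↔ ∀ x ∈ D, f x y = 0) ∧
      finrank (ZMod 2) D + finrank (ZMod 2) D' = finrank (ZMod 2) V + finrank (ZMod 2) R := by
  have h2 : ∀ x y z, f x (y + z) = f x y + f x z := fun x y z => by rw [hs, h1, hs y, hs z]
  let B := mkB f h1 h2
  have hB : ∀ x y, B x y = f x y := fun x y => rfl
  have e2 : R = D ⊓ B.orthogonal ⊤ := by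
    ext x
    rw [hR, Submodule.mem_inf, LinearMap.BilinForm.mem_orthogonal_iff]
    refine and_congr_right fun _ => ⟨fun h n _ => ?_, fun h y => ?_⟩
    · change f n x = 0
      rw [hs, h]
    · have : f y x = 0 := h y trivial
      rw [hs, this]
  have hrefl : B.IsRefl := fun x y h => by
    have h' : f x y = 0 := h
    change f y x = 0
    rw [hs, h']
  refine ⟨B.orthogonal D, fun y => ?_, ?_⟩
  · rw [LinearMap.BilinForm.mem_orthogonal_iff]
    exact Iff.rfl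
  · rw [e2]
    exact LinearMap.BilinForm.finrank_add_finrank_orthogonal hrefl D

theorem card_eq_pow [Finite V] : Nat.card V = 2 ^ finrank (ZMod 2) V := by
  rw [Module.natCard_eq_pow_finrank (K := ZMod 2), Nat.card_zmod]

end perp

/-! ### Linear algebra on `K / F` -/

section lin

variable {F K : Type u} [Field F] [Field K] [Finite F] [Finite K] [Algebra F K] {φ : K ≃ₐ[F] K} [Cub φ]

theorem finrank_FK (φ : K ≃ₐ[F] K) [Cub φ] : finrank F K = 3 := by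
  have hφ : orderOf φ = 3 := by
    have : Fact (Nat.Prime 3) := ⟨Nat.prime_three⟩
    refine orderOf_eq_prime ?_ ?_
    · ext t
      exact phi3 φ t
    · intro h
      obtain ⟨t, ht⟩ := Cub.ne (φ := φ)
      exact ht (by rw [h]; rfl)
  have h1 := IntermediateField.finrank_fixedField_eq_card (Subgroup.zpowers φ)
  have h2 : IntermediateField.fixedField (Subgroup.zpowers φ) = ⊥ := by
    rw [eq_bot_iff]
    intro t ht
    rw [IntermediateField.mem_fixedField_iff] at ht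
    obtain ⟨s, hs⟩ := exists_coe φ (ht φ (Subgroup.mem_zpowers φ))
    rw [← hs]
    exact IntermediateField.algebraMap_mem _ _
  rw [h2, IntermediateField.finrank_bot', Nat.card_zpowers, hφ] at h1
  exact h1

theorem card_K (φ : K ≃ₐ[F] K) [Cub φ] : Nat.card K = Nat.card F ^ 3 := by
  rw [Module.natCard_eq_pow_finrank (K := F) (V := K), finrank_FK φ]

/-- the functional `x ↦ tr (s x)` -/
noncomputable def trL (φ : K ≃ₐ[F] K) [Cub φ] (s : K) : K →ₗ[F] F where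
  toFun x := tr φ (s * x)
  map_add' x y := by rw [mul_add, tr_add]
  map_smul' c x := by rw [mul_smul_comm, tr_smul]; rfl

theorem card_perp (φ : K ≃ₐ[F] K) [Cub φ] {s : K} (hs : s ≠ 0) : Nat.card {x : K // tr φ (s * x) = 0} = Nat.card F ^ 2 := by
  have h1 : LinearMap.range (trL φ s) = ⊤ := by
    apply LinearMap.range_eq_top.2
    obtain ⟨x0, hx0⟩ : ∃ x, tr φ (s * x) ≠ 0 := by
      by_contra hcon
      push Not at hcon
      exact hs (tr_nondeg φ hcon)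
    intro c
    refine ⟨(c / tr φ (s * x0)) • x0, ?_⟩
    rw [map_smul]
    change _ * tr φ (s * x0) = c
    rw [div_mul_cancel₀ _ hx0]
  have h2 := LinearMap.finrank_range_add_finrank_ker (trL φ s)
  rw [h1, finrank_top, Module.finrank_self, finrank_FK φ] at h2
  have h3 : Nat.card (LinearMap.ker (trL φ s)) = Nat.card F ^ 2 := by
    rw [Module.natCard_eq_pow_finrank (K := F)]
    congr 1
    omega
  rw [← h3]
  rfl

/-! ### The main linear algebra, `p = 2` -/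

section two

variable [CharP K 2] [Module (ZMod 2) K] [Module (ZMod 2) F]

variable (F) in
/-- `Fl × Fl` -/
def Rad (l : K) : Submodule (ZMod 2) (K × K) :=
  AddSubgroup.toZModSubmodule 2
    { carrier := {v | (∃ s : F, v.1 = s • l) ∧ ∃ s : F, v.2 = s • l}
      zero_mem' := ⟨⟨0, by simp⟩, ⟨0, by simp⟩⟩
      add_mem' := fun {v w} hv hw => by
        obtain ⟨⟨a, ha⟩, ⟨b, hb⟩⟩ := hv
        obtain ⟨⟨a', ha'⟩, ⟨b', hb'⟩⟩ := hw
        exact ⟨⟨a + a', by rw [Prod.fst_add, ha, ha', add_smul]⟩, ⟨b + b', by rw [Prod.snd_add, hb, hb', add_smul]⟩⟩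
      neg_mem' := fun {v} hv => by
        obtain ⟨⟨a, ha⟩, ⟨b, hb⟩⟩ := hv
        exact ⟨⟨-a, by rw [Prod.fst_neg, ha, neg_smul]⟩, ⟨-b, by rw [Prod.snd_neg, hb, neg_smul]⟩⟩ }

variable (F) in
/-- `Fl` -/
def Lin (l : K) : Submodule (ZMod 2) K :=
  AddSubgroup.toZModSubmodule 2
    { carrier := {v | ∃ s : F, v = s • l}
      zero_mem' := ⟨0, by simp⟩
      add_mem' := fun {v w} hv hw => by
        obtain ⟨a, ha⟩ := hv
        obtain ⟨a', ha'⟩ := hw
        exact ⟨a + a', by rw [ha, ha', add_smul]⟩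
      neg_mem' := fun {v} hv => by
        obtain ⟨a, ha⟩ := hv
        exact ⟨-a, by rw [ha, neg_smul]⟩ }

theorem mem_Lin {l : K} {v : K} : v ∈ Lin F l ↔ ∃ s : F, v = s • l := Iff.rfl

variable (φ) in
/-- `s^⊥` -/
def Per (s : K) : Submodule (ZMod 2) K :=
  AddSubgroup.toZModSubmodule 2
    { carrier := {v | tr φ (s * v) = 0}
      zero_mem' := by
        change tr φ (s * 0) = 0
        rw [mul_zero, tr_zero]
      add_mem' := fun {v w} hv hw => by
        change tr φ (s * (v + w)) = 0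
        rw [mul_add, tr_add, show tr φ (s * v) = 0 from hv, show tr φ (s * w) = 0 from hw, add_zero]
      neg_mem' := fun {v} hv => by
        change tr φ (s * -v) = 0
        rw [mul_neg, tr_neg, show tr φ (s * v) = 0 from hv, neg_zero] }

theorem mem_Per {s : K} {v : K} : v ∈ Per φ s ↔ tr φ (s * v) = 0 := Iff.rfl

variable (F) in
theorem card_F : Nat.card F = 2 ^ finrank (ZMod 2) F := card_eq_pow

theorem finrank_K (φ : K ≃ₐ[F] K) [Cub φ] : finrank (ZMod 2) K = 3 * finrank (ZMod 2) F := by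
  have h := card_K φ
  rw [card_F F, card_eq_pow (V := K), ← pow_mul] at h
  have := Nat.pow_right_injective (le_refl 2) h
  omega

theorem finrank_Per {s : K} (hs : s ≠ 0) : finrank (ZMod 2) (Per φ s) = 2 * finrank (ZMod 2) F := by
  have h := card_perp φ hs
  have h1 : Nat.card (Per φ s) = Nat.card F ^ 2 := h
  rw [card_F F, card_eq_pow, ← pow_mul] at h1
  have := Nat.pow_right_injective (le_refl 2) h1
  omega

theorem finrank_Lin {l : K} (hl : l ≠ 0) : finrank (ZMod 2) (Lin F l) = finrank (ZMod 2) F := by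
  have h1 : Nat.card (Lin F l) = Nat.card F := by
    symm
    refine Nat.card_congr (Equiv.ofBijective (fun s : F => (⟨s • l, s, rfl⟩ : Lin F l)) ⟨fun s t h => ?_, fun x => ?_⟩)
    · exact smul_left_injective F hl (Subtype.ext_iff.1 h)
    · obtain ⟨x, s, hs⟩ := x
      exact ⟨s, Subtype.ext hs.symm⟩
  rw [card_F F, card_eq_pow] at h1
  exact Nat.pow_right_injective (le_refl 2) h1

theorem finrank_Rad {l : K} (hl : l ≠ 0) : finrank (ZMod 2) (Rad F l) = 2 * finrank (ZMod 2) F := by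
  have h1 : Nat.card (Rad F l) = Nat.card (F × F) := by
    symm
    refine Nat.card_congr (Equiv.ofBijective
      (fun s : F × F => (⟨(s.1 • l, s.2 • l), ⟨s.1, rfl⟩, ⟨s.2, rfl⟩⟩ : Rad F l)) ⟨fun s t h => ?_, fun x => ?_⟩)
    · have h' := Prod.ext_iff.1 (Subtype.ext_iff.1 h)
      exact Prod.ext (smul_left_injective F hl h'.1) (smul_left_injective F hl h'.2)
    · obtain ⟨x, ⟨s, hs⟩, ⟨t, ht⟩⟩ := x
      exact ⟨(s, t), Subtype.ext (Prod.ext hs.symm ht.symm)⟩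
  rw [Nat.card_prod, card_F F, card_eq_pow, ← pow_add] at h1
  have := Nat.pow_right_injective (le_refl 2) h1
  omega

theorem exists_functional : ∃ L : F →+ ZMod 2, L ≠ 0 := by
  have h : (1 : F) ≠ 0 := one_ne_zero
  rw [Ne, ← Module.forall_dual_apply_eq_zero_iff (ZMod 2)] at h
  push Not at h
  obtain ⟨g, hg⟩ := h
  exact ⟨g.toAddMonoidHom, fun h0 => hg (by
    have := DFunLike.congr_fun h0 (1 : F)
    exact this)⟩

/-- `(x, y) ↦ L (tr (x y))` is nondegenerate -/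
theorem nondeg {L : F →+ ZMod 2} (hL : L ≠ 0) {x : K} (h : ∀ y, L (tr φ (x * y)) = 0) : x = 0 := by
  apply tr_nondeg φ
  intro t
  by_contra ht
  apply hL
  ext c
  have := h ((c / tr φ (x * t)) • t)
  rw [mul_smul_comm, tr_smul, div_mul_cancel₀ _ ht] at this
  rw [this]
  rfl

theorem two_K : (2 : K) = 0 := CharTwo.two_eq_zero

variable (φ) in
/-- `f_l` -/
noncomputable def fl (L : F →+ ZMod 2) (l : K) (v w : K × K) : ZMod 2 := L (tr φ (l * (cr φ v.1 w.2 + cr φ w.1 v.2)))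

theorem fl_add (L : F →+ ZMod 2) (l : K) (x y z : K × K) : fl φ L l (x + y) z = fl φ L l x z + fl φ L l y z := by
  unfold fl
  rw [Prod.fst_add, Prod.snd_add, cr_add_left, cr_add_right, ← map_add, ← tr_add, ← mul_add]
  congr 3
  ring

theorem fl_symm (L : F →+ ZMod 2) (l : K) (x y : K × K) : fl φ L l x y = fl φ L l y x := by
  unfold fl
  rw [add_comm]

theorem fl_eq (L : F →+ ZMod 2) (l : K) (v w : K × K) :
    fl φ L l v w = L (tr φ (cr φ l v.1 * w.2)) + L (tr φ (cr φ l v.2 * w.1)) := by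
  unfold fl
  rw [mul_add, tr_add, map_add, tr_cr, tr_cr, cr_comm φ w.1 v.2]

/-- the radical of `f_l` -/
theorem fl_rad {L : F →+ ZMod 2} (hL : L ≠ 0) {l : K} (hl : l ≠ 0) (v : K × K) :
    (∀ w, fl φ L l v w = 0) ↔ v ∈ Rad F l := by
  constructor
  · intro h
    have h1 : cr φ l v.1 = 0 := nondeg hL fun y => by
      have := h (0, y)
      rw [fl_eq] at this
      simpa only [tr_zero, _root_.MulZeroClass.mul_zero, _root_.map_zero, _root_.add_zero] using this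
    have h2 : cr φ l v.2 = 0 := nondeg hL fun y => by
      have := h (y, 0)
      rw [fl_eq] at this
      simpa [tr_zero] using this
    exact ⟨cr_eq_zero_two φ two_K hl h1, cr_eq_zero_two φ two_K hl h2⟩
  · rintro ⟨⟨s, hs⟩, ⟨t, ht⟩⟩ w
    rw [fl_eq, hs, ht, cr_smul_self_two φ two_K, cr_smul_self_two φ two_K]
    simp [tr_zero]

/-- the bound from one `l` -/
theorem bound {L : F →+ ZMod 2} (hL : L ≠ 0) {l : K} (hl : l ≠ 0) (D : Submodule (ZMod 2) (K × K))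
    (hD : ∀ v ∈ D, ∀ w ∈ D, fl φ L l v w = 0) :
    finrank (ZMod 2) D ≤ 2 * finrank (ZMod 2) F + finrank (ZMod 2) (D ⊓ Rad F l : Submodule (ZMod 2) (K × K)) := by
  obtain ⟨D', hD', he⟩ := finrank_perp (fl φ L l) (fl_add L l) (fl_symm L l) (D ⊔ Rad F l) (Rad F l) (fun x =>
    ⟨fun h => ⟨(le_sup_right : Rad F l ≤ D ⊔ Rad F l) h, (fl_rad hL hl x).2 h⟩, fun h => (fl_rad hL hl x).1 h.2⟩)
  have h1 : D ⊔ Rad F l ≤ D' := by
    apply sup_le
    · intro w hw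
      rw [hD']
      intro v hv
      obtain ⟨a, ha, b, hb, rfl⟩ := Submodule.mem_sup.1 hv
      rw [fl_add, hD a ha w hw, (fl_rad hL hl b).2 hb w, add_zero]
    · intro w hw
      rw [hD']
      intro v _
      rw [fl_symm, (fl_rad hL hl w).2 hw v]
  have h2 := Submodule.finrank_mono h1
  have h3 := Submodule.finrank_sup_add_finrank_inf_eq D (Rad F l)
  have h4 := finrank_Rad (F := F) hl
  have h5 : finrank (ZMod 2) (K × K) = 6 * finrank (ZMod 2) F := by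
    rw [Module.finrank_prod, finrank_K φ]
    ring
  omega

theorem tr_cr_self_left (a b : K) : tr φ (cr φ a b * a) = 0 := by
  rw [tr_cr, cr_comm φ b a, mul_comm, tr_cr, cr_comm φ b a, ← tr_cr, cr_self, two_K, zero_mul, zero_mul, tr_zero]

/-- **The linear algebra of (A2).** -/
theorem lin_main (DD : Submodule (ZMod 2) (K × K)) (BB : Submodule (ZMod 2) K)
    (hB : ∀ v ∈ DD, ∀ w ∈ DD, cr φ v.1 w.2 + cr φ w.1 v.2 ∈ BB) (hS : ∀ v ∈ DD, cr φ v.1 v.2 ∈ BB)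
    (hcard : finrank (ZMod 2) K + finrank (ZMod 2) BB ≤ finrank (ZMod 2) DD) (hne : DD ≠ ⊤)
    (hind : ∃ v ∈ DD, v.1 ≠ 0 ∧ ∀ s : F, v.2 ≠ s • v.1) :
    ∃ s : K, s ≠ 0 ∧ ∀ v, v ∈ DD ↔ tr φ (s * v.1) = 0 ∧ tr φ (s * v.2) = 0 := by
  obtain ⟨L, hL⟩ := exists_functional (F := F)
  have hk0 : 1 ≤ finrank (ZMod 2) F := Module.finrank_pos
  have hK := finrank_K φ
  have hKK : finrank (ZMod 2) (K × K) = 6 * finrank (ZMod 2) F := by
    rw [Module.finrank_prod, finrank_K φ]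
    ring
  set k := finrank (ZMod 2) F with hk
  -- `BB` is not zero and not everything
  have hb1 : 1 ≤ finrank (ZMod 2) BB := by
    obtain ⟨v, hv, hv1, hv2⟩ := hind
    rw [Nat.one_le_iff_ne_zero]
    intro h0
    rw [Submodule.finrank_eq_zero] at h0
    have h1 := hS v hv
    rw [h0, Submodule.mem_bot] at h1
    obtain ⟨s, hs⟩ := cr_eq_zero_two φ two_K hv1 h1
    exact hv2 s hs
  have hb3 : finrank (ZMod 2) BB < 3 * k := by
    by_contra hcon
    apply hne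
    apply Submodule.eq_top_of_finrank_eq
    have := Submodule.finrank_le DD
    omega
  -- `Λ`
  obtain ⟨Λ, hΛ, hΛf⟩ := finrank_perp (fun x y : K => L (tr φ (x * y)))
    (fun x y z => by rw [add_mul, tr_add, map_add]) (fun x y => by rw [mul_comm]) BB ⊥ (fun x => by
      constructor
      · intro h
        rw [Submodule.mem_bot] at h
        rw [h]
        exact ⟨zero_mem _, fun y => by rw [zero_mul, tr_zero, map_zero]⟩
      · rintro ⟨-, h⟩
        rw [Submodule.mem_bot]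
        exact nondeg hL h)
  rw [finrank_bot, hK] at hΛf
  have hiso : ∀ l ∈ Λ, ∀ v ∈ DD, ∀ w ∈ DD, fl φ L l v w = 0 := by
    intro l hl v hv w hw
    have := (hΛ l).1 hl _ (hB v hv w hw)
    unfold fl
    rw [mul_comm]
    exact this
  have hbd : ∀ l ∈ Λ, l ≠ 0 → finrank (ZMod 2) DD ≤
      2 * k + finrank (ZMod 2) (DD ⊓ Rad F l : Submodule (ZMod 2) (K × K)) :=
    fun l hl hl0 => bound hL hl0 DD (hiso l hl)
  obtain ⟨l1, hl1, hl10⟩ : ∃ l ∈ Λ, l ≠ 0 := by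
    have : Λ ≠ ⊥ := by
      intro h
      rw [h, finrank_bot] at hΛf
      omega
    obtain ⟨l, hl, h0⟩ := Submodule.exists_mem_ne_zero_of_ne_bot this
    exact ⟨l, hl, h0⟩
  have hd4 : finrank (ZMod 2) DD ≤ 4 * k := by
    have h1 := hbd l1 hl1 hl10
    have h2 := Submodule.finrank_mono (inf_le_right : DD ⊓ Rad F l1 ≤ Rad F l1)
    rw [finrank_Rad hl10, ← hk] at h2
    omega
  obtain ⟨l2, hl2, hl20⟩ : ∃ l ∈ Λ, l ∉ Lin F l1 := by
    by_contra hcon
    push Not at hcon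
    have h1 := Submodule.finrank_mono (show Λ ≤ Lin F l1 from hcon)
    rw [finrank_Lin hl10, ← hk] at h1
    omega
  have hl2' : ∀ s : F, l2 ≠ s • l1 := fun s hs => hl20 (mem_Lin.2 ⟨s, hs⟩)
  have hl2n : l2 ≠ 0 := fun h => hl2' 0 (by rw [h, zero_smul])
  set s := cr φ l1 l2 with hs
  have hs0 : s ≠ 0 := by
    intro h0
    obtain ⟨t, ht⟩ := cr_eq_zero_two φ two_K hl10 h0
    exact hl2' t ht
  have hs1 : tr φ (s * l1) = 0 := tr_cr_self_left l1 l2
  have hs2 : tr φ (s * l2) = 0 := by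
    rw [hs, cr_comm]
    exact tr_cr_self_left l2 l1
  have hΛs : Λ ≤ Per φ s := by
    intro l3 hl3
    by_contra hcon
    rw [mem_Per] at hcon
    have hl30 : l3 ≠ 0 := by
      rintro rfl
      exact hcon (by rw [mul_zero, tr_zero])
    have e1 := hbd l1 hl1 hl10
    have e2 := hbd l2 hl2 hl2n
    have e3 := hbd l3 hl3 hl30
    -- independence
    have i12 : (DD ⊓ Rad F l1) ⊓ (DD ⊓ Rad F l2) = ⊥ := by
      rw [eq_bot_iff]
      rintro v ⟨⟨-, ⟨a, ha⟩, ⟨b, hb⟩⟩, -, ⟨a', ha'⟩, ⟨b', hb'⟩⟩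
      have key : ∀ {x : K} {a a' : F}, x = a • l1 → x = a' • l2 → x = 0 := by
        intro x a a' h1 h2
        by_cases h0 : a' = 0
        · rw [h2, h0, zero_smul]
        · exfalso
          apply hl2' (a'⁻¹ * a)
          rw [mul_smul, ← h1, h2, smul_smul, inv_mul_cancel₀ h0, one_smul]
      rw [Submodule.mem_bot]
      exact Prod.ext (key ha ha') (key hb hb')
    have i3 : ((DD ⊓ Rad F l1) ⊔ (DD ⊓ Rad F l2)) ⊓ (DD ⊓ Rad F l3) = ⊥ := by
      rw [eq_bot_iff]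
      rintro v ⟨hv, -, ⟨a, ha⟩, ⟨b, hb⟩⟩
      obtain ⟨x, ⟨-, ⟨x1, hx1⟩, ⟨x2, hx2⟩⟩, y, ⟨-, ⟨y1, hy1⟩, ⟨y2, hy2⟩⟩, rfl⟩ := Submodule.mem_sup.1 hv
      have key : ∀ {z : K} {a b c : F}, z = a • l1 + b • l2 → z = c • l3 → z = 0 := by
        intro z a b c h1 h2
        have h3 : tr φ (s * z) = 0 := by
          rw [h1, mul_add, tr_add, mul_smul_comm, mul_smul_comm, tr_smul, tr_smul, hs1, hs2]
          simp
        rw [h2, mul_smul_comm, tr_smul] at h3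
        rw [h2, (mul_eq_zero.1 h3).resolve_right hcon, zero_smul]
      rw [Submodule.mem_bot]
      refine Prod.ext (key (a := x1) (b := y1) ?_ ha) (key (a := x2) (b := y2) ?_ hb)
      · rw [Prod.fst_add, hx1, hy1]
      · rw [Prod.snd_add, hx2, hy2]
    have f1 := Submodule.finrank_sup_add_finrank_inf_eq (DD ⊓ Rad F l1) (DD ⊓ Rad F l2)
    have f2 := Submodule.finrank_sup_add_finrank_inf_eq ((DD ⊓ Rad F l1) ⊔ (DD ⊓ Rad F l2)) (DD ⊓ Rad F l3)
    rw [i12, finrank_bot] at f1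
    rw [i3, finrank_bot] at f2
    have f3 := Submodule.finrank_mono (show ((DD ⊓ Rad F l1) ⊔ (DD ⊓ Rad F l2)) ⊔ (DD ⊓ Rad F l3) ≤ DD from
      sup_le (sup_le inf_le_left inf_le_left) inf_le_left)
    omega
  have hPf := finrank_Per (φ := φ) hs0
  rw [← hk] at hPf
  have hΛe : Λ = Per φ s := Submodule.eq_of_le_of_finrank_le hΛs (by rw [hPf]; omega)
  rw [hΛe] at hΛf
  have hmem : ∀ l ∈ Per φ s, (l, (0 : K)) ∈ DD ∧ ((0 : K), l) ∈ DD := by
    intro l hl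
    by_cases hl0 : l = 0
    · subst hl0
      exact ⟨zero_mem _, zero_mem _⟩
    · have h1 := hbd l (by rw [hΛe]; exact hl) hl0
      have h2 := finrank_Rad (F := F) hl0
      rw [← hk] at h2
      have h3 : DD ⊓ Rad F l = Rad F l := Submodule.eq_of_le_of_finrank_le inf_le_right (by rw [h2]; omega)
      have h4 : Rad F l ≤ DD := by
        rw [← h3]
        exact inf_le_left
      exact ⟨h4 ⟨⟨1, by rw [one_smul]⟩, ⟨0, by rw [zero_smul]⟩⟩, h4 ⟨⟨0, by rw [zero_smul]⟩, ⟨1, by rw [one_smul]⟩⟩⟩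
  have hle : (Per φ s).prod (Per φ s) ≤ DD := by
    rintro ⟨a, b⟩ ⟨ha, hb⟩
    have h1 := add_mem (hmem a ha).1 (hmem b hb).2
    rwa [Prod.mk_add_mk, add_zero, zero_add] at h1
  have hfp : finrank (ZMod 2) ((Per φ s).prod (Per φ s)) = 4 * k := by
    have h1 : Nat.card ((Per φ s).prod (Per φ s)) = Nat.card (Per φ s) * Nat.card (Per φ s) := by
      rw [← Nat.card_prod]
      exact Nat.card_congr ⟨fun x => (⟨x.1.1, x.2.1⟩, ⟨x.1.2, x.2.2⟩), fun y => ⟨(y.1, y.2), y.1.2, y.2.2⟩,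
        fun _ => rfl, fun _ => rfl⟩
    rw [card_eq_pow, card_eq_pow (V := Per φ s), ← pow_add] at h1
    have := Nat.pow_right_injective (le_refl 2) h1
    omega
  have heq := Submodule.eq_of_le_of_finrank_le hle (by rw [hfp]; exact hd4)
  refine ⟨s, hs0, fun v => ?_⟩
  rw [← heq]
  exact Iff.rfl

/-- all elements of `DD` are pure tensors -/
theorem pure_case (DD : Submodule (ZMod 2) (K × K)) (hp : ∀ v ∈ DD, v.1 = 0 ∨ ∃ s : F, v.2 = s • v.1)
    (hl : ∀ l m : F, (l ≠ 0 ∨ m ≠ 0) → ∃ v ∈ DD, l • v.1 + m • v.2 ≠ 0) : ∃ a : K, a ≠ 0 ∧ DD ≤ Rad F a := by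
  obtain ⟨x, hx, hx1⟩ := hl 1 0 (Or.inl one_ne_zero)
  rw [one_smul, zero_smul, add_zero] at hx1
  obtain ⟨s, hs⟩ := (hp x hx).resolve_left hx1
  have A : ∀ y ∈ DD, y.2 - s • y.1 ≠ 0 → (∃ ν : F, y.2 - s • y.1 = ν • x.1) ∧ ∃ κ : F, y.1 = κ • x.1 := by
    intro y hy hv
    set v := y.2 - s • y.1 with hvdef
    have h1 : ∃ κ : F, y.1 = κ • v := by
      rcases hp y hy with h0 | ⟨t, ht⟩
      · exact ⟨0, by rw [h0, zero_smul]⟩
      · have e : v = (t - s) • y.1 := by rw [hvdef, ht, sub_smul]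
        have hts : t - s ≠ 0 := by
          intro h0
          rw [h0, zero_smul] at e
          exact hv e
        exact ⟨(t - s)⁻¹, by rw [e, smul_smul, inv_mul_cancel₀ hts, one_smul]⟩
    obtain ⟨κ, hκ⟩ := h1
    have h2 : ∃ α : F, x.1 = α • v := by
      rcases hp (x + y) (add_mem hx hy) with h0 | ⟨t, ht⟩
      · rw [Prod.fst_add] at h0
        exact ⟨-κ, by rw [neg_smul, ← hκ]; exact eq_neg_of_add_eq_zero_left h0⟩
      · rw [Prod.fst_add, Prod.snd_add, hs] at ht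
        have e : v = (t - s) • (x.1 + y.1) := by
          rw [hvdef, sub_smul, ← ht, smul_add]
          abel
        have hts : t - s ≠ 0 := by
          intro h0
          rw [h0, zero_smul] at e
          exact hv e
        refine ⟨(t - s)⁻¹ - κ, ?_⟩
        rw [sub_smul, ← hκ, e, smul_smul, inv_mul_cancel₀ hts, one_smul]
        abel
    obtain ⟨α, hα⟩ := h2
    have hα0 : α ≠ 0 := by
      rintro rfl
      exact hx1 (by rw [hα, zero_smul])
    have hv' : v = α⁻¹ • x.1 := by rw [hα, smul_smul, inv_mul_cancel₀ hα0, one_smul]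
    exact ⟨⟨α⁻¹, hv'⟩, ⟨κ * α⁻¹, by rw [mul_smul, ← hv', ← hκ]⟩⟩
  obtain ⟨y, hy, hyv⟩ := hl (-s) 1 (Or.inr one_ne_zero)
  have hyv' : y.2 - s • y.1 ≠ 0 := by
    intro h
    apply hyv
    rw [neg_smul, one_smul, ← h]
    abel
  obtain ⟨-, κ, hκ⟩ := A y hy hyv'
  refine ⟨x.1, hx1, fun z hz => ?_⟩
  by_cases h0 : z.2 - s • z.1 = 0
  · have h1 : (z + y).2 - s • (z + y).1 ≠ 0 := by
      intro h
      apply hyv'
      rw [Prod.fst_add, Prod.snd_add, smul_add] at h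
      rw [sub_eq_zero] at h0
      rw [h0] at h
      rw [← h]
      abel
    obtain ⟨-, κ', hκ'⟩ := A (z + y) (add_mem hz hy) h1
    rw [Prod.fst_add] at hκ'
    have h2 : z.1 = (κ' - κ) • x.1 := by
      rw [sub_smul, ← hκ', ← hκ]
      abel
    exact ⟨⟨κ' - κ, h2⟩, ⟨s * (κ' - κ), by rw [mul_smul, ← h2]; exact sub_eq_zero.1 h0⟩⟩
  · obtain ⟨⟨ν, hν⟩, κ', hκ'⟩ := A z hz h0
    refine ⟨⟨κ', hκ'⟩, ⟨ν + s * κ', ?_⟩⟩
    rw [add_smul, mul_smul, ← hκ', ← hν]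
    abel

end two

end lin

/-! ### The group -/

section grp

variable {F K : Type u} [Field F] [Field K] [Algebra F K] {φ : K ≃ₐ[F] K} [Cub φ]

theorem comm_Q2_mem {x y : Sy φ} (hx : x ∈ Q2 φ) (hy : y ∈ Q2 φ) : ⁅x, y⁆ ∈ Z3 φ :=
  ⟨comm_x1 x y, comm_x6 x y, by rw [comm_x5, mem_Q2.1 hx, mem_Q2.1 hy]; simp⟩

theorem comm_Q2_x3 {x y : Sy φ} (hx : x ∈ Q2 φ) (hy : y ∈ Q2 φ) :
    (⁅x, y⁆).x3 = cr φ x.x1 y.x5 - cr φ y.x1 x.x5 := by
  have h := congrArg Sy.x3 (comm_mul x y)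
  have hx' : x.x6 = 0 := hx
  have hy' : y.x6 = 0 := hy
  rw [mul_x3, mul_x3, mul_x3, comm_x1, mul_x6, hx', hy'] at h
  simp only [cr_zero_left, sh_zero, smul_zero, zero_smul, add_zero] at h
  linear_combination -h

theorem mem_of_coord {E : Subgroup (Sy φ)} (hZ : Z3 φ ≤ E) {x w : Sy φ} (hx : x ∈ E) (hx6 : x.x6 = 0)
    (hw6 : w.x6 = 0) (h1 : w.x1 = x.x1) (h5 : w.x5 = x.x5) : w ∈ E := by
  have h : x⁻¹ * w ∈ Z3 φ := by
    refine ⟨?_, ?_, ?_⟩
    · rw [mul_x1, inv_x1, h1]; ring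
    · rw [mul_x6, inv_x6, hx6, hw6]; ring
    · rw [mul_x5, inv_x5, hx6, hw6, h5]; simp
  have e : w = x * (x⁻¹ * w) := by group
  rw [e]
  exact mul_mem hx (hZ h)

theorem mem_of_coord3 {Y : Subgroup (Sy φ)} (hZ : Z2 φ ≤ Y) {x w : Sy φ} (hx : x ∈ Y) (hx3 : x ∈ Z3 φ)
    (hw3 : w ∈ Z3 φ) (h3 : w.x3 = x.x3) : w ∈ Y := by
  have h : x⁻¹ * w ∈ Z2 φ := by
    obtain ⟨a1, a2, a3⟩ := hx3
    obtain ⟨b1, b2, b3⟩ := hw3
    refine ⟨?_, ?_, ?_, ?_⟩
    · rw [mul_x1, inv_x1, a1, b1]; ring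
    · rw [mul_x6, inv_x6, a2, b2]; ring
    · rw [mul_x5, inv_x5, a2, b2, a3, b3]; simp
    · rw [mul_x3, inv_x3, inv_x1, a1, a2, a3, b2, b3, h3]; simp [cr]
  have e : w = x * (x⁻¹ * w) := by group
  rw [e]
  exact mul_mem hx (hZ h)

/-- `E` not in a line: `Z2 ≤ Φ(E)` -/
theorem Z2_le_of_not_line {E P : Subgroup (Sy φ)} (hE : E ≤ Q2 φ) (hZ : Z3 φ ≤ E) (hl : ¬ Line E)
    (hP : Com E E P) : Z2 φ ≤ P := by
  let el : F × F → Sy φ := fun w => ⟨0, 0, 0, 0, w.1, w.2⟩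
  have hel : ∀ w w', el (w + w') = el w * el w' := by
    intro w w'
    ext <;> simp [el, mul_def, cr_zero_left, sh_zero, nm_zero, tr_zero]
  let W : Submodule F (F × F) :=
    Submodule.span F {w | ∃ x ∈ E, ∃ b : K, w = (tr φ (x.x1 * b), -tr φ (b * x.x5))}
  have hW : ∀ w ∈ W, ∀ s : F, el (s • w) ∈ P := by
    intro w hw
    refine Submodule.span_induction ?_ ?_ ?_ ?_ hw
    · rintro w ⟨x, hx, b, rfl⟩ s
      have h1 := hP x hx (u3 φ (s • b)) (hZ (u3_mem _))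
      rw [← commutatorElement_def] at h1
      have hx6 : x.x6 = 0 := hE hx
      have h2 : ⁅x, u3 φ (s • b)⁆ = el (s • (tr φ (x.x1 * b), -tr φ (b * x.x5))) := by
        have hm := comm_mem_Z2 (x := x) (u3_mem (φ := φ) (s • b))
        ext
        · exact hm.1
        · exact hm.2.1
        · exact hm.2.2.1
        · exact hm.2.2.2
        · rw [comm_x2' (u3_mem _)]
          simp only [u3, el, Prod.smul_mk, smul_eq_mul]
          rw [mul_smul_comm, tr_smul]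
        · rw [comm_x4' (u3_mem _)]
          simp only [u3, el, Prod.smul_mk, smul_eq_mul]
          rw [hx6, smul_mul_assoc, tr_smul]
          ring
      rw [← h2]
      exact h1
    · intro s
      rw [smul_zero]
      exact one_mem P
    · intro x y _ _ h1 h2 s
      rw [smul_add, hel]
      exact mul_mem (h1 s) (h2 s)
    · intro t x _ h1 s
      rw [smul_smul]
      exact h1 _
  have hWt : W = ⊤ := by
    by_contra hcon
    obtain ⟨g, hg0, hg⟩ := Submodule.exists_le_ker_of_lt_top W (lt_top_iff_ne_top.2 hcon)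
    apply hl
    have hgl : ∀ r t : F, g (r, t) = r * g (1, 0) + t * g (0, 1) := by
      intro r t
      have : ((r, t) : F × F) = r • (1, 0) + t • (0, 1) := by simp
      rw [this, map_add, map_smul, map_smul]
      rfl
    refine ⟨g (1, 0), -g (0, 1), ?_, fun x hx => ?_⟩
    · by_contra h
      push Not at h
      apply hg0
      have h2 : g (0, 1) = 0 := neg_eq_zero.1 h.2
      apply LinearMap.ext
      rintro ⟨r, t⟩
      rw [hgl, h.1, h2]
      simp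
    · apply tr_nondeg φ
      intro b
      have h1 : g (tr φ (x.x1 * b), -tr φ (b * x.x5)) = 0 := hg (Submodule.subset_span ⟨x, hx, b, rfl⟩)
      rw [hgl] at h1
      rw [add_mul, tr_add, smul_mul_assoc, smul_mul_assoc, tr_smul, tr_smul, mul_comm x.x5 b]
      linear_combination h1
  intro w hw
  have h1 := hW (w.x2, w.x4) (by rw [hWt]; trivial) 1
  rw [one_smul] at h1
  have : w = el (w.x2, w.x4) := by
    ext
    exacts [hw.1, hw.2.1, hw.2.2.1, hw.2.2.2, rfl, rfl]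
  rw [this]
  exact h1

theorem relIndex_mul_card' {G : Type*} [Group G] {H L : Subgroup G} (h : H ≤ L) :
    Nat.card H * H.relIndex L = Nat.card L := by
  have := Subgroup.relIndex_mul_relIndex ⊥ H L bot_le h
  rwa [Subgroup.relIndex_bot_left, Subgroup.relIndex_bot_left] at this

/-- **(A2)** -/
theorem stA2 (hp2 : StP2.{u}) (hphi : StPhi.{u}) : StA2.{u} := by
  intro F K _ _ _ _ _ φ _ _ E Γ h hZ hE hne
  by_cases hl : Line E
  · exact Or.inl hl
  right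
  have : Module (ZMod 2) K := (ZMod.algebra K 2).toModule
  have : CharP F 2 := (algebraMap F K).charP_iff (algebraMap F K).injective 2 |>.2 inferInstance
  have : Module (ZMod 2) F := (ZMod.algebra F 2).toModule
  have hfin : Finite E := inferInstance
  have hpE : IsPGroup 2 E := h.pgr.to_le h.E_le
  obtain ⟨hPE, hPc, hPp, -, -, -⟩ := hphi E 2 Nat.prime_two hfin hpE
  have hZ2 : Z2 φ ≤ Phi E := Z2_le_of_not_line hE hZ hl hPc
  have h20 : ∀ x : K, x + x = 0 := fun x => CharTwo.add_self_eq_zero x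
  -- the two submodules
  let DD : Submodule (ZMod 2) (K × K) := AddSubgroup.toZModSubmodule 2
    { carrier := {v | ∃ x ∈ E, (x.x1, x.x5) = v}
      zero_mem' := ⟨1, one_mem _, rfl⟩
      add_mem' := by
        rintro v w ⟨x, hx, rfl⟩ ⟨y, hy, rfl⟩
        refine ⟨x * y, mul_mem hx hy, ?_⟩
        have hy6 : y.x6 = 0 := hE hy
        rw [mul_x1, mul_x5, hy6, zero_smul, add_zero]
        rfl
      neg_mem' := by
        rintro v ⟨x, hx, rfl⟩
        refine ⟨x⁻¹, inv_mem hx, ?_⟩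
        have hx6 : x.x6 = 0 := hE hx
        rw [inv_x1, inv_x5, hx6, zero_smul, add_zero]
        rfl }
  have hDD : ∀ v, v ∈ DD ↔ ∃ x ∈ E, (x.x1, x.x5) = v := fun v => Iff.rfl
  let BB : Submodule (ZMod 2) K := AddSubgroup.toZModSubmodule 2
    { carrier := {b | ∃ x ∈ Z3 φ ⊓ Phi E, x.x3 = b}
      zero_mem' := ⟨1, one_mem _, rfl⟩
      add_mem' := by
        rintro v w ⟨x, hx, rfl⟩ ⟨y, hy, rfl⟩
        refine ⟨x * y, mul_mem hx hy, ?_⟩
        rw [mul_x3, hx.1.1, hy.1.2.1]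
        simp [cr_zero_left]
      neg_mem' := by
        rintro v ⟨x, hx, rfl⟩
        refine ⟨x⁻¹, inv_mem hx, ?_⟩
        rw [inv_x3, hx.1.1, hx.1.2.1]
        simp [cr_zero_left] }
  have hBB : ∀ b, b ∈ BB ↔ ∃ x ∈ Z3 φ ⊓ Phi E, x.x3 = b := fun b => Iff.rfl
  have hEiff : ∀ x : Sy φ, x ∈ E ↔ x.x6 = 0 ∧ (x.x1, x.x5) ∈ DD := by
    intro x
    constructor
    · intro hx
      exact ⟨hE hx, x, hx, rfl⟩
    · rintro ⟨h6, y, hy, he⟩
      rw [Prod.mk.injEq] at he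
      exact mem_of_coord hZ hy (hE hy) h6 he.1.symm he.2.symm
  -- orders
  have cE : Nat.card E = Nat.card DD * (Nat.card K * Nat.card F ^ 2) := by
    rw [Nat.card_congr (β := DD × (K × F × F)) ⟨fun x => (⟨(x.1.x1, x.1.x5), ((hEiff x.1).1 x.2).2⟩, (x.1.x3, x.1.x2, x.1.x4)),
      fun w => ⟨⟨w.1.1.1, 0, w.1.1.2, w.2.1, w.2.2.1, w.2.2.2⟩, (hEiff _).2 ⟨rfl, w.1.2⟩⟩, fun x => ?_, fun w => rfl⟩]
    · simp only [Nat.card_prod]
      ring
    · apply Subtype.ext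
      ext
      exacts [rfl, (((hEiff x.1).1 x.2).1).symm, rfl, rfl, rfl, rfl]
  have hY2 : Z2 φ ≤ Z3 φ ⊓ Phi E := le_inf Z2_le_Z3 hZ2
  have cY : Nat.card (Z3 φ ⊓ Phi E : Subgroup (Sy φ)) = Nat.card BB * Nat.card F ^ 2 := by
    rw [Nat.card_congr (β := BB × (F × F)) ⟨fun x => (⟨x.1.x3, x.1, x.2, rfl⟩, (x.1.x2, x.1.x4)),
      fun w => ⟨⟨0, 0, 0, w.1.1, w.2.1, w.2.2⟩, by
        obtain ⟨⟨b, x, hx, hb⟩, r, t⟩ := w
        exact mem_of_coord3 hY2 hx hx.1 ⟨rfl, rfl, rfl⟩ hb.symm⟩, fun x => ?_, fun w => rfl⟩]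
    · simp only [Nat.card_prod]
      ring
    · obtain ⟨x, hx⟩ := x
      apply Subtype.ext
      ext
      exacts [hx.1.1.symm, hx.1.2.1.symm, hx.1.2.2.symm, rfl, rfl, rfl]
  have r1 := relIndex_mul_card' hE
  have r2 := relIndex_mul_card' (inf_le_left : Z3 φ ⊓ Phi E ≤ Z3 φ)
  rw [cE, card_Q2] at r1
  rw [cY, card_Z3] at r2
  have hcom : Com (Q2 φ) E (Z3 φ) := by
    intro a ha m hm
    rw [← commutatorElement_def]
    exact comm_Q2_mem ha (hE hm)
  have hnorm : Q2 φ ≤ normalizerIn ⊤ E := by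
    intro x hx
    refine Subgroup.mem_inf.2 ⟨trivial, ?_⟩
    have key : ∀ x ∈ Q2 φ, ∀ y ∈ E, x * y * x⁻¹ ∈ E := by
      intro x hx y hy
      have := mul_mem (hZ (hcom x hx y hy)) hy
      simpa only [_root_.inv_mul_cancel_right] using this
    rw [Subgroup.mem_normalizer_iff]
    intro y
    refine ⟨fun hy => key x hx y hy, fun hy => ?_⟩
    have := key x⁻¹ (inv_mem hx) _ hy
    simpa only [mul_assoc, _root_.inv_mul_cancel_left, _root_.inv_inv, _root_.inv_mul_cancel, _root_.mul_one] using this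
  have hQE : ¬ Q2 φ ≤ E := fun hq => hne (le_antisymm hE hq)
  have hineq := hp2 h (Q2 φ) (Q2 φ) (Z3 φ) (Z3 φ) (Z3 φ ⊓ Phi E) (Z3 φ ⊓ Phi E) hnorm hnorm hQE hZ hZ hcom hcom
    inf_le_right inf_le_right
  set r := E.relIndex (Q2 φ) with hr
  set t := (Z3 φ ⊓ Phi E).relIndex (Z3 φ) with ht
  have hrt : r ≤ t := by
    by_contra hcon
    have : t * t < r ^ 2 := by nlinarith only [hcon]
    omega
  have hK0 : 0 < Nat.card K := Nat.card_pos
  have hF0 : 0 < Nat.card F := Nat.card_pos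
  have e1 : Nat.card DD * r = Nat.card K ^ 2 := by
    have : (Nat.card K * Nat.card F ^ 2) * (Nat.card DD * r) = (Nat.card K * Nat.card F ^ 2) * Nat.card K ^ 2 := by
      linear_combination r1
    exact Nat.eq_of_mul_eq_mul_left (by (clear * - hK0 hF0; positivity)) this
  have e2 : Nat.card BB * t = Nat.card K := by
    have : Nat.card F ^ 2 * (Nat.card BB * t) = Nat.card F ^ 2 * Nat.card K := by
      linear_combination r2
    exact Nat.eq_of_mul_eq_mul_left (by (clear * - hF0; positivity)) this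
  have e3 : Nat.card K * Nat.card BB ≤ Nat.card DD := by
    have h1 : Nat.card K * (Nat.card K * Nat.card BB) ≤ Nat.card K * Nat.card DD := by
      calc Nat.card K * (Nat.card K * Nat.card BB) = Nat.card DD * r * Nat.card BB := by rw [e1]; ring
        _ ≤ Nat.card DD * t * Nat.card BB := Nat.mul_le_mul_right _ (Nat.mul_le_mul_left _ hrt)
        _ = Nat.card DD * (Nat.card BB * t) := by ring
        _ = Nat.card K * Nat.card DD := by rw [e2]; ring
    exact Nat.le_of_mul_le_mul_left h1 hK0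
  have hcard : Module.finrank (ZMod 2) K + Module.finrank (ZMod 2) BB ≤ Module.finrank (ZMod 2) DD := by
    rw [card_eq_pow (V := K), card_eq_pow (V := BB), card_eq_pow (V := DD), ← pow_add] at e3
    exact (Nat.pow_le_pow_iff_right (by norm_num)).1 e3
  have hDt : DD ≠ ⊤ := by
    intro h0
    apply hne
    refine le_antisymm hE fun x hx => (hEiff x).2 ⟨hx, ?_⟩
    rw [h0]
    trivial
  have hB : ∀ v ∈ DD, ∀ w ∈ DD, cr φ v.1 w.2 + cr φ w.1 v.2 ∈ BB := by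
    rintro v ⟨x, hx, rfl⟩ w ⟨y, hy, rfl⟩
    refine ⟨⁅x, y⁆, ⟨comm_Q2_mem (hE hx) (hE hy), hPc x hx y hy⟩, ?_⟩
    rw [comm_Q2_x3 (hE hx) (hE hy)]
    exact CharTwo.sub_eq_add _ _
  have hS : ∀ v ∈ DD, cr φ v.1 v.2 ∈ BB := by
    rintro v ⟨x, hx, rfl⟩
    have hx6 : x.x6 = 0 := hE hx
    have h1 := hPp x hx
    rw [sq] at h1
    refine ⟨x * x, ⟨⟨?_, ?_, ?_⟩, h1⟩, ?_⟩
    · rw [mul_x1, h20]
    · rw [mul_x6, hx6, add_zero]
    · rw [mul_x5, hx6, zero_smul, add_zero, h20]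
    · rw [mul_x3, hx6, zero_smul, add_zero, h20, zero_add]
  have hind : ∃ v ∈ DD, v.1 ≠ 0 ∧ ∀ s : F, v.2 ≠ s • v.1 := by
    by_contra hcon
    push Not at hcon
    obtain ⟨a, ha, hle⟩ := pure_case (F := F) DD (fun v hv => by
      by_cases h0 : v.1 = 0
      · exact Or.inl h0
      · exact Or.inr (hcon v hv h0)) (fun l m hlm => by
      by_contra hcon2
      push Not at hcon2
      exact hl ⟨l, m, hlm, fun x hx => hcon2 _ ⟨x, hx, rfl⟩⟩)
    have h1 := Submodule.finrank_mono hle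
    rw [finrank_Rad ha] at h1
    have h2 := finrank_K φ
    have h3 : 1 ≤ Module.finrank (ZMod 2) F := Module.finrank_pos
    omega
  obtain ⟨s, hs0, hs⟩ := lin_main DD BB hB hS hcard hDt hind
  refine ⟨s, hs0, ?_⟩
  ext x
  rw [hEiff, mem_Cs, hs]

end grp

end Cfsg.Agent.H744.TE
end
end

-- part: H802/TE/Pre
section
prune_inst 0x3604110000000004001040000081000005820000800020a10706020000200d000000088004014808090000040020021000004000000000200000000001000000100000000080000000000000000000000000000000000000000000010000200000000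
set_option linter.all false
open scoped Cfsg.Agent.FastGrp

-- part: H802/TE/Asm
section
/-!
# S5261, part E: assembly
-/

set_option autoImplicit false

namespace Cfsg.Agent.H802.TE

open Cfsg Cfsg.FusionSystem Cfsg.Agent.H756.PU
open Cfsg.Agent.H765.D3 Cfsg.Agent.H765.D3.Sy
open Cfsg.Agent.Hex.Defs (sh cr nm tr)

universe u

/-- the pieces of part E -/
structure Pieces : Prop where
  e1 : StE1.{u}
  e2o : StE2o.{u}
  e2a : StE2a.{u}
  e2b : StE2b.{u}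
  e2c : StE2c.{u}
  c2 : StC2.{u}
  line : StLine.{u}
  ao : StAo.{u}
  a2 : StA2.{u}
  bo : StBo.{u}
  b2 : StB2.{u}
  m0o : StM0o.{u}
  m02 : StM02.{u}
  m1o : StM1o.{u}
  m12 : StM12.{u}
  m3o : StM3o.{u}
  m3c : StM3c.{u}
  m3d : StM3d.{u}
  m4a : StM4a.{u}
  m4b : StM4b.{u}
  m4c : StM4c.{u}

theorem stE_of (P : Pieces.{u}) : StE.{u} := by
  intro F K _ _ _ _ _ φ _ p _ E Γ h
  by_cases h1 : E ≤ Q1 φ
  · exact Or.inl (P.e1 h h1)
  by_cases h2 : E ≤ Q2 φ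
  · by_cases h3 : E = Q2 φ
    · exact Or.inr h3
    exfalso
    have hl := P.line h h2
    by_cases hp : p = 2
    · subst hp
      rcases P.a2 h (P.b2 h h2 hl) h2 h3 with h4 | ⟨s, hs, h4⟩
      · exact hl h4
      · subst h4
        exact P.c2 hs h
    · exact hl (P.ao h hp (P.bo h hp h2 hl) h2 h3)
  exfalso
  have hm : Mixed E := ⟨h1, h2⟩
  have hz4 : Z4 φ ≤ E := by
    by_cases hp : p = 2
    · subst hp
      have hz3 := P.m12 h hm (P.m02 h hm)
      by_contra hz4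
      obtain ⟨a, ha, h5, h6⟩ := P.m3c h hm hz3 hz4
      exact hz4 (P.m3d h hm hz3 a ha h5 h6)
    · exact P.m3o h hp hm (P.m1o h hp hm (P.m0o h hp hm))
  have hq : Q1 φ ≤ E := by
    by_cases h5 : ∀ s : K, (∀ x ∈ E, tr φ (s * x.x1) = 0) → s = 0
    · exact (P.m4a h hm hz4 h5).elim
    · push Not at h5
      obtain ⟨s, hs, hs0⟩ := h5
      by_cases h6 : ∃ a : K, ∀ x ∈ E, ∃ t : F, x.x1 = t • a
      · exact P.m4c h hm hz4 h6
      · exact P.m4b h hm hz4 ⟨s, hs0, hs⟩ h6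
  by_cases hp : p = 2
  · subst hp
    have hne : E ≠ Q1 φ := fun e => h1 e.le
    rcases P.e2a h hq hne with ⟨s, hs, h7⟩ | ⟨a, ha, h7⟩
    · exact P.e2b h s hs h7
    · exact P.e2c h a ha h7
  · exact h1 (P.e2o h hp hq).le

end Cfsg.Agent.H802.TE
end

-- part: H135/TE/Base
section
/-!
# S5261, part E: tools (helper135)

* `card_fib` : the order of a subgroup as the product of the order of its image in an abelian group and the kernel;
* `iso_bound` : isotropic subspaces;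
* `relIndex_mul_card`.
-/

set_option autoImplicit false

namespace Cfsg.Agent.H135.TE

/-- image and kernel of an additive coordinate -/
theorem card_fib {G A : Type*} [Group G] [AddCommGroup A] (E N : Subgroup G) (hNE : N ≤ E) (f : G → A)
    (hf : ∀ x ∈ E, ∀ y ∈ E, f (x * y) = f x + f y) (hN : ∀ x ∈ E, f x = 0 ↔ x ∈ N) :
    ∃ D : AddSubgroup A, (∀ a, a ∈ D ↔ ∃ x ∈ E, f x = a) ∧ Nat.card E = Nat.card D * Nat.card N := by
  let g : ↥E →* Multiplicative A := MonoidHom.mk' (fun x => Multiplicative.ofAdd (f x)) fun x y => by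
    rw [Subgroup.coe_mul, hf x x.2 y y.2]
    rfl
  have hker : g.ker = N.subgroupOf E := by
    ext x
    rw [MonoidHom.mem_ker, Subgroup.mem_subgroupOf, ← hN x x.2]
    exact Iff.rfl
  refine ⟨Subgroup.toAddSubgroup' g.range, ?_, ?_⟩
  · intro a
    constructor
    · rintro ⟨x, hx⟩
      exact ⟨x, x.2, hx⟩
    · rintro ⟨x, hx, rfl⟩
      exact ⟨⟨x, hx⟩, rfl⟩
  · have h1 := Subgroup.card_mul_index g.ker
    rw [Subgroup.index_ker, hker, Nat.card_congr (Subgroup.subgroupOfEquivOfLe hNE).toEquiv] at h1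
    rw [← h1, mul_comm]
    rfl

theorem relIndex_mul_card {G : Type*} [Group G] {H K : Subgroup G} (h : H ≤ K) :
    H.relIndex K * Nat.card H = Nat.card K := by
  have h1 := Subgroup.card_mul_index (H.subgroupOf K)
  rw [Nat.card_congr (Subgroup.subgroupOfEquivOfLe h).toEquiv] at h1
  rw [mul_comm]
  exact h1

/-- isotropic subspaces: `|D|² ≤ |V| |D ∩ rad f|` -/
theorem iso_bound {p : ℕ} [Fact p.Prime] {V : Type*} [AddCommGroup V] [Module (ZMod p) V] [Finite V]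
    (f : V →ₗ[ZMod p] V →ₗ[ZMod p] ZMod p) (D R : Submodule (ZMod p) V) (hD : ∀ x ∈ D, ∀ y ∈ D, f x y = 0)
    (hR : ∀ x ∈ D, (∀ y, f x y = 0) → x ∈ R) : Nat.card D ^ 2 ≤ Nat.card V * Nat.card R := by
  have hfin : Module.Finite (ZMod p) V := Module.Finite.of_finite
  let g : D →ₗ[ZMod p] Module.Dual (ZMod p) (V ⧸ D) :=
    { toFun := fun x => D.liftQ (f x) fun y hy => hD x x.2 y hy
      map_add' := fun x y => by
        apply LinearMap.ext
        intro z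
        obtain ⟨z, rfl⟩ := Submodule.mkQ_surjective D z
        show f ((x : V) + y) z = f x z + f y z
        rw [map_add, LinearMap.add_apply]
      map_smul' := fun a x => by
        apply LinearMap.ext
        intro z
        obtain ⟨z, rfl⟩ := Submodule.mkQ_surjective D z
        show f (a • (x : V)) z = a • f x z
        rw [map_smul, LinearMap.smul_apply] }
  have hg : ∀ (x : D) (z : V), g x (Submodule.mkQ D z) = f x z := fun x z => rfl
  let i : g.ker →ₗ[ZMod p] R :=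
    { toFun := fun x => ⟨x.1, hR _ x.1.2 fun y => by
        have h1 : g x.1 = 0 := x.2
        rw [← hg, h1]
        rfl⟩
      map_add' := fun _ _ => rfl
      map_smul' := fun _ _ => rfl }
  have hi : Function.Injective i := by
    intro x y h
    apply Subtype.ext
    apply Subtype.ext
    exact congrArg (Subtype.val : R → V) h
  have h1 : Module.finrank (ZMod p) g.ker ≤ Module.finrank (ZMod p) R := LinearMap.finrank_le_finrank_of_injective hi
  have h2 : Module.finrank (ZMod p) g.range ≤ Module.finrank (ZMod p) (V ⧸ D) := by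
    rw [← Subspace.dual_finrank_eq (K := ZMod p) (V := V ⧸ D)]
    exact Submodule.finrank_le _
  have h3 := LinearMap.finrank_range_add_finrank_ker g
  have h4 := Submodule.finrank_quotient_add_finrank D
  rw [Module.natCard_eq_pow_finrank (K := ZMod p) (V := D), Module.natCard_eq_pow_finrank (K := ZMod p) (V := V),
    Module.natCard_eq_pow_finrank (K := ZMod p) (V := R), ← pow_mul, ← pow_add]
  apply Nat.pow_le_pow_right
  · rw [Nat.card_zmod]
    exact (Fact.out : p.Prime).pos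
  · omega

end Cfsg.Agent.H135.TE
end

-- part: H135/TE/Ao
section
/-!
# S5261, part E: `Z3 ≤ E < Q2`, `p` odd: `E` is of line type (helper135)
-/

set_option autoImplicit false
set_option linter.unusedSectionVars false

namespace Cfsg.Agent.H135.TE

open Cfsg Cfsg.FusionSystem Cfsg.Agent.H756.PU
open Cfsg.Agent.H765.D3 Cfsg.Agent.H765.D3.Sy
open Cfsg.Agent.Hex.Defs (sh cr nm tr)
open Cfsg.Agent.H802.TE Cfsg.Agent.H511.TE
open scoped commutatorElement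

universe u

section Model

variable {F K : Type u} [Field F] [Field K] [Algebra F K] {φ : K ≃ₐ[F] K} [Cub φ]

theorem comm_Q2_mem {x y : Sy φ} (hx : x ∈ Q2 φ) (hy : y ∈ Q2 φ) : ⁅x, y⁆ ∈ Z3 φ :=
  ⟨comm_x1 x y, comm_x6 x y, by
    rw [mem_Q2] at hx hy
    rw [comm_x5, hx, hy, zero_smul, zero_smul, sub_zero]⟩

theorem comm_Q2_x3 {x y : Sy φ} (hx : x ∈ Q2 φ) (hy : y ∈ Q2 φ) :
    (⁅x, y⁆).x3 = cr φ x.x1 y.x5 - cr φ y.x1 x.x5 := by
  have h3 := comm_Q2_mem hx hy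
  rw [mem_Q2] at hx hy
  have h := congrArg Sy.x3 (comm_mul x y)
  rw [mul_x3, mul_x3, mul_x3, h3.1, mul_x6, hx, hy] at h
  simp only [cr_zero_left, sh_zero, smul_zero, zero_smul, add_zero] at h
  linear_combination -h

/-- a subgroup `P` containing the commutators of `E` (not of line type, `Z3 ≤ E ≤ Q2`) contains `Z2` -/
theorem Z2_le_of_not_line {E P : Subgroup (Sy φ)} (hP : ∀ x ∈ E, ∀ y ∈ E, ⁅x, y⁆ ∈ P) (h3 : Z3 φ ≤ E)
    (hE : E ≤ Q2 φ) (hl : ¬ Line E) : Z2 φ ≤ P := by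
  let T (v : F × F) : Sy φ := ⟨0, 0, 0, 0, v.1, v.2⟩
  have hT : ∀ v w, T (v + w) = T v * T w := fun v w => by
    ext
    · rw [mul_x1]; simp [T]
    · rw [mul_x6]; simp [T]
    · rw [mul_x5]; simp [T]
    · rw [mul_x3]; simp [T, cr]
    · rw [mul_x2]; simp [T, tr_zero]
    · rw [mul_x4]; simp [T, tr_zero]
  let W : Submodule F (F × F) :=
    { carrier := {v | ∀ s : F, T (s • v) ∈ P}
      add_mem' := fun {v w} hv hw s => by
        rw [smul_add, hT]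
        exact mul_mem (hv s) (hw s)
      zero_mem' := fun s => by
        rw [smul_zero]
        have : T 0 = 1 := rfl
        rw [this]
        exact one_mem _
      smul_mem' := fun c v hv s => by
        rw [smul_smul]
        exact hv _ }
  have hW : ∀ x ∈ E, ∀ b : K, (tr φ (x.x1 * b), -tr φ (b * x.x5)) ∈ W := fun x hx b s => by
    have h1 := hP x hx (u3 φ (s • b)) (h3 (u3_mem _))
    have h6 : x.x6 = 0 := hE hx
    have h2 : ⁅x, u3 φ (s • b)⁆ = T (s • (tr φ (x.x1 * b), -tr φ (b * x.x5))) := by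
      have h4 := comm_mem_Z2 (x := x) (u3_mem (φ := φ) (s • b))
      ext
      · exact h4.1
      · exact h4.2.1
      · exact h4.2.2.1
      · exact h4.2.2.2
      · rw [comm_x2' (u3_mem _)]
        show tr φ (x.x1 * (s • b)) = s * tr φ (x.x1 * b)
        rw [mul_smul_comm, tr_smul]
      · rw [comm_x4' (u3_mem _), h6, zero_mul, zero_mul, zero_sub, add_zero]
        show -tr φ ((s • b) * x.x5) = s * -tr φ (b * x.x5)
        rw [smul_mul_assoc, tr_smul, mul_neg]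
    rw [← h2]
    exact h1
  have htop : W = ⊤ := by
    by_contra hne
    obtain ⟨f, hf, hf2⟩ := Submodule.exists_le_ker_of_lt_top W (lt_top_iff_ne_top.2 hne)
    have hfv : ∀ a b : F, f (a, b) = f (1, 0) * a + f (0, 1) * b := fun a b => by
      have e : ((a, b) : F × F) = a • ((1, 0) : F × F) + b • ((0, 1) : F × F) := by
        ext <;> simp
      rw [e, map_add, map_smul, map_smul, smul_eq_mul, smul_eq_mul]
      ring
    apply hl
    refine ⟨f (1, 0), -f (0, 1), ?_, fun x hx => ?_⟩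
    · by_contra hcon
      push Not at hcon
      apply hf
      apply LinearMap.ext
      rintro ⟨a, b⟩
      rw [hfv, hcon.1, neg_eq_zero.1 hcon.2, zero_mul, zero_mul, add_zero]
      rfl
    · apply tr_nondeg φ
      intro b
      have h1 : f (tr φ (x.x1 * b), -tr φ (b * x.x5)) = 0 := hf2 (hW x hx b)
      rw [hfv] at h1
      rw [add_mul, tr_add, smul_mul_assoc, smul_mul_assoc, tr_smul, tr_smul, mul_comm x.x5 b]
      linear_combination h1
  intro x hx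
  have h1 : ((x.x2, x.x4) : F × F) ∈ W := by rw [htop]; exact Submodule.mem_top
  have h2 := h1 1
  rw [one_smul] at h2
  have h3 : x = T (x.x2, x.x4) := by
    ext
    exacts [hx.1, hx.2.1, hx.2.2.1, hx.2.2.2, rfl, rfl]
  rw [h3]
  exact h2

/-- a pairing `(a, c), (a', c') ↦ λ (a × c' - a' × c)` with `λ ≠ 0` on `K × K` is nondegenerate, `p` odd -/
theorem iso_cr {p : ℕ} [Fact p.Prime] [CharP K p] [Finite K] (h2 : (2 : K) ≠ 0) (B : AddSubgroup K) (hB : B ≠ ⊤)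
    (D : AddSubgroup (K × K)) (h : ∀ v ∈ D, ∀ w ∈ D, cr φ v.1 w.2 - cr φ w.1 v.2 ∈ B) :
    Nat.card D ≤ Nat.card K := by
  let _ : Algebra (ZMod p) K := ZMod.algebra K p
  let B' : Submodule (ZMod p) K := AddSubgroup.toZModSubmodule p B
  have hB' : B' < ⊤ := by
    rw [lt_top_iff_ne_top]
    intro e
    apply hB
    rw [eq_top_iff]
    intro x _
    have : x ∈ B' := by rw [e]; exact Submodule.mem_top
    exact this
  obtain ⟨f, hf, hf2⟩ := Submodule.exists_le_ker_of_lt_top B' hB'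
  have cl : ∀ (c : ZMod p) (a b : K), cr φ (c • a) b = c • cr φ a b := fun c a b =>
    ZMod.map_smul (AddMonoidHom.mk' (fun a : K => cr φ a b) fun a a' => cr_add_left φ a a' b) c a
  have crr : ∀ (c : ZMod p) (a b : K), cr φ a (c • b) = c • cr φ a b := fun c a b =>
    ZMod.map_smul (AddMonoidHom.mk' (fun b : K => cr φ a b) fun b b' => cr_add_right φ a b b') c b
  let g : (K × K) →ₗ[ZMod p] (K × K) →ₗ[ZMod p] ZMod p :=
    LinearMap.mk₂ (ZMod p) (fun v w => f (cr φ v.1 w.2 - cr φ w.1 v.2))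
      (fun v v' w => by
        rw [← map_add]
        congr 1
        rw [Prod.fst_add, Prod.snd_add, cr_add_left, cr_add_right]
        ring)
      (fun c v w => by
        rw [← map_smul]
        congr 1
        rw [Prod.smul_fst, Prod.smul_snd, cl, crr, smul_sub])
      (fun v w w' => by
        rw [← map_add]
        congr 1
        rw [Prod.fst_add, Prod.snd_add, cr_add_left, cr_add_right]
        ring)
      (fun c v w => by
        rw [← map_smul]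
        congr 1
        rw [Prod.smul_fst, Prod.smul_snd, cl, crr, smul_sub])
  have hg : ∀ v w, g v w = f (cr φ v.1 w.2 - cr φ w.1 v.2) := fun _ _ => rfl
  have h1 := iso_bound g (AddSubgroup.toZModSubmodule p D) ⊥ (fun v hv w hw => by
    rw [hg]
    exact hf2 (h v hv w hw)) (fun v _ hv => by
    rw [Submodule.mem_bot]
    have ha : v.1 = 0 := by
      by_contra ha
      apply hf
      apply LinearMap.ext
      intro z
      obtain ⟨b, hb⟩ := exists_cr_eq φ h2 ha z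
      have h3 := hv (0, b)
      rw [hg] at h3
      simp only [cr_zero_left, sub_zero] at h3
      rw [hb] at h3
      exact h3
    have hc : v.2 = 0 := by
      by_contra hc
      apply hf
      apply LinearMap.ext
      intro z
      obtain ⟨b, hb⟩ := exists_cr_eq φ h2 hc (-z)
      have h3 := hv (b, 0)
      rw [hg] at h3
      simp only [cr_zero_right, zero_sub] at h3
      rw [cr_comm, hb, neg_neg] at h3
      exact h3
    exact Prod.ext ha hc)
  rw [Nat.card_prod] at h1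
  have h4 : Nat.card (⊥ : Submodule (ZMod p) (K × K)) = 1 := Nat.card_unique
  rw [h4, mul_one, ← sq] at h1
  exact (Nat.pow_le_pow_iff_left two_ne_zero).1 h1

theorem line_of_graph [Finite K] (h2 : (2 : K) ≠ 0) (D : AddSubgroup (K × K)) (hc : Nat.card K ≤ Nat.card D)
    (h : ∀ v ∈ D, ∀ w ∈ D, cr φ v.1 w.2 = cr φ w.1 v.2) :
    ∃ l m : F, (l ≠ 0 ∨ m ≠ 0) ∧ ∀ v ∈ D, l • v.1 + m • v.2 = 0 := by
  let π : ↥D →+ K := (AddMonoidHom.fst K K).comp D.subtype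
  by_cases hπ : Function.Injective π
  · have hb : Function.Bijective π := hπ.bijective_of_nat_card_le hc
    let e := AddEquiv.ofBijective π hb
    let f : K →+ K := ((AddMonoidHom.snd K K).comp D.subtype).comp e.symm.toAddMonoidHom
    have he : ∀ a : K, ((e.symm a : D) : K × K).1 = a := fun a => e.apply_symm_apply a
    have hf : ∀ a : K, f a = ((e.symm a : D) : K × K).2 := fun a => rfl
    obtain ⟨k, hk⟩ := exists_smul_of_cr φ h2 f fun a b => by
      have h3 := h _ (e.symm a).2 _ (e.symm b).2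
      rw [he, he, ← hf, ← hf] at h3
      rw [h3, cr_comm]
    refine ⟨k, -1, Or.inr (neg_ne_zero.2 one_ne_zero), fun v hv => ?_⟩
    have h4 : v.2 = f v.1 := by
      rw [hf]
      have : e.symm v.1 = ⟨v, hv⟩ := by
        rw [AddEquiv.symm_apply_eq]
        rfl
      rw [this]
    rw [h4, hk, neg_one_smul, add_neg_cancel]
  · rw [injective_iff_map_eq_zero] at hπ
    push Not at hπ
    obtain ⟨v, hv0, hv⟩ := hπ
    have hv1 : v.1.1 = 0 := hv0
    have hv2 : v.1.2 ≠ 0 := fun e => hv (Subtype.ext (Prod.ext hv1 e))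
    refine ⟨1, 0, Or.inl one_ne_zero, fun w hw => ?_⟩
    have h3 := h _ v.2 w hw
    rw [hv1, cr_zero_left] at h3
    rw [(cr_eq_zero φ h2 h3.symm).resolve_right hv2, smul_zero, zero_smul, add_zero]

end Model

/-- (A), `p` odd -/
theorem stAo (hphi : StPhi.{u}) (hp2 : StP2.{u}) : StAo.{u} := by
  intro F K _ _ _ _ _ φ _ p _ E Γ hess hp h3 hE hne
  by_contra hl
  have hpr : p.Prime := hess.pp
  have : Fact p.Prime := ⟨hpr⟩
  have h2 : (2 : K) ≠ 0 := two_ne_of_charP hp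
  have hEp : IsPGroup p E := (hess.pgr.to_le le_top)
  obtain ⟨hPE, hcom, -⟩ := hphi E p hpr inferInstance hEp
  have hP : ∀ x ∈ E, ∀ y ∈ E, ⁅x, y⁆ ∈ Phi E := fun x hx y hy => (hcom x hx y hy :)
  have hZ2 : Z2 φ ≤ Phi E := Z2_le_of_not_line hP h3 hE hl
  set! Y : Subgroup (Sy φ) := Z3 φ ⊓ Phi E with hY
  -- (P2)
  have hnot : ¬ Q2 φ ≤ E := fun e => hne (le_antisymm hE e)
  have hnorm : Q2 φ ≤ normalizerIn ⊤ E := by
    have hsub : ∀ z ∈ Q2 φ, ∀ y ∈ E, z * y * z⁻¹ ∈ E := fun z hz y hy => by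
      have e : z * y * z⁻¹ = ⁅z, y⁆ * y := by rw [commutatorElement_def]; group
      rw [e]
      exact mul_mem (h3 (comm_Q2_mem hz (hE hy))) hy
    intro x hx
    refine ⟨trivial, Subgroup.mem_normalizer_iff.2 fun y => ⟨hsub x hx y, fun hy => ?_⟩⟩
    have h4 := hsub x⁻¹ ((Q2 φ).inv_mem hx) _ hy
    have e : x⁻¹ * (x * y * x⁻¹) * x⁻¹⁻¹ = y := by group
    rwa [e] at h4
  have hC : Com (Q2 φ) E (Z3 φ) := fun x hx y hy => comm_Q2_mem hx (hE hy)
  have hb := hp2 hess (Q2 φ) (Q2 φ) (Z3 φ) (Z3 φ) Y Y hnorm hnorm hnot h3 h3 hC hC inf_le_right inf_le_right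
  rw [← sq, Nat.pow_le_pow_iff_left two_ne_zero] at hb
  -- the orders
  obtain ⟨D, hD, hDc⟩ := card_fib (A := K × K) E (Z3 φ) h3 (fun x => (x.x1, x.x5))
    (fun x hx y hy => by
      have h6 : y.x6 = 0 := hE hy
      rw [mul_x1, mul_x5, h6, zero_smul, add_zero]
      rfl)
    (fun x hx => by
      have h6 : x.x6 = 0 := hE hx
      rw [mem_Z3, Prod.mk_eq_zero]
      exact ⟨fun h => ⟨h.1, h6, h.2⟩, fun h => ⟨h.1, h.2.2⟩⟩)
  have hZY : Z2 φ ≤ Y := le_inf Z2_le_Z3 hZ2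
  obtain ⟨B, hB, hBc⟩ := card_fib (A := K) Y (Z2 φ) hZY (fun x => x.x3)
    (fun x hx y hy => by
      have h1 : x.x1 = 0 := hx.1.1
      have h6 : y.x6 = 0 := hy.1.2.1
      rw [mul_x3, h1, h6, cr_zero_left, zero_smul, add_zero, add_zero])
    (fun x hx => by
      rw [mem_Z2]
      exact ⟨fun h => ⟨hx.1.1, hx.1.2.1, hx.1.2.2, h⟩, fun h => h.2.2.2⟩)
  have hr := relIndex_mul_card hE
  have hs := relIndex_mul_card (show Y ≤ Z3 φ from inf_le_left)
  rw [hDc, card_Q2, card_Z3] at hr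
  rw [hBc, card_Z2, card_Z3] at hs
  have hq : 0 < Nat.card F := Nat.card_pos
  have hk : 0 < Nat.card K := Nat.card_pos
  have hr' : E.relIndex (Q2 φ) * Nat.card D = Nat.card K ^ 2 := by
    have hpos : 0 < Nat.card K * Nat.card F ^ 2 := by (clear * - hq hk; positivity)
    apply Nat.eq_of_mul_eq_mul_right hpos
    rw [← mul_assoc] at hr
    rw [hr]
    ring
  have hs' : Y.relIndex (Z3 φ) * Nat.card B = Nat.card K := by
    have hpos : 0 < Nat.card F ^ 2 := by (clear * - hq; positivity)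
    apply Nat.eq_of_mul_eq_mul_right hpos
    rw [← mul_assoc] at hs
    exact hs
  have hDB : Nat.card K * Nat.card B ≤ Nat.card D := by
    have h4 : Nat.card K * (Nat.card K * Nat.card B) ≤ Nat.card K * Nat.card D := by
      calc Nat.card K * (Nat.card K * Nat.card B) = E.relIndex (Q2 φ) * Nat.card D * Nat.card B := by rw [hr']; ring
        _ ≤ Y.relIndex (Z3 φ) * Nat.card D * Nat.card B := by gcongr
        _ = Y.relIndex (Z3 φ) * Nat.card B * Nat.card D := by ring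
        _ = Nat.card K * Nat.card D := by rw [hs']
    exact Nat.le_of_mul_le_mul_left h4 hk
  have hcB : ∀ v ∈ D, ∀ w ∈ D, cr φ v.1 w.2 - cr φ w.1 v.2 ∈ B := by
    intro v hv w hw
    obtain ⟨x, hx, rfl⟩ := (hD v).1 hv
    obtain ⟨y, hy, rfl⟩ := (hD w).1 hw
    exact (hB _).2 ⟨⁅x, y⁆, ⟨comm_Q2_mem (hE hx) (hE hy), hP x hx y hy⟩, comm_Q2_x3 (hE hx) (hE hy)⟩
  have hBne : B ≠ ⊤ := by
    intro e
    apply hne
    have h4 : Nat.card B = Nat.card K := by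
      rw [e]
      exact AddSubgroup.card_top
    rw [h4] at hDB
    apply Subgroup.eq_of_le_of_card_ge hE
    rw [hDc, card_Q2, card_Z3]
    calc Nat.card K ^ 3 * Nat.card F ^ 2 = (Nat.card K * Nat.card K) * (Nat.card K * Nat.card F ^ 2) := by ring
      _ ≤ Nat.card D * (Nat.card K * Nat.card F ^ 2) := by gcongr
  have hDk : Nat.card D ≤ Nat.card K := iso_cr (p := p) h2 B hBne D hcB
  have hB1 : Nat.card B = 1 := by
    have h5 : Nat.card K * Nat.card B ≤ Nat.card K * 1 := by rw [mul_one]; exact hDB.trans hDk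
    have h6 := Nat.le_of_mul_le_mul_left h5 hk
    have h7 : 0 < Nat.card B := Nat.card_pos
    omega
  have hBbot : B = ⊥ := AddSubgroup.card_eq_one.1 hB1
  rw [hB1, mul_one] at hDB
  obtain ⟨l, m, hlm, hz⟩ := line_of_graph h2 D hDB fun v hv w hw => by
    have h8 := hcB v hv w hw
    rw [hBbot, AddSubgroup.mem_bot] at h8
    exact sub_eq_zero.1 h8
  exact hl ⟨l, m, hlm, fun x hx => hz _ ((hD _).2 ⟨x, hx, rfl⟩)⟩

end Cfsg.Agent.H135.TE
end

-- part: H167/TE/B2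
section
/-!
# S5261, part E, (B) for `p = 2`: an essential subgroup `E ≤ Q2` that is not in a line contains `Z3`
-/

set_option autoImplicit false
set_option linter.unusedSectionVars false

namespace Cfsg.Agent.H167.TE

open Cfsg Cfsg.FusionSystem Cfsg.Agent.H756.PU
open Cfsg.Agent.H765.D3 Cfsg.Agent.H765.D3.Sy
open Cfsg.Agent.Hex.Defs (sh cr nm tr)
open Cfsg.Agent.H802.TE
open scoped commutatorElement

universe u

section Gen

variable {F K : Type*} [Field F] [Field K] [Algebra F K] {φ : K ≃ₐ[F] K} [Cub φ]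

theorem comm_Q2_mem {x y : Sy φ} (hx : x.x6 = 0) (hy : y.x6 = 0) : ⁅x, y⁆ ∈ Z3 φ := by
  refine ⟨comm_x1 x y, comm_x6 x y, ?_⟩
  rw [comm_x5, hx, hy, zero_smul, zero_smul, sub_zero]

theorem comm_Q2_x3 {x y : Sy φ} (hx : x.x6 = 0) (hy : y.x6 = 0) :
    (⁅x, y⁆).x3 = cr φ x.x1 y.x5 - cr φ y.x1 x.x5 := by
  have h := congrArg Sy.x3 (comm_mul x y)
  rw [mul_x3, mul_x3, mul_x3, comm_x1, cr_zero_left, sh_zero, smul_zero, hx, hy, zero_smul, zero_smul] at h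
  simp only [add_zero] at h
  rw [show cr φ x.x1 y.x5 = (x.x3 + y.x3 + cr φ x.x1 y.x5) - x.x3 - y.x3 by ring, h]
  ring

theorem two_F (h2 : (2 : K) = 0) : (2 : F) = 0 := by
  apply (algebraMap F K).injective
  rw [map_ofNat, h2, map_zero]

theorem sq_Z2 (h2 : (2 : K) = 0) {y : Sy φ} (hy : y ∈ Z2 φ) : y * y = 1 := by
  obtain ⟨h1, h6, h5, h3⟩ := hy
  have hF : ∀ t : F, t + t = 0 := fun t => by rw [← two_mul, two_F (F := F) h2, zero_mul]
  ext
  · rw [mul_x1, h1, add_zero, one_x1]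
  · rw [mul_x6, h6, add_zero, one_x6]
  · rw [mul_x5, h5, h6, zero_smul, add_zero, add_zero, one_x5]
  · rw [mul_x3, h3, h1, h6, zero_smul, cr_zero_left, add_zero, add_zero, add_zero, one_x3]
  · rw [mul_x2, h1, h6, sh_zero, zero_mul, zero_mul, zero_mul, tr_zero, add_zero, add_zero, add_zero, hF, one_x2]
  · rw [mul_x4, h1, h6, h5, h3, sh_zero]
    simp only [zero_mul, mul_zero, add_zero, smul_zero, tr_zero, sub_zero, hF, one_x4, ne_eq, OfNat.ofNat_ne_zero,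
      not_false_eq_true, zero_pow]

theorem cr_of_sq {u : Sy φ} (h6 : u.x6 = 0) (h2 : (2 : K) = 0) (h : u * u = 1) : cr φ u.x1 u.x5 = 0 := by
  have h3 := congrArg Sy.x3 h
  rw [mul_x3, h6, zero_smul, add_zero, one_x3, ← two_mul, h2, zero_mul, zero_add] at h3
  exact h3

/-- the images of the elements of `Z2` under automorphisms of `E` -/
theorem im_Z2 {E : Subgroup (Sy φ)} (hE : E ≤ Q2 φ) (h2 : (2 : K) = 0) (γ : MulAut E) (y : E)
    (hy : (y : Sy φ) ∈ Z2 φ) :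
    (∀ e ∈ E, ⁅((γ y : E) : Sy φ), e⁆ = 1) ∧ cr φ ((γ y : E) : Sy φ).x1 ((γ y : E) : Sy φ).x5 = 0 := by
  constructor
  · intro e he
    have hc : ∀ e' : E, y * e' = e' * y := by
      intro e'
      apply Subtype.ext
      have h1 : ⁅(e' : Sy φ), (y : Sy φ)⁆ = 1 := by
        rw [comm_Z2 hy, mem_Q2.1 (hE e'.2), zero_mul]; rfl
      rw [commutatorElement_eq_one_iff_mul_comm] at h1
      rw [Subgroup.coe_mul, Subgroup.coe_mul]
      exact h1.symm
    rw [commutatorElement_eq_one_iff_mul_comm]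
    have h3 := congrArg γ (hc (γ.symm ⟨e, he⟩))
    rw [map_mul, map_mul, MulEquiv.apply_symm_apply] at h3
    exact congrArg Subtype.val h3
  · refine cr_of_sq (mem_Q2.1 (hE (γ y).2)) h2 ?_
    have h1 : y * y = 1 := Subtype.ext (sq_Z2 h2 hy)
    have h3 := congrArg γ h1
    rw [map_mul, map_one] at h3
    exact congrArg Subtype.val h3

theorem shape (h2 : (2 : K) = 0) {a c : K} (h : cr φ a c = 0) : ∃ (b : K) (l m : F), b ≠ 0 ∧ a = l • b ∧ c = m • b := by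
  by_cases ha : a = 0
  · by_cases hc : c = 0
    · exact ⟨1, 0, 0, one_ne_zero, by rw [ha, zero_smul], by rw [hc, zero_smul]⟩
    · exact ⟨c, 0, 1, hc, by rw [ha, zero_smul], by rw [one_smul]⟩
  · obtain ⟨s, hs⟩ := cr_eq_zero_two φ h2 ha h
    exact ⟨a, 1, s, ha, by rw [one_smul], hs⟩

/-- `[u, e] = 1` for `u = (l a, m a)` -/
theorem comm_shape (h2 : (2 : K) = 0) {u e : Sy φ} (hu : u.x6 = 0) (he : e.x6 = 0) (h : ⁅u, e⁆ = 1) {a : K} {l m : F}
    (ha : a ≠ 0) (h1 : u.x1 = l • a) (h5 : u.x5 = m • a) : ∃ κ : F, l • e.x5 - m • e.x1 = κ • a := by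
  have h3 := congrArg Sy.x3 h
  rw [comm_Q2_x3 hu he, one_x3, h1, h5, cr_smul_left, cr_smul_right, cr_comm φ e.x1 a, ← cr_smul_right,
    ← cr_smul_right, sub_eq_add_neg, ← cr_neg_right, ← cr_add_right, ← sub_eq_add_neg] at h3
  exact cr_eq_zero_two φ h2 ha h3

/-- `v ∉ F a` gives `b` with `tr (a b) = 0`, `tr (v b) = t` -/
theorem exists_b {a v : K} (ha : a ≠ 0) (hv : ∀ s : F, v ≠ s • a) (t : F) :
    ∃ b : K, tr φ (a * b) = 0 ∧ tr φ (v * b) = t := by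
  by_contra hcon
  have h0 : ∀ b : K, tr φ (a * b) = 0 → tr φ (v * b) = 0 := by
    intro b hb
    by_contra hne
    apply hcon
    refine ⟨(t * (tr φ (v * b))⁻¹) • b, ?_, ?_⟩
    · rw [mul_smul_comm, tr_smul, hb, mul_zero]
    · rw [mul_smul_comm, tr_smul, mul_assoc, inv_mul_cancel₀ hne, mul_one]
  obtain ⟨b0, hb0⟩ : ∃ b0, tr φ (a * b0) ≠ 0 := by
    by_contra hc
    push Not at hc
    exact ha (tr_nondeg φ hc)
  refine hv (tr φ (v * b0) * (tr φ (a * b0))⁻¹) (sub_eq_zero.1 (tr_nondeg φ fun b => ?_))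
  have h1 := h0 (b - (tr φ (a * b) * (tr φ (a * b0))⁻¹) • b0) (by
    rw [mul_sub, tr_sub, mul_smul_comm, tr_smul, mul_assoc, inv_mul_cancel₀ hb0, mul_one, sub_self])
  rw [mul_sub, tr_sub, mul_smul_comm, tr_smul] at h1
  rw [sub_mul, tr_sub, smul_mul_assoc, tr_smul, sub_eq_zero, sub_eq_zero.1 h1]
  ring

theorem card_pow_le [Finite F] [Finite K] (φ : K ≃ₐ[F] K) [Cub φ] : Nat.card F ^ 3 ≤ Nat.card K := by
  have hfin : FiniteDimensional F K := inferInstance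
  have h3 : orderOf φ = 3 := by
    have : Fact (Nat.Prime 3) := ⟨Nat.prime_three⟩
    refine orderOf_eq_prime ?_ ?_
    · ext t
      exact phi3 φ t
    · obtain ⟨t, ht⟩ := Cub.ne (φ := φ)
      intro h
      exact ht (by rw [h]; rfl)
  have h4 : 3 ≤ Module.finrank F K := by
    rw [← h3]
    exact (orderOf_le_card).trans ((Nat.card_eq_fintype_card (α := (K ≃ₐ[F] K))).le.trans AlgEquiv.card_le)
  rw [Module.natCard_eq_pow_finrank (K := F) (V := K)]
  exact Nat.pow_le_pow_right Nat.card_pos h4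

/-- the subgroup `A = {x ∈ Z3 | tr (a x3) = 0}` -/
def Ap (φ : K ≃ₐ[F] K) [Cub φ] (a : K) : Subgroup (Sy φ) where
  carrier := {x | x ∈ Z3 φ ∧ tr φ (a * x.x3) = 0}
  one_mem' := ⟨one_mem _, by rw [one_x3, mul_zero, tr_zero]⟩
  mul_mem' {x y} hx hy := by
    refine ⟨mul_mem hx.1 hy.1, ?_⟩
    rw [mul_x3, hx.1.1, cr_zero_left, sh_zero, smul_zero, add_zero, add_zero, mul_add, tr_add, hx.2, hy.2, add_zero]
  inv_mem' {x} hx := by
    refine ⟨_root_.InvMemClass.inv_mem hx.1, ?_⟩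
    rw [inv_x3, hx.1.1, cr_zero_left, sh_zero, smul_zero, sub_zero, add_zero, mul_neg, tr_neg, hx.2, neg_zero]

theorem com_eq (a b : Sy φ) : a * b * a⁻¹ * b⁻¹ = ⁅a, b⁆ := rfl

/-- commutator of `u` with `x1 = α a + l v`, ... with an element of `Z3` -/
theorem comm_eq_mk {u x : Sy φ} (hu : u.x6 = 0) (hx : x ∈ Z3 φ) :
    ⁅u, x⁆ = ⟨0, 0, 0, 0, tr φ (u.x1 * x.x3), -tr φ (x.x3 * u.x5)⟩ := by
  obtain ⟨h1, h6, h5, h3⟩ := comm_mem_Z2 (x := u) hx
  ext
  · exact h1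
  · exact h6
  · exact h5
  · exact h3
  · exact comm_x2' hx
  · rw [comm_x4' hx, hu]
    simp only [zero_mul, add_zero, zero_sub]

end Gen

section Main

variable {F K : Type u} [Field F] [Field K] [Finite F] [Finite K] [Algebra F K] {φ : K ≃ₐ[F] K} [Cub φ]

theorem Z2_le_of_ess {p : ℕ} {E : Subgroup (Sy φ)} {Γ : Subgroup (MulAut E)} (h : Ess ⊤ E p Γ) (hQ : E ≤ Q2 φ) :
    Z2 φ ≤ E := by
  intro x hx
  refine h.cent x trivial fun e he => ?_
  have h1 : ⁅e, x⁆ = 1 := by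
    rw [comm_Z2 hx, mem_Q2.1 (hQ he), zero_mul]; rfl
  rw [commutatorElement_eq_one_iff_mul_comm] at h1
  exact h1.symm

theorem com_Z3 {E : Subgroup (Sy φ)} (A : Subgroup (Sy φ)) (hA : A ≤ Z3 φ) : Com A E (Z2 φ) := by
  intro a ha e _
  rw [com_eq, ← commutatorElement_inv]
  exact _root_.InvMemClass.inv_mem (comm_mem_Z2 (hA ha))

/-- Case I: all `x1`, `x5` lie in `F a` -/
theorem caseI [CharP K 2] {E : Subgroup (Sy φ)} {Γ : Subgroup (MulAut E)} (hbd : StBd.{u}) (h : Ess ⊤ E 2 Γ)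
    (hQ : E ≤ Q2 φ) {a : K} (hA : Ap φ a ≤ E)
    (hall : ∀ x ∈ E, (∃ s : F, x.x1 = s • a) ∧ ∃ s : F, x.x5 = s • a) : False := by
  have h2 : (2 : K) = 0 := by exact_mod_cast CharP.cast_eq_zero K 2
  have hcr : ∀ q : K, tr φ (a * cr φ q a) = 0 := fun q => by
    rw [mul_comm, tr_cr, cr_self, h2, zero_mul, mul_zero, tr_zero]
  have hN : Q2 φ ≤ normalizerIn ⊤ E := by
    have hc : ∀ q ∈ Q2 φ, ∀ x ∈ E, ⁅q, x⁆ ∈ E := by
      intro q hq x hx
      apply hA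
      refine ⟨comm_Q2_mem hq (hQ hx), ?_⟩
      obtain ⟨⟨s, hs⟩, ⟨t, ht⟩⟩ := hall x hx
      rw [comm_Q2_x3 hq (hQ hx), hs, ht, cr_smul_left, cr_smul_right, mul_sub, tr_sub, mul_smul_comm, mul_smul_comm,
        tr_smul, tr_smul, hcr, cr_comm φ a, hcr, mul_zero, mul_zero, sub_zero]
    intro q hq
    refine ⟨trivial, Subgroup.mem_normalizer_iff.2 fun x => ⟨fun hx => ?_, fun hx => ?_⟩⟩
    · have : q * x * q⁻¹ = ⁅q, x⁆ * x := by rw [commutatorElement_def]; group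
      rw [this]
      exact mul_mem (hc q hq x hx) hx
    · have h1 : x = ⁅q⁻¹, q * x * q⁻¹⁆ * (q * x * q⁻¹) := by rw [commutatorElement_def]; group
      rw [h1]
      exact mul_mem (hc _ (_root_.InvMemClass.inv_mem hq) _ hx) hx
  have h3 := hbd h (Q2 φ) ⊥ hN bot_le
  have h4 : (⊥ : Subgroup (Sy φ)).relIndex E * E.relIndex (Q2 φ) = (⊥ : Subgroup (Sy φ)).relIndex (Q2 φ) :=
    Subgroup.relIndex_mul_relIndex _ _ _ bot_le hQ
  rw [Subgroup.relIndex_bot_left] at h3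
  rw [Subgroup.relIndex_bot_left, Subgroup.relIndex_bot_left, card_Q2] at h4
  have h5 : Nat.card E ≤ Nat.card F ^ 4 * Nat.card K := by
    have h6 : Nat.card (F × F × F × F × K) = Nat.card F ^ 4 * Nat.card K := by
      rw [Nat.card_prod, Nat.card_prod, Nat.card_prod, Nat.card_prod]; ring
    rw [← h6]
    choose f hf using fun x : E => (hall x.1 x.2).1
    choose g hg using fun x : E => (hall x.1 x.2).2
    refine Nat.card_le_card_of_injective (fun x : E => (f x, g x, x.1.x2, x.1.x4, x.1.x3)) ?_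
    intro x y hxy
    simp only [Prod.mk.injEq] at hxy
    obtain ⟨e1, e2, e3, e4, e5⟩ := hxy
    apply Subtype.ext
    ext
    · rw [hf, hf, e1]
    · rw [mem_Q2.1 (hQ x.2), mem_Q2.1 (hQ y.2)]
    · rw [hg, hg, e2]
    · exact e5
    · exact e3
    · exact e4
  have h7 := card_pow_le φ
  have hF1 : 1 < Nat.card F := Finite.one_lt_card
  set q := Nat.card F with hq
  set k := Nat.card K with hk
  set n := Nat.card E with hn
  have h8 : (k ^ 3 * q ^ 2) ^ 2 ≤ n ^ 3 := by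
    rw [← h4, mul_pow, pow_succ n 2]
    exact Nat.mul_le_mul_left _ h3
  have h9 : n ^ 3 ≤ (q ^ 4 * k) ^ 3 := Nat.pow_le_pow_left h5 3
  have h10 : q ^ 4 * k ^ 3 * k ^ 3 ≤ q ^ 4 * k ^ 3 * q ^ 8 := by
    calc q ^ 4 * k ^ 3 * k ^ 3 = (k ^ 3 * q ^ 2) ^ 2 := by ring
      _ ≤ (q ^ 4 * k) ^ 3 := h8.trans h9
      _ = q ^ 4 * k ^ 3 * q ^ 8 := by ring
  have hk0 : 0 < k := Nat.card_pos
  have h11 : k ^ 3 ≤ q ^ 8 := Nat.le_of_mul_le_mul_left h10 (by (clear * - hF1 hk0; positivity))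
  have h12 : (q ^ 3) ^ 3 ≤ q ^ 8 := (Nat.pow_le_pow_left h7 3).trans h11
  rw [← pow_mul] at h12
  have := (Nat.pow_le_pow_iff_right hF1).1 h12
  omega

theorem stB2 (hphi : StPhi.{u}) (hbd : StBd.{u}) (hhull : StHull.{u}) : StB2.{u} := by
  intro F K _ _ _ _ _ φ _ _ E Γ h hQ hL
  have h2 : (2 : K) = 0 := by exact_mod_cast CharP.cast_eq_zero K 2
  by_contra hZ
  have hZ2 := Z2_le_of_ess h hQ
  obtain ⟨γ, hγ, z, hz, w, hw, hne⟩ := hhull h (Z3 φ) (Z2 φ) le_top hZ2 (com_Z3 _ le_rfl) hZ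
  have hphi' := (hphi E 2 Nat.prime_two inferInstance (h.pgr.to_le h.E_le)).2.1
  obtain ⟨hcu, hcru⟩ := im_Z2 hQ h2 γ z hz
  have huE : ((γ z : E) : Sy φ) ∈ E := (γ z).2
  rw [com_eq] at hne
  revert hcu hcru huE hne
  generalize ((γ z : E) : Sy φ) = u
  intro hwu hcu hcru huE
  have hu6 : u.x6 = 0 := hQ huE
  obtain ⟨a, l, m, ha, h1, h5⟩ := shape (F := F) h2 hcru
  have hwu' : ⁅u, w⁆ ∉ Phi E := fun hc => hwu (by rw [← commutatorElement_inv]; exact _root_.InvMemClass.inv_mem hc)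
  have hlm : l ≠ 0 ∨ m ≠ 0 := by
    by_contra hc
    push Not at hc
    apply hwu'
    rw [comm_eq_mk hu6 hw, h1, h5, hc.1, hc.2, zero_smul, zero_mul, mul_zero, tr_zero, neg_zero]
    exact one_mem _
  -- the element `e0`
  obtain ⟨e0, he0, hk0⟩ : ∃ e ∈ E, l • e.x5 - m • e.x1 ≠ 0 := by
    by_contra hc
    push Not at hc
    refine hL ⟨-m, l, hlm.symm.imp neg_ne_zero.2 id, fun x hx => ?_⟩
    rw [neg_smul, neg_add_eq_sub]
    exact hc x hx
  obtain ⟨κ, hκ⟩ := comm_shape h2 hu6 (hQ he0) (hcu e0 he0) ha h1 h5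
  -- all images of elements of `Z2`
  have him : ∀ (γ' : MulAut E) (z' : E), (z' : Sy φ) ∈ Z2 φ →
      ∃ s t : F, ((γ' z' : E) : Sy φ).x1 = s • a ∧ ((γ' z' : E) : Sy φ).x5 = t • a := by
    intro γ' z' hz'
    obtain ⟨hcv, hcrv⟩ := im_Z2 hQ h2 γ' z' hz'
    have hvE : ((γ' z' : E) : Sy φ) ∈ E := (γ' z').2
    revert hcv hcrv hvE
    generalize ((γ' z' : E) : Sy φ) = v
    intro hcv hcrv hvE
    have hv6 : v.x6 = 0 := hQ hvE
    obtain ⟨b, l', m', hb, h1', h5'⟩ := shape (F := F) h2 hcrv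
    have h3 := congrArg Sy.x3 (hcv u huE)
    rw [comm_Q2_x3 hv6 hu6, one_x3, h1, h5, h1', h5', cr_smul_left, cr_smul_left, cr_smul_right, cr_smul_right,
      cr_comm φ a b, smul_smul, smul_smul, ← sub_smul, smul_eq_zero] at h3
    rcases h3 with h3 | h3
    · -- `(l', m')` is a multiple of `(l, m)`
      obtain ⟨c, hc1, hc2⟩ : ∃ c : F, l' = c * l ∧ m' = c * m := by
        rcases hlm with hl | hm
        · refine ⟨l' * l⁻¹, ?_, ?_⟩
          · field_simp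
          · field_simp
            linear_combination -h3
        · refine ⟨m' * m⁻¹, ?_, ?_⟩
          · field_simp
            linear_combination h3
          · field_simp
      by_cases hc0 : c = 0
      · refine ⟨0, 0, ?_, ?_⟩
        · rw [h1', hc1, hc0, zero_mul, zero_smul, zero_smul]
        · rw [h5', hc2, hc0, zero_mul, zero_smul, zero_smul]
      obtain ⟨κ', hκ'⟩ := comm_shape h2 hv6 (hQ he0) (hcv e0 he0) hb h1' h5'
      rw [hc1, hc2, mul_smul, mul_smul, ← smul_sub, hκ] at hκ'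
      have hk' : κ' ≠ 0 := by
        intro h0
        rw [h0, zero_smul] at hκ'
        rcases smul_eq_zero.1 hκ' with h4 | h4
        · exact hc0 h4
        · exact hk0 (hκ.trans h4)
      have hba : b = (κ'⁻¹ * c * κ) • a := by
        rw [mul_smul, mul_smul, hκ', smul_smul, inv_mul_cancel₀ hk', one_smul]
      exact ⟨_, _, by rw [h1', hba, smul_smul], by rw [h5', hba, smul_smul]⟩
    · obtain ⟨s, hs⟩ := cr_eq_zero_two φ h2 ha (by rw [cr_comm]; exact h3)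
      exact ⟨_, _, by rw [h1', hs, smul_smul], by rw [h5', hs, smul_smul]⟩
  -- `A ≤ E`
  have hA : Ap φ a ≤ E := by
    by_contra hA
    obtain ⟨γ', _, z', hz', x, hx, hne'⟩ := hhull h (Ap φ a) (Z2 φ) le_top hZ2 (com_Z3 _ fun _ hy => hy.1) hA
    obtain ⟨s, t, hs, ht⟩ := him γ' z' hz'
    have h6 : ((γ' z' : E) : Sy φ).x6 = 0 := hQ (γ' z').2
    apply hne'
    rw [com_eq, ← commutatorElement_inv, comm_eq_mk h6 hx.1, hs, ht, smul_mul_assoc, tr_smul, hx.2, mul_zero,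
      mul_smul_comm, tr_smul, mul_comm x.x3, hx.2, mul_zero, neg_zero]
    exact _root_.InvMemClass.inv_mem (one_mem _)
  by_cases hall : ∀ x ∈ E, (∃ s : F, x.x1 = s • a) ∧ ∃ s : F, x.x5 = s • a
  · exact caseI hbd h hQ hA hall
  -- Case II
  push Not at hall
  obtain ⟨e1, he1, hn⟩ := hall
  obtain ⟨κ1, hκ1⟩ := comm_shape h2 hu6 (hQ he1) (hcu e1 he1) ha h1 h5
  obtain ⟨v, n1, n2, hv1, hv5, hva⟩ : ∃ (v : K) (n1 n2 : F), e1.x1 = l • v + n1 • a ∧ e1.x5 = m • v + n2 • a ∧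
      ∀ s : F, v ≠ s • a := by
    by_cases hl : l = 0
    · have hm : m ≠ 0 := hlm.resolve_left (fun h => h hl)
      rw [hl, zero_smul, zero_sub] at hκ1
      have e2 : e1.x1 = (-(m⁻¹ * κ1)) • a := by
        rw [neg_smul, mul_smul, ← hκ1, smul_neg, neg_neg, smul_smul, inv_mul_cancel₀ hm, one_smul]
      refine ⟨m⁻¹ • e1.x5, -(m⁻¹ * κ1), 0, ?_, ?_, fun s hs => ?_⟩
      · rw [hl, zero_smul, zero_add, e2]
      · rw [smul_smul, mul_inv_cancel₀ hm, one_smul, zero_smul, add_zero]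
      · refine hn ⟨_, e2⟩ (m * s) ?_
        rw [mul_smul, ← hs, smul_smul, mul_inv_cancel₀ hm, one_smul]
    · have e2 : e1.x5 = m • (l⁻¹ • e1.x1) + (l⁻¹ * κ1) • a := by
        rw [mul_smul, ← hκ1, smul_sub, smul_smul l⁻¹ l, inv_mul_cancel₀ hl, one_smul, smul_comm m l⁻¹]
        abel
      refine ⟨l⁻¹ • e1.x1, 0, l⁻¹ * κ1, ?_, e2, fun s hs => ?_⟩
      · rw [smul_smul, mul_inv_cancel₀ hl, one_smul, zero_smul, add_zero]
      · have e3 : e1.x1 = (l * s) • a := by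
          rw [mul_smul, ← hs, smul_smul, mul_inv_cancel₀ hl, one_smul]
        refine hn ⟨_, e3⟩ (m * s + l⁻¹ * κ1) ?_
        rw [add_smul, mul_smul m s, ← hs]
        exact e2
  obtain ⟨b, hb1, hb2⟩ := exists_b (φ := φ) ha hva (tr φ (a * w.x3))
  have hbZ : u3 φ b ∈ Z3 φ := u3_mem (φ := φ) b
  have hbE : u3 φ b ∈ E := hA ⟨hbZ, hb1⟩
  apply hwu'
  have h7 : ⁅e1, u3 φ b⁆ ∈ Phi E := hphi' e1 he1 _ hbE
  rw [comm_eq_mk (hQ he1) hbZ] at h7
  rw [comm_eq_mk hu6 hw]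
  have e7 : Sy.x3 (u3 φ b) = b := rfl
  rw [e7, hv1, hv5, add_mul, mul_add, tr_add, tr_add, smul_mul_assoc, smul_mul_assoc, mul_smul_comm, mul_smul_comm,
    tr_smul, tr_smul, tr_smul, tr_smul, mul_comm b v, mul_comm b a, hb1, hb2, mul_zero, mul_zero, add_zero,
    add_zero] at h7
  rw [h1, h5, smul_mul_assoc, tr_smul, mul_smul_comm, tr_smul, mul_comm w.x3]
  exact h7

end Main

end Cfsg.Agent.H167.TE
end

-- part: H390/TE/MOne
section
/-!
# S5261, part E: (ZC) and (M1) (helper390)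

Mixed essential subgroups `E ≥ Z2` of `Sy φ` contain `Z3`.
-/

set_option autoImplicit false
set_option linter.unusedSectionVars false

namespace Cfsg.Agent.H390.TE

open Cfsg Cfsg.FusionSystem Cfsg.Agent.H756.PU
open Cfsg.Agent.H765.D3 Cfsg.Agent.H765.D3.Sy
open Cfsg.Agent.H802.TE
open Cfsg.Agent.Hex.Defs (sh cr nm tr)
open scoped commutatorElement

universe u

section Basic

variable {F K : Type u} [Field F] [Field K] [Algebra F K] {φ : K ≃ₐ[F] K} [Cub φ]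

theorem exists_regular {E : Subgroup (Sy φ)} (h : Mixed E) : ∃ e ∈ E, e.x1 ≠ 0 ∧ e.x6 ≠ 0 := by
  obtain ⟨h1, h2⟩ := h
  obtain ⟨a, ha, ha1⟩ := SetLike.not_le_iff_exists.1 h1
  obtain ⟨b, hb, hb6⟩ := SetLike.not_le_iff_exists.1 h2
  rw [mem_Q1] at ha1
  rw [mem_Q2] at hb6
  by_cases h3 : a.x6 = 0
  · by_cases h4 : b.x1 = 0
    · refine ⟨a * b, E.mul_mem ha hb, ?_, ?_⟩
      · rw [mul_x1, h4, add_zero]
        exact ha1
      · rw [mul_x6, h3, zero_add]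
        exact hb6
    · exact ⟨b, hb, h4, hb6⟩
  · exact ⟨a, ha, ha1, h3⟩

/-- `Com` in terms of commutators -/
theorem com_iff {A M N : Subgroup (Sy φ)} : Com A M N ↔ ∀ a ∈ A, ∀ m ∈ M, ⁅a, m⁆ ∈ N := Iff.rfl

theorem comm_inv_mem {N : Subgroup (Sy φ)} {x y : Sy φ} (h : ⁅x, y⁆ ∈ N) : ⁅y, x⁆ ∈ N := by
  rw [← commutatorElement_inv]
  exact N.inv_mem h

theorem comm_one {x y : Sy φ} (h : x * y = y * x) : ⁅x, y⁆ = 1 := commutatorElement_eq_one_iff_mul_comm.2 h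

/-- elements of `Z2` have order dividing `p` -/
theorem sq_Z2 (h2 : (2 : F) = 0) {x : Sy φ} (hx : x ∈ Z2 φ) : x * x = 1 := by
  obtain ⟨h1, h6, h5, h3⟩ := hx
  have hF : ∀ t : F, t + t = 0 := fun t => by rw [← two_mul, h2, zero_mul]
  ext
  · rw [mul_x1, h1, add_zero]; rfl
  · rw [mul_x6, h6, add_zero]; rfl
  · rw [mul_x5, h5, h1, smul_zero, add_zero, add_zero]; rfl
  · rw [mul_x3, h3, h1, h5, cr_zero_left, sh_zero, smul_zero]; simp
  · rw [mul_x2, h1, h3, h5, h6]; simp [tr_zero, hF]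
  · rw [mul_x4, h1, h3, h5, h6]; simp [tr_zero, hF]

theorem mul_Z3 {x y : Sy φ} (hx : x ∈ Z3 φ) (hy : y ∈ Z3 φ) :
    x * y = ⟨0, 0, 0, x.x3 + y.x3, x.x2 + y.x2, x.x4 + y.x4⟩ := by
  obtain ⟨h1, h6, h5⟩ := hx
  obtain ⟨k1, k6, k5⟩ := hy
  ext
  · rw [mul_x1, h1, k1, add_zero]
  · rw [mul_x6, h6, k6, add_zero]
  · rw [mul_x5, h5, k5, k6, zero_smul, add_zero, add_zero]
  · rw [mul_x3, h1, k5, k6]; simp [cr_zero_left]
  · rw [mul_x2, h1, k5, k6]; simp [tr_zero, sh_zero]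
  · rw [mul_x4, h1, k5, k6]; simp [tr_zero, sh_zero]

theorem pow_Z3 {x : Sy φ} (hx : x ∈ Z3 φ) (n : ℕ) : x ^ n = ⟨0, 0, 0, n • x.x3, n • x.x2, n • x.x4⟩ := by
  induction n with
  | zero =>
    rw [pow_zero, zero_smul, zero_smul, zero_smul]
    rfl
  | succ n ih =>
    rw [pow_succ, ih, mul_Z3 ⟨rfl, rfl, rfl⟩ hx, succ_nsmul, succ_nsmul, succ_nsmul]

theorem pow_p_Z3 {p : ℕ} [CharP K p] {x : Sy φ} (hx : x ∈ Z3 φ) : x ^ p = 1 := by
  have hF : CharP F p := (Algebra.charP_iff F K p).2 inferInstance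
  rw [pow_Z3 hx, nsmul_eq_mul, nsmul_eq_mul, nsmul_eq_mul, CharP.cast_eq_zero, CharP.cast_eq_zero, zero_mul, zero_mul,
    zero_mul]
  rfl

end Basic

/-! ### (ZC) -/

theorem stZC (hphi : StPhi.{u}) : StZC.{u} := by
  intro F K _ _ _ _ _ φ _ p _ E Γ hE hmix hZ2
  obtain ⟨e, he, he1, he6⟩ := exists_regular hmix
  have hfin : Finite E := Finite.of_injective _ Subtype.val_injective
  have hpg : IsPGroup p E := hE.pgr.of_injective (Subgroup.inclusion hE.E_le) (Subgroup.inclusion_injective _)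
  obtain ⟨-, hcom, -⟩ := hphi E p hE.pp hfin hpg
  refine ⟨?_, ?_⟩
  · intro w hw
    have h1 := hcom e he (u2 φ (e.x6⁻¹ * w.x4)) (hZ2 (u2_mem _))
    change ⁅e, u2 φ (e.x6⁻¹ * w.x4)⁆ ∈ Phi E at h1
    rw [comm_Z2 (u2_mem _)] at h1
    have h2 : u4 φ (e.x6 * (u2 φ (e.x6⁻¹ * w.x4)).x2) = w := by
      rw [eq_u4 hw]
      congr 1
      change e.x6 * (e.x6⁻¹ * w.x4) = _
      rw [mul_inv_cancel_left₀ he6]
    rwa [h2] at h1
  · intro z hz hcz hzp
    have hc : ∀ e ∈ E, ⁅z, e⁆ = 1 := fun e he => comm_one (hcz e he)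
    have h6 : z.x6 = 0 := x6_eq_zero' (hc _ (hZ2 (u2_mem 1)))
    have h5 := congrArg Sy.x5 (hc e he)
    rw [comm_x5, h6, zero_smul, sub_zero, one_x5] at h5
    have h1 : z.x1 = 0 := (smul_eq_zero.1 h5).resolve_left he6
    have hz4 : z ∈ Z4 φ := ⟨h1, h6⟩
    have hc' : ⁅e, z⁆ = 1 := comm_one (hcz e he).symm
    have h3 := congrArg Sy.x3 hc'
    rw [comm_x3 hz4, one_x3] at h3
    refine ⟨h1, h6, ?_⟩
    by_cases h2 : (2 : K) = 0
    · obtain ⟨s, hs⟩ := cr_eq_zero_two φ h2 he1 h3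
      have h4 := congrArg Sy.x2 hc'
      rw [comm_x2 hz4, one_x2, hs, mul_smul_comm, tr_smul, tr_sh_mul] at h4
      have hp2 : p = 2 := by
        have h2' : ((2 : ℕ) : K) = 0 := by exact_mod_cast h2
        rw [CharP.cast_eq_zero_iff K p] at h2'
        exact (Nat.prime_dvd_prime_iff_eq hE.pp Nat.prime_two).1 h2'
      have h7 : (z * z).x4 = 0 := by
        rw [← sq, ← hp2, hzp, one_x4]
      rw [mul_x4, h1, h6, hs] at h7
      have h2F : (2 : F) = 0 := by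
        apply (algebraMap F K).injective
        rw [map_ofNat, map_zero, h2]
      simp only [nm_zero, zero_mul, mul_zero, sh_zero, tr_zero, add_zero, sub_zero, smul_zero,
        mul_smul_comm, tr_smul] at h7
      have h8 : s * (s * nm φ e.x1) = 0 := by
        have h9 : tr φ (z.x3 * e.x1) = tr φ (e.x1 * z.x3) := by rw [mul_comm]
        rw [h9] at h7
        linear_combination (-1 : F) * h7 + s * h4 + (z.x4 - s * s * nm φ e.x1) * h2F
      have h9 : nm φ e.x1 ≠ 0 := fun h => he1 ((nm_eq_zero φ).1 h)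
      have h10 : s = 0 := by
        rcases mul_eq_zero.1 h8 with h | h
        · exact h
        · exact (mul_eq_zero.1 h).resolve_right h9
      rw [hs, h10, zero_smul]
    · exact (cr_eq_zero φ h2 h3).resolve_left he1

/-! ### (M1), first part -/

section

variable {Ω : Type*} [Group Ω] {E : Subgroup Ω}

theorem le_normalizerIn [Finite Ω] {A N : Subgroup Ω} (h : Com A E N) (hN : N ≤ E) : A ≤ normalizerIn ⊤ E := by
  intro a ha
  refine ⟨trivial, ?_⟩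
  have h1 : ∀ e ∈ E, a * e * a⁻¹ ∈ E := by
    intro e he
    have h2 := E.mul_mem (hN (h a ha e he)) he
    rwa [inv_mul_cancel_right] at h2
  have h3 : E.map (MulAut.conj a).toMonoidHom ≤ E := by
    rintro _ ⟨e, he, rfl⟩
    exact h1 e he
  have h4 : E.map (MulAut.conj a).toMonoidHom = E := by
    apply Subgroup.eq_of_le_of_card_ge h3
    exact (Nat.card_congr (E.equivMapOfInjective _ (MulAut.conj a).injective).toEquiv).le
  change a ∈ Subgroup.normalizer (E : Set Ω)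
  rw [Subgroup.mem_normalizer_iff]
  intro e
  refine ⟨h1 e, fun he => ?_⟩
  rw [← h4] at he
  obtain ⟨e', he', h5⟩ := he
  have h6 : e' = e := by
    have h7 : a * e' * a⁻¹ = a * e * a⁻¹ := h5
    exact mul_left_cancel (mul_right_cancel h7)
  rwa [← h6]

end

section

variable {F K : Type u} [Field F] [Field K] [Finite F] [Finite K] [Algebra F K] {φ : K ≃ₐ[F] K} [Cub φ] {p : ℕ}
  [CharP K p] {E : Subgroup (Sy φ)} {Γ : Subgroup (MulAut E)}

theorem m1_aux (hZC : StZC.{u}) (hhull : StHull.{u}) (hE : Ess ⊤ E p Γ) (hmix : Mixed E) (h2 : Z2 φ ≤ E)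
    (h3 : ¬ Z3 φ ≤ E) :
    ∃ γ ∈ Γ, ∃ x : E, (x : Sy φ) ∈ Z2 φ ∧ ((γ x : E) : Sy φ).x1 ≠ 0 ∧ ((γ x : E) : Sy φ).x6 ≠ 0 ∧
      ∀ e : E, ∃ w : E, (w : Sy φ) ∈ Z1 φ ∧ ⁅γ x, e⁆ = γ w := by
  have hcom : Com (Z3 φ) E (Z2 φ) := by
    rw [com_iff]
    intro a ha e he
    exact comm_inv_mem (comm_mem_Z2 ha)
  obtain ⟨hZ1, hzc⟩ := hZC hE hmix h2
  obtain ⟨γ, hγ, x, hx, a, ha, hax⟩ := hhull hE (Z3 φ) (Z2 φ) le_top h2 hcom h3
  have hw : ∀ e : E, ∃ w : E, (w : Sy φ) ∈ Z1 φ ∧ ⁅γ x, e⁆ = γ w := by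
    intro e
    refine ⟨⁅x, γ⁻¹ e⁆, ?_, ?_⟩
    · have h1 : ((⁅x, γ⁻¹ e⁆ : E) : Sy φ) = ⁅(x : Sy φ), ((γ⁻¹ e : E) : Sy φ)⁆ := rfl
      rw [h1]
      apply comm_inv_mem
      rw [comm_Z2 hx]
      exact u4_mem _
    · rw [map_commutatorElement]
      congr 1
      exact (MulAut.apply_inv_self _ γ e).symm
  have hy1 : ((γ x : E) : Sy φ).x1 ≠ 0 := by
    intro h1
    apply hax
    apply hZ1
    change ⁅a, ((γ x : E) : Sy φ)⁆ ∈ Z1 φ
    apply comm_inv_mem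
    have h5 := comm_mem_Z2 (x := ((γ x : E) : Sy φ)) ha
    refine ⟨h5.1, h5.2.1, h5.2.2.1, h5.2.2.2, ?_⟩
    rw [comm_x2' ha, h1, zero_mul, tr_zero]
  refine ⟨γ, hγ, x, hx, hy1, ?_, hw⟩
  intro h6
  obtain ⟨e, he, he1, he6⟩ := exists_regular hmix
  obtain ⟨w, hw1, hw2⟩ := hw ⟨e, he⟩
  have h7 : ((γ w : E) : Sy φ) ∈ Z3 φ := by
    apply hzc _ (γ w).2
    · intro e' he'
      have h8 : w * γ⁻¹ ⟨e', he'⟩ = γ⁻¹ ⟨e', he'⟩ * w := by
        apply Subtype.ext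
        change (w : Sy φ) * _ = _ * (w : Sy φ)
        exact (commutatorElement_eq_one_iff_mul_comm.1 (comm_Z1 hw1)).symm
      have h9 := congrArg γ h8
      rw [map_mul, map_mul, MulAut.apply_inv_self] at h9
      exact congrArg Subtype.val h9
    · have h8 : w ^ p = 1 := Subtype.ext (pow_p_Z3 (Z2_le_Z3 (Z1_le_Z2 hw1)))
      have h9 := congrArg γ h8
      rw [map_pow, map_one] at h9
      exact congrArg Subtype.val h9
  have h8 : ((γ w : E) : Sy φ) = ⁅((γ x : E) : Sy φ), e⁆ := congrArg Subtype.val hw2.symm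
  have h9 := h7.2.2
  rw [h8, comm_x5, h6, zero_smul, sub_zero] at h9
  exact (smul_ne_zero he6 hy1) h9

end

theorem stM12 (hZC : StZC.{u}) (hhull : StHull.{u}) : StM12.{u} := by
  intro F K _ _ _ _ _ φ _ _ E Γ hE hmix h2
  by_contra h3
  obtain ⟨γ, -, x, hx, h1, h6, -⟩ := m1_aux hZC hhull hE hmix h2 h3
  have h2K : (2 : K) = 0 := by
    have := CharP.cast_eq_zero K 2
    exact_mod_cast this
  have h2F : (2 : F) = 0 := by
    apply (algebraMap F K).injective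
    rw [map_ofNat, map_zero, h2K]
  have h4 : x * x = 1 := Subtype.ext (sq_Z2 h2F hx)
  have h5 := congrArg γ h4
  rw [map_mul, map_one] at h5
  have h7 : ((γ x : E) : Sy φ) * ((γ x : E) : Sy φ) = 1 := congrArg Subtype.val h5
  have h8 := congrArg Sy.x5 h7
  rw [mul_x5, one_x5, ← two_mul, h2K, zero_mul, zero_add] at h8
  exact smul_ne_zero h6 h1 h8

/-! ### (M1), `p` odd -/

section Sub

variable {F K : Type u} [Field F] [Field K] [Algebra F K]

/-- `{x ∈ Z3 | Tr(a x3) = 0}` -/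
def A1 (φ : K ≃ₐ[F] K) [Cub φ] (a : K) : Subgroup (Sy φ) where
  carrier := {x | x ∈ Z3 φ ∧ tr φ (a * x.x3) = 0}
  one_mem' := ⟨(Z3 φ).one_mem, by simp [tr_zero]⟩
  mul_mem' {x y} hx hy := by
    refine ⟨(Z3 φ).mul_mem hx.1 hy.1, ?_⟩
    rw [mul_Z3 hx.1 hy.1]
    change tr φ (a * (x.x3 + y.x3)) = 0
    rw [mul_add, tr_add, hx.2, hy.2, add_zero]
  inv_mem' {x} hx := by
    refine ⟨(Z3 φ).inv_mem hx.1, ?_⟩
    rw [inv_x3, hx.1.1, hx.1.2.1, cr_zero_left, zero_smul, add_zero, sub_zero, mul_neg, tr_neg, hx.2, neg_zero]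

/-- `{x ∈ Z4 | Tr(a x5) = 0}` -/
def A2 (φ : K ≃ₐ[F] K) [Cub φ] (a : K) : Subgroup (Sy φ) where
  carrier := {x | x ∈ Z4 φ ∧ tr φ (a * x.x5) = 0}
  one_mem' := ⟨(Z4 φ).one_mem, by simp [tr_zero]⟩
  mul_mem' {x y} hx hy := by
    refine ⟨(Z4 φ).mul_mem hx.1 hy.1, ?_⟩
    rw [mul_x5, hx.1.1, smul_zero, add_zero, mul_add, tr_add, hx.2, hy.2, add_zero]
  inv_mem' {x} hx := by
    refine ⟨(Z4 φ).inv_mem hx.1, ?_⟩
    rw [inv_x5, hx.1.1, smul_zero, add_zero, mul_neg, tr_neg, hx.2, neg_zero]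

variable {φ : K ≃ₐ[F] K} [Cub φ]

theorem mem_A1 {a : K} {x : Sy φ} : x ∈ A1 φ a ↔ x ∈ Z3 φ ∧ tr φ (a * x.x3) = 0 := Iff.rfl
theorem mem_A2 {a : K} {x : Sy φ} : x ∈ A2 φ a ↔ x ∈ Z4 φ ∧ tr φ (a * x.x5) = 0 := Iff.rfl

theorem A1_le (a : K) : A1 φ a ≤ Z3 φ := fun _ h => h.1
theorem A2_le (a : K) : A2 φ a ≤ Z4 φ := fun _ h => h.1

/-- `b ↦ Tr(a b)` is onto for `a ≠ 0` -/
theorem exists_tr_mul {a : K} (ha : a ≠ 0) (t : F) : ∃ b : K, tr φ (a * b) = t := by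
  obtain ⟨s, hs⟩ := exists_tr_ne φ
  refine ⟨(t * (tr φ s)⁻¹) • (a⁻¹ * s), ?_⟩
  rw [mul_smul_comm, mul_inv_cancel_left₀ ha, tr_smul, mul_assoc, inv_mul_cancel₀ hs, mul_one]

theorem card_A1 [Finite F] [Finite K] {a : K} (ha : a ≠ 0) :
    Nat.card (A1 φ a) = Nat.card K * Nat.card F := by
  let f : Z3 φ →* Multiplicative F :=
    { toFun := fun x => Multiplicative.ofAdd (tr φ (a * (x : Sy φ).x3))
      map_one' := by
        change Multiplicative.ofAdd (tr φ (a * 0)) = 1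
        rw [mul_zero, tr_zero]
        rfl
      map_mul' := fun x y => by
        change Multiplicative.ofAdd (tr φ (a * ((x : Sy φ) * (y : Sy φ)).x3)) = _
        rw [mul_Z3 x.2 y.2]
        change Multiplicative.ofAdd (tr φ (a * ((x : Sy φ).x3 + (y : Sy φ).x3))) = _
        rw [mul_add, tr_add]
        rfl }
  have hf : Function.Surjective f := by
    intro t
    obtain ⟨b, hb⟩ := exists_tr_mul (φ := φ) ha t.toAdd
    refine ⟨⟨u3 φ b, u3_mem b⟩, ?_⟩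
    change Multiplicative.ofAdd (tr φ (a * b)) = t
    rw [hb]
    rfl
  have hk : f.ker = (A1 φ a).subgroupOf (Z3 φ) := by
    ext x
    rw [MonoidHom.mem_ker, Subgroup.mem_subgroupOf, mem_A1]
    constructor
    · intro h
      exact ⟨x.2, h⟩
    · intro h
      exact h.2
  have h1 : f.ker.index = Nat.card F := by
    rw [Subgroup.index_ker, MonoidHom.range_eq_top.2 hf, Subgroup.card_top]
    rfl
  have h2 := Subgroup.card_mul_index f.ker
  rw [h1, hk, card_Z3] at h2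
  have h3 : Nat.card ((A1 φ a).subgroupOf (Z3 φ)) = Nat.card (A1 φ a) :=
    Nat.card_congr (Subgroup.subgroupOfEquivOfLe (A1_le a)).toEquiv
  rw [h3] at h2
  have h4 : 0 < Nat.card F := Nat.card_pos
  apply Nat.eq_of_mul_eq_mul_right h4
  rw [h2]
  ring

theorem card_A2 [Finite F] [Finite K] {a : K} (ha : a ≠ 0) :
    Nat.card (A2 φ a) = Nat.card K ^ 2 * Nat.card F := by
  let f : Z4 φ →* Multiplicative F :=
    { toFun := fun x => Multiplicative.ofAdd (tr φ (a * (x : Sy φ).x5))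
      map_one' := by
        change Multiplicative.ofAdd (tr φ (a * 0)) = 1
        rw [mul_zero, tr_zero]
        rfl
      map_mul' := fun x y => by
        change Multiplicative.ofAdd (tr φ (a * ((x : Sy φ) * (y : Sy φ)).x5)) = _
        rw [mul_x5, x.2.1, smul_zero, add_zero, mul_add, tr_add]
        rfl }
  have hf : Function.Surjective f := by
    intro t
    obtain ⟨b, hb⟩ := exists_tr_mul (φ := φ) ha t.toAdd
    refine ⟨⟨u5 φ b, u5_mem b⟩, ?_⟩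
    change Multiplicative.ofAdd (tr φ (a * b)) = t
    rw [hb]
    rfl
  have hk : f.ker = (A2 φ a).subgroupOf (Z4 φ) := by
    ext x
    rw [MonoidHom.mem_ker, Subgroup.mem_subgroupOf, mem_A2]
    constructor
    · intro h
      exact ⟨x.2, h⟩
    · intro h
      exact h.2
  have h1 : f.ker.index = Nat.card F := by
    rw [Subgroup.index_ker, MonoidHom.range_eq_top.2 hf, Subgroup.card_top]
    rfl
  have h2 := Subgroup.card_mul_index f.ker
  rw [h1, hk, card_Z4] at h2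
  have h3 : Nat.card ((A2 φ a).subgroupOf (Z4 φ)) = Nat.card (A2 φ a) :=
    Nat.card_congr (Subgroup.subgroupOfEquivOfLe (A2_le a)).toEquiv
  rw [h3] at h2
  have h4 : 0 < Nat.card F := Nat.card_pos
  apply Nat.eq_of_mul_eq_mul_right h4
  rw [h2]
  ring

theorem card_lt (φ : K ≃ₐ[F] K) [Cub φ] [Finite F] [Finite K] : Nat.card F < Nat.card K := by
  by_contra h
  push Not at h
  have h1 : Function.Bijective (algebraMap F K) :=
    (algebraMap F K).injective.bijective_of_nat_card_le h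
  obtain ⟨t, ht⟩ := Cub.ne (φ := φ)
  obtain ⟨s, rfl⟩ := h1.2 t
  exact ht (φ.commutes s)

end Sub

section

variable {F K : Type u} [Field F] [Field K] [Finite F] [Finite K] [Algebra F K] {φ : K ≃ₐ[F] K} [Cub φ] {p : ℕ}
  [CharP K p] {E : Subgroup (Sy φ)} {Γ : Subgroup (MulAut E)}

theorem tr_cr_comm {a : K} {x : Sy φ} (hx : x ∈ A2 φ (sh φ a)) : tr φ (cr φ a x.x5 * a) = 0 := by
  have h1 : cr φ a x.x5 * a = cr φ x.x5 a * a := by rw [cr_comm]
  rw [h1, tr_cr, cr_self]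
  have h2 : x.x5 * (2 * sh φ a) = (2 : F) • (sh φ a * x.x5) := by
    rw [Algebra.smul_def, map_ofNat]
    ring
  rw [h2, tr_smul, hx.2, mul_zero]

theorem relIndex_mul_card {G : Type*} [Group G] (H M : Subgroup G) : H.relIndex M * Nat.card ↥(H ⊓ M) = Nat.card M := by
  have h1 := Subgroup.card_mul_index (H.subgroupOf M)
  have h2 : Nat.card (H.subgroupOf M) = Nat.card ↥(H ⊓ M) := by
    rw [← Subgroup.inf_subgroupOf_right]
    exact Nat.card_congr (Subgroup.subgroupOfEquivOfLe inf_le_right).toEquiv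
  rw [h2, mul_comm] at h1
  exact h1

theorem m1_core (hP2 : StP2.{u}) (hE : Ess ⊤ E p Γ) (h2K : (2 : K) ≠ 0) (hZ1 : Z1 φ ≤ Phi E) (h2 : Z2 φ ≤ E)
    (h3 : ¬ Z3 φ ≤ E) {a : K} {u : F} (ha : a ≠ 0) (hu : u ≠ 0)
    (hy : ∀ e ∈ E, ⁅u1 φ a * u6 φ u, e⁆ ∈ Z1 φ) : False := by
  have hy1 : (u1 φ a * u6 φ u).x1 = a := add_zero a
  have hy6 : (u1 φ a * u6 φ u).x6 = u := zero_add u
  have hZ12 := Z1_le_Z2 (φ := φ)
  -- the `x1`-coordinates
  have hx1 : ∀ e ∈ E, ∃ s : F, e.x1 = s • a := by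
    intro e he
    have h := (hy e he).2.2.1
    rw [comm_x5, hy1, hy6] at h
    refine ⟨u⁻¹ * e.x6, ?_⟩
    rw [mul_smul, sub_eq_zero.1 h, inv_smul_smul₀ hu]
  have hEZ4 : E ⊓ Z4 φ ≤ A1 φ a := by
    rintro e ⟨he, he4⟩
    have h := hy e he
    have h5 := h.2.2.2.1
    rw [comm_x3 he4, hy1] at h5
    have h6 : e.x5 = 0 := (cr_eq_zero φ h2K h5).resolve_left ha
    have h7 := h.2.2.2.2
    rw [comm_x2 he4, hy1, h6, mul_zero, tr_zero, add_zero] at h7
    exact ⟨⟨he4.1, he4.2, h6⟩, h7⟩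
  have hcom3 : Com (Z3 φ) E (Z2 φ) := by
    rw [com_iff]
    intro x hx e he
    exact comm_inv_mem (comm_mem_Z2 hx)
  have hn3 := le_normalizerIn hcom3 h2
  have hpos : 0 < Nat.card F := Nat.card_pos
  have hposK : 0 < Nat.card K := Nat.card_pos
  have hr21 : (Z1 φ).relIndex (Z2 φ) = Nat.card F := by
    have h := relIndex_mul_card (Z1 φ) (Z2 φ)
    rw [inf_eq_left.2 hZ12, card_Z1, card_Z2] at h
    apply Nat.eq_of_mul_eq_mul_right hpos
    rw [h]
    ring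
  have hb1 : E.relIndex (Z3 φ) ≤ Nat.card F := by
    have h := hP2 hE (Z3 φ) (Z3 φ) (Z2 φ) (Z2 φ) (Z1 φ) (Z1 φ) hn3 hn3 h3 h2 h2 hcom3 hcom3 hZ1 hZ1
    rw [hr21, ← sq] at h
    exact (Nat.pow_le_pow_iff_left two_ne_zero).1 h
  have hle : E ⊓ Z3 φ ≤ A1 φ a := (inf_le_inf_left _ Z3_le_Z4).trans hEZ4
  have hA1 : A1 φ a ≤ E := by
    have h := relIndex_mul_card E (Z3 φ)
    rw [card_Z3] at h
    have h4 : Nat.card (A1 φ a) ≤ Nat.card ↥(E ⊓ Z3 φ) := by
      rw [card_A1 ha]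
      have h5 : Nat.card K * Nat.card F ^ 2 ≤ Nat.card F * Nat.card ↥(E ⊓ Z3 φ) := by
        rw [← h]
        exact Nat.mul_le_mul_right _ hb1
      apply Nat.le_of_mul_le_mul_left _ hpos
      refine le_trans (le_of_eq ?_) h5
      ring
    have h5 := Subgroup.eq_of_le_of_card_ge hle h4
    rw [← h5]
    exact inf_le_left
  have ha' : sh φ a ≠ 0 := fun h => ha ((sh_eq_zero φ).1 h)
  have hcom : Com (A2 φ (sh φ a)) E (A1 φ a) := by
    rw [com_iff]
    intro x hx e he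
    apply comm_inv_mem
    refine ⟨comm_mem_Z3 hx.1, ?_⟩
    obtain ⟨s, hs⟩ := hx1 e he
    rw [comm_x3 hx.1, hs, cr_smul_left, mul_smul_comm, tr_smul, mul_comm a, tr_cr_comm hx]
    exact mul_zero s
  have hn2 := le_normalizerIn hcom hA1
  have h := hP2 hE (A2 φ (sh φ a)) (Z3 φ) (A1 φ a) (Z2 φ) (Z1 φ) (Z1 φ) hn2 hn3 h3 hA1 h2 hcom hcom3 hZ1 hZ1
  have hr : (Z1 φ).relIndex (A1 φ a) = Nat.card K := by
    have h := relIndex_mul_card (Z1 φ) (A1 φ a)
    have h4 : Z1 φ ≤ A1 φ a := fun x hx => ⟨Z2_le_Z3 (hZ12 hx), by rw [hx.2.2.2.1, mul_zero, tr_zero]⟩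
    rw [inf_eq_left.2 h4, card_Z1, card_A1 ha] at h
    exact Nat.eq_of_mul_eq_mul_right hpos h
  rw [hr21, hr] at h
  have h4 : Nat.card K ≤ E.relIndex (A2 φ (sh φ a)) := by
    have h5 := relIndex_mul_card E (A2 φ (sh φ a))
    rw [card_A2 ha'] at h5
    have h6 : E ⊓ A2 φ (sh φ a) ≤ A1 φ a := (inf_le_inf_left _ (fun x hx => hx.1)).trans hEZ4
    have h7 : Nat.card ↥(E ⊓ A2 φ (sh φ a)) ≤ Nat.card K * Nat.card F := by
      rw [← card_A1 (φ := φ) ha]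
      exact Subgroup.card_le_of_le h6
    have h8 : Nat.card K ^ 2 * Nat.card F ≤ E.relIndex (A2 φ (sh φ a)) * (Nat.card K * Nat.card F) := by
      rw [← h5]
      exact Nat.mul_le_mul_left _ h7
    apply Nat.le_of_mul_le_mul_right _ (Nat.mul_pos hposK hpos)
    refine le_trans (le_of_eq ?_) h8
    ring
  have h5 := card_lt φ
  have h6 : Nat.card K * Nat.card K ≤ Nat.card K * Nat.card F := by
    refine le_trans ?_ h
    rw [sq]
    exact Nat.mul_le_mul h4 h4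
  exact absurd (Nat.le_of_mul_le_mul_left h6 hposK) (not_le.2 h5)

end

theorem stM1o (hP2 : StP2.{u}) (hhull : StHull.{u}) (hcj : StConj.{u}) (hReg : StReg.{u}) (hZC : StZC.{u}) :
    StM1o.{u} := by
  intro F K _ _ _ _ _ φ _ p _ E Γ hE hp2 hmix h2
  by_contra h3
  obtain ⟨γ, -, x, hx, h1, h6, hw⟩ := m1_aux hZC hhull hE hmix h2 h3
  have h2K : (2 : K) ≠ 0 := by
    intro h
    have h2' : ((2 : ℕ) : K) = 0 := by exact_mod_cast h
    rw [CharP.cast_eq_zero_iff K p] at h2'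
    exact hp2 ((Nat.prime_dvd_prime_iff_eq hE.pp Nat.prime_two).1 h2')
  -- `γ(Z1) = Z1`
  have hsur : ∀ v : Z1 φ, ∃ w : Z1 φ, ∃ h : (w : Sy φ) ∈ E, ((γ ⟨(w : Sy φ), h⟩ : E) : Sy φ) = v := by
    intro v
    obtain ⟨w, hw1, hw2⟩ := hw ⟨u2 φ ((((γ x : E) : Sy φ).x6)⁻¹ * (v : Sy φ).x4), h2 (u2_mem _)⟩
    refine ⟨⟨w, hw1⟩, w.2, ?_⟩
    have h4 : ((γ w : E) : Sy φ) = ⁅((γ x : E) : Sy φ), u2 φ ((((γ x : E) : Sy φ).x6)⁻¹ * (v : Sy φ).x4)⁆ :=
      congrArg Subtype.val hw2.symm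
    change ((γ w : E) : Sy φ) = v
    rw [h4, comm_Z2 (u2_mem _), eq_u4 v.2]
    congr 1
    change ((γ x : E) : Sy φ).x6 * ((((γ x : E) : Sy φ).x6)⁻¹ * (v : Sy φ).x4) = _
    rw [mul_inv_cancel_left₀ h6]
  choose g hgE hg using hsur
  have hginj : Function.Injective g := by
    intro v v' h
    apply Subtype.ext
    rw [← hg v, ← hg v']
    congr 3
    rw [h]
  have hgsur := Finite.surjective_of_injective hginj
  have hinv : ∀ w : E, (w : Sy φ) ∈ Z1 φ → ((γ w : E) : Sy φ) ∈ Z1 φ := by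
    intro w hw1
    obtain ⟨v, hv⟩ := hgsur ⟨w, hw1⟩
    have h4 : (⟨(g v : Sy φ), hgE v⟩ : E) = w := Subtype.ext (congrArg (Subtype.val : Z1 φ → Sy φ) hv)
    have h5 := hg v
    rw [h4] at h5
    rw [h5]
    exact v.2
  have hyE : ∀ e ∈ E, ⁅((γ x : E) : Sy φ), e⁆ ∈ Z1 φ := by
    intro e he
    obtain ⟨w, hw1, hw2⟩ := hw ⟨e, he⟩
    have h4 : ((γ w : E) : Sy φ) = ⁅((γ x : E) : Sy φ), e⁆ := congrArg Subtype.val hw2.symm
    rw [← h4]
    exact hinv w hw1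
  obtain ⟨c, hc⟩ := hReg ((γ x : E) : Sy φ) hp2 h1 h6
  obtain ⟨Γ', hE'⟩ := hcj hE c trivial
  have hmem : ∀ z : Sy φ, z ∈ E.map (MulAut.conj c).toMonoidHom ↔ c⁻¹ * z * c ∈ E := by
    intro z
    constructor
    · rintro ⟨e, he, rfl⟩
      have h4 : c⁻¹ * (MulAut.conj c).toMonoidHom e * c = e := by
        change c⁻¹ * (c * e * c⁻¹) * c = e
        group
      rw [h4]
      exact he
    · intro h
      refine ⟨_, h, ?_⟩
      change c * (c⁻¹ * z * c) * c⁻¹ = z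
      group
  have hconj : ∀ {N : Subgroup (Sy φ)}, N.Normal → ∀ z ∈ N, c⁻¹ * z * c ∈ N := by
    intro N hN z hz
    have h4 := hN.conj_mem z hz c⁻¹
    rwa [inv_inv] at h4
  have h2' : Z2 φ ≤ E.map (MulAut.conj c).toMonoidHom := by
    intro z hz
    rw [hmem]
    exact h2 (hconj inferInstance z hz)
  have h3' : ¬ Z3 φ ≤ E.map (MulAut.conj c).toMonoidHom := by
    intro h
    apply h3
    intro z hz
    have h4 : c * z * c⁻¹ ∈ E.map (MulAut.conj c).toMonoidHom :=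
      h ((inferInstance : (Z3 φ).Normal).conj_mem z hz c)
    rw [hmem] at h4
    have h5 : c⁻¹ * (c * z * c⁻¹) * c = z := by group
    rwa [h5] at h4
  have hyE' : ∀ e ∈ E.map (MulAut.conj c).toMonoidHom,
      ⁅u1 φ ((γ x : E) : Sy φ).x1 * u6 φ ((γ x : E) : Sy φ).x6, e⁆ ∈ Z1 φ := by
    rintro _ ⟨e, he, rfl⟩
    rw [← hc]
    have h4 := (inferInstance : (Z1 φ).Normal).conj_mem _ (hyE e he) c
    have h5 : c * ⁅((γ x : E) : Sy φ), e⁆ * c⁻¹ =
        ⁅c * ((γ x : E) : Sy φ) * c⁻¹, (MulAut.conj c).toMonoidHom e⁆ := by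
      change _ = ⁅c * ((γ x : E) : Sy φ) * c⁻¹, c * e * c⁻¹⁆
      rw [commutatorElement_def, commutatorElement_def]
      group
    rwa [← h5]
  have hymem : u1 φ ((γ x : E) : Sy φ).x1 * u6 φ ((γ x : E) : Sy φ).x6 ∈ E.map (MulAut.conj c).toMonoidHom := by
    rw [← hc]
    exact ⟨_, (γ x).2, rfl⟩
  have hmix' : Mixed (E.map (MulAut.conj c).toMonoidHom) := by
    constructor
    · intro h
      have h4 := h hymem
      rw [mem_Q1, mul_x1] at h4
      exact h1 ((add_zero _).symm.trans h4)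
    · intro h
      have h4 := h hymem
      rw [mem_Q2, mul_x6] at h4
      exact h6 ((zero_add _).symm.trans h4)
  exact m1_core hP2 hE' h2K (hZC hE' hmix' h2').1 h2' h3' h1 h6 hyE'

end Cfsg.Agent.H390.TE
end

-- part: H667/TE/Basic
section
/-!
# S5261, part E: small tools for mixed subgroups
-/

set_option autoImplicit false
set_option linter.unusedSectionVars false

namespace Cfsg.Agent.H667.TE

open Cfsg Cfsg.FusionSystem Cfsg.Agent.H756.PU Cfsg.Agent.H802.TE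
open Cfsg.Agent.H765.D3 Cfsg.Agent.H765.D3.Sy
open Cfsg.Agent.Hex.Defs (sh cr nm tr)
open scoped commutatorElement

universe u

section Gen

variable {Ω : Type*} [Group Ω]

/-- an automorphism whose image of `Z` contains `Z` leaves `Z` invariant -/
theorem inv_of_surj {E Z : Subgroup Ω} [Finite Z] (γ : MulAut E)
    (h : ∀ w ∈ Z, ∃ z : E, (z : Ω) ∈ Z ∧ ((γ z : E) : Ω) = w) :
    ∀ z : E, (z : Ω) ∈ Z → ((γ z : E) : Ω) ∈ Z := by
  choose f hf using h
  have hinj : Function.Injective (fun w : Z => (⟨(f w w.2 : Ω), (hf w w.2).1⟩ : Z)) := by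
    intro a b hab
    have e : f a a.2 = f b b.2 := Subtype.ext (congrArg (fun t : Z => (t : Ω)) hab)
    apply Subtype.ext
    rw [← (hf a a.2).2, ← (hf b b.2).2, e]
  have hsurj := Finite.surjective_of_injective hinj
  intro z hz
  obtain ⟨w, hw⟩ := hsurj ⟨z, hz⟩
  have e : f w w.2 = z := Subtype.ext (congrArg (fun t : Z => (t : Ω)) hw)
  rw [← e, (hf w w.2).2]
  exact w.2

/-- commutators with an image -/
theorem comm_image {E : Subgroup Ω} (γ : MulAut E) (g e : E) :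
    ⁅((γ g : E) : Ω), (e : Ω)⁆ = ((γ ⁅g, γ⁻¹ e⁆ : E) : Ω) := by
  rw [map_commutatorElement, MulAut.apply_inv_self]
  rfl

end Gen

section

variable {F K : Type*} [Field F] [Field K] [Algebra F K] {φ : K ≃ₐ[F] K} [Cub φ]

/-- a mixed subgroup contains a regular element -/
theorem exists_reg {E : Subgroup (Sy φ)} (h1 : ¬ E ≤ Q1 φ) (h2 : ¬ E ≤ Q2 φ) : ∃ e ∈ E, e.x1 ≠ 0 ∧ e.x6 ≠ 0 := by
  obtain ⟨a, ha, ha1⟩ := SetLike.not_le_iff_exists.1 h1
  obtain ⟨b, hb, hb6⟩ := SetLike.not_le_iff_exists.1 h2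
  rw [mem_Q1] at ha1
  rw [mem_Q2] at hb6
  by_cases h6 : a.x6 = 0
  · by_cases h1' : b.x1 = 0
    · refine ⟨a * b, mul_mem ha hb, ?_, ?_⟩
      · rw [mul_x1, h1', add_zero]; exact ha1
      · rw [mul_x6, h6, zero_add]; exact hb6
    · exact ⟨b, hb, h1', hb6⟩
  · exact ⟨a, ha, ha1, h6⟩

variable (φ) in
theorem exists_tr {a : K} (ha : a ≠ 0) (t : F) : ∃ b, tr φ (a * b) = t := by
  obtain ⟨s, hs⟩ := exists_tr_ne φ
  refine ⟨(t / tr φ s) • (a⁻¹ * s), ?_⟩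
  rw [mul_smul_comm, mul_inv_cancel_left₀ ha, tr_smul, div_mul_cancel₀ _ hs]

/-- `[y, Z3] = Z2` for regular `y` -/
theorem exists_comm_Z2 {y : Sy φ} (h1 : y.x1 ≠ 0) (h6 : y.x6 ≠ 0) {w : Sy φ} (hw : w ∈ Z2 φ) :
    ∃ b ∈ Z3 φ, ⁅y, b⁆ = w := by
  obtain ⟨β, hβ⟩ := exists_tr φ h1 w.x2
  have hb : (⟨0, 0, 0, β, (w.x4 + tr φ (β * y.x5) - y.x6 * tr φ (y.x1 * β)) / y.x6, 0⟩ : Sy φ) ∈ Z3 φ :=
    ⟨rfl, rfl, rfl⟩
  refine ⟨_, hb, ?_⟩
  have h2 := comm_mem_Z2 (x := y) hb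
  ext
  · rw [h2.1, hw.1]
  · rw [h2.2.1, hw.2.1]
  · rw [h2.2.2.1, hw.2.2.1]
  · rw [h2.2.2.2, hw.2.2.2]
  · rw [comm_x2' hb]; exact hβ
  · rw [comm_x4' hb, mul_div_cancel₀ _ h6]; ring

/-- `[w, Z3] = Z1` for `w ∈ Z4 \ Z3` -/
theorem exists_comm_Z1 {y : Sy φ} (hy : y ∈ Z4 φ) (h5 : y.x5 ≠ 0) {w : Sy φ} (hw : w ∈ Z1 φ) :
    ∃ b ∈ Z3 φ, ⁅y, b⁆ = w := by
  obtain ⟨β, hβ⟩ := exists_tr φ h5 (-w.x4)
  refine ⟨u3 φ β, u3_mem β, ?_⟩
  rw [comm_Q1 hy.1 (u3_mem β).1, eq_u4 hw]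
  have e : form y (u3 φ β) = w.x4 := by
    rw [form]
    have e1 : (u3 φ β).x2 = 0 := rfl
    have e2 : (u3 φ β).x6 = 0 := rfl
    have e3 : (u3 φ β).x3 = β := rfl
    have e4 : (u3 φ β).x5 = 0 := rfl
    rw [e1, e2, e3, e4, hβ, mul_zero, mul_zero, mul_zero, tr_zero]
    ring
  rw [e]

/-- `Z2 ≤ Φ(E)` -/
theorem Z2_le_of_com {E N : Subgroup (Sy φ)} (hc : Com E E N) {e : Sy φ} (he : e ∈ E) (h1 : e.x1 ≠ 0) (h6 : e.x6 ≠ 0)
    (hZ : Z3 φ ≤ E) : Z2 φ ≤ N := by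
  intro w hw
  obtain ⟨b, hb, rfl⟩ := exists_comm_Z2 h1 h6 hw
  exact (hc e he b (hZ hb) :)

/-- `[E, Z3] ≤ Z2` in the other order -/
theorem comm_mem_Z2' {x y : Sy φ} (hx : x ∈ Z3 φ) : ⁅x, y⁆ ∈ Z2 φ := by
  rw [← commutatorElement_inv]
  exact _root_.InvMemClass.inv_mem (comm_mem_Z2 hx)

theorem comm_mem_Z1' {x y : Sy φ} (hx : x ∈ Z2 φ) : ⁅x, y⁆ ∈ Z1 φ := by
  rw [← commutatorElement_inv, comm_Z2 hx]
  exact _root_.InvMemClass.inv_mem (u4_mem _)

end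

/-- the common part: an element `y = γ g`, `g ∈ Z3`, not centralized by `Z4` modulo `Φ(E)` -/
theorem core {F K : Type u} [Field F] [Field K] [Finite F] [Finite K] [Algebra F K] {φ : K ≃ₐ[F] K} [Cub φ]
    {E : Subgroup (Sy φ)} (hc : Com E E (Phi E)) (hm : Mixed E) (hZ : Z3 φ ≤ E) (γ : MulAut E) (g : E)
    (hg : (g : Sy φ) ∈ Z3 φ) (z : Sy φ) (hz : z ∈ Z4 φ)
    (hn : z * (γ g : E) * z⁻¹ * ((γ g : E) : Sy φ)⁻¹ ∉ Phi E) :
    ((γ g : E) : Sy φ).x1 ≠ 0 ∧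
    (((γ g : E) : Sy φ).x6 ≠ 0 → ∀ e ∈ E, ⁅((γ g : E) : Sy φ), e⁆ ∈ Z2 φ) ∧
    (((γ g : E) : Sy φ).x6 = 0 → (∀ e ∈ E, cr φ e.x1 ((γ g : E) : Sy φ).x1 = 0) ∧
      ∀ e : E, (e : Sy φ) ∈ Z1 φ → ((γ e : E) : Sy φ) ∈ Z1 φ) := by
  obtain ⟨e, he, he1, he6⟩ := exists_reg hm.1 hm.2
  have hZ2 : Z2 φ ≤ Phi E := Z2_le_of_com hc he he1 he6 hZ
  set y : Sy φ := ((γ g : E) : Sy φ) with hy
  have hy1 : y.x1 ≠ 0 := by
    intro h0
    apply hn
    rw [← commutatorElement_def, comm_Q1 (Z4_le_Q1 hz) h0]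
    exact hZ2 (Z1_le_Z2 (u4_mem _))
  refine ⟨hy1, ?_, ?_⟩
  · intro h6
    have key : ∀ w : E, (w : Sy φ) ∈ Z2 φ → ((γ w : E) : Sy φ) ∈ Z2 φ := by
      apply inv_of_surj
      intro w hw
      obtain ⟨b, hb, hb2⟩ := exists_comm_Z2 hy1 h6 hw
      refine ⟨⁅g, γ⁻¹ ⟨b, hZ hb⟩⁆, ?_, ?_⟩
      · exact comm_mem_Z2' hg
      · rw [← comm_image]
        exact hb2
    intro x hx
    have := comm_image γ g ⟨x, hx⟩
    rw [← hy] at this
    rw [show ⁅y, x⁆ = _ from this]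
    exact key _ (comm_mem_Z2' hg)
  · intro h6
    set! w : Sy φ := ⁅y, e⁆ with hwdef
    have hw4 : w ∈ Z4 φ := comm_mem_Z4 _ _
    have hw5 : w.x5 = e.x6 • y.x1 := by
      rw [hwdef, comm_x5, h6, zero_smul, sub_zero]
    have hw50 : w.x5 ≠ 0 := by
      rw [hw5]
      exact smul_ne_zero he6 hy1
    set! z0 : E := ⁅g, γ⁻¹ ⟨e, he⟩⁆ with hz0
    have hz02 : (z0 : Sy φ) ∈ Z2 φ := comm_mem_Z2' hg
    have hγ : ((γ z0 : E) : Sy φ) = w := (comm_image γ g ⟨e, he⟩).symm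
    have key : ∀ v : E, (v : Sy φ) ∈ Z1 φ → ((γ v : E) : Sy φ) ∈ Z1 φ := by
      apply inv_of_surj
      intro v hv
      obtain ⟨b, hb, hb2⟩ := exists_comm_Z1 hw4 hw50 hv
      refine ⟨⁅z0, γ⁻¹ ⟨b, hZ hb⟩⁆, ?_, ?_⟩
      · exact comm_mem_Z1' hz02
      · rw [← comm_image, hγ]
        exact hb2
    refine ⟨?_, key⟩
    intro x hx
    have h1 : ⁅w, x⁆ ∈ Z1 φ := by
      have := comm_image γ z0 ⟨x, hx⟩
      rw [hγ] at this
      rw [show ⁅w, x⁆ = _ from this]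
      exact key _ (comm_mem_Z1' hz02)
    have h2 : ⁅x, w⁆ ∈ Z1 φ := by
      rw [← commutatorElement_inv]
      exact _root_.InvMemClass.inv_mem h1
    have h3 := h2.2.2.2.1
    rw [comm_x3 hw4, hw5, cr_smul_right] at h3
    exact (smul_eq_zero.1 h3).resolve_left he6

end Cfsg.Agent.H667.TE
end

-- part: H667/TE/M3
section
/-!
# S5261, part E: (M3) for `p` odd, and (M3a)
-/

set_option autoImplicit false
set_option linter.unusedSectionVars false

namespace Cfsg.Agent.H667.TE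

open Cfsg Cfsg.FusionSystem Cfsg.Agent.H756.PU Cfsg.Agent.H802.TE
open Cfsg.Agent.H765.D3 Cfsg.Agent.H765.D3.Sy
open Cfsg.Agent.Hex.Defs (sh cr nm tr)
open scoped commutatorElement

universe u

section

variable {F K : Type*} [Field F] [Field K] [Algebra F K] {φ : K ≃ₐ[F] K} [Cub φ]

theorem sq_eq_one_of_Z3 (h2 : (2 : K) = 0) {g : Sy φ} (hg : g ∈ Z3 φ) : g * g = 1 := by
  have hF : (2 : F) = 0 := by
    apply (algebraMap F K).injective
    rw [map_ofNat, map_zero, h2]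
  obtain ⟨h1, h6, h5⟩ := hg
  ext
  · rw [mul_x1, h1, add_zero, one_x1]
  · rw [mul_x6, h6, add_zero, one_x6]
  · rw [mul_x5, h5, h6, h1, smul_zero, add_zero, add_zero, one_x5]
  · rw [mul_x3, h1, h5, h6, cr_zero_left, zero_smul, add_zero, add_zero, one_x3]
    linear_combination g.x3 * h2
  · rw [mul_x2, h1, h5, h6, sh_zero, zero_mul, zero_mul, tr_zero, zero_mul, add_zero, add_zero, add_zero, one_x2]
    linear_combination g.x2 * hF
  · have e : tr φ (g.x3 * (0 + 0)) = 0 := by rw [add_zero, mul_zero, tr_zero]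
    rw [mul_x4, h1, h5, h6, sh_zero, zero_mul, zero_mul, tr_zero, one_x4, zero_smul, e]
    linear_combination g.x4 * hF

end

theorem two_ne {K : Type*} [Field K] {p : ℕ} [CharP K p] (hp : p.Prime) (h2 : p ≠ 2) : (2 : K) ≠ 0 := by
  intro h
  have h3 : ((2 : ℕ) : K) = 0 := by exact_mod_cast h
  rw [CharP.cast_eq_zero_iff K p 2] at h3
  exact h2 ((Nat.prime_dvd_prime_iff_eq hp Nat.prime_two).1 h3)

theorem le_normalizerIn {Ω : Type*} [Group Ω] {S A E : Subgroup Ω} (hA : A ≤ S) (h : Com A E E) :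
    A ≤ normalizerIn S E := by
  refine le_inf hA fun a ha => ?_
  have key : ∀ b ∈ A, ∀ e ∈ E, b * e * b⁻¹ ∈ E := fun b hb e he => by
    have := mul_mem (h b hb e he) he
    rwa [inv_mul_cancel_right] at this
  rw [Subgroup.mem_normalizer_iff]
  intro e
  refine ⟨fun he => key a ha e he, fun he => ?_⟩
  have := key a⁻¹ (_root_.InvMemClass.inv_mem ha) _ he
  rwa [show a⁻¹ * (a * e * a⁻¹) * a⁻¹⁻¹ = e by group] at this

theorem card_F_lt {F K : Type*} [Field F] [Field K] [Finite F] [Finite K] [Algebra F K] (φ : K ≃ₐ[F] K) [Cub φ] :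
    Nat.card F < Nat.card K := by
  by_contra hcon
  have hb := (algebraMap F K).injective.bijective_of_nat_card_le (not_lt.1 hcon)
  obtain ⟨t, ht⟩ := Cub.ne (φ := φ)
  obtain ⟨s, rfl⟩ := hb.2 t
  exact ht (φ.commutes s)

theorem stM3a (hphi : StPhi.{u}) : StM3a.{u} := by
  intro F K _ _ _ _ _ φ _ _ E Γ hE hm hZ γ hγ g hg z hz hn
  have hfin : Finite E := inferInstance
  have hpE : IsPGroup 2 E := hE.pgr.of_injective (Subgroup.inclusion hE.E_le) (Subgroup.inclusion_injective _)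
  obtain ⟨-, hc, -⟩ := hphi E 2 hE.pp hfin hpE
  obtain ⟨h1, h2, h3⟩ := core hc hm hZ γ g hg z hz hn
  have hK2 : (2 : K) = 0 := by
    have := CharP.cast_eq_zero K 2
    exact_mod_cast this
  have h6 : ((γ g : E) : Sy φ).x6 = 0 := by
    by_contra h6
    have hgg : g * g = 1 := Subtype.ext (sq_eq_one_of_Z3 hK2 hg)
    have hyy : (γ g) * (γ g) = 1 := by rw [← map_mul, hgg, map_one]
    have h5 : (((γ g : E) : Sy φ) * ((γ g : E) : Sy φ)).x5 = 0 := by
      have := congrArg (fun t : E => (t : Sy φ).x5) hyy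
      exact this
    rw [mul_x5] at h5
    have : ((γ g : E) : Sy φ).x6 • ((γ g : E) : Sy φ).x1 = 0 := by
      linear_combination h5 - ((γ g : E) : Sy φ).x5 * hK2
    exact (smul_ne_zero h6 h1) this
  refine ⟨h6, h1, ?_, (h3 h6).2⟩
  intro x hx
  have := (h3 h6).1 x hx
  rw [cr_comm] at this
  exact cr_eq_zero_two φ hK2 h1 this

theorem stM3o (hphi : StPhi.{u}) (hbd : StBd.{u}) (hhull : StHull.{u}) : StM3o.{u} := by
  intro F K _ _ _ _ _ φ _ p _ E Γ hE hp2 hm hZ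
  have hfin : Finite E := inferInstance
  have hpE : IsPGroup p E := hE.pgr.of_injective (Subgroup.inclusion hE.E_le) (Subgroup.inclusion_injective _)
  obtain ⟨-, hc, -⟩ := hphi E p hE.pp hfin hpE
  by_contra hcon
  have hcom : Com (Z4 φ) E (Z3 φ) := by
    intro a ha e _
    rw [← commutatorElement_def, ← commutatorElement_inv]
    exact _root_.InvMemClass.inv_mem (comm_mem_Z3 ha)
  obtain ⟨γ, hγ, g, hg, z, hz, hn⟩ := hhull hE (Z4 φ) (Z3 φ) le_top hZ hcom hcon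
  obtain ⟨h1, h2, h3⟩ := core hc hm hZ γ g hg z hz hn
  set y : Sy φ := ((γ g : E) : Sy φ) with hy
  have hK2 : (2 : K) ≠ 0 := two_ne hE.pp hp2
  obtain ⟨e, he, he1, he6⟩ := exists_reg hm.1 hm.2
  by_cases h6 : y.x6 = 0
  · rcases cr_eq_zero φ hK2 ((h3 h6).1 e he) with h | h
    · exact he1 h
    · exact h1 h
  · -- `[y, E] ≤ Z2`
    have hcy := h2 h6
    have hx1 : ∀ x ∈ E, x.x6 = 0 → x.x1 = 0 := by
      intro x hx hx6
      have := (hcy x hx).2.2.1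
      rw [comm_x5, hx6, zero_smul, zero_sub, neg_eq_zero] at this
      exact (smul_eq_zero.1 this).resolve_left h6
    have hEQ2 : E ⊓ Q2 φ = Z3 φ := by
      apply le_antisymm
      · rintro x ⟨hx, hx6⟩
        have hx4 : x ∈ Z4 φ := ⟨hx1 x hx hx6, hx6⟩
        refine ⟨hx4.1, hx4.2, ?_⟩
        have := (hcy x hx).2.2.2
        rw [comm_x3 hx4] at this
        exact (cr_eq_zero φ hK2 this).resolve_left h1
      · intro x hx
        exact ⟨hZ hx, hx.2.1⟩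
    have hEZ4 : E ⊓ Z4 φ = Z3 φ := by
      apply le_antisymm
      · rintro x ⟨hx, hx4⟩
        rw [← hEQ2]
        exact ⟨hx, hx4.2⟩
      · intro x hx
        exact ⟨hZ hx, hx.1, hx.2.1⟩
    have hnorm : Z4 φ ≤ normalizerIn ⊤ E := le_normalizerIn le_top fun a ha e h => hZ (hcom a ha e h)
    have hb := hbd hE (Z4 φ) (Z2 φ) hnorm (Z2_le_of_com hc he he1 he6 hZ)
    have e1 : E.relIndex (Z4 φ) = Nat.card K := by
      rw [← Subgroup.inf_relIndex_right, hEZ4]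
      have h := Subgroup.relIndex_mul_relIndex ⊥ (Z3 φ) (Z4 φ) bot_le Z3_le_Z4
      rw [Subgroup.relIndex_bot_left, Subgroup.relIndex_bot_left, card_Z3, card_Z4] at h
      have hpos : 0 < Nat.card K * Nat.card F ^ 2 := Nat.mul_pos Nat.card_pos (pow_pos Nat.card_pos 2)
      apply Nat.eq_of_mul_eq_mul_left hpos
      rw [h]
      ring
    have e2 : (Z2 φ).relIndex (Z3 φ) = Nat.card K := by
      have h := Subgroup.relIndex_mul_relIndex ⊥ (Z2 φ) (Z3 φ) bot_le Z2_le_Z3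
      rw [Subgroup.relIndex_bot_left, Subgroup.relIndex_bot_left, card_Z3, card_Z2] at h
      have hpos : 0 < Nat.card F ^ 2 := pow_pos Nat.card_pos 2
      apply Nat.eq_of_mul_eq_mul_left hpos
      rw [h]
      ring
    have e3 : (Z3 φ).relIndex E ≤ Nat.card F := by
      rw [← hEQ2, Subgroup.inf_relIndex_left, ← index_Q2 (φ := φ)]
      exact Nat.le_of_dvd (by rw [index_Q2]; exact Nat.card_pos) (Subgroup.relIndex_dvd_index_of_normal _ _)
    rw [e1, ← Subgroup.relIndex_mul_relIndex _ _ _ Z2_le_Z3 hZ, e2, sq] at hb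
    have hKF : Nat.card K ≤ Nat.card F :=
      (Nat.le_of_mul_le_mul_left hb Nat.card_pos).trans e3
    exact absurd hKF (not_le.2 (card_F_lt φ))

end Cfsg.Agent.H667.TE
end

-- part: H752/TE/M3b
section
/-!
# S5261, part E: (M3b), (M3c) (helper752)
-/

set_option autoImplicit false
set_option linter.unusedSectionVars false

namespace Cfsg.Agent.H752.TE

open Cfsg Cfsg.FusionSystem Cfsg.Agent.H756.PU Cfsg.Agent.H802.TE
open Cfsg.Agent.H765.D3 Cfsg.Agent.H765.D3.Sy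
open Cfsg.Agent.Hex.Defs (sh cr nm tr)
open scoped commutatorElement

universe u

section gen

variable {Ω : Type*} [Group Ω] {E : Subgroup Ω}

/-- two automorphisms which commute on `E / Φ` -/
theorem comm_mod {Φ : Subgroup Ω} (a b : MulAut E)
    (h : ∀ e : E, ((a (b e) : E) : Ω) * ((b (a e) : E) : Ω)⁻¹ ∈ Φ) (e : E) :
    (((a * b * a⁻¹ * b⁻¹) e : E) : Ω) * (e : Ω)⁻¹ ∈ Φ := by
  have h1 := h (a⁻¹ (b⁻¹ e))
  rwa [MulAut.apply_inv_self, MulAut.apply_inv_self] at h1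

/-- the key computation of (M3b): `Z ≤ E`, `a`, `b` normalize `E` with `[a, E], [b, E] ≤ Z`, and `[a, g Z] ≤ Φ`, `[b, g⁻¹ Z] ≤ Φ` -/
theorem comm_key {Φ Z : Subgroup Ω} (hΦE : Φ ≤ E) (hEE : Com E E Φ) {g : MulAut E}
    (hg : ∀ e : E, (e : Ω) ∈ Φ → ((g e : E) : Ω) ∈ Φ) {a b : Ω} {α β : MulAut E} (hα : IsC a α) (hβ : IsC b β)
    (hZ : Z ≤ E) (ha : ∀ e ∈ E, a * e * a⁻¹ * e⁻¹ ∈ Z) (hb : ∀ e ∈ E, b * e * b⁻¹ * e⁻¹ ∈ Z)
    (h1 : ∀ z : E, (z : Ω) ∈ Z → a * (g z : E) * a⁻¹ * ((g z : E) : Ω)⁻¹ ∈ Φ)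
    (h2 : ∀ z : E, (z : Ω) ∈ Z → b * (g⁻¹ z : E) * b⁻¹ * ((g⁻¹ z : E) : Ω)⁻¹ ∈ Φ) (e : E) :
    ((α ((g * β * g⁻¹) e) : E) : Ω) * (((g * β * g⁻¹) (α e) : E) : Ω)⁻¹ ∈ Φ := by
  -- `h = [b, g⁻¹ e]`, `k = g h`
  set! h : E := ⟨b * (g⁻¹ e : E) * b⁻¹ * ((g⁻¹ e : E) : Ω)⁻¹, hZ (hb _ (g⁻¹ e).2)⟩ with hh
  have hhZ : (h : Ω) ∈ Z := hb _ (g⁻¹ e).2
  have e1 : β (g⁻¹ e) = h * g⁻¹ e := by
    refine Subtype.ext ?_
    rw [hβ, Subgroup.coe_mul, hh]
    simp only [inv_mul_cancel_right]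
  have e2 : (g * β * g⁻¹) e = g h * e := by
    rw [MulAut.mul_apply, MulAut.mul_apply, e1, map_mul, MulAut.apply_inv_self]
  -- `h' = [a, e]`
  set! h' : E := ⟨a * (e : Ω) * a⁻¹ * (e : Ω)⁻¹, hZ (ha _ e.2)⟩ with hh'
  have hhZ' : (h' : Ω) ∈ Z := ha _ e.2
  have e3 : α e = h' * e := by
    refine Subtype.ext ?_
    rw [hα, Subgroup.coe_mul, hh']
    simp only [inv_mul_cancel_right]
  -- `β (g⁻¹ h') = l * g⁻¹ h'`, `l ∈ Φ`
  have hl := h2 h' hhZ'
  set! l : E := ⟨b * (g⁻¹ h' : E) * b⁻¹ * ((g⁻¹ h' : E) : Ω)⁻¹, hΦE hl⟩ with hll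
  have e4 : β (g⁻¹ h') = l * g⁻¹ h' := by
    refine Subtype.ext ?_
    rw [hβ, Subgroup.coe_mul, hll]
    simp only [inv_mul_cancel_right]
  have e5 : (g * β * g⁻¹) (α e) = g l * h' * (g h * e) := by
    rw [e3, map_mul, e2]
    rw [MulAut.mul_apply, MulAut.mul_apply, e4, map_mul, MulAut.apply_inv_self]
  have e6 : ((α ((g * β * g⁻¹) e) : E) : Ω) = (a * (g h : E) * a⁻¹ * ((g h : E) : Ω)⁻¹) * (g h : E) * (h' * e) := by
    rw [e2, map_mul, Subgroup.coe_mul, e3, Subgroup.coe_mul, hα]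
    group
  have hgl : ((g l : E) : Ω) ∈ Φ := hg l hl
  have hm := h1 h hhZ
  rw [e6, e5]
  simp only [Subgroup.coe_mul, mul_inv_rev]
  set m := a * (g h : E) * a⁻¹ * ((g h : E) : Ω)⁻¹ with hmm
  have hc : ((g h : E) : Ω) * (h' : Ω) * ((g h : E) : Ω)⁻¹ * (h' : Ω)⁻¹ ∈ Φ := hEE _ (g h).2 _ h'.2
  have e7 : m * ((g h : E) : Ω) * ((h' : Ω) * (e : Ω)) * (((e : Ω)⁻¹ * ((g h : E) : Ω)⁻¹) * ((h' : Ω)⁻¹ * ((g l : E) : Ω)⁻¹)) =
      m * (((g h : E) : Ω) * (h' : Ω) * ((g h : E) : Ω)⁻¹ * (h' : Ω)⁻¹) * ((g l : E) : Ω)⁻¹ := by group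
  rw [e7]
  exact Φ.mul_mem (Φ.mul_mem hm hc) (Φ.inv_mem hgl)

end gen

section sy

variable {F K : Type u} [Field F] [Field K] [Algebra F K] {φ : K ≃ₐ[F] K} [Cub φ]

theorem exists_reg {E : Subgroup (Sy φ)} (hm : Mixed E) : ∃ e ∈ E, e.x1 ≠ 0 ∧ e.x6 ≠ 0 := by
  obtain ⟨h1, h2⟩ := hm
  obtain ⟨x, hx, hx1⟩ := SetLike.not_le_iff_exists.1 h1
  obtain ⟨y, hy, hy6⟩ := SetLike.not_le_iff_exists.1 h2
  rw [mem_Q1] at hx1
  rw [mem_Q2] at hy6
  by_cases hx6 : x.x6 = 0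
  · by_cases hy1 : y.x1 = 0
    · exact ⟨x * y, E.mul_mem hx hy, by rw [mul_x1, hy1, add_zero]; exact hx1, by rw [mul_x6, hx6, zero_add]; exact hy6⟩
    · exact ⟨y, hy, hy1, hy6⟩
  · exact ⟨x, hx, hx1, hx6⟩

theorem Z4_le_norm {E : Subgroup (Sy φ)} (hz : Z3 φ ≤ E) : Z4 φ ≤ normalizerIn ⊤ E := by
  intro z hzz
  refine Subgroup.mem_inf.2 ⟨Subgroup.mem_top _, ?_⟩
  have h1 : ∀ w ∈ Z4 φ, ∀ e ∈ E, w * e * w⁻¹ ∈ E := by
    intro w hw e he
    have h2 : w * e * w⁻¹ = ⁅e, w⁆⁻¹ * e := by rw [commutatorElement_inv, commutatorElement_def, inv_mul_cancel_right]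
    rw [h2]
    exact E.mul_mem (E.inv_mem (hz (comm_mem_Z3 hw))) he
  rw [Subgroup.mem_normalizer_iff]
  intro e
  refine ⟨h1 z hzz e, fun h => ?_⟩
  have h2 := h1 z⁻¹ ((Z4 φ).inv_mem hzz) _ h
  rwa [inv_inv, ← mul_assoc, ← mul_assoc, inv_mul_cancel, one_mul, inv_mul_cancel_right] at h2

theorem comZ4 {E : Subgroup (Sy φ)} {z e : Sy φ} (hz : z ∈ Z4 φ) : z * e * z⁻¹ * e⁻¹ ∈ Z3 φ := by
  have h2 : z * e * z⁻¹ * e⁻¹ = ⁅e, z⁆⁻¹ := by rw [commutatorElement_inv, commutatorElement_def]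
  rw [h2]
  exact (Z3 φ).inv_mem (comm_mem_Z3 hz)

end sy

/-- (M3b) -/
theorem stM3b (hphi : StPhi.{u}) (hcm : StCm.{u}) (m3a : StM3a.{u}) : StM3b.{u} := by
  intro F K _ _ _ _ _ φ _ _ E Γ hE hm hz3 hz4
  haveI : Finite E := Finite.of_injective (fun e : E => (e : Sy φ)) Subtype.val_injective
  have hpE : IsPGroup 2 E := by
    have h1 := hE.pgr.of_injective (Subgroup.inclusion hE.E_le) (Subgroup.inclusion_injective _)
    exact h1
  obtain ⟨hΦE, hEE, -, -, hinv, -⟩ := hphi E 2 Nat.prime_two inferInstance hpE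
  have hZ1E : Z1 φ ≤ E := (Z1_le_Z2.trans Z2_le_Z3).trans hz3
  -- the stabilizer of `Z1`
  let Γ0 : Subgroup (MulAut E) :=
    { carrier := {γ | ∀ e : E, (e : Sy φ) ∈ Z1 φ ↔ ((γ e : E) : Sy φ) ∈ Z1 φ}
      one_mem' := fun e => Iff.rfl
      mul_mem' := fun {γ δ} hγ hδ e => (hδ e).trans (hγ (δ e))
      inv_mem' := fun {γ} hγ e => by
        have h := hγ (γ⁻¹ e)
        rw [MulAut.apply_inv_self] at h
        exact h.symm }
  have hfin : ∀ γ : MulAut E, (∀ e : E, (e : Sy φ) ∈ Z1 φ → ((γ e : E) : Sy φ) ∈ Z1 φ) → γ ∈ Γ0 := by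
    intro γ h e
    refine ⟨h e, fun he => ?_⟩
    let f : {e : E // (e : Sy φ) ∈ Z1 φ} → {e : E // (e : Sy φ) ∈ Z1 φ} := fun e => ⟨γ e.1, h _ e.2⟩
    have hf : Function.Injective f := fun x y hxy => Subtype.ext (γ.injective (congrArg Subtype.val hxy))
    obtain ⟨y, hy⟩ := (Finite.injective_iff_surjective.1 hf) ⟨γ e, he⟩
    have h1 : γ y.1 = γ e := congrArg Subtype.val hy
    rw [← γ.injective h1]
    exact y.2
  have key : Γ ≤ Γ0 := by
    refine hcm hE Γ0 (Z4 φ) (Z4_le_norm hz3) hz4 ?_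
    intro g hg hg0 a ha b hb e α β hα hβ
    refine comm_mod α (g * β * g⁻¹) ?_ e
    have hi : g⁻¹ ∈ Γ := Γ.inv_mem hg
    have hi0 : g⁻¹ ∉ Γ0 := fun h => hg0 (by have := Γ0.inv_mem h; rwa [inv_inv] at this)
    refine comm_key hΦE hEE (fun e he => (hinv Γ).2 g hg e he) hα hβ hz3 (fun e _ => comZ4 (E := E) ha)
      (fun e _ => comZ4 (E := E) hb) ?_ ?_
    · intro z hz
      by_contra hcon
      exact hg0 (hfin g (m3a hE hm hz3 g hg z hz a ha hcon).2.2.2)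
    · intro z hz
      by_contra hcon
      exact hi0 (hfin g⁻¹ (m3a hE hm hz3 g⁻¹ hi z hz b hb hcon).2.2.2)
  exact ⟨hZ1E, fun γ hγ e he => (key hγ e).1 he⟩

/-- (M3c) -/
theorem stM3c (hhull : StHull.{u}) (m3a : StM3a.{u}) (m3b : StM3b.{u}) : StM3c.{u} := by
  intro F K _ _ _ _ _ φ _ _ E Γ hE hm hz3 hz4
  have hinv := m3b hE hm hz3 hz4
  have h2K : (2 : K) = 0 := CharTwo.two_eq_zero
  have h2F : (2 : F) = 0 := by
    apply (algebraMap F K).injective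
    rw [map_ofNat, map_zero, h2K]
  obtain ⟨γ, hγ, g, hg, z, hz, hcon⟩ := hhull hE (Z4 φ) (Z3 φ) le_top hz3 (fun z hz e _ => comZ4 (E := E) hz) hz4
  obtain ⟨hy6, hy1, hyF, -⟩ := m3a hE hm hz3 γ hγ g hg z hz hcon
  set y : Sy φ := ((γ g : E) : Sy φ) with hydef
  obtain ⟨e, he, he1, he6⟩ := exists_reg hm
  refine ⟨y.x1, hy1, ?_, y, (γ g).2, rfl, hy6⟩
  intro x hx
  obtain ⟨s, hs⟩ := hyF x hx
  by_cases hs0 : s = 0
  · left; rw [hs, hs0, zero_smul]
  right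
  by_contra hne
  have hs1 : s ≠ 1 := fun h => hne (by rw [hs, h, one_smul])
  -- `Z2(E) ≤ Z3`
  have hZ2 : ∀ w ∈ E, (∀ e' ∈ E, ⁅e', w⁆ ∈ Z1 φ) → w.x5 = 0 := by
    intro w hw hwc
    have hwc' : ∀ e' ∈ E, ⁅w, e'⁆ ∈ Z1 φ := fun e' he' => by
      rw [← commutatorElement_inv]; exact (Z1 φ).inv_mem (hwc e' he')
    have hw1 : w.x1 = 0 := by
      apply tr_nondeg φ
      intro b
      have h := (hwc' _ (hz3 (u3_mem b))).2.2.2.2
      rw [comm_x2' (u3_mem b)] at h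
      exact h
    have hw6 : w.x6 = 0 := by
      have h := (hwc' e he).2.2.1
      rw [comm_x5, hw1, smul_zero, zero_sub, neg_eq_zero, smul_eq_zero] at h
      exact h.resolve_right he1
    have hw4 : w ∈ Z4 φ := ⟨hw1, hw6⟩
    have hy := hwc y (γ g).2
    have hy3 := hy.2.2.2.1
    rw [comm_x3 hw4] at hy3
    obtain ⟨β, hβ⟩ := cr_eq_zero_two φ h2K hy1 hy3
    have hy2 := hy.2.2.2.2
    rw [comm_x2 hw4, hβ, mul_smul_comm, tr_smul, tr_sh_mul] at hy2
    have hx := (hwc x hx).2.2.2.2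
    rw [comm_x2 hw4, hβ, hs, sh_smul, smul_mul_assoc, smul_mul_assoc, mul_smul_comm, tr_smul, tr_smul, tr_smul,
      tr_sh_mul] at hx
    have h3 : (s ^ 2 - s) * (β * (3 * nm φ y.x1)) = 0 := by
      linear_combination hx - s * hy2
    have h4 : (3 : F) ≠ 0 := by
      have : (3 : F) = 1 := by linear_combination h2F
      rw [this]; exact one_ne_zero
    have h5 : nm φ y.x1 ≠ 0 := fun h => hy1 ((nm_eq_zero φ).1 h)
    have h6 : s ^ 2 - s ≠ 0 := by
      intro h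
      have : s * (s - 1) = 0 := by linear_combination h
      rcases mul_eq_zero.1 this with h | h
      · exact hs0 h
      · exact hs1 (sub_eq_zero.1 h)
    have h7 : β = 0 := by
      rcases mul_eq_zero.1 h3 with h | h
      · exact absurd h h6
      · rcases mul_eq_zero.1 h with h | h
        · exact h
        · exact absurd h (mul_ne_zero h4 h5)
    rw [hβ, h7, zero_smul]
  -- `[y, e] = γ [g, γ⁻¹ e]`
  set! e0 : E := ⟨e, he⟩ with he0
  have hc : ⁅γ g, e0⁆ = γ ⁅g, γ⁻¹ e0⁆ := by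
    rw [map_commutatorElement, MulAut.apply_inv_self]
  have hc2 : ((⁅g, γ⁻¹ e0⁆ : E) : Sy φ) ∈ Z2 φ := by
    have h1 : ((⁅g, γ⁻¹ e0⁆ : E) : Sy φ) = ⁅(g : Sy φ), ((γ⁻¹ e0 : E) : Sy φ)⁆ := by
      simp only [commutatorElement_def, Subgroup.coe_mul, Subgroup.coe_inv]
    rw [h1, ← commutatorElement_inv]
    exact (Z2 φ).inv_mem (comm_mem_Z2 hg)
  have hc3 : ∀ e' ∈ E, ⁅e', ((γ ⁅g, γ⁻¹ e0⁆ : E) : Sy φ)⁆ ∈ Z1 φ := by
    intro e' he'
    have h1 : ∀ c : E, ⁅e', ((γ c : E) : Sy φ)⁆ = ((γ ⁅γ⁻¹ ⟨e', he'⟩, c⁆ : E) : Sy φ) := fun c => by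
      rw [map_commutatorElement, MulAut.apply_inv_self]
      rfl
    rw [h1]
    refine hinv.2 γ hγ _ ?_
    have h2 : ((⁅γ⁻¹ ⟨e', he'⟩, ⁅g, γ⁻¹ e0⁆⁆ : E) : Sy φ) =
        ⁅((γ⁻¹ ⟨e', he'⟩ : E) : Sy φ), ((⁅g, γ⁻¹ e0⁆ : E) : Sy φ)⁆ := by
      simp only [commutatorElement_def, Subgroup.coe_mul, Subgroup.coe_inv]
    rw [h2, comm_Z2 hc2]
    exact u4_mem _
  have hc4 := hZ2 _ (γ ⁅g, γ⁻¹ e0⁆).2 hc3
  rw [← hc] at hc4
  have hc5 : ((⁅γ g, e0⁆ : E) : Sy φ) = ⁅y, e⁆ := rfl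
  rw [hc5, comm_x5, hy6, zero_smul, sub_zero, smul_eq_zero] at hc4
  rcases hc4 with h | h
  · exact he6 h
  · exact hy1 h

theorem stM3b_eng (e : Eng.{u}) (m3a : StM3a.{u}) : StM3b.{u} := stM3b e.phi e.cm m3a

theorem stM3c_eng (e : Eng.{u}) (m3a : StM3a.{u}) : StM3c.{u} := stM3c e.hull m3a (stM3b_eng e m3a)

end Cfsg.Agent.H752.TE
end

-- part: H775/TE/Bo
section
/-!
# S5261, part E, [TE-Bo]: `p` odd, `E ≤ Q2` not in a line: `Z3 ≤ E`
-/

set_option autoImplicit false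
set_option linter.unusedSectionVars false

namespace Cfsg.Agent.H775.TE

open Cfsg Cfsg.FusionSystem Cfsg.Agent.H756.PU
open Cfsg.Agent.H765.D3 Cfsg.Agent.H765.D3.Sy
open Cfsg.Agent.H802.TE
open Cfsg.Agent.H511.TE (quad_indep quad_span two_ne_of_charP cr_injective)
open Cfsg.Agent.Hex.Defs (sh cr nm tr)
open scoped commutatorElement

universe u

section Lin

variable {F K : Type u} [Field F] [Field K] [Algebra F K] (φ : K ≃ₐ[F] K) [Cub φ]

include φ in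
theorem card_K : Nat.card K = Nat.card F ^ 3 := by
  obtain ⟨θ, hθ⟩ := Cub.ne (φ := φ)
  have hb : Function.Bijective (fun v : F × F × F =>
      algebraMap F K v.1 + algebraMap F K v.2.1 * θ + algebraMap F K v.2.2 * θ ^ 2) := by
    refine ⟨fun v w h => ?_, fun s => ?_⟩
    · have h1 : algebraMap F K (v.1 - w.1) + algebraMap F K (v.2.1 - w.2.1) * θ +
          algebraMap F K (v.2.2 - w.2.2) * θ ^ 2 = 0 := by
        simp only [map_sub]
        linear_combination h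
      obtain ⟨e1, e2, e3⟩ := quad_indep φ hθ h1
      exact Prod.ext (sub_eq_zero.1 e1) (Prod.ext (sub_eq_zero.1 e2) (sub_eq_zero.1 e3))
    · obtain ⟨x, y, z, h⟩ := quad_span φ hθ s
      exact ⟨(x, y, z), h.symm⟩
  rw [← Nat.card_congr (Equiv.ofBijective _ hb), Nat.card_prod, Nat.card_prod]
  ring

/-- the pairing with `(a, c)` -/
noncomputable def pr (a c : K) : K →ₗ[F] F × F where
  toFun b := (tr φ (a * b), tr φ (c * b))
  map_add' x y := by simp only [mul_add, tr_add, Prod.mk_add_mk]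
  map_smul' s x := by
    simp only [mul_smul_comm, tr_smul, Prod.smul_mk, smul_eq_mul, RingHom.id_apply]

variable {φ}

theorem pr_surj {a c : K} (hind : ∀ l m : F, l • a + m • c = 0 → l = 0 ∧ m = 0) :
    Function.Surjective (pr φ a c) := by
  rw [← LinearMap.range_eq_top]
  by_contra hne
  obtain ⟨f, hf, hle⟩ := Submodule.exists_le_ker_of_lt_top _ (lt_top_iff_ne_top.2 hne)
  have h1 : ∀ v : F × F, f v = v.1 * f (1, 0) + v.2 * f (0, 1) := fun v => by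
    have : v = v.1 • ((1, 0) : F × F) + v.2 • ((0, 1) : F × F) := by
      ext <;> simp
    conv_lhs => rw [this]
    rw [map_add, map_smul, map_smul, smul_eq_mul, smul_eq_mul]
  have h2 : f (1, 0) • a + f (0, 1) • c = 0 := by
    apply tr_nondeg φ
    intro b
    have h3 := hle ⟨b, rfl⟩
    rw [LinearMap.mem_ker, h1] at h3
    have h4 : tr φ (a * b) * f (1, 0) + tr φ (c * b) * f (0, 1) = 0 := h3
    rw [add_mul, tr_add, smul_mul_assoc, smul_mul_assoc, tr_smul, tr_smul]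
    linear_combination h4
  obtain ⟨h4, h5⟩ := hind _ _ h2
  apply hf
  ext
  · simpa only [_root_.LinearMap.coe_comp, _root_.LinearMap.coe_inl, _root_.Function.comp_apply, _root_.LinearMap.zero_comp, _root_.LinearMap.zero_apply] using h4
  · simpa only [_root_.LinearMap.coe_comp, _root_.LinearMap.coe_inr, _root_.Function.comp_apply, _root_.LinearMap.zero_comp, _root_.LinearMap.zero_apply] using h5

theorem card_ker_pr [Finite K] [Finite F] {a c : K} (hind : ∀ l m : F, l • a + m • c = 0 → l = 0 ∧ m = 0) :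
    Nat.card (LinearMap.ker (pr φ a c)) = Nat.card F := by
  have h1 := AddSubgroup.card_mul_index (pr φ a c).toAddMonoidHom.ker
  rw [AddSubgroup.index_ker, AddMonoidHom.range_eq_top.2 (pr_surj hind)] at h1
  have h2 : Nat.card ((⊤ : AddSubgroup (F × F))) = Nat.card F ^ 2 := by
    rw [AddSubgroup.card_top, Nat.card_prod, sq]
  rw [h2, card_K φ] at h1
  have h3 : 0 < Nat.card F ^ 2 := pow_pos Nat.card_pos 2
  have h4 : Nat.card (pr φ a c).toAddMonoidHom.ker = Nat.card F :=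
    Nat.eq_of_mul_eq_mul_right h3 (by rw [h1]; ring)
  rw [← h4]
  rfl

/-- the double orthogonal complement -/
theorem mem_span_of_tr {a c h : K} (hh : ∀ b : K, tr φ (a * b) = 0 → tr φ (c * b) = 0 → tr φ (h * b) = 0) :
    ∃ l m : F, h = l • a + m • c := by
  have key : ∀ x : K, ∃ f : K →ₗ[F] F, ∀ b, f b = tr φ (x * b) := fun x =>
    ⟨{ toFun := fun b => tr φ (x * b)
       map_add' := fun _ _ => by rw [mul_add, tr_add]
       map_smul' := fun s y => by rw [mul_smul_comm, tr_smul]; rfl }, fun b => rfl⟩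
  obtain ⟨fa, hfa⟩ := key a
  obtain ⟨fc, hfc⟩ := key c
  obtain ⟨fh, hfh⟩ := key h
  have h1 : fh ∈ Submodule.span F (Set.range ![fa, fc]) := by
    apply mem_span_of_iInf_ker_le_ker
    intro b hb
    rw [Submodule.mem_iInf] at hb
    have h0 := hb 0
    have h1 := hb 1
    simp only [Matrix.cons_val_zero, Matrix.cons_val_one, LinearMap.mem_ker] at h0 h1 ⊢
    rw [hfh]
    exact hh b (by rw [← hfa]; exact h0) (by rw [← hfc]; exact h1)
  have h2 : Set.range ![fa, fc] = {fa, fc} := by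
    ext x
    simp [eq_comm, or_comm]
  rw [h2, Submodule.mem_span_pair] at h1
  obtain ⟨l, m, h3⟩ := h1
  refine ⟨l, m, ?_⟩
  rw [← sub_eq_zero]
  apply tr_nondeg φ
  intro b
  have h4 := LinearMap.congr_fun h3 b
  rw [hfh] at h4
  rw [sub_mul, add_mul, smul_mul_assoc, smul_mul_assoc, tr_sub, tr_add, tr_smul, tr_smul, ← h4, ← hfa, ← hfc]
  simp only [_root_.LinearMap.add_apply, _root_.LinearMap.smul_apply, _root_.smul_eq_mul, _root_.sub_self]

theorem no_quad (h2 : (2 : K) ≠ 0) {a c : K} {l m : F} (h : l • cr φ a a + m • cr φ a c = cr φ c c)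
    (hind : ∀ l m : F, l • a + m • c = 0 → l = 0 ∧ m = 0) : False := by
  have ha : a ≠ 0 := by
    rintro rfl
    have := (hind 1 0 (by simp)).1
    exact one_ne_zero this
  obtain ⟨t, ht⟩ : ∃ t : K, c = a * t := ⟨c / a, (mul_div_cancel₀ c ha).symm⟩
  have hsa : sh φ a ≠ 0 := fun e => ha ((sh_eq_zero φ).1 e)
  have htt : φ t ≠ t := fun e => by
    obtain ⟨s, hs⟩ := exists_coe φ e
    have := (hind s (-1) (by
      rw [ht, ← hs, Algebra.smul_def, neg_one_smul]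
      ring)).2
    exact one_ne_zero (neg_eq_zero.1 this)
  have e0 : sh φ a * (2 * algebraMap F K l + algebraMap F K m * (φ t + φ (φ t)) - 2 * (φ t * φ (φ t))) = 0 := by
    have e : l • cr φ a a + m • cr φ a (a * t) - cr φ (a * t) (a * t) = 0 := by
      rw [← ht, h, sub_self]
    rw [← e]
    cub
  have e1 := (mul_eq_zero.1 e0).resolve_left hsa
  have e2 := congrArg φ e1
  simp only [map_add, map_sub, map_mul, map_ofNat, phi_coe, phi3, map_zero] at e2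
  have e3 : (φ t - t) * (algebraMap F K m - 2 * φ (φ t)) = 0 := by linear_combination e1 - e2
  have e4 := (mul_eq_zero.1 e3).resolve_left (sub_ne_zero.2 htt)
  have e5 := congrArg φ e4
  simp only [map_sub, map_mul, map_ofNat, phi_coe, phi3, map_zero] at e5
  have e6 : 2 * (φ (φ t) - t) = 0 := by linear_combination e5 - e4
  have e7 := sub_eq_zero.1 ((mul_eq_zero.1 e6).resolve_left h2)
  apply htt
  have := congrArg φ e7
  rw [phi3] at this
  exact this.symm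

end Lin

section Grp

variable {F K : Type u} [Field F] [Field K] [Algebra F K] {φ : K ≃ₐ[F] K} [Cub φ]

theorem comm_Q2_x3 {x y : Sy φ} (hx : x.x6 = 0) (hy : y.x6 = 0) :
    (⁅x, y⁆).x3 = cr φ x.x1 y.x5 - cr φ y.x1 x.x5 := by
  have := congrArg Sy.x3 (comm_mul x y)
  rw [mul_x3, mul_x3, mul_x3, comm_x1, hx, hy, mul_x6, hx, hy] at this
  simp only [cr_zero_left, zero_smul, add_zero] at this
  linear_combination -this

theorem le_normalizer {G : Type*} [Group G] {A E : Subgroup G} (h : Com A E E) :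
    A ≤ Subgroup.normalizer (E : Set G) := by
  have key : ∀ x ∈ A, ∀ e ∈ E, x * e * x⁻¹ ∈ E := fun x hx e he => by
    have := mul_mem (h x hx e he) he
    simpa only [_root_.inv_mul_cancel_right] using this
  intro x hx
  rw [Subgroup.mem_normalizer_iff]
  intro e
  refine ⟨key x hx e, fun h1 => ?_⟩
  have := key x⁻¹ (_root_.InvMemClass.inv_mem hx) _ h1
  simpa [mul_assoc] using this

theorem card_mul_relIndex {G : Type*} [Group G] {H L : Subgroup G} (h : H ≤ L) :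
    Nat.card H * H.relIndex L = Nat.card L := by
  rw [← Subgroup.relIndex_bot_left, Subgroup.relIndex_mul_relIndex _ _ _ bot_le h, Subgroup.relIndex_bot_left]

theorem count {q B i j m : ℕ} (hq : 0 < q) (h1 : B * i = q ^ 5) (h2 : B ≤ q ^ 3) (h3 : m * j = q ^ 2)
    (h4 : i ≤ j) : m = 1 ∧ i = q ^ 2 ∧ B = q ^ 3 := by
  have hq3 : 0 < q ^ 3 := pow_pos hq 3
  have hq2 : 0 < q ^ 2 := pow_pos hq 2
  have hm : 0 < m := Nat.pos_of_ne_zero fun e => by rw [e, zero_mul] at h3; omega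
  have h5 : j ≤ q ^ 2 := by rw [← h3]; exact Nat.le_mul_of_pos_left _ hm
  have h6 : q ^ 2 ≤ i := by
    have : q ^ 3 * q ^ 2 ≤ q ^ 3 * i := by
      calc q ^ 3 * q ^ 2 = B * i := by rw [h1]; ring
        _ ≤ q ^ 3 * i := Nat.mul_le_mul_right _ h2
    exact Nat.le_of_mul_le_mul_left this hq3
  have h7 : i = q ^ 2 := le_antisymm (h4.trans h5) h6
  have h8 : j = q ^ 2 := le_antisymm h5 (h6.trans h4)
  refine ⟨?_, h7, ?_⟩
  · rw [h8] at h3
    exact Nat.eq_of_mul_eq_mul_right hq2 (by rw [h3, one_mul])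
  · rw [h7] at h1
    exact Nat.eq_of_mul_eq_mul_right hq2 (by rw [h1]; ring)

end Grp

theorem stBo (hphi : StPhi.{u}) (hp2 : StP2.{u}) (hp2w : StP2w.{u}) (hhull : StHull.{u}) : StBo.{u} := by
  intro F K _ _ _ _ _ φ _ p _ E Γ hess hp hE hL
  by_contra hZ
  have h2 : (2 : K) ≠ 0 := two_ne_of_charP hp
  have hx6 : ∀ e ∈ E, e.x6 = 0 := fun e he => hE he
  obtain ⟨hΦE, hΦc, -, -, -, -⟩ := hphi E p hess.pp inferInstance (hess.pgr.to_le le_top)
  -- `Z2` is central in `E`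
  have hcomm : ∀ z ∈ Z2 φ, ∀ e ∈ E, z * e = e * z := fun z hz e he => by
    have h1 := comm_Z2 (x := e) hz
    rw [hx6 e he, zero_mul] at h1
    exact (commutatorElement_eq_one_iff_mul_comm.1 h1).symm
  have hZ2E : Z2 φ ≤ E := fun z hz => hess.cent z trivial (hcomm z hz)
  have hC3 : Com (Z3 φ) E (Z2 φ) := fun z hz e he => by
    have h1 := (Z2 φ).inv_mem (comm_mem_Z2 (x := e) hz)
    rw [commutatorElement_inv] at h1
    exact h1
  have hN : Z3 φ ≤ normalizerIn ⊤ E :=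
    le_inf le_top (le_normalizer fun z hz e he => hZ2E (hC3 z hz e he))
  -- the element `u`
  obtain ⟨γ, hγ, y, hy, w, hw, hnot⟩ := hhull hess (Z3 φ) (Z2 φ) le_top hZ2E hC3 hZ
  obtain ⟨u, hudef⟩ : ∃ u : Sy φ, u = ((γ y : E) : Sy φ) := ⟨_, rfl⟩
  rw [← hudef] at hnot
  have huE : u ∈ E := by rw [hudef]; exact (γ y).2
  have hu6 : u.x6 = 0 := hx6 u huE
  have hu : ∀ e ∈ E, ⁅u, e⁆ = 1 := fun e he => by
    rw [commutatorElement_eq_one_iff_mul_comm]
    have h1 : y * γ.symm ⟨e, he⟩ = γ.symm ⟨e, he⟩ * y := (Subtype.ext (hcomm y hy _ (γ.symm ⟨e, he⟩).2) : _)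
    have h3 := congrArg γ h1
    rw [map_mul, map_mul, MulEquiv.apply_symm_apply] at h3
    have h4 := congrArg Subtype.val h3
    rw [hudef]
    exact h4
  obtain ⟨a, ha⟩ : ∃ a, a = u.x1 := ⟨_, rfl⟩
  obtain ⟨c, hc⟩ : ∃ c, c = u.x5 := ⟨_, rfl⟩
  have hne : a ≠ 0 ∨ c ≠ 0 := by
    by_contra hcon
    push Not at hcon
    apply hnot
    have h1 : u ∈ Z3 φ := ⟨by rw [← ha]; exact hcon.1, hu6, by rw [← hc]; exact hcon.2⟩
    have h3 : w * u * w⁻¹ * u⁻¹ = 1 := comm_Z3_Z3 hw h1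
    rw [h3]
    exact one_mem _
  have star : ∀ e ∈ E, cr φ a e.x5 = cr φ e.x1 c := fun e he => by
    have h1 := comm_Q2_x3 hu6 (hx6 e he)
    rw [hu e he, one_x3, ← ha, ← hc] at h1
    exact (sub_eq_zero.1 h1.symm)
  have hind : ∀ l m : F, l • a + m • c = 0 → l = 0 ∧ m = 0 := by
    intro l m hlm
    by_contra hcon
    apply hL
    refine ⟨l, m, by (clear * - hcon; tauto), fun e he => ?_⟩
    have e1 : cr φ a (l • e.x1 + m • e.x5) = 0 := by
      rw [cr_add_right, cr_smul_right, cr_smul_right, star e he, cr_comm φ a, ← cr_smul_right, ← cr_smul_right,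
        ← cr_add_right, hlm, cr_zero_right]
    have e2 : cr φ c (l • e.x1 + m • e.x5) = 0 := by
      rw [cr_add_right, cr_smul_right, cr_smul_right, cr_comm φ c, ← star e he, cr_comm φ a, cr_comm φ c,
        ← cr_smul_right, ← cr_smul_right, ← cr_add_right, hlm, cr_zero_right]
    rcases hne with h | h
    · exact (cr_eq_zero φ h2 e1).resolve_left h
    · exact (cr_eq_zero φ h2 e2).resolve_left h
  have ha0 : a ≠ 0 := by
    intro h
    exact one_ne_zero (hind 1 0 (by rw [h]; simp)).1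
  -- the subgroup `E ⊓ Z3`
  have hEP : ∀ x ∈ E, x ∈ Z3 φ → tr φ (a * x.x3) = 0 ∧ tr φ (c * x.x3) = 0 := fun x hx hx3 => by
    have h1 := hu x hx
    have h3 := comm_x2' (x := u) hx3
    have h4 := comm_x4' (x := u) hx3
    rw [h1, one_x2, ← ha] at h3
    rw [h1, one_x4, hu6, zero_mul, zero_mul, add_zero, zero_sub, ← hc, mul_comm] at h4
    exact ⟨h3.symm, neg_eq_zero.1 h4.symm⟩
  let P : Set (Sy φ) := {x | x ∈ Z3 φ ∧ tr φ (a * x.x3) = 0 ∧ tr φ (c * x.x3) = 0}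
  have hcardP : Nat.card P = Nat.card F ^ 3 := by
    have h1 : Nat.card P = Nat.card (LinearMap.ker (pr φ a c) × F × F) :=
      Nat.card_congr
        { toFun := fun x => (⟨x.1.x3, by
            rw [LinearMap.mem_ker]
            exact Prod.ext x.2.2.1 x.2.2.2⟩, x.1.x2, x.1.x4)
          invFun := fun v => ⟨⟨0, 0, 0, v.1.1, v.2.1, v.2.2⟩, ⟨rfl, rfl, rfl⟩,
            congrArg Prod.fst (LinearMap.mem_ker.1 v.1.2), congrArg Prod.snd (LinearMap.mem_ker.1 v.1.2)⟩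
          left_inv := fun x => by
            obtain ⟨x, ⟨h1, h2, h3⟩, h4⟩ := x
            apply Subtype.ext
            ext
            exacts [h1.symm, h2.symm, h3.symm, rfl, rfl, rfl]
          right_inv := fun v => rfl }
    rw [h1, Nat.card_prod, Nat.card_prod, card_ker_pr hind]
    ring
  have hsub : ((E ⊓ Z3 φ : Subgroup (Sy φ)) : Set (Sy φ)) ⊆ P := fun x hx => ⟨hx.2, hEP x hx.1 hx.2⟩
  have hB : Nat.card ↥(E ⊓ Z3 φ) ≤ Nat.card F ^ 3 := by
    rw [← hcardP]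
    exact Nat.card_le_card_of_injective (Set.inclusion hsub) (Set.inclusion_injective hsub)
  have h1 : Nat.card ↥(E ⊓ Z3 φ) * E.relIndex (Z3 φ) = Nat.card F ^ 5 := by
    have h := card_mul_relIndex (inf_le_right : E ⊓ Z3 φ ≤ Z3 φ)
    rw [Subgroup.inf_relIndex_right, card_Z3, card_K φ] at h
    rw [h]
    ring
  have h3 : Nat.card ↥(Z2 φ ⊓ Phi E) * (Z2 φ ⊓ Phi E).relIndex (Z2 φ) = Nat.card F ^ 2 := by
    rw [card_mul_relIndex inf_le_left, card_Z2]
  have h4 : E.relIndex (Z3 φ) ≤ (Z2 φ ⊓ Phi E).relIndex (Z2 φ) := by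
    have h := hp2 hess (Z3 φ) (Z3 φ) (Z2 φ) (Z2 φ) (Z2 φ ⊓ Phi E) (Z2 φ ⊓ Phi E) hN hN hZ hZ2E hZ2E hC3 hC3
      inf_le_right inf_le_right
    rw [← sq] at h
    exact (Nat.pow_le_pow_iff_left (by norm_num)).1 h
  obtain ⟨hm, hi, hBe⟩ := count Nat.card_pos h1 hB h3 h4
  have hbot : Z2 φ ⊓ Phi E = ⊥ := Subgroup.card_eq_one.1 hm
  have hPE : ∀ x ∈ P, x ∈ E := by
    have h5 : ((E ⊓ Z3 φ : Subgroup (Sy φ)) : Set (Sy φ)) = P := by
      apply Set.eq_of_subset_of_ncard_le hsub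
      rw [← Nat.card_coe_set_eq, ← Nat.card_coe_set_eq, hcardP]
      exact hBe.ge
    intro x hx
    rw [← h5] at hx
    exact hx.1
  -- the coordinates of `E` lie in `F a + F c`
  have hperp : ∀ e ∈ E, ∀ b : K, tr φ (a * b) = 0 → tr φ (c * b) = 0 → tr φ (e.x1 * b) = 0 ∧ tr φ (e.x5 * b) = 0 := by
    intro e he b hb1 hb2
    have hbE : u3 φ b ∈ E := hPE _ ⟨u3_mem b, hb1, hb2⟩
    have h5 : ⁅e, u3 φ b⁆ ∈ Z2 φ ⊓ Phi E := ⟨comm_mem_Z2 (u3_mem b), hΦc e he _ hbE⟩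
    rw [hbot, Subgroup.mem_bot] at h5
    have h6 := comm_x2' (x := e) (u3_mem (φ := φ) b)
    have h7 := comm_x4' (x := e) (u3_mem (φ := φ) b)
    rw [h5, one_x2] at h6
    rw [h5, one_x4, hx6 e he, zero_mul, zero_mul, add_zero, zero_sub, mul_comm] at h7
    exact ⟨h6.symm, neg_eq_zero.1 h7.symm⟩
  have hspan1 : ∀ e ∈ E, ∃ l m : F, e.x1 = l • a + m • c := fun e he =>
    mem_span_of_tr fun b hb1 hb2 => (hperp e he b hb1 hb2).1
  have hspan5 : ∀ e ∈ E, ∃ l m : F, e.x5 = l • a + m • c := fun e he =>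
    mem_span_of_tr fun b hb1 hb2 => (hperp e he b hb1 hb2).2
  -- `E / E ⊓ Z3`
  have h5 : E.relIndex (Z3 φ) ≤ (E ⊓ Z3 φ).relIndex E := by
    have hcom : Com (Z3 φ) (E ⊓ Z3 φ) (Phi E) := fun z hz e he => by
      have h : z * e * z⁻¹ * e⁻¹ = 1 := comm_Z3_Z3 hz he.2
      rw [h]
      exact one_mem _
    have h := hp2w hess (Z3 φ) (Z3 φ) (E ⊓ Z3 φ) (E ⊓ Z3 φ) hN hN hZ inf_le_left inf_le_left hcom hcom
    rw [← sq] at h
    exact (Nat.pow_le_pow_iff_left (by norm_num)).1 h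
  let f : E →* Multiplicative K := (hom1 φ).comp E.subtype
  have hker : f.ker = (E ⊓ Z3 φ).subgroupOf E := by
    ext e
    rw [MonoidHom.mem_ker, Subgroup.mem_subgroupOf]
    constructor
    · intro h
      have h6 : (e : Sy φ).x1 = 0 := h
      refine ⟨e.2, h6, hx6 _ e.2, ?_⟩
      have h7 := star _ e.2
      rw [h6, cr_zero_left] at h7
      exact (cr_eq_zero φ h2 h7).resolve_left ha0
    · intro h
      exact h.2.1
  have h6 : (E ⊓ Z3 φ).relIndex E = Nat.card f.range := by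
    rw [Subgroup.relIndex, ← hker, Subgroup.index_ker]
  let D : Set K := {t | ∃ e ∈ E, e.x1 = t}
  have hDcard : Nat.card f.range = D.ncard := by
    rw [← Nat.card_coe_set_eq]
    refine Nat.card_congr (Equiv.subtypeEquiv Multiplicative.toAdd fun t => ?_)
    constructor
    · rintro ⟨e, he⟩
      exact ⟨e, e.2, congrArg Multiplicative.toAdd he⟩
    · rintro ⟨e, he, h⟩
      exact ⟨⟨e, he⟩, h⟩
  let T : Set K := Set.range fun v : F × F => v.1 • a + v.2 • c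
  have hDT : D ⊆ T := by
    rintro _ ⟨e, he, rfl⟩
    obtain ⟨l, m, h⟩ := hspan1 e he
    exact ⟨(l, m), h.symm⟩
  have hT : T.ncard ≤ Nat.card F ^ 2 := by
    rw [← Nat.card_coe_set_eq]
    have h := Finite.card_range_le (fun v : F × F => v.1 • a + v.2 • c)
    rw [Nat.card_prod, ← sq] at h
    exact h
  have hDeq : D = T := by
    apply Set.eq_of_subset_of_ncard_le hDT
    rw [← hDcard, ← h6]
    exact (hT.trans hi.ge).trans h5
  have hcD : c ∈ D := by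
    rw [hDeq]
    exact ⟨(0, 1), by simp⟩
  obtain ⟨e, he, hec⟩ := hcD
  obtain ⟨l, m, hlm⟩ := hspan5 e he
  have h7 := star e he
  rw [hec, hlm, cr_add_right, cr_smul_right, cr_smul_right] at h7
  exact no_quad h2 h7 hind

end Cfsg.Agent.H775.TE
end

-- part: H869/TE/E1
section
/-!
# S5261 (E1): an essential subgroup contained in `Q1` is `Q1` (helper869)

`iso_bound` : `|D|² ≤ |V|` for an isotropic subgroup of a nondegenerate alternating form with values in `ZMod p`.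
-/

set_option autoImplicit false
set_option linter.unusedSectionVars false

namespace Cfsg.Agent.H869.TE

open Cfsg Cfsg.FusionSystem Cfsg.Agent.H756.PU Cfsg.Agent.H802.TE
open Cfsg.Agent.H765.D3 Cfsg.Agent.H765.D3.Sy
open Cfsg.Agent.Hex.Defs (sh cr nm tr)

universe u v

section iso

/-- isotropic subgroups, nondegenerate form -/
theorem iso_bound {V : Type v} [AddCommGroup V] [Finite V] {p : ℕ} [Fact p.Prime] [Module (ZMod p) V]
    (f : V →+ V →+ ZMod p) (hf : ∀ v, (∀ w, f v w = 0) → v = 0) (D : AddSubgroup V)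
    (hD : ∀ v ∈ D, ∀ w ∈ D, f v w = 0) : Nat.card D ^ 2 ≤ Nat.card V := by
  let B : V →ₗ[ZMod p] Module.Dual (ZMod p) V := AddMonoidHom.toZModLinearMap p
    { toFun := fun v => AddMonoidHom.toZModLinearMap p (f v)
      map_zero' := by ext w; simp
      map_add' := fun v w => by ext x; simp }
  have hB : ∀ v w, B v w = f v w := fun v w => rfl
  let W : Submodule (ZMod p) V := AddSubgroup.toZModSubmodule p D
  have hW : ∀ v, v ∈ W ↔ v ∈ D := fun v => Iff.rfl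
  have hinj : Function.Injective (B.domRestrict W) := by
    rw [← LinearMap.ker_eq_bot, LinearMap.ker_eq_bot']
    intro w hw
    apply Subtype.ext
    exact hf _ fun x => by
      rw [← hB]
      exact LinearMap.congr_fun hw x
  have hle : ∀ w, B.domRestrict W w ∈ W.dualAnnihilator := by
    intro w
    rw [Submodule.mem_dualAnnihilator]
    intro x hx
    exact hD _ w.2 _ hx
  have h1 : Module.finrank (ZMod p) W ≤ Module.finrank (ZMod p) W.dualAnnihilator := by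
    refine LinearMap.finrank_le_finrank_of_injective (f := (B.domRestrict W).codRestrict W.dualAnnihilator hle) ?_
    intro a b hab
    exact hinj (congrArg Subtype.val hab)
  have h2 := Subspace.finrank_add_finrank_dualAnnihilator_eq W
  have h3 : Nat.card D = p ^ Module.finrank (ZMod p) W := by
    have h4 : Nat.card D = Nat.card W := rfl
    rw [h4, Module.natCard_eq_pow_finrank (K := ZMod p), Nat.card_zmod]
  have h5 : Nat.card V = p ^ Module.finrank (ZMod p) V := by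
    rw [Module.natCard_eq_pow_finrank (K := ZMod p), Nat.card_zmod]
  rw [h3, h5, ← pow_mul]
  exact Nat.pow_le_pow_right (Fact.out (p := p.Prime)).pos (by omega)

/-- a nonzero functional vanishing on a proper subgroup -/
theorem exists_functional {V : Type v} [AddCommGroup V] {p : ℕ} [Fact p.Prime] [Module (ZMod p) V]
    (Y : AddSubgroup V) (hY : Y ≠ ⊤) : ∃ l : V →+ ZMod p, (∃ v, l v ≠ 0) ∧ ∀ y ∈ Y, l y = 0 := by
  let W : Submodule (ZMod p) V := AddSubgroup.toZModSubmodule p Y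
  have hW : W < ⊤ := by
    rw [lt_top_iff_ne_top]
    intro h
    apply hY
    rw [eq_top_iff]
    intro v _
    have : v ∈ W := by rw [h]; trivial
    exact this
  obtain ⟨f, hf0, hf⟩ := Submodule.exists_le_ker_of_lt_top W hW
  refine ⟨f.toAddMonoidHom, ?_, fun y hy => hf hy⟩
  by_contra hcon
  push Not at hcon
  exact hf0 (LinearMap.ext hcon)

end iso

section

variable {F K : Type u} [Field F] [Field K] [Algebra F K] (φ : K ≃ₐ[F] K) [Cub φ]

theorem nd_F {A : Type*} [AddCommGroup A] {l : F →+ A} (hl : ∃ v, l v ≠ 0) {x : F} (h : ∀ y, l (x * y) = 0) : x = 0 := by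
  by_contra hx
  obtain ⟨v, hv⟩ := hl
  apply hv
  have h1 := h (x⁻¹ * v)
  rwa [mul_inv_cancel_left₀ hx] at h1

include φ in
theorem nd_K {A : Type*} [AddCommGroup A] {l : F →+ A} (hl : ∃ v, l v ≠ 0) {x : K} (h : ∀ y : K, l (tr φ (x * y)) = 0) :
    x = 0 := by
  by_contra hx
  obtain ⟨v, hv⟩ := hl
  obtain ⟨s, hs⟩ := exists_tr_ne φ
  apply hv
  have h1 := h (x⁻¹ * ((v / tr φ s) • s))
  rw [mul_inv_cancel_left₀ hx, tr_smul, div_mul_cancel₀ _ hs] at h1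
  exact h1

/-- the form on the coordinate space `(x6, x5, x3, x2)` -/
noncomputable def fm {A : Type*} [AddCommGroup A] (l : F →+ A) : F × K × K × F →+ F × K × K × F →+ A where
  toFun v :=
    { toFun := fun w => l (v.1 * w.2.2.2 - v.2.2.2 * w.1 - tr φ (v.2.1 * w.2.2.1) + tr φ (v.2.2.1 * w.2.1))
      map_zero' := by simp [tr_zero]
      map_add' := fun w w' => by
        rw [← map_add]
        congr 1
        simp only [Prod.fst_add, Prod.snd_add, mul_add, tr_add]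
        ring }
  map_zero' := by
    apply AddMonoidHom.ext
    intro w
    show l _ = 0
    simp only [tr_zero, _root_.Prod.fst_zero, _root_.MulZeroClass.zero_mul, _root_.Prod.snd_zero, _root_.sub_self, _root_.add_zero, _root_.map_zero]
  map_add' v v' := by
    apply AddMonoidHom.ext
    intro w
    show l _ = l _ + l _
    rw [← map_add]
    congr 1
    simp only [Prod.fst_add, Prod.snd_add, add_mul, tr_add]
    ring

theorem fm_apply {A : Type*} [AddCommGroup A] (l : F →+ A) (v w : F × K × K × F) :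
    fm φ l v w = l (v.1 * w.2.2.2 - v.2.2.2 * w.1 - tr φ (v.2.1 * w.2.2.1) + tr φ (v.2.2.1 * w.2.1)) := rfl

theorem fm_nd {A : Type*} [AddCommGroup A] {l : F →+ A} (hl : ∃ v, l v ≠ 0) {v : F × K × K × F}
    (h : ∀ w, fm φ l v w = 0) : v = 0 := by
  have h1 : v.1 = 0 := nd_F hl fun y => by
    have := h (0, 0, 0, y)
    rw [fm_apply] at this
    simpa only [tr_zero, _root_.MulZeroClass.mul_zero, _root_.sub_zero, _root_.add_zero] using this
  have h2 : v.2.2.2 = 0 := nd_F hl fun y => by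
    have := h (-y, 0, 0, 0)
    rw [fm_apply] at this
    simpa only [tr_zero, _root_.MulZeroClass.mul_zero, _root_.mul_neg, _root_.sub_neg_eq_add, _root_.zero_add, _root_.sub_zero, _root_.add_zero] using this
  have h3 : v.2.1 = 0 := nd_K φ hl fun y => by
    have := h (0, 0, -y, 0)
    rw [fm_apply] at this
    simpa only [tr_zero, tr_neg, _root_.MulZeroClass.mul_zero, _root_.sub_self, _root_.mul_neg, _root_.sub_neg_eq_add, _root_.zero_add, _root_.add_zero] using this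
  have h4 : v.2.2.1 = 0 := nd_K φ hl fun y => by
    have := h (0, y, 0, 0)
    rw [fm_apply] at this
    simpa [tr_zero, tr_neg] using this
  exact Prod.ext h1 (Prod.ext h3 (Prod.ext h4 h2))

end

/-- **(E1)** -/
theorem stE1 (hp2 : StP2.{u}) (hphi : StPhi.{u}) : StE1.{u} := by
  intro F K _ _ _ _ _ φ _ p _ E Γ hE hle
  by_contra hne
  have hpF : Fact p.Prime := ⟨hE.pp⟩
  have hcF : CharP F p := (Algebra.charP_iff F K p).2 inferInstance
  let _ : Algebra (ZMod p) F := ZMod.algebra F p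
  let _ : Algebra (ZMod p) K := ZMod.algebra K p
  have hnot : ¬ Q1 φ ≤ E := fun h => hne (le_antisymm hle h)
  have hEfin : Finite E := inferInstance
  have hEp : IsPGroup p E := by
    have h1 := hE.pgr.to_le (le_top : E ≤ ⊤)
    exact h1
  obtain ⟨hPle, hPcom, -, -, -, -⟩ := hphi E p hE.pp hEfin hEp
  have hZE : Z1 φ ≤ E := fun x hx => hE.cent x trivial fun e _ => by
    rw [← center_eq] at hx
    exact (Subgroup.mem_center_iff.1 hx e).symm
  -- `[Q1, E] ≤ Z1`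
  have hcom : Com (Q1 φ) E (Z1 φ) := fun a ha m hm => by
    have h1 := comm_Q1 ha (hle hm)
    rw [commutatorElement_def] at h1
    rw [h1]
    exact u4_mem _
  have hN : Q1 φ ≤ normalizerIn ⊤ E := by
    refine le_inf le_top fun x hx => ?_
    have h1 : ∀ y ∈ Q1 φ, ∀ e ∈ E, y * e * y⁻¹ ∈ E := fun y hy e he => by
      have h2 := E.mul_mem (hZE (hcom y hy e he)) he
      rwa [inv_mul_cancel_right] at h2
    rw [Subgroup.mem_normalizer_iff]
    intro e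
    refine ⟨h1 x hx e, fun h => ?_⟩
    have h2 := h1 x⁻¹ (_root_.InvMemClass.inv_mem hx) _ h
    have h3 : x⁻¹ * (x * e * x⁻¹) * x⁻¹⁻¹ = e := by group
    rwa [h3] at h2
  -- the inequality
  have hP := hp2 hE (Q1 φ) (Q1 φ) (Z1 φ) (Z1 φ) (Z1 φ ⊓ Phi E) (Z1 φ ⊓ Phi E) hN hN hnot hZE hZE hcom hcom
    inf_le_right inf_le_right
  rw [← pow_two] at hP
  have hi : E.relIndex (Q1 φ) ≤ (Z1 φ ⊓ Phi E).relIndex (Z1 φ) := (Nat.pow_le_pow_iff_left (by norm_num)).1 hP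
  have hi1 : 1 < E.relIndex (Q1 φ) := by
    rcases Nat.lt_or_ge 1 (E.relIndex (Q1 φ)) with h | h
    · exact h
    · exfalso
      have h1 : E.relIndex (Q1 φ) ≠ 0 := (E.subgroupOf (Q1 φ)).index_ne_zero_of_finite
      have h2 : E.relIndex (Q1 φ) = 1 := by omega
      exact hnot (Subgroup.relIndex_eq_one.1 h2)
  have hq : (Z1 φ ⊓ Phi E).relIndex (Z1 φ) ≤ Nat.card F := by
    rw [← card_Z1 (φ := φ)]
    exact Nat.le_of_dvd Nat.card_pos (Subgroup.index_dvd_card _)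
  -- the functional
  let Y : AddSubgroup F :=
    { carrier := {w | u4 φ w ∈ Phi E}
      zero_mem' := (Phi E).one_mem
      add_mem' := fun {a b} ha hb => by
        show u4 φ (a + b) ∈ Phi E
        have h1 : u4 φ (a + b) = u4 φ a * u4 φ b := by
          ext <;> simp [mul_def, u4, tr_zero, cr, sh, nm_zero]
        rw [h1]
        exact mul_mem ha hb
      neg_mem' := fun {a} ha => by
        show u4 φ (-a) ∈ Phi E
        have h1 : u4 φ (-a) = (u4 φ a)⁻¹ := by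
          rw [eq_inv_iff_mul_eq_one]
          ext <;> simp [mul_def, u4, tr_zero, cr, sh, nm_zero]
        rw [h1]
        exact _root_.InvMemClass.inv_mem ha }
  have hY : Y ≠ ⊤ := by
    intro h
    have h1 : (Z1 φ ⊓ Phi E).relIndex (Z1 φ) = 1 := by
      rw [Subgroup.relIndex_eq_one]
      refine le_inf le_rfl fun x hx => ?_
      rw [eq_u4 hx]
      have : x.x4 ∈ Y := by rw [h]; trivial
      exact this
    omega
  obtain ⟨l, hl, hl0⟩ := exists_functional (p := p) Y hY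
  -- the coordinates
  let D : AddSubgroup (F × K × K × F) :=
    { carrier := {v | ∃ x ∈ E, v = (x.x6, x.x5, x.x3, x.x2)}
      zero_mem' := ⟨1, one_mem _, rfl⟩
      add_mem' := by
        rintro _ _ ⟨x, hx, rfl⟩ ⟨y, hy, rfl⟩
        refine ⟨x * y, mul_mem hx hy, ?_⟩
        have hx1 : x.x1 = 0 := hle hx
        simp only [mul_def, hx1, cr, sh, tr_zero, nm_zero, _root_.Prod.mk_add_mk, _root_.zero_add, _root_.smul_zero, _root_.add_zero, _root_.map_zero, _root_.MulZeroClass.zero_mul, _root_.MulZeroClass.mul_zero]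
      neg_mem' := by
        rintro _ ⟨x, hx, rfl⟩
        refine ⟨x⁻¹, _root_.InvMemClass.inv_mem hx, ?_⟩
        have hx1 : x.x1 = 0 := hle hx
        rw [inv_x6, inv_x5, inv_x3, inv_x2, hx1]
        simp [cr, sh, tr_zero, nm_zero] }
  have hDiso : ∀ v ∈ D, ∀ w ∈ D, fm φ l v w = 0 := by
    rintro _ ⟨x, hx, rfl⟩ _ ⟨y, hy, rfl⟩
    rw [fm_apply]
    apply hl0
    show u4 φ (form x y) ∈ Phi E
    rw [← comm_Q1 (hle hx) (hle hy), commutatorElement_def]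
    exact (hPcom x hx y hy :)
  have hD := iso_bound (p := p) (fm φ l) (fun v hv => fm_nd φ hl hv) D hDiso
  -- orders
  have hEc : Nat.card E = Nat.card D * Nat.card F := by
    rw [← Nat.card_prod]
    refine Nat.card_congr ⟨fun x => (⟨((x : Sy φ).x6, (x : Sy φ).x5, (x : Sy φ).x3, (x : Sy φ).x2), x, x.2, rfl⟩,
      (x : Sy φ).x4), fun d => ⟨⟨0, d.1.1.1, d.1.1.2.1, d.1.1.2.2.1, d.1.1.2.2.2, d.2⟩, ?_⟩, fun x => ?_, fun d => rfl⟩
    · obtain ⟨⟨v, x, hx, rfl⟩, w⟩ := d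
      have hx1 : x.x1 = 0 := hle hx
      have h1 : (⟨0, x.x6, x.x5, x.x3, x.x2, w⟩ : Sy φ) = u4 φ (w - x.x4) * x := by
        ext <;> simp [mul_def, u4, hx1, cr, sh, tr_zero, nm_zero]
      show (⟨0, x.x6, x.x5, x.x3, x.x2, w⟩ : Sy φ) ∈ E
      rw [h1]
      exact mul_mem (hZE (u4_mem _)) hx
    · apply Subtype.ext
      have hx1 : (x : Sy φ).x1 = 0 := hle x.2
      ext
      exacts [hx1.symm, rfl, rfl, rfl, rfl, rfl]
  have hV : Nat.card (F × K × K × F) = (Nat.card F * Nat.card K) ^ 2 := by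
    rw [Nat.card_prod, Nat.card_prod, Nat.card_prod]; ring
  have hDle : Nat.card D ≤ Nat.card F * Nat.card K := by
    rw [hV] at hD
    exact (Nat.pow_le_pow_iff_left (by norm_num)).1 hD
  have hQ : Nat.card (Q1 φ) = Nat.card E * E.relIndex (Q1 φ) := (Subgroup.card_mul_index (E.subgroupOf (Q1 φ))).symm.trans (by
    rw [Nat.card_congr (Subgroup.subgroupOfEquivOfLe hle).toEquiv]; rfl)
  rw [card_Q1, hEc] at hQ
  have hF : 0 < Nat.card F := Nat.card_pos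
  have hK : 1 < Nat.card K := Finite.one_lt_card
  have h1 : Nat.card K ^ 2 * Nat.card F ^ 3 ≤ Nat.card K * Nat.card F ^ 3 := by
    calc Nat.card K ^ 2 * Nat.card F ^ 3 = Nat.card D * Nat.card F * E.relIndex (Q1 φ) := hQ
      _ ≤ (Nat.card F * Nat.card K) * Nat.card F * Nat.card F :=
        Nat.mul_le_mul (Nat.mul_le_mul_right _ hDle) (hi.trans hq)
      _ = Nat.card K * Nat.card F ^ 3 := by ring
  have h2 : Nat.card K ^ 2 ≤ Nat.card K := Nat.le_of_mul_le_mul_right h1 (by (clear * - hF; positivity))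
  nlinarith only [hK, h2]

end Cfsg.Agent.H869.TE
end

-- part: H802/TE/Pre
section
/-!
# S5261, part E: the theorem `StE` from the engine and the last pieces
-/

set_option autoImplicit false

namespace Cfsg.Agent.H802.TE

universe u

theorem stE_pre (e : Eng.{u}) (ro : StRoAbs.{u}) : StE.{u} := by
  have e1 : StE1.{u} := Cfsg.Agent.H869.TE.stE1 e.p2 e.phi
  have zc : StZC.{u} := Cfsg.Agent.H390.TE.stZC e.phi
  have P : Pieces.{u} :=
    { e1 := e1
      e2o := Cfsg.Agent.H15.TE.stE2o_eng e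
      e2a := Cfsg.Agent.H15.TE.stE2a_eng e
      e2b := Cfsg.Agent.H15.TE.stE2b_eng e
      e2c := Cfsg.Agent.H406.TE.stE2c e.phi e.ch
      c2 := Cfsg.Agent.H659.TE.stC2 e.secW
      line := stLine e1 (Cfsg.Agent.H128.TE.stR0 e.phi e.p2) (stRo_of e.phi ro) (Cfsg.Agent.H659.TE.stR2 e.secC) e.cj
      ao := Cfsg.Agent.H135.TE.stAo e.phi e.p2
      a2 := Cfsg.Agent.H744.TE.stA2 e.p2 e.phi
      bo := Cfsg.Agent.H775.TE.stBo e.phi e.p2 e.p2w e.hull
      b2 := Cfsg.Agent.H167.TE.stB2 e.phi e.bd e.hull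
      m0o := Cfsg.Agent.H534.TE.stM0o e.p2 e.hull e.cj stReg
      m02 := Cfsg.Agent.H534.TE.stM02 e.hull
      m1o := Cfsg.Agent.H390.TE.stM1o e.p2 e.hull e.cj stReg zc
      m12 := Cfsg.Agent.H390.TE.stM12 zc e.hull
      m3o := Cfsg.Agent.H667.TE.stM3o e.phi e.bd e.hull
      m3c := Cfsg.Agent.H752.TE.stM3c_eng e (Cfsg.Agent.H667.TE.stM3a e.phi)
      m3d := Cfsg.Agent.H807.TE.stM3d e.phi e.p2w e.ch
      m4a := Cfsg.Agent.H406.TE.stM4a e.ch
      m4b := Cfsg.Agent.H406.TE.stM4b e.phi e.p2c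
      m4c := Cfsg.Agent.H406.TE.stM4c e.phi e.p2c }
  exact @stE_of P

end Cfsg.Agent.H802.TE
end
end

-- part: H780/D4/Stmts
section
prune_inst 0x10000000000000
set_option linter.all false

/-!
# S5261 (fusion systems over a Sylow `p`-subgroup of `³D₄(q)`): the two parabolics, uniqueness, realization (helper780)

Exact statements.  Plan: `outputs/live/tools/plans/S5261_L.md`.  Everything is over helper765's concrete group `Sy φ`
(`Cfsg/Agent/H765/D3`), generic engine: `Cfsg/Agent/H756/PU/Engine.lean`.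
-/

set_option autoImplicit false

namespace Cfsg.Agent.H780.D4

open Cfsg Cfsg.FusionSystem Cfsg.Agent.H765.D3
open Cfsg.Agent.H765.D3.Sy (Q1 Q2 Z1 Z2 Z3 Z4 u1 u2 u3 u4 u5 u6 form)
open Cfsg.Agent.Hex.Defs (sh cr nm tr)
open Cfsg.Agent.H756.PU (Inv Ess NormAut TIAut AF)

universe u v

/-! ### Generic statements -/

/-- (RK1) A finite group with a Sylow `p`-subgroup `P` which is elementary abelian of order `p^m`, `m ≥ 3`, TI and not
normal: `P` is transitive on the other Sylow subgroups, and for every `P' ≠ P` there is a field `k` of order `p^m` and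
`x, y : k → G` with ranges `P`, `P'` satisfying the relations of `SL₂(k)`. (From S2798 for `p = 2`; S2869, S2120, S0000 for
`p` odd.) -/
def StRk1 : Prop :=
  ∀ {G : Type u} [Group G] [Finite G] {p m : ℕ} [Fact p.Prime] (P : Sylow p G), 3 ≤ m → Nat.card P = p ^ m →
    (∀ x ∈ (P : Subgroup G), x ^ p = 1) → (∀ x ∈ (P : Subgroup G), ∀ y ∈ (P : Subgroup G), x * y = y * x) →
    (∀ g : G, g ∉ Subgroup.normalizer ((P : Subgroup G) : Set G) → ∀ x ∈ (P : Subgroup G),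
      g * x * g⁻¹ ∈ (P : Subgroup G) → x = 1) →
    ¬ (P : Subgroup G).Normal →
    (∀ P' P'' : Sylow p G, P' ≠ P → P'' ≠ P → ∃ x ∈ (P : Subgroup G),
      (P' : Subgroup G).map (MulAut.conj x).toMonoidHom = P'') ∧
    (∀ P' : Sylow p G, P' ≠ P → ∃ (k : Type) (_ : Field k) (_ : Fintype k) (x y : k → G),
      Fintype.card k = p ^ m ∧ Set.range x = (P : Subgroup G) ∧ Set.range y = (P' : Subgroup G) ∧
      Function.Injective x ∧ Function.Injective y ∧ (∀ a b, x (a + b) = x a * x b) ∧ (∀ a b, y (a + b) = y a * y b) ∧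
      ∀ f : k, f ≠ 0 → ∀ g : k,
        (x f * y (-f⁻¹) * x f) * x g * (x f * y (-f⁻¹) * x f)⁻¹ = y (-(f⁻¹ ^ 2 * g)) ∧
        (x f * y (-f⁻¹) * x f) * y g * (x f * y (-f⁻¹) * x f)⁻¹ = x (-(f ^ 2 * g)))

/-- (TIALP) if all essential subgroups are among `Q1`, `Q2`, `Q1` is centric, invariant under all automorphisms of `G0`, and
`Q1 ≰ Q2`, then `Aut_S(Q1)` is TI in `Aut_F(Q1)` (every map defined on a subgroup `> Q1` extends to `S`, by Alperin) -/
def StTIAlp : Prop :=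
  ∀ {G0 : Type u} [Group G0] [Finite G0] {p : ℕ} [Fact p.Prime] (F : FusionSystem (⊤ : Subgroup G0))
    (Q1 Q2 : Subgroup G0), IsPGroup p (⊤ : Subgroup G0) → F.IsSaturated p →
    (∀ E, F.IsEssential p E → E = Q1 ∨ E = Q2) → ¬ Q1 ≤ Q2 → centralizerIn ⊤ Q1 ≤ Q1 →
    (∀ α : MulAut G0, Q1.map α.toMonoidHom = Q1) → TIAut (⊤ : Subgroup G0) (F.autGroup Q1)

/-- (NLIFT) lifting of Weyl elements: `C` is a `p`-subgroup normalized by everything in sight, `D` is a `p'`-subgroup of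
`Γ` which acts on `C` without fixed points, `w` normalizes `D` and lies in `Γ` modulo `C`; then `w ∈ Γ`. -/
def StNLift : Prop :=
  ∀ {A : Type u} [Group A] [Finite A] {p : ℕ} [Fact p.Prime] (C Γ D : Subgroup A), C.Normal → IsPGroup p C → D ≤ Γ →
    (Nat.card D).Coprime p → (∀ c ∈ C, (∀ d ∈ D, d * c = c * d) → c = 1) →
    ∀ w γ₀ : A, γ₀ ∈ Γ → w * γ₀⁻¹ ∈ C → (∀ d ∈ D, w * d * w⁻¹ ∈ D) → w ∈ Γ

/-! ### The fields, the torus -/

/-- the fields: `|F| = q = pⁿ`, `φ t = t^q` generates `Gal(K/F)` of order three -/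
structure HypD {F K : Type u} [Field F] [Field K] [Algebra F K] (φ : K ≃ₐ[F] K) (p n : ℕ) : Prop where
  pp : p.Prime
  hn : 1 ≤ n
  fin : Finite K
  card : Nat.card F = p ^ n
  cardK : Nat.card K = (p ^ n) ^ 3
  char : CharP K p
  phi : ∀ t : K, φ t = t ^ (p ^ n)

section
variable {F K : Type u} [Field F] [Field K] [Algebra F K] {φ : K ≃ₐ[F] K} [Cub φ]

/-- `α` is the automorphism of `Sy φ` given by `x1 ↦ s τ(x1)`, `x6 ↦ t ρ(x6)` -/
structure IsTor (α : MulAut (Sy φ)) (s : K) (t : F) (τ : K ≃+* K) (ρ : F ≃+* F) : Prop where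
  nes : s ≠ 0
  net : t ≠ 0
  res : ∀ x : F, τ (algebraMap F K x) = algebraMap F K (ρ x)
  x1 : ∀ g : Sy φ, (α g).x1 = s * τ g.x1
  x6 : ∀ g : Sy φ, (α g).x6 = t * ρ g.x6
  x5 : ∀ g : Sy φ, (α g).x5 = t • (s * τ g.x5)
  x3 : ∀ g : Sy φ, (α g).x3 = t • (sh φ s * τ g.x3)
  x2 : ∀ g : Sy φ, (α g).x2 = nm φ s * t * ρ g.x2
  x4 : ∀ g : Sy φ, (α g).x4 = nm φ s * t ^ 2 * ρ g.x4

variable (φ) in
/-- the torus with field automorphisms -/
noncomputable def TT : Subgroup (MulAut (Sy φ)) := Subgroup.closure {α | ∃ s t τ ρ, IsTor α s t τ ρ}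

/-- `γ` is the restriction of `α` to `Q` -/
def IsR (α : MulAut (Sy φ)) {Q : Subgroup (Sy φ)} (γ : MulAut Q) : Prop := ∀ e : Q, ((γ e : Q) : Sy φ) = α e

/-- the Weyl element of `SL₂(K)` on `Q₁` -/
structure IsW1 (γ : MulAut (Q1 φ)) : Prop where
  x6 : ∀ e : Q1 φ, ((γ e : Q1 φ) : Sy φ).x6 = -(e : Sy φ).x2
  x5 : ∀ e : Q1 φ, ((γ e : Q1 φ) : Sy φ).x5 = (e : Sy φ).x3
  x3 : ∀ e : Q1 φ, ((γ e : Q1 φ) : Sy φ).x3 = -(e : Sy φ).x5
  x2 : ∀ e : Q1 φ, ((γ e : Q1 φ) : Sy φ).x2 = (e : Sy φ).x6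
  x4 : ∀ e : Q1 φ, ((γ e : Q1 φ) : Sy φ).x4 =
    (e : Sy φ).x4 + (e : Sy φ).x2 * (e : Sy φ).x6 - tr φ ((e : Sy φ).x3 * (e : Sy φ).x5)

/-- the Weyl element of `SL₂(F)` on `Q₂` -/
structure IsW2 (γ : MulAut (Q2 φ)) : Prop where
  x1 : ∀ e : Q2 φ, ((γ e : Q2 φ) : Sy φ).x1 = -(e : Sy φ).x5
  x5 : ∀ e : Q2 φ, ((γ e : Q2 φ) : Sy φ).x5 = (e : Sy φ).x1
  x3 : ∀ e : Q2 φ, ((γ e : Q2 φ) : Sy φ).x3 = (e : Sy φ).x3 - cr φ (e : Sy φ).x1 (e : Sy φ).x5
  x2 : ∀ e : Q2 φ, ((γ e : Q2 φ) : Sy φ).x2 =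
    (e : Sy φ).x4 - tr φ ((e : Sy φ).x3 * (e : Sy φ).x5) + tr φ ((e : Sy φ).x1 * sh φ (e : Sy φ).x5)
  x4 : ∀ e : Q2 φ, ((γ e : Q2 φ) : Sy φ).x4 =
    -(e : Sy φ).x2 + tr φ ((e : Sy φ).x1 * (e : Sy φ).x3) - tr φ (sh φ (e : Sy φ).x1 * (e : Sy φ).x5)

variable (φ) in
/-- `Inn(Q₁) SL₂(K)` -/
noncomputable def Lam1 : Subgroup (MulAut (Q1 φ)) := autInducedBy ⊤ (Q1 φ) ⊔ Subgroup.closure {γ | IsW1 γ}

variable (φ) in
/-- `Inn(Q₂) SL₂(F)` -/
noncomputable def Lam2 : Subgroup (MulAut (Q2 φ)) := autInducedBy ⊤ (Q2 φ) ⊔ Subgroup.closure {γ | IsW2 γ}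

/-- `Γ = Aut_F(Q)` for a parabolic `Q` whose Sylow subgroup is TI and not normal, and `D` the `p'`-part of `Aut_F(S)` -/
structure Par (p : ℕ) (Q : Subgroup (Sy φ)) (Γ : Subgroup (MulAut Q)) (D : Subgroup (MulAut (Sy φ))) : Prop where
  indu : autInducedBy ⊤ Q ≤ Γ
  syl : ∀ P : Subgroup (MulAut Q), P ≤ Γ → IsPGroup p P → ∃ g ∈ Γ, ∀ x ∈ P, g * x * g⁻¹ ∈ autInducedBy ⊤ Q
  nn : ¬ ∀ γ ∈ Γ, NormAut ⊤ γ
  ti : TIAut (⊤ : Subgroup (Sy φ)) Γ
  D_le : D ≤ TT φ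
  D_cop : (Nat.card D).Coprime p
  D_res : ∀ d ∈ D, ∀ γ : MulAut Q, IsR d γ → γ ∈ Γ
  norm : ∀ γ ∈ Γ, NormAut ⊤ γ → ∃ x : Sy φ, ∃ d ∈ D, ∀ e : Q, ((γ e : Q) : Sy φ) = x * d e * x⁻¹

/-- `γ` and `δ` agree on `V₁ = Q₁/Z₁` -/
def Same1 (γ δ : MulAut (Q1 φ)) : Prop := ∀ e : Q1 φ,
  ((γ e : Q1 φ) : Sy φ).x6 = ((δ e : Q1 φ) : Sy φ).x6 ∧ ((γ e : Q1 φ) : Sy φ).x5 = ((δ e : Q1 φ) : Sy φ).x5 ∧
  ((γ e : Q1 φ) : Sy φ).x3 = ((δ e : Q1 φ) : Sy φ).x3 ∧ ((γ e : Q1 φ) : Sy φ).x2 = ((δ e : Q1 φ) : Sy φ).x2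

/-- `γ` and `δ` agree on `Q₂/Z₃`, `Z₃/Z₂`, `Z₂` -/
def Same2 (γ δ : MulAut (Q2 φ)) : Prop :=
  (∀ e : Q2 φ, ((γ e : Q2 φ) : Sy φ).x1 = ((δ e : Q2 φ) : Sy φ).x1 ∧
    ((γ e : Q2 φ) : Sy φ).x5 = ((δ e : Q2 φ) : Sy φ).x5) ∧
  (∀ e : Q2 φ, (e : Sy φ) ∈ Z3 φ → ((γ e : Q2 φ) : Sy φ).x3 = ((δ e : Q2 φ) : Sy φ).x3) ∧
  (∀ e : Q2 φ, (e : Sy φ) ∈ Z2 φ → ((γ e : Q2 φ) : Sy φ).x2 = ((δ e : Q2 φ) : Sy φ).x2 ∧
    ((γ e : Q2 φ) : Sy φ).x4 = ((δ e : Q2 φ) : Sy φ).x4)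

/-- `D` contains the torus `K^* × F^*` -/
def HasT (D : Subgroup (MulAut (Sy φ))) : Prop :=
  ∀ (s : K) (t : F) (α : MulAut (Sy φ)), IsTor α s t (RingEquiv.refl K) (RingEquiv.refl F) → α ∈ D

/-- `D` contains the torus of `SL₂(K)` -/
def HasH1 (D : Subgroup (MulAut (Sy φ))) : Prop :=
  ∀ (a : K) (α : MulAut (Sy φ)), a ≠ 0 → IsTor α (a ^ 2) (nm φ a)⁻¹ (RingEquiv.refl K) (RingEquiv.refl F) → α ∈ D

/-- `D` contains the torus of `SL₂(F)` -/
def HasH2 (D : Subgroup (MulAut (Sy φ))) : Prop :=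
  ∀ (b : F) (α : MulAut (Sy φ)), b ≠ 0 →
    IsTor α (algebraMap F K b)⁻¹ (b ^ 2) (RingEquiv.refl K) (RingEquiv.refl F) → α ∈ D

end

/-! ### The linear group on `V₁ = Q₁/Z₁ = F × K × K × F` -/

section
variable {F K : Type u} [Field F] [Field K] [Algebra F K]

/-- `V₁`, coordinates `(x6, x5, x3, x2)` -/
abbrev V1 (F K : Type u) [Field F] [Field K] [Algebra F K] : Type u := F × K × K × F

variable (φ : K ≃ₐ[F] K)

/-- the form on `V₁` -/
noncomputable def formV (v w : V1 F K) : F :=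
  v.1 * w.2.2.2 - v.2.2.2 * w.1 - tr φ (v.2.1 * w.2.2.1) + tr φ (v.2.2.1 * w.2.1)

/-- the quadratic form on `V₁` given by squaring (`p = 2`) -/
noncomputable def quadV (v : V1 F K) : F := v.2.2.2 * v.1 + tr φ (v.2.2.1 * v.2.1)

/-- `g` is the action of `u1 a` -/
def IsActV (g : Equiv.Perm (V1 F K)) (a : K) : Prop := ∀ v : V1 F K, g v =
  (v.1, v.2.1 + v.1 • a, v.2.2.1 + cr φ a v.2.1 + v.1 • sh φ a,
    v.2.2.2 + tr φ (a * v.2.2.1) + tr φ (sh φ a * v.2.1) + v.1 * nm φ a)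

/-- `g` is the action of the torus element -/
structure IsTorV (g : Equiv.Perm (V1 F K)) (s : K) (t : F) (τ : K ≃+* K) (ρ : F ≃+* F) : Prop where
  nes : s ≠ 0
  net : t ≠ 0
  res : ∀ x : F, τ (algebraMap F K x) = algebraMap F K (ρ x)
  app : ∀ v : V1 F K, g v = (t * ρ v.1, t • (s * τ v.2.1), t • (sh φ s * τ v.2.2.1), nm φ s * t * ρ v.2.2.2)

/-- `g` is the action of the Weyl element -/
def IsW1V (g : Equiv.Perm (V1 F K)) : Prop := ∀ v : V1 F K, g v = (-v.2.2.2, v.2.2.1, -v.2.1, v.1)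

/-- `G` is the image of `Aut_F(Q₁)` in `Aut(V₁)`, `Dc` the set of the parameters of `D` -/
structure LPar (p : ℕ) (G : Subgroup (Equiv.Perm (V1 F K))) (Dc : Set (K × F × (K ≃+* K) × (F ≃+* F))) : Prop where
  add : ∀ g ∈ G, ∀ v w : V1 F K, g (v + w) = g v + g w
  /-- the image of `S` -/
  act : ∀ (a : K) (g : Equiv.Perm (V1 F K)), IsActV φ g a → g ∈ G
  syl : ∀ P : Subgroup (Equiv.Perm (V1 F K)), P ≤ G → IsPGroup p P →
    ∃ g ∈ G, ∀ x ∈ P, ∃ a, IsActV φ (g * x * g⁻¹) a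
  nn : ∃ g ∈ G, ∃ (a : K) (x : Equiv.Perm (V1 F K)), IsActV φ x a ∧ ¬ ∃ b, IsActV φ (g * x * g⁻¹) b
  ti : ∀ g ∈ G, ∀ (a : K) (x : Equiv.Perm (V1 F K)), IsActV φ x a → x ≠ 1 → (∃ b, IsActV φ (g * x * g⁻¹) b) →
    ∀ (a' : K) (x' : Equiv.Perm (V1 F K)), IsActV φ x' a' → ∃ b, IsActV φ (g * x' * g⁻¹) b
  frm : ∀ g ∈ G, ∃ ζ : F ≃+ F, ∀ v w : V1 F K, formV φ (g v) (g w) = ζ (formV φ v w)
  quad : p = 2 → ∀ g ∈ G, ∃ ζ : F ≃+ F, ∀ v : V1 F K, quadV φ (g v) = ζ (quadV φ v)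
  tor : ∀ s t τ ρ, (s, t, τ, ρ) ∈ Dc → ∃ g ∈ G, IsTorV φ g s t τ ρ
  /-- `Dc` is a group of order prime to `p` -/
  cop : ∃ H : Subgroup (Equiv.Perm (V1 F K)), (Nat.card H).Coprime p ∧
    ∀ g, g ∈ H ↔ ∃ s t τ ρ, (s, t, τ, ρ) ∈ Dc ∧ IsTorV φ g s t τ ρ
  norm : ∀ g ∈ G, (∀ (a : K) (x : Equiv.Perm (V1 F K)), IsActV φ x a → ∃ b, IsActV φ (g * x * g⁻¹) b) →
    ∃ s t τ ρ, (s, t, τ, ρ) ∈ Dc ∧ ∃ x y : Equiv.Perm (V1 F K), (∃ a, IsActV φ x a) ∧ IsTorV φ y s t τ ρ ∧ g = x * y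

end

/-- the intermediate situation: `x a` is the action of `u1 a`, `y` parametrizes an opposite Sylow subgroup, with the
relations of `SL₂(K)` -/
structure RkV {F K : Type u} [Field F] [Field K] [Algebra F K] (φ : K ≃ₐ[F] K)
    (x y : K → Equiv.Perm (V1 F K)) : Prop where
  xact : ∀ a, IsActV φ (x a) a
  yadd : ∀ a b, y (a + b) = y a * y b
  lin : ∀ a, ∀ v w : V1 F K, y a (v + w) = y a v + y a w
  frm : ∀ a, ∀ v w : V1 F K, formV φ (y a v) (y a w) = formV φ v w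
  rel1 : ∀ f : K, f ≠ 0 → ∀ g : K, (x f * y (-f⁻¹) * x f) * x g * (x f * y (-f⁻¹) * x f)⁻¹ = y (-(f⁻¹ ^ 2 * g))
  rel2 : ∀ f : K, f ≠ 0 → ∀ g : K, (x f * y (-f⁻¹) * x f) * y g * (x f * y (-f⁻¹) * x f)⁻¹ = x (-(f ^ 2 * g))
  /-- `h(f) = w(f) w(1)⁻¹` is in the torus -/
  tor : ∀ f : K, f ≠ 0 → ∃ t : F, t ^ 2 * nm φ f ^ 2 = 1 ∧
    IsTorV φ ((x f * y (-f⁻¹) * x f) * (x 1 * y (-1) * x 1)⁻¹) (f ^ 2) t (RingEquiv.refl K) (RingEquiv.refl F)
  three : Nat.card F = 3 → ∃ g, IsTorV φ g (-1) 1 (RingEquiv.refl K) (RingEquiv.refl F) ∧ ∀ b, ∃ c, g * y b * g⁻¹ = y c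
  two : Nat.card F = 2 → ∀ b, ∀ v : V1 F K, quadV φ (y b v) = quadV φ v

/-! ### The concrete statements -/

/-- (GRPD) orders, existence of the automorphisms -/
def StGrpD : Prop :=
  ∀ {F K : Type u} [Field F] [Field K] [Algebra F K] {φ : K ≃ₐ[F] K} [Cub φ] {p n : ℕ}, HypD φ p n →
    Nat.card (Sy φ) = (p ^ n) ^ 12 ∧ IsPGroup p (⊤ : Subgroup (Sy φ)) ∧
    (∀ (s : K) (t : F) (τ : K ≃+* K) (ρ : F ≃+* F), s ≠ 0 → t ≠ 0 →
      (∀ x : F, τ (algebraMap F K x) = algebraMap F K (ρ x)) → ∃ α : MulAut (Sy φ), IsTor α s t τ ρ) ∧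
    (∀ α ∈ TT φ, ∃ s t τ ρ, IsTor α s t τ ρ) ∧ (∃ γ : MulAut (Q1 φ), IsW1 γ) ∧ (∃ γ : MulAut (Q2 φ), IsW2 γ)

/-- (POSD) every `p'`-group of automorphisms of `Sy φ` is conjugate into `TT φ` -/
def StPosD : Prop :=
  ∀ {F K : Type u} [Field F] [Field K] [Algebra F K] {φ : K ≃ₐ[F] K} [Cub φ] {p n : ℕ}, HypD φ p n →
    ∀ D : Subgroup (MulAut (Sy φ)), (Nat.card D).Coprime p → ∃ θ : MulAut (Sy φ), ∀ d ∈ D, θ * d * θ⁻¹ ∈ TT φ

/-- (TOR) `T = H₁ H₂` -/
def StTor : Prop :=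
  ∀ {F K : Type u} [Field F] [Field K] [Algebra F K] {φ : K ≃ₐ[F] K} [Cub φ] {p n : ℕ}, HypD φ p n →
    ∀ D : Subgroup (MulAut (Sy φ)), HasH1 D → HasH2 D → HasT D

/-- (LIN1B) the relations determine the Weyl element and the torus -/
def StLin1b : Prop :=
  ∀ {F K : Type u} [Field F] [Field K] [Algebra F K] {φ : K ≃ₐ[F] K} [Cub φ] {p n : ℕ}, HypD φ p n →
    ∀ x y : K → Equiv.Perm (V1 F K), RkV φ x y →
    IsW1V (x 1 * y (-1) * x 1) ∧ ∀ f : K, f ≠ 0 →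
      IsTorV φ ((x f * y (-f⁻¹) * x f) * (x 1 * y (-1) * x 1)⁻¹) (f ^ 2) (nm φ f)⁻¹ (RingEquiv.refl K) (RingEquiv.refl F)

/-- (LIN1) the linear group on `V₁` -/
def StLin1 : Prop :=
  ∀ {F K : Type u} [Field F] [Field K] [Algebra F K] {φ : K ≃ₐ[F] K} [Cub φ] {p n : ℕ}, HypD φ p n →
    ∀ (G : Subgroup (Equiv.Perm (V1 F K))) (Dc : Set (K × F × (K ≃+* K) × (F ≃+* F))), LPar φ p G Dc →
    (p ^ n = 3 → ((-1 : K), (1 : F), RingEquiv.refl K, RingEquiv.refl F) ∈ Dc) →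
    (∀ a : K, a ≠ 0 → (a ^ 2, (nm φ a)⁻¹, RingEquiv.refl K, RingEquiv.refl F) ∈ Dc) ∧
    (∀ g : Equiv.Perm (V1 F K), IsW1V g → g ∈ G) ∧
    (∀ g ∈ G, ∃ l ∈ Subgroup.closure {x : Equiv.Perm (V1 F K) | (∃ a, IsActV φ x a) ∨ IsW1V x},
      ∃ s t τ ρ, (s, t, τ, ρ) ∈ Dc ∧ ∃ y : Equiv.Perm (V1 F K), IsTorV φ y s t τ ρ ∧ g = l * y)

/-- (L1A) the action on `V₁ = Q₁/Z₁` -/
def StL1a : Prop :=
  ∀ {F K : Type u} [Field F] [Field K] [Algebra F K] {φ : K ≃ₐ[F] K} [Cub φ] {p n : ℕ}, HypD φ p n →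
    ∀ (Γ : Subgroup (MulAut (Q1 φ))) (D : Subgroup (MulAut (Sy φ))), Par p (Q1 φ) Γ D →
    (p ^ n = 3 → ∀ α : MulAut (Sy φ), IsTor α (-1) 1 (RingEquiv.refl K) (RingEquiv.refl F) → α ∈ D) →
    HasH1 D ∧ (∀ l ∈ Lam1 φ, ∃ γ ∈ Γ, Same1 γ l) ∧
    (∀ γ ∈ Γ, ∃ l ∈ Lam1 φ, ∃ d ∈ D, ∃ δ : MulAut (Q1 φ), IsR d δ ∧ Same1 γ (l * δ))

/-- (L1) -/
def StL1 : Prop :=
  ∀ {F K : Type u} [Field F] [Field K] [Algebra F K] {φ : K ≃ₐ[F] K} [Cub φ] {p n : ℕ}, HypD φ p n →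
    ∀ (Γ : Subgroup (MulAut (Q1 φ))) (D : Subgroup (MulAut (Sy φ))), Par p (Q1 φ) Γ D → HasT D →
    (∀ γ : MulAut (Q1 φ), γ ∈ Γ ↔ ∃ l ∈ Lam1 φ, ∃ d ∈ D, ∃ δ : MulAut (Q1 φ), IsR d δ ∧ γ = l * δ)

/-- (L2A) the action on the factors of `Q₂ > Z₃ > Z₂ > 1` -/
def StL2a : Prop :=
  ∀ {F K : Type u} [Field F] [Field K] [Algebra F K] {φ : K ≃ₐ[F] K} [Cub φ] {p n : ℕ}, HypD φ p n →
    ∀ (Γ : Subgroup (MulAut (Q2 φ))) (D : Subgroup (MulAut (Sy φ))), Par p (Q2 φ) Γ D →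
    HasH2 D ∧ (∀ l ∈ Lam2 φ, ∃ γ ∈ Γ, Same2 γ l) ∧
    (∀ γ ∈ Γ, ∃ l ∈ Lam2 φ, ∃ d ∈ D, ∃ δ : MulAut (Q2 φ), IsR d δ ∧ Same2 γ (l * δ))

/-- (L2) -/
def StL2 : Prop :=
  ∀ {F K : Type u} [Field F] [Field K] [Algebra F K] {φ : K ≃ₐ[F] K} [Cub φ] {p n : ℕ}, HypD φ p n →
    ∀ (Γ : Subgroup (MulAut (Q2 φ))) (D : Subgroup (MulAut (Sy φ))), Par p (Q2 φ) Γ D → HasT D →
    (∀ γ : MulAut (Q2 φ), γ ∈ Γ ↔ ∃ l ∈ Lam2 φ, ∃ d ∈ D, ∃ δ : MulAut (Q2 φ), IsR d δ ∧ γ = l * δ)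

/-- (REALD) -/
def StRealD : Prop :=
  ∀ {F K : Type u} [Field F] [Field K] [Algebra F K] {φ : K ≃ₐ[F] K} [Cub φ] {p n : ℕ} [Fact p.Prime], HypD φ p n →
    ∀ D : Subgroup (MulAut (Sy φ)), D ≤ TT φ → (Nat.card D).Coprime p → HasT D →
    ∃ Fs : FusionSystem (⊤ : Subgroup (Sy φ)), Fs.IsSaturated p ∧ Fs.IsRealizable p ∧
      AF Fs = (MulAut.conj : Sy φ →* MulAut (Sy φ)).range ⊔ D ∧
      (¬ ∀ γ ∈ Fs.autGroup (Q1 φ), NormAut (⊤ : Subgroup (Sy φ)) γ) ∧
      (¬ ∀ γ ∈ Fs.autGroup (Q2 φ), NormAut (⊤ : Subgroup (Sy φ)) γ)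

end Cfsg.Agent.H780.D4
end

-- part: H765/D3/Iso
section
prune_inst 0xe1007654516202000004051440003cc796000180002b8000a9e003460f88cf02c4000720bcb031001a0aa184403c006003100000424000002e000000011901a080031200902ca084260009000004000000000000000000000000000000010000200000000
set_option linter.all false
open scoped Cfsg.Agent.FastGrp

-- part: H765/D3/Univ
section
/-!
# S5261: the universal property of `Sy φ`

`Rels φ G`: root homomorphisms `v1, …, v6` into a group `G` with the relations of `Sy φ`; `Rels.hom : Sy φ →* G`.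
-/

set_option autoImplicit false
set_option linter.unusedSectionVars false
set_option linter.unusedSimpArgs false

namespace Cfsg.Agent.H765.D3

open Cfsg.Agent.Hexagon.Pos
open Cfsg.Agent.Hex.Defs (sh cr nm tr)
open scoped commutatorElement

variable {F K : Type*} [Field F] [Field K] [Algebra F K]

/-- Root homomorphisms with the relations of `Q1` -/
structure Rels0 (φ : K ≃ₐ[F] K) (G : Type*) [Group G] where
  v2 : F → G
  v3 : K → G
  v4 : F → G
  v5 : K → G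
  v6 : F → G
  add2 : ∀ s t, v2 (s + t) = v2 s * v2 t
  add3 : ∀ s t, v3 (s + t) = v3 s * v3 t
  add4 : ∀ s t, v4 (s + t) = v4 s * v4 t
  add5 : ∀ s t, v5 (s + t) = v5 s * v5 t
  add6 : ∀ s t, v6 (s + t) = v6 s * v6 t
  k56 : ∀ c u, v5 c * v6 u = v6 u * v5 c
  k36 : ∀ b u, v3 b * v6 u = v6 u * v3 b
  k26 : ∀ t u, v2 t * v6 u = v6 u * v2 t * v4 (-(t * u))
  k46 : ∀ w u, v4 w * v6 u = v6 u * v4 w
  k35 : ∀ b c, v3 b * v5 c = v5 c * v3 b * v4 (tr φ (b * c))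
  k25 : ∀ t c, v2 t * v5 c = v5 c * v2 t
  k45 : ∀ w c, v4 w * v5 c = v5 c * v4 w
  k23 : ∀ t b, v2 t * v3 b = v3 b * v2 t
  k34 : ∀ w b, v4 w * v3 b = v3 b * v4 w
  k24 : ∀ w t, v4 w * v2 t = v2 t * v4 w

/-- Root homomorphisms with the relations of `Sy φ` -/
structure Rels (φ : K ≃ₐ[F] K) (G : Type*) [Group G] extends Rels0 φ G where
  v1 : K → G
  add1 : ∀ s t, v1 (s + t) = v1 s * v1 t
  k16 : ∀ a u, v1 a * v6 u = v6 u * v5 (u • a) * v3 (u • sh φ a) * v2 (u * nm φ a) * v4 (u ^ 2 * nm φ a) * v1 a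
  k15 : ∀ a c, v1 a * v5 c = v5 c * v3 (cr φ a c) * v2 (tr φ (sh φ a * c)) * v4 (tr φ (a * sh φ c)) * v1 a
  k13 : ∀ a b, v1 a * v3 b = v3 b * v2 (tr φ (a * b)) * v1 a
  k12 : ∀ a t, v1 a * v2 t = v2 t * v1 a
  k14 : ∀ a w, v1 a * v4 w = v4 w * v1 a

namespace Rels0

variable {φ : K ≃ₐ[F] K} {G : Type*} [Group G] (R : Rels0 φ G)

theorem as2 (s t : F) (g : G) : R.v2 s * (R.v2 t * g) = R.v2 (s + t) * g := by rw [R.add2, mul_assoc]
theorem as3 (s t : K) (g : G) : R.v3 s * (R.v3 t * g) = R.v3 (s + t) * g := by rw [R.add3, mul_assoc]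
theorem as4 (s t : F) (g : G) : R.v4 s * (R.v4 t * g) = R.v4 (s + t) * g := by rw [R.add4, mul_assoc]
theorem as5 (s t : K) (g : G) : R.v5 s * (R.v5 t * g) = R.v5 (s + t) * g := by rw [R.add5, mul_assoc]
theorem as6 (s t : F) (g : G) : R.v6 s * (R.v6 t * g) = R.v6 (s + t) * g := by rw [R.add6, mul_assoc]

theorem a56 (c : K) (u : F) (g : G) : R.v5 c * (R.v6 u * g) = R.v6 u * (R.v5 c * g) := by
  rw [← mul_assoc, R.k56]; simp only [mul_assoc]
theorem a36 (c : K) (u : F) (g : G) : R.v3 c * (R.v6 u * g) = R.v6 u * (R.v3 c * g) := by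
  rw [← mul_assoc, R.k36]; simp only [mul_assoc]
theorem a26 (t u : F) (g : G) : R.v2 t * (R.v6 u * g) = R.v6 u * (R.v2 t * (R.v4 (-(t * u)) * g)) := by
  rw [← mul_assoc, R.k26]; simp only [mul_assoc]
theorem a46 (t u : F) (g : G) : R.v4 t * (R.v6 u * g) = R.v6 u * (R.v4 t * g) := by
  rw [← mul_assoc, R.k46]; simp only [mul_assoc]
theorem a35 (b c : K) (g : G) : R.v3 b * (R.v5 c * g) = R.v5 c * (R.v3 b * (R.v4 (tr φ (b * c)) * g)) := by
  rw [← mul_assoc, R.k35]; simp only [mul_assoc]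
theorem a25 (t : F) (c : K) (g : G) : R.v2 t * (R.v5 c * g) = R.v5 c * (R.v2 t * g) := by
  rw [← mul_assoc, R.k25]; simp only [mul_assoc]
theorem a45 (t : F) (c : K) (g : G) : R.v4 t * (R.v5 c * g) = R.v5 c * (R.v4 t * g) := by
  rw [← mul_assoc, R.k45]; simp only [mul_assoc]
theorem a23 (t : F) (c : K) (g : G) : R.v2 t * (R.v3 c * g) = R.v3 c * (R.v2 t * g) := by
  rw [← mul_assoc, R.k23]; simp only [mul_assoc]
theorem a34 (t : F) (c : K) (g : G) : R.v4 t * (R.v3 c * g) = R.v3 c * (R.v4 t * g) := by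
  rw [← mul_assoc, R.k34]; simp only [mul_assoc]
theorem a24 (t u : F) (g : G) : R.v4 t * (R.v2 u * g) = R.v2 u * (R.v4 t * g) := by
  rw [← mul_assoc, R.k24]; simp only [mul_assoc]

end Rels0

namespace Rels

variable {φ : K ≃ₐ[F] K} {G : Type*} [Group G] (R : Rels φ G)

theorem as1 (s t : K) (g : G) : R.v1 s * (R.v1 t * g) = R.v1 (s + t) * g := by rw [R.add1, mul_assoc]

theorem a16 (a : K) (u : F) (g : G) : R.v1 a * (R.v6 u * g) = R.v6 u * (R.v5 (u • a) * (R.v3 (u • sh φ a) *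
    (R.v2 (u * nm φ a) * (R.v4 (u ^ 2 * nm φ a) * (R.v1 a * g))))) := by
  rw [← mul_assoc, R.k16]; simp only [mul_assoc]

theorem a15 (a c : K) (g : G) : R.v1 a * (R.v5 c * g) = R.v5 c * (R.v3 (cr φ a c) *
    (R.v2 (tr φ (sh φ a * c)) * (R.v4 (tr φ (a * sh φ c)) * (R.v1 a * g)))) := by
  rw [← mul_assoc, R.k15]; simp only [mul_assoc]

theorem a13 (a b : K) (g : G) : R.v1 a * (R.v3 b * g) = R.v3 b * (R.v2 (tr φ (a * b)) * (R.v1 a * g)) := by
  rw [← mul_assoc, R.k13]; simp only [mul_assoc]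

theorem a12 (a : K) (t : F) (g : G) : R.v1 a * (R.v2 t * g) = R.v2 t * (R.v1 a * g) := by
  rw [← mul_assoc, R.k12]; simp only [mul_assoc]
theorem a14 (a : K) (t : F) (g : G) : R.v1 a * (R.v4 t * g) = R.v4 t * (R.v1 a * g) := by
  rw [← mul_assoc, R.k14]; simp only [mul_assoc]
/-- the image of an element -/
def toFun (x : Sy φ) : G := R.v6 x.x6 * R.v5 x.x5 * R.v3 x.x3 * R.v2 x.x2 * R.v4 x.x4 * R.v1 x.x1

variable [Cub φ]

omit [Cub φ] in
theorem word_congr {a a' c c' b b' : K} {u u' t t' w w' : F} (h6 : u = u') (h5 : c = c') (h3 : b = b')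
    (h2 : t = t') (h4 : w = w') (h1 : a = a') :
    R.v6 u * (R.v5 c * (R.v3 b * (R.v2 t * (R.v4 w * (R.v1 a * 1))))) =
      R.v6 u' * (R.v5 c' * (R.v3 b' * (R.v2 t' * (R.v4 w' * (R.v1 a' * 1))))) := by
  rw [h6, h5, h3, h2, h4, h1]

theorem toFun_mul (x y : Sy φ) : R.toFun (x * y) = R.toFun x * R.toFun y := by
  have h : R.toFun x * R.toFun y * 1 = R.toFun (x * y) * 1 := by
    simp only [toFun, mul_assoc]
    simp only [R.as1, R.as2, R.as3, R.as4, R.as5, R.as6, R.a16, R.a15, R.a13, R.a12, R.a14, R.a56, R.a36, R.a26,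
      R.a46, R.a35, R.a25, R.a45, R.a23, R.a34, R.a24]
    simp only [Sy.mul_def]
    apply R.word_congr
    · ring
    · cub
    · cub
    · apply (algebraMap F K).injective; cub
    · apply (algebraMap F K).injective; cub
    · ring
  rw [mul_one, mul_one] at h
  exact h.symm

/-- **The universal property** -/
noncomputable def hom : Sy φ →* G := MonoidHom.mk' R.toFun R.toFun_mul

omit [Cub φ] in
theorem v1_zero : R.v1 0 = 1 := by
  have := R.add1 0 0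
  rw [add_zero] at this
  exact left_eq_mul.1 this
omit [Cub φ] in
theorem v2_zero : R.v2 0 = 1 := by
  have := R.add2 0 0
  rw [add_zero] at this
  exact left_eq_mul.1 this
omit [Cub φ] in
theorem v3_zero : R.v3 0 = 1 := by
  have := R.add3 0 0
  rw [add_zero] at this
  exact left_eq_mul.1 this
omit [Cub φ] in
theorem v4_zero : R.v4 0 = 1 := by
  have := R.add4 0 0
  rw [add_zero] at this
  exact left_eq_mul.1 this
omit [Cub φ] in
theorem v5_zero : R.v5 0 = 1 := by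
  have := R.add5 0 0
  rw [add_zero] at this
  exact left_eq_mul.1 this
omit [Cub φ] in
theorem v6_zero : R.v6 0 = 1 := by
  have := R.add6 0 0
  rw [add_zero] at this
  exact left_eq_mul.1 this

theorem hom_apply (x : Sy φ) :
    R.hom x = R.v6 x.x6 * R.v5 x.x5 * R.v3 x.x3 * R.v2 x.x2 * R.v4 x.x4 * R.v1 x.x1 := rfl

theorem hom_u1 (a : K) : R.hom (Sy.u1 φ a) = R.v1 a := by
  simp [hom_apply, Sy.u1, v2_zero, v3_zero, v4_zero, v5_zero, v6_zero]
theorem hom_u2 (a : F) : R.hom (Sy.u2 φ a) = R.v2 a := by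
  simp [hom_apply, Sy.u2, v1_zero, v3_zero, v4_zero, v5_zero, v6_zero]
theorem hom_u3 (a : K) : R.hom (Sy.u3 φ a) = R.v3 a := by
  simp [hom_apply, Sy.u3, v2_zero, v1_zero, v4_zero, v5_zero, v6_zero]
theorem hom_u4 (a : F) : R.hom (Sy.u4 φ a) = R.v4 a := by
  simp [hom_apply, Sy.u4, v2_zero, v3_zero, v1_zero, v5_zero, v6_zero]
theorem hom_u5 (a : K) : R.hom (Sy.u5 φ a) = R.v5 a := by
  simp [hom_apply, Sy.u5, v2_zero, v3_zero, v4_zero, v1_zero, v6_zero]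
theorem hom_u6 (a : F) : R.hom (Sy.u6 φ a) = R.v6 a := by
  simp [hom_apply, Sy.u6, v2_zero, v3_zero, v4_zero, v5_zero, v1_zero]

end Rels

namespace Sy

variable {φ : K ≃ₐ[F] K} [Cub φ]

/-- A normal subgroup meeting the centre `U4` trivially is trivial. -/
theorem eq_one_of_normal {N : Subgroup (Sy φ)} [hN : N.Normal] (h : ∀ w, u4 φ w ∈ N → w = 0) {x : Sy φ}
    (hx : x ∈ N) : x = 1 := by
  have hc : ∀ y : Sy φ, ∀ x ∈ N, ⁅y, x⁆ ∈ N := fun y x hx => by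
    rw [commutatorElement_def]
    exact mul_mem (hN.conj_mem x hx y) (inv_mem hx)
  have hc' : ∀ y : Sy φ, ∀ x ∈ N, ⁅x, y⁆ ∈ N := fun y x hx => by
    rw [← commutatorElement_inv]
    exact inv_mem (hc y x hx)
  have h1 : ∀ x ∈ N, x ∈ Z1 φ → x = 1 := fun x hx hz => by
    have e := eq_u4 hz
    rw [e] at hx
    rw [e, h _ hx]
    rfl
  have h2 : ∀ x ∈ N, x ∈ Z2 φ → x = 1 := fun x hx hz => by
    apply h1 x hx
    rw [← center_eq, Subgroup.mem_center_iff]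
    intro y
    exact commutatorElement_eq_one_iff_mul_comm.1 (h1 _ (hc y x hx) (mem_Z2_iff.1 hz y))
  have h3 : ∀ x ∈ N, x ∈ Z3 φ → x = 1 := fun x hx hz => by
    apply h1 x hx
    rw [← center_eq, Subgroup.mem_center_iff]
    intro y
    exact commutatorElement_eq_one_iff_mul_comm.1 (h2 _ (hc y x hx) (mem_Z3_iff.1 hz y))
  have h4 : ∀ x ∈ N, x ∈ Z4 φ → x = 1 := fun x hx hz => by
    apply h1 x hx
    rw [← center_eq, Subgroup.mem_center_iff]
    intro y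
    exact commutatorElement_eq_one_iff_mul_comm.1 (h3 _ (hc y x hx) (mem_Z4_iff.1 hz y))
  apply h1 x hx
  rw [← center_eq, Subgroup.mem_center_iff]
  intro y
  exact commutatorElement_eq_one_iff_mul_comm.1 (h4 _ (hc y x hx) (comm_mem_Z4 y x))

end Sy

namespace Rels

variable {φ : K ≃ₐ[F] K} [Cub φ] {G : Type*} [Group G] (R : Rels φ G)

theorem hom_injective (h : ∀ w, R.v4 w = 1 → w = 0) : Function.Injective R.hom := by
  rw [← MonoidHom.ker_eq_bot_iff, eq_bot_iff]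
  intro x hx
  rw [Subgroup.mem_bot]
  exact Sy.eq_one_of_normal (N := R.hom.ker) (fun w hw => h w (by
    rw [MonoidHom.mem_ker, hom_u4] at hw
    exact hw)) hx

end Rels

section OfHexPos

variable {φ : K ≃ₐ[F] K} [Cub φ] {G : Type*} [Group G] (P : HexPos φ G)

theorem mc {a b c : G} (h : ⁅a, b⁆ = c) : a * b = c * b * a := by
  rw [← h, commutatorElement_def]; group

theorem mc1 {a b : G} (h : ⁅a, b⁆ = 1) : a * b = b * a := commutatorElement_eq_one_iff_mul_comm.1 h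

/-- the relations of `Q1` from a library package -/
def Rels0.ofHexPos : Rels0 φ G where
  v2 := P.x2
  v3 := P.x3
  v4 := P.x4
  v5 c := P.x5 (-c)
  v6 := P.x6
  add2 := P.add2
  add3 := P.add3
  add4 := P.add4
  add5 s t := by rw [neg_add]; exact P.add5 _ _
  add6 := P.add6
  k56 c u := mc1 (P.c56 _ _)
  k36 b u := mc1 (P.c36 _ _)
  k26 t u := by
    rw [mc (P.r26 t u), mc1 (P.c46 _ _), mul_assoc, mul_assoc, mc1 (P.c24 _ _)]
  k46 w u := mc1 (P.c46 _ _)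
  k35 b c := by
    have e : -tr φ (b * -c) = tr φ (b * c) := by apply (algebraMap F K).injective; cub
    rw [mc (P.r35 b (-c)), e, mc1 (P.c45 _ _), mul_assoc, mul_assoc, mc1 (P.c34 _ _)]
  k25 t c := mc1 (P.c25 _ _)
  k45 w c := mc1 (P.c45 _ _)
  k23 t b := mc1 (P.c23 _ _)
  k34 w b := (mc1 (P.c34 _ _)).symm
  k24 w t := (mc1 (P.c24 _ _)).symm

/-- the relations from a library package -/
def Rels.ofHexPos : Rels φ G where
  toRels0 := Rels0.ofHexPos P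
  v1 := P.x1
  add1 := P.add1
  k12 a t := mc1 (P.c12 _ _)
  k14 a w := mc1 (P.c14 _ _)
  k13 a b := by
    change P.x1 a * P.x3 b = P.x3 b * P.x2 _ * P.x1 a
    rw [mc (P.r13 a b), mc1 (P.c23 _ _)]
  k15 a c := by
    have e1 : P.x2 (-tr φ (sh φ a * -c)) = (Rels0.ofHexPos P).v2 (tr φ (sh φ a * c)) := by
      change P.x2 _ = P.x2 _
      congr 1
      apply (algebraMap F K).injective; cub
    have e2 : P.x3 (-cr φ a (-c)) = (Rels0.ofHexPos P).v3 (cr φ a c) := by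
      change P.x3 _ = P.x3 _
      congr 1
      cub
    have e3 : P.x4 (-tr φ (a * sh φ (-c))) = (Rels0.ofHexPos P).v4 (-tr φ (a * sh φ c)) := by
      change P.x4 _ = P.x4 _
      congr 1
      apply (algebraMap F K).injective; cub
    change P.x1 a * P.x5 (-c) = _
    rw [mc (P.r15 a (-c)), e1, e2, e3]
    change _ * (Rels0.ofHexPos P).v5 c * P.x1 a = _
    set R := Rels0.ofHexPos P
    simp only [mul_assoc]
    simp only [R.as2, R.as3, R.as4, R.as5, R.as6, R.a56, R.a36, R.a26,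
      R.a46, R.a35, R.a25, R.a45, R.a23, R.a34, R.a24]
    congr 4
    refine congrArg R.v4 ?_
    apply (algebraMap F K).injective; cub
  k16 a u := by
    have e1 : P.x5 (-(u • a)) = (Rels0.ofHexPos P).v5 (u • a) := rfl
    change P.x1 a * P.x6 u = _
    rw [mc (P.r16 a u), e1]
    change (Rels0.ofHexPos P).v2 _ * (Rels0.ofHexPos P).v3 _ * (Rels0.ofHexPos P).v4 _ * _ *
      (Rels0.ofHexPos P).v6 u * P.x1 a = _
    set R := Rels0.ofHexPos P
    simp only [mul_assoc]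
    simp only [R.as2, R.as3, R.as4, R.as5, R.as6, R.a56, R.a36, R.a26,
      R.a46, R.a35, R.a25, R.a45, R.a23, R.a34, R.a24]
    congr 5
    refine congrArg R.v4 ?_
    apply (algebraMap F K).injective; cub

end OfHexPos

end Cfsg.Agent.H765.D3
end

-- part: H765/D3/Iso
section
/-!
# S5261: the Sylow `p`-subgroups of `twistedD4 K (p ^ n)` are isomorphic to `Sy φ`
-/

set_option autoImplicit false
set_option linter.unusedSectionVars false

namespace Cfsg.Agent.H765.D3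

open Cfsg.Lie
open Cfsg.Agent.Hexagon.Pos

section Field

variable {K : Type*} [Field K] [Fintype K] {q : ℕ}

/-- the Frobenius map of order three -/
theorem exists_sigma (hq : IsPrimePow q) (hK : Fintype.card K = q ^ 3) : ∃ σ : K ≃+* K, ∀ x, σ x = x ^ q := by
  obtain ⟨φ, hφ⟩ := Cfsg.Agent.ChevalleyStructure.D4Fixed.exists_frob hq hK
  refine ⟨RingEquiv.ofBijective φ ?_, fun x => hφ x⟩
  exact Finite.injective_iff_bijective.1 φ.injective

theorem sigma_three (hK : Fintype.card K = q ^ 3) {σ : K ≃+* K} (hσ : ∀ x, σ x = x ^ q) (t : K) :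
    σ (σ (σ t)) = t := by
  rw [hσ, hσ, hσ, ← pow_mul, ← pow_mul]
  have : q * (q * q) = q ^ 3 := by ring
  rw [this, ← hK]
  exact FiniteField.pow_card t

theorem sigma_ne (hq : 1 < q) (hK : Fintype.card K = q ^ 3) {σ : K ≃+* K} (hσ : ∀ x, σ x = x ^ q) :
    ∃ t, σ t ≠ t := by
  classical
  by_contra hcon
  push Not at hcon
  have h1 : ∀ t : K, t ^ q = t := fun t => by rw [← hσ]; exact hcon t
  have h2 : (Polynomial.X ^ q - Polynomial.X : Polynomial K) ≠ 0 :=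
    FiniteField.X_pow_card_sub_X_ne_zero K hq
  have h3 : (Finset.univ : Finset K).card ≤ q := by
    have h4 : (Finset.univ : Finset K) ⊆ (Polynomial.X ^ q - Polynomial.X : Polynomial K).roots.toFinset := by
      intro t _
      rw [Multiset.mem_toFinset, Polynomial.mem_roots h2]
      simp [h1]
    refine (Finset.card_le_card h4).trans ((Multiset.toFinset_card_le _).trans ?_)
    refine (Polynomial.card_roots' _).trans ?_
    rw [FiniteField.X_pow_card_sub_X_natDegree_eq K hq]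
  rw [Finset.card_univ, hK] at h3
  have : q < q ^ 3 := by
    calc q = q ^ 1 := (pow_one q).symm
      _ < q ^ 3 := Nat.pow_lt_pow_right hq (by norm_num)
  omega

/-- the fixed field and the automorphism over it -/
theorem exists_cub (hq : IsPrimePow q) (hK : Fintype.card K = q ^ 3) :
    ∃ (F : Subfield K) (φ : K ≃ₐ[F] K), Cub φ ∧ Nat.card F = q ∧ ∀ t, φ t = t ^ q := by
  obtain ⟨σ, hσ⟩ := exists_sigma hq hK
  have h3 := sigma_three hK hσ
  have hne := sigma_ne hq.one_lt hK hσ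
  refine ⟨Cfsg.Agent.HexRec.FixedField.Fx σ, Cfsg.Agent.HexRec.FixedField.phi σ, ⟨⟨h3, fun t ht => ?_⟩, hne⟩, ?_,
    hσ⟩
  · exact ⟨⟨t, (Cfsg.Agent.HexRec.FixedField.mem_Fx σ).2 ht⟩, rfl⟩
  · have h1 := Cfsg.Agent.HexRec.FixedField.finrank_eq σ h3 hne
    have h2 := Module.natCard_eq_pow_finrank (K := Cfsg.Agent.HexRec.FixedField.Fx σ) (V := K)
    rw [h1, Nat.card_eq_fintype_card, hK] at h2
    exact (Nat.pow_left_injective (n := 3) (by norm_num) h2).symm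

end Field

/-- an embedding of `Sy φ` in `³D₄(q)` -/
theorem exists_emb {K : Type*} [Field K] [Fintype K] {q : ℕ} (hq : IsPrimePow q) (hK : Fintype.card K = q ^ 3)
    {F : Subfield K} {φ : K ≃ₐ[F] K} [Cub φ] (hφ : ∀ t, φ t = t ^ q) :
    ∃ f : Sy φ →* ↥(twistedD4 K q), Function.Injective f := by
  obtain ⟨R⟩ := Cfsg.Agent.Hexagon.TwD4Ident.exists_root hq hK (Cub.pair (φ := φ)) hφ
  refine ⟨(Rels.ofHexPos R.P).hom, Rels.hom_injective _ fun w hw => R.P.inj4 w hw⟩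

theorem exists_iso' {K : Type*} [Field K] [Fintype K] {p : ℕ} [Fact p.Prime] {n q : ℕ} (hn : 1 ≤ n)
    (hqdef : q = p ^ n) (hK : Fintype.card K = q ^ 3) (T : Sylow p ↥(twistedD4 K q)) :
    ∃ (F : Subfield K) (φ : K ≃ₐ[F] K) (_ : Cub φ), Nat.card F = q ∧ (∀ t, φ t = t ^ q) ∧
      Nonempty (↥(T : Subgroup ↥(twistedD4 K q)) ≃* Sy φ) := by
  have hp : p.Prime := Fact.out
  have hq : IsPrimePow q := hqdef ▸ hp.isPrimePow.pow (by omega)
  obtain ⟨F, φ, hC, hF, hφ⟩ := exists_cub hq hK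
  refine ⟨F, φ, hC, hF, hφ, ?_⟩
  obtain ⟨f, hf⟩ := exists_emb hq hK hφ
  have hq1 : 1 < q := hq.one_lt
  have hcard : Nat.card f.range = q ^ 12 := by
    rw [← Nat.card_congr (MonoidHom.ofInjective hf).toEquiv, Sy.card_eq, hF, Nat.card_eq_fintype_card, hK]
    ring
  have hG := Cfsg.Agent.S1067.result (K := K) hq hK
  have hpq : ∀ m, m ≠ 0 → p ∣ q ^ m := fun m hm => by
    rw [hqdef, ← pow_mul]
    exact dvd_pow_self p (Nat.mul_ne_zero (by omega) hm)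
  have hidx : f.range.index = (q ^ 2 - 1) * (q ^ 6 - 1) * (q ^ 8 + q ^ 4 + 1) := by
    have h1 := f.range.card_mul_index
    rw [hcard, hG, mul_assoc, mul_assoc] at h1
    have h2 := Nat.eq_of_mul_eq_mul_left (pow_pos (by omega) 12) h1
    rw [h2, mul_assoc]
  have hpG : IsPGroup p f.range := IsPGroup.of_card (n := n * 12) (by rw [hcard, hqdef, ← pow_mul])
  have hnd : ¬ p ∣ f.range.index := by
    rw [hidx]
    intro h
    have hs : ∀ m, m ≠ 0 → ¬ p ∣ q ^ m - 1 := fun m hm h => by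
      have h0 := hpq m hm
      have h1 : 1 ≤ q ^ m := Nat.one_le_pow _ _ (by omega)
      have : p ∣ 1 := by
        have := (Nat.dvd_add_right h).1 (by rw [Nat.sub_add_cancel h1]; exact h0)
        exact this
      exact hp.one_lt.ne' (Nat.dvd_one.1 this)
    rcases (Nat.Prime.dvd_mul hp).1 h with h | h
    · rcases (Nat.Prime.dvd_mul hp).1 h with h | h
      · exact hs 2 (by norm_num) h
      · exact hs 6 (by norm_num) h
    · have h1 : p ∣ 1 := (Nat.dvd_add_right (dvd_add (hpq 8 (by norm_num)) (hpq 4 (by norm_num)))).1 h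
      exact hp.one_lt.ne' (Nat.dvd_one.1 h1)
  have e1 : ↥(T : Subgroup ↥(twistedD4 K q)) ≃* f.range := Sylow.equiv T (hpG.toSylow hnd)
  exact ⟨e1.trans (MonoidHom.ofInjective hf).symm⟩

/-- **Coordinates of the Sylow subgroups of `³D₄(q)`** -/
theorem exists_iso {K : Type*} [Field K] [Fintype K] {p : ℕ} [Fact p.Prime] {n : ℕ} (hn : 1 ≤ n)
    (hK : Fintype.card K = (p ^ n) ^ 3) (T : Sylow p ↥(twistedD4 K (p ^ n))) :
    ∃ (F : Subfield K) (φ : K ≃ₐ[F] K) (_ : Cub φ), Nat.card F = p ^ n ∧ (∀ t, φ t = t ^ (p ^ n)) ∧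
      Nonempty (↥(T : Subgroup ↥(twistedD4 K (p ^ n))) ≃* Sy φ) :=
  exists_iso' hn rfl hK T

end Cfsg.Agent.H765.D3
end

private theorem dce_24d223ca51f1 : _root_.True := by
  try have : _root_.True := by simp only [_root_.Cfsg.Agent.H765.D3.Rels.toFun.eq_1]
  exact _root_.True.intro
end

-- part: H673/D4/Lin1_mg
section
prune_inst 0xc1101210014000000004000400000081140004000000800000010000000040024000000000200001500a200000040040021000000040000004200000000401000000000010000080000000000000000000000000000000000000000000010000200000000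
set_option linter.all false
open scoped Cfsg.Agent.FastGrp

-- part: H673/D4/Lin1
section
/-!
# S5261, task D3-LIN1 (helper673): `StLin1` from `StRk1` and `StLin1b`

Plan: `outputs/live/tools/plans/S5261_L.md`, section 5.  Parts: the actions of `u1 a` and of the torus on `V₁`; the Sylow
subgroup `P₀`, the torus `H`, the opposite Sylow subgroup fixed by `H` (averaging a cocycle); the identification of the
field; the main theorem `stLin1`.
-/

set_option autoImplicit false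
set_option linter.unusedSectionVars false

namespace Cfsg.Agent.H673.D4

open Cfsg Cfsg.Agent.H765.D3 Cfsg.Agent.H780.D4
open Cfsg.Agent.Hex.Defs (sh cr nm tr)
open scoped Pointwise

universe u

section Act
variable {F K : Type u} [Field F] [Field K] [Algebra F K] (φ : K ≃ₐ[F] K) [Cub φ]

/-- the action of `u1 a` as a function -/
noncomputable def aF (a : K) (v : V1 F K) : V1 F K :=
  (v.1, v.2.1 + v.1 • a, v.2.2.1 + cr φ a v.2.1 + v.1 • sh φ a,
    v.2.2.2 + tr φ (a * v.2.2.1) + tr φ (sh φ a * v.2.1) + v.1 * nm φ a)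

theorem aF_add (a b : K) (v : V1 F K) : aF φ a (aF φ b v) = aF φ (a + b) v := by
  obtain ⟨v0, v1, v2, v3⟩ := v
  refine Prod.ext rfl (Prod.ext ?_ (Prod.ext ?_ ?_))
  · show v1 + v0 • b + v0 • a = v1 + v0 • (a + b)
    rw [smul_add]; ring
  · show v2 + cr φ b v1 + v0 • sh φ b + cr φ a (v1 + v0 • b) + v0 • sh φ a =
      v2 + cr φ (a + b) v1 + v0 • sh φ (a + b)
    cub
  · show v3 + tr φ (b * v2) + tr φ (sh φ b * v1) + v0 * nm φ b + tr φ (a * (v2 + cr φ b v1 + v0 • sh φ b)) +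
      tr φ (sh φ a * (v1 + v0 • b)) + v0 * nm φ a =
      v3 + tr φ ((a + b) * v2) + tr φ (sh φ (a + b) * v1) + v0 * nm φ (a + b)
    apply (algebraMap F K).injective
    cub

theorem aF_zero (v : V1 F K) : aF φ 0 v = v := by
  obtain ⟨v0, v1, v2, v3⟩ := v
  refine Prod.ext rfl (Prod.ext ?_ (Prod.ext ?_ ?_))
  · show v1 + v0 • (0 : K) = v1
    simp
  · show v2 + cr φ 0 v1 + v0 • sh φ 0 = v2
    cub
  · show v3 + tr φ (0 * v2) + tr φ (sh φ 0 * v1) + v0 * nm φ 0 = v3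
    apply (algebraMap F K).injective
    cub

/-- the action of `u1 a` as a permutation -/
noncomputable def aP (a : K) : Equiv.Perm (V1 F K) where
  toFun := aF φ a
  invFun := aF φ (-a)
  left_inv v := by rw [aF_add, neg_add_cancel, aF_zero]
  right_inv v := by rw [aF_add, add_neg_cancel, aF_zero]

theorem isActV_aP (a : K) : IsActV φ (aP φ a) a := fun _ => rfl

theorem isActV_iff {g : Equiv.Perm (V1 F K)} {a : K} : IsActV φ g a ↔ g = aP φ a := by
  constructor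
  · intro h
    ext1 v
    exact h v
  · rintro rfl
    exact isActV_aP φ a

theorem aP_add (a b : K) : aP φ (a + b) = aP φ a * aP φ b := by
  ext1 v
  exact (aF_add φ a b v).symm

theorem aP_zero : aP φ (0 : K) = 1 := by
  ext1 v
  exact aF_zero φ v

theorem aP_neg (a : K) : aP φ (-a) = (aP φ a)⁻¹ := by
  rw [eq_inv_iff_mul_eq_one, ← aP_add, neg_add_cancel, aP_zero]

theorem aP_injective : Function.Injective (aP φ) := by
  intro a b h
  have h1 := congrArg (fun g : Equiv.Perm (V1 F K) => (g (1, 0, 0, 0)).2.1) h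
  change (0 : K) + (1 : F) • a = 0 + (1 : F) • b at h1
  simpa using h1

theorem aP_nsmul (a : K) (m : ℕ) : aP φ (m • a) = aP φ a ^ m := by
  induction m with
  | zero => rw [zero_smul, aP_zero, pow_zero]
  | succ m ih => rw [succ_nsmul, aP_add, ih, pow_succ]

theorem formV_aP (a : K) (v w : V1 F K) : formV φ (aP φ a v) (aP φ a w) = formV φ v w := by
  obtain ⟨v0, v1, v2, v3⟩ := v
  obtain ⟨w0, w1, w2, w3⟩ := w
  show v0 * (w3 + tr φ (a * w2) + tr φ (sh φ a * w1) + w0 * nm φ a) -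
      (v3 + tr φ (a * v2) + tr φ (sh φ a * v1) + v0 * nm φ a) * w0 -
      tr φ ((v1 + v0 • a) * (w2 + cr φ a w1 + w0 • sh φ a)) + tr φ ((v2 + cr φ a v1 + v0 • sh φ a) * (w1 + w0 • a)) =
    v0 * w3 - v3 * w0 - tr φ (v1 * w2) + tr φ (v2 * w1)
  apply (algebraMap F K).injective
  cub

/-! ### The torus -/

section
variable {φ}
variable {g g' : Equiv.Perm (V1 F K)} {s s' : K} {t t' : F} {τ τ' : K ≃+* K} {ρ ρ' : F ≃+* F}

theorem torV_ext (h : IsTorV φ g s t τ ρ) (h' : IsTorV φ g' s t τ ρ) : g = g' := by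
  ext1 v
  rw [h.app, h'.app]

theorem torV_uniq (h : IsTorV φ g s t τ ρ) (h' : IsTorV φ g s' t' τ' ρ') : s = s' ∧ t = t' ∧ τ = τ' ∧ ρ = ρ' := by
  have ht : t = t' := by
    have e := (h.app (1, 0, 0, 0)).symm.trans (h'.app (1, 0, 0, 0))
    have e1 := congrArg Prod.fst e
    simpa using e1
  subst ht
  have hρ : ρ = ρ' := by
    ext c
    have e := (h.app (c, 0, 0, 0)).symm.trans (h'.app (c, 0, 0, 0))
    have e1 : t * ρ c = t * ρ' c := congrArg Prod.fst e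
    exact mul_left_cancel₀ h.net e1
  have key : ∀ a : K, s * τ a = s' * τ' a := by
    intro a
    have e := (h.app (0, a, 0, 0)).symm.trans (h'.app (0, a, 0, 0))
    have e1 : t • (s * τ a) = t • (s' * τ' a) := congrArg (fun v : V1 F K => v.2.1) e
    exact smul_right_injective K h.net e1
  have hs : s = s' := by simpa using key 1
  subst hs
  refine ⟨rfl, rfl, ?_, hρ⟩
  ext a
  exact mul_left_cancel₀ h.nes (key a)

variable {p n : ℕ}

theorem tau_phi (hy : HypD φ p n) (τ : K ≃+* K) (a : K) : τ (φ a) = φ (τ a) := by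
  rw [hy.phi, hy.phi, map_pow]

theorem tau_sh (hy : HypD φ p n) (τ : K ≃+* K) (a : K) : τ (sh φ a) = sh φ (τ a) := by
  simp only [sh, map_mul, tau_phi hy]

theorem tau_cr (hy : HypD φ p n) (τ : K ≃+* K) (a b : K) : τ (cr φ a b) = cr φ (τ a) (τ b) := by
  simp only [cr, map_mul, map_add, tau_phi hy]

theorem rho_tr (hy : HypD φ p n) (hr : ∀ x : F, τ (algebraMap F K x) = algebraMap F K (ρ x)) (a : K) :
    ρ (tr φ a) = tr φ (τ a) := by
  apply (algebraMap F K).injective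
  rw [← hr, coe_tr, coe_tr, map_add, map_add, tau_phi hy, tau_phi hy, tau_phi hy]

theorem rho_nm (hy : HypD φ p n) (hr : ∀ x : F, τ (algebraMap F K x) = algebraMap F K (ρ x)) (a : K) :
    ρ (nm φ a) = nm φ (τ a) := by
  apply (algebraMap F K).injective
  rw [← hr, coe_nm, coe_nm, map_mul, map_mul, tau_phi hy, tau_phi hy, tau_phi hy]

theorem tau_smul (hr : ∀ x : F, τ (algebraMap F K x) = algebraMap F K (ρ x)) (c : F) (a : K) :
    τ (c • a) = ρ c • τ a := by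
  rw [Algebra.smul_def, Algebra.smul_def, map_mul, hr]

theorem torV_conj (hy : HypD φ p n) (h : IsTorV φ g s t τ ρ) (a : K) : g * aP φ a = aP φ (s * τ a) * g := by
  ext1 v
  rw [Equiv.Perm.mul_apply, Equiv.Perm.mul_apply, h.app, h.app]
  obtain ⟨v0, v1, v2, v3⟩ := v
  refine Prod.ext rfl (Prod.ext ?_ (Prod.ext ?_ ?_))
  · show t • (s * τ (v1 + v0 • a)) = t • (s * τ v1) + (t * ρ v0) • (s * τ a)
    rw [map_add, tau_smul h.res]
    simp only [Algebra.smul_def, map_mul]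
    ring
  · show t • (sh φ s * τ (v2 + cr φ a v1 + v0 • sh φ a)) =
      t • (sh φ s * τ v2) + cr φ (s * τ a) (t • (s * τ v1)) + (t * ρ v0) • sh φ (s * τ a)
    rw [map_add, map_add, tau_smul h.res, tau_cr hy, tau_sh hy]
    cub
  · show nm φ s * t * ρ (v3 + tr φ (a * v2) + tr φ (sh φ a * v1) + v0 * nm φ a) =
      nm φ s * t * ρ v3 + tr φ (s * τ a * (t • (sh φ s * τ v2))) + tr φ (sh φ (s * τ a) * (t • (s * τ v1))) +
        t * ρ v0 * nm φ (s * τ a)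
    rw [map_add, map_add, map_add, map_mul, rho_tr hy h.res, rho_tr hy h.res, rho_nm hy h.res, map_mul, map_mul,
      tau_sh hy]
    apply (algebraMap F K).injective
    cub

theorem formV_torV (hy : HypD φ p n) (h : IsTorV φ g s t τ ρ) (v w : V1 F K) :
    formV φ (g v) (g w) = nm φ s * t ^ 2 * ρ (formV φ v w) := by
  rw [h.app, h.app]
  obtain ⟨v0, v1, v2, v3⟩ := v
  obtain ⟨w0, w1, w2, w3⟩ := w
  show t * ρ v0 * (nm φ s * t * ρ w3) - nm φ s * t * ρ v3 * (t * ρ w0) - tr φ (t • (s * τ v1) * (t • (sh φ s * τ w2))) +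
      tr φ (t • (sh φ s * τ v2) * (t • (s * τ w1))) =
    nm φ s * t ^ 2 * ρ (v0 * w3 - v3 * w0 - tr φ (v1 * w2) + tr φ (v2 * w1))
  rw [map_add, map_sub, map_sub, map_mul, map_mul, rho_tr hy h.res, rho_tr hy h.res, map_mul, map_mul]
  apply (algebraMap F K).injective
  cub

end

end Act

section Grp

variable {F K : Type u} [Field F] [Field K] [Algebra F K] {φ : K ≃ₐ[F] K} [Cub φ] {p n : ℕ}

theorem finF (hy : HypD φ p n) : Finite F := by
  have := hy.fin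
  exact Finite.of_injective (algebraMap F K) (algebraMap F K).injective

theorem aP_pow_p (hy : HypD φ p n) (a : K) : aP φ a ^ p = 1 := by
  have := hy.char
  rw [← aP_nsmul, nsmul_eq_mul, CharP.cast_eq_zero, zero_mul, aP_zero]

theorem exists_syl (hy : HypD φ p n) [Fact p.Prime] {G : Subgroup (Equiv.Perm (V1 F K))}
    {Dc : Set (K × F × (K ≃+* K) × (F ≃+* F))} (hL : LPar φ p G Dc) :
    ∃ P0 : Sylow p ↥G, ∀ z : ↥G, z ∈ (P0 : Subgroup ↥G) ↔ ∃ a, (z : Equiv.Perm (V1 F K)) = aP φ a := by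
  have := hy.fin
  have := finF hy
  let T : Subgroup ↥G :=
    { carrier := {z | ∃ a, (z : Equiv.Perm (V1 F K)) = aP φ a}
      one_mem' := ⟨0, by rw [aP_zero]; rfl⟩
      mul_mem' := by
        rintro x y ⟨a, ha⟩ ⟨b, hb⟩
        exact ⟨a + b, by rw [aP_add, ← ha, ← hb]; rfl⟩
      inv_mem' := by
        rintro x ⟨a, ha⟩
        exact ⟨-a, by rw [aP_neg, ← ha]; rfl⟩ }
  have hT : IsPGroup p T := by
    rintro ⟨z, a, ha⟩
    refine ⟨1, Subtype.ext (Subtype.ext ?_)⟩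
    show (z : Equiv.Perm (V1 F K)) ^ p ^ 1 = 1
    rw [pow_one, ha, aP_pow_p hy]
  obtain ⟨Q, hQ⟩ := hT.exists_le_sylow
  refine ⟨Q, ?_⟩
  suffices h : (Q : Subgroup ↥G) = T by
    intro z
    rw [h]
    rfl
  symm
  obtain ⟨g, hg, hgx⟩ := hL.syl ((Q : Subgroup ↥G).map G.subtype) (by
    rintro _ ⟨x, -, rfl⟩
    exact x.2) (Q.isPGroup'.map _)
  refine Subgroup.eq_of_le_of_card_ge hQ ?_
  refine Nat.card_le_card_of_injective
    (fun x : ↥(Q : Subgroup ↥G) => (⟨⟨g, hg⟩ * x.1 * ⟨g, hg⟩⁻¹, by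
      obtain ⟨a, ha⟩ := hgx x.1 ⟨x.1, x.2, rfl⟩
      exact ⟨a, (isActV_iff φ).1 ha⟩⟩ : ↥T)) ?_
  intro x y hxy
  have h1 := congrArg Subtype.val hxy
  simp only at h1
  exact Subtype.ext (mul_left_cancel (mul_right_cancel h1))

/-- the situation -/
structure Ctx (φ : K ≃ₐ[F] K) [Cub φ] (p n : ℕ) [Fact p.Prime] (G : Subgroup (Equiv.Perm (V1 F K)))
    (Dc : Set (K × F × (K ≃+* K) × (F ≃+* F))) (H : Subgroup (Equiv.Perm (V1 F K))) (P0 : Sylow p ↥G) : Prop where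
  hy : HypD φ p n
  hL : LPar φ p G Dc
  mem : ∀ z : ↥G, z ∈ (P0 : Subgroup ↥G) ↔ ∃ a, (z : Equiv.Perm (V1 F K)) = aP φ a
  cop : (Nat.card H).Coprime p
  memH : ∀ g, g ∈ H ↔ ∃ s t τ ρ, (s, t, τ, ρ) ∈ Dc ∧ IsTorV φ g s t τ ρ

theorem smul_eq_of {G : Type*} [Group G] {p : ℕ} (g : G) (P Q : Sylow p G)
    (h : ∀ x ∈ (P : Subgroup G), g * x * g⁻¹ ∈ (Q : Subgroup G)) : g • P = Q := by
  symm
  apply Sylow.ext
  apply (g • P).is_maximal' Q.isPGroup'
  intro y hy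
  obtain ⟨x, hx, rfl⟩ := hy
  exact h x hx

theorem conj_mem_smul {G : Type*} [Group G] {p : ℕ} (g : G) (P : Sylow p G) {x : G} (hx : x ∈ (P : Subgroup G)) :
    g * x * g⁻¹ ∈ ((g • P : Sylow p G) : Subgroup G) := ⟨x, hx, rfl⟩

theorem of_mem_smul {G : Type*} [Group G] {p : ℕ} (g : G) (P : Sylow p G) {y : G}
    (hy : y ∈ ((g • P : Sylow p G) : Subgroup G)) : ∃ x ∈ (P : Subgroup G), y = g * x * g⁻¹ := by
  obtain ⟨x, hx, rfl⟩ := hy
  exact ⟨x, hx, rfl⟩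

section
variable [Fact p.Prime] {G : Subgroup (Equiv.Perm (V1 F K))} {Dc : Set (K × F × (K ≃+* K) × (F ≃+* F))}
  {H : Subgroup (Equiv.Perm (V1 F K))} {P0 : Sylow p ↥G} (C : Ctx φ p n G Dc H P0)

include C in
theorem finV : Finite (V1 F K) := by
  have := C.hy.fin
  have := finF C.hy
  infer_instance

/-- `x a` in `G` -/
noncomputable def xG (a : K) : ↥G := ⟨aP φ a, C.hL.act a _ (isActV_aP φ a)⟩

theorem xG_mem (a : K) : xG C a ∈ (P0 : Subgroup ↥G) := (C.mem _).2 ⟨a, rfl⟩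

theorem xG_add (a b : K) : xG C (a + b) = xG C a * xG C b := Subtype.ext (aP_add φ a b)

theorem xG_zero : xG C 0 = 1 := Subtype.ext (aP_zero φ)

theorem xG_injective : Function.Injective (xG C) := fun _ _ h =>
  aP_injective φ (congrArg (Subtype.val : ↥G → Equiv.Perm (V1 F K)) h)

theorem exists_xG {z : ↥G} (hz : z ∈ (P0 : Subgroup ↥G)) : ∃ a, z = xG C a := by
  obtain ⟨a, ha⟩ := (C.mem z).1 hz
  exact ⟨a, Subtype.ext ha⟩

include C in
theorem H_le : H ≤ G := by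
  intro g hg
  obtain ⟨s, t, τ, ρ, hD, hT⟩ := (C.memH g).1 hg
  obtain ⟨g', hg', hT'⟩ := C.hL.tor s t τ ρ hD
  rw [torV_ext hT hT']
  exact hg'

include C in
theorem ti {g x : ↥G} (hx : x ∈ (P0 : Subgroup ↥G)) (hx1 : x ≠ 1) (hgx : g * x * g⁻¹ ∈ (P0 : Subgroup ↥G)) :
    g • P0 = P0 := by
  refine smul_eq_of g P0 P0 fun y hy => ?_
  obtain ⟨a, ha⟩ := (C.mem x).1 hx
  obtain ⟨b, hb⟩ := (C.mem y).1 hy
  obtain ⟨c, hc⟩ := (C.mem _).1 hgx
  refine (C.mem _).2 ?_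
  have h1 : (x : Equiv.Perm (V1 F K)) ≠ 1 := fun h => hx1 (Subtype.ext h)
  obtain ⟨d, hd⟩ := C.hL.ti g.1 g.2 a x.1 ((isActV_iff φ).2 ha) h1 ⟨c, (isActV_iff φ).2 hc⟩ b y.1
    ((isActV_iff φ).2 hb)
  exact ⟨d, (isActV_iff φ).1 hd⟩

include C in
theorem fixfree {Q : Sylow p ↥G} (hQ : Q ≠ P0) {x : ↥G} (hx : x ∈ (P0 : Subgroup ↥G)) (hxQ : x • Q = Q) : x = 1 := by
  have := finV C
  obtain ⟨g, rfl⟩ := MulAction.exists_smul_eq ↥G P0 Q
  have h1 : x ∈ Subgroup.normalizer ((g • P0 : Sylow p ↥G) : Set ↥G) := Sylow.smul_eq_iff_mem_normalizer.1 hxQ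
  have h2 : x ∈ (P0 : Subgroup ↥G) ⊓ Subgroup.normalizer ((g • P0 : Sylow p ↥G) : Set ↥G) := ⟨hx, h1⟩
  rw [IsPGroup.inf_normalizer_sylow P0.isPGroup'] at h2
  obtain ⟨y, hy, hxy⟩ := of_mem_smul g P0 h2.2
  by_contra hne
  apply hQ
  refine ti C hy ?_ (hxy ▸ hx)
  rintro rfl
  exact hne (by rw [hxy]; group)

theorem xG_uniq {Q : Sylow p ↥G} (hQ : Q ≠ P0) {a b : K} (h : xG C a • Q = xG C b • Q) : a = b := by
  have h1 : xG C (-b + a) • Q = Q := by
    rw [xG_add, mul_smul, h, ← mul_smul, ← xG_add, neg_add_cancel, xG_zero, one_smul]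
  have h2 := fixfree C hQ (xG_mem C _) h1
  have h3 : -b + a = 0 := xG_injective C (h2.trans (xG_zero C).symm)
  exact (neg_add_eq_zero.1 h3).symm

theorem H_conj {h : ↥G} (hh : (h : Equiv.Perm (V1 F K)) ∈ H) :
    ∃ m : K →+ K, ∀ a, h * xG C a = xG C (m a) * h := by
  obtain ⟨s, t, τ, ρ, hD, hT⟩ := (C.memH _).1 hh
  refine ⟨(AddMonoidHom.mulLeft s).comp (τ : K →+* K).toAddMonoidHom, fun a => Subtype.ext ?_⟩
  exact torV_conj C.hy hT a

include C in
theorem H_smul {h : ↥G} (hh : (h : Equiv.Perm (V1 F K)) ∈ H) : h • P0 = P0 := by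
  obtain ⟨m, hm⟩ := H_conj C hh
  refine smul_eq_of h P0 P0 fun x hx => ?_
  obtain ⟨a, rfl⟩ := exists_xG C hx
  rw [hm, mul_inv_cancel_right]
  exact xG_mem C _

/-- the torus as a homomorphism to `G` -/
noncomputable def hG : ↥H →* ↥G := Subgroup.inclusion (H_le C)

include C in
/-- **a `p'`-group normalizing `P₀` fixes another Sylow subgroup** -/
theorem exists_fixed (hA : ∀ P' P'' : Sylow p ↥G, P' ≠ P0 → P'' ≠ P0 → ∃ x ∈ (P0 : Subgroup ↥G), x • P' = P'') :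
    ∃ P' : Sylow p ↥G, P' ≠ P0 ∧ ∀ h : ↥H, hG C h • P' = P' := by
  have := C.hy.fin
  have := finV C
  have := C.hy.char
  obtain ⟨P1, hP1⟩ : ∃ P1 : Sylow p ↥G, P1 ≠ P0 := by
    obtain ⟨g, hg, a, x, hx, hn⟩ := C.hL.nn
    refine ⟨(⟨g, hg⟩ : ↥G) • P0, fun h => hn ?_⟩
    rw [isActV_iff] at hx
    subst hx
    have h1 := conj_mem_smul (⟨g, hg⟩ : ↥G) P0 (xG_mem C a)
    rw [h] at h1
    obtain ⟨b, hb⟩ := (C.mem _).1 h1
    exact ⟨b, (isActV_iff φ).2 hb⟩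
  have hne : ∀ h : ↥H, hG C h • P1 ≠ P0 := by
    intro h h1
    apply hP1
    have h2 : hG C h • P0 = P0 := H_smul C h.2
    exact smul_left_cancel _ (h1.trans h2.symm)
  have hex : ∀ h : ↥H, ∃ c : K, xG C c • P1 = hG C h • P1 := by
    intro h
    obtain ⟨x, hx, hx1⟩ := hA P1 _ hP1 (hne h)
    obtain ⟨a, rfl⟩ := exists_xG C hx
    exact ⟨a, hx1⟩
  choose c hc using hex
  have hex2 : ∀ h : ↥H, ∃ m : K →+ K, ∀ a, hG C h * xG C a = xG C (m a) * hG C h := fun h => H_conj C h.2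
  choose m hm using hex2
  have hcoc : ∀ h h' : ↥H, c (h * h') = m h (c h') + c h := by
    intro h h'
    apply xG_uniq C hP1
    rw [hc, map_mul, mul_smul, ← hc h', ← mul_smul, hm, mul_smul, ← hc h, ← mul_smul, ← xG_add]
  let _ : Fintype ↥H := Fintype.ofFinite _
  have hN : ((Nat.card ↥H : ℕ) : K) ≠ 0 := by
    intro h0
    have h1 := (CharP.cast_eq_zero_iff K p (Nat.card ↥H)).1 h0
    exact (Nat.Prime.coprime_iff_not_dvd (Fact.out : p.Prime)).1 C.cop.symm h1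
  have hsum : ∀ h : ↥H, m h (∑ h', c h') = (∑ h', c h') - (Nat.card ↥H : K) * c h := by
    intro h
    rw [map_sum]
    have h1 : ∀ h' : ↥H, m h (c h') = c (h * h') - c h := fun h' => by rw [hcoc, add_sub_cancel_right]
    have h2 : ∑ h', c (h * h') = ∑ h', c h' := Equiv.sum_comp (Equiv.mulLeft h) c
    rw [Finset.sum_congr rfl fun h' _ => h1 h', Finset.sum_sub_distrib, h2,
      Finset.sum_const, nsmul_eq_mul, Finset.card_univ, Nat.card_eq_fintype_card]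
  refine ⟨xG C ((Nat.card ↥H : K)⁻¹ * ∑ h', c h') • P1, fun h => ?_, fun h => ?_⟩
  · apply hP1
    have h1 : xG C ((Nat.card ↥H : K)⁻¹ * ∑ h', c h') • P0 = P0 :=
      smul_eq_of _ P0 P0 fun x hx => mul_mem (mul_mem (xG_mem C _) hx) (inv_mem (xG_mem C _))
    exact smul_left_cancel _ (h.trans h1.symm)
  · rw [← mul_smul, hm, mul_smul, ← hc h, ← mul_smul, ← xG_add]
    congr 2
    apply mul_left_cancel₀ hN
    rw [mul_add, ← nsmul_eq_mul, ← map_nsmul, nsmul_eq_mul, mul_inv_cancel_left₀ hN, hsum]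
    ring

include C in
theorem mem_H_of {P' : Sylow p ↥G} (hP' : P' ≠ P0) (hfix : ∀ h : ↥H, hG C h • P' = P') {z : ↥G} (h0 : z • P0 = P0)
    (h1 : z • P' = P') : (z : Equiv.Perm (V1 F K)) ∈ H := by
  obtain ⟨s, t, τ, ρ, hD, x, y, ⟨a, hx⟩, hy, hxy⟩ := C.hL.norm z.1 z.2 (by
    intro a x hx
    rw [isActV_iff] at hx
    subst hx
    have h2 := conj_mem_smul z P0 (xG_mem C a)
    rw [h0] at h2
    obtain ⟨b, hb⟩ := (C.mem _).1 h2
    exact ⟨b, (isActV_iff φ).2 hb⟩)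
  rw [isActV_iff] at hx
  subst hx
  have hyH : y ∈ H := (C.memH y).2 ⟨s, t, τ, ρ, hD, hy⟩
  have h2 : z = xG C a * hG C ⟨y, hyH⟩ := Subtype.ext hxy
  have h3 : xG C a • P' = P' := by
    rw [h2, mul_smul, hfix] at h1
    exact h1
  rw [fixfree C hP' (xG_mem C a) h3, one_mul] at h2
  rw [h2]
  exact hyH

theorem ap_inv {α : Type*} (g : Equiv.Perm α) (x : α) : g (g⁻¹ x) = x := Equiv.apply_symm_apply g x

/-- the form is preserved -/
def Pres (φ : K ≃ₐ[F] K) (g : Equiv.Perm (V1 F K)) : Prop := ∀ v w : V1 F K, formV φ (g v) (g w) = formV φ v w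

omit [Cub φ] in
theorem Pres.mul {g h : Equiv.Perm (V1 F K)} (hg : Pres φ g) (hh : Pres φ h) : Pres φ (g * h) := fun v w => by
  rw [Equiv.Perm.mul_apply, Equiv.Perm.mul_apply, hg, hh]

omit [Cub φ] in
theorem Pres.inv {g : Equiv.Perm (V1 F K)} (hg : Pres φ g) : Pres φ g⁻¹ := fun v w => by
  have h := hg (g⁻¹ v) (g⁻¹ w)
  rw [ap_inv, ap_inv] at h
  exact h.symm

include C in
theorem pres_of_mem {Q : Sylow p ↥G} {z : ↥G} (hz : z ∈ (Q : Subgroup ↥G)) : Pres φ (z : Equiv.Perm (V1 F K)) := by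
  have := finV C
  obtain ⟨g, rfl⟩ := MulAction.exists_smul_eq ↥G P0 Q
  obtain ⟨x, hx, rfl⟩ := of_mem_smul g P0 hz
  obtain ⟨a, rfl⟩ := exists_xG C hx
  obtain ⟨ζ, hζ⟩ := C.hL.frm g.1 g.2
  intro v w
  show formV φ (g.1 (aP φ a (g.1⁻¹ v))) (g.1 (aP φ a (g.1⁻¹ w))) = formV φ v w
  rw [hζ, formV_aP, ← hζ, ap_inv, ap_inv]

end

end Grp

section Field
variable {F K : Type u} [Field F] [Field K] [Algebra F K] {φ : K ≃ₐ[F] K} [Cub φ] {p n : ℕ}

theorem two_le (hy : HypD φ p n) : 2 ≤ p ^ n :=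
  le_trans hy.pp.two_le (Nat.le_self_pow (Nat.one_le_iff_ne_zero.1 hy.hn) p)

theorem card_gal (hy : HypD φ p n) : Nat.card (K ≃ₐ[F] K) = 3 := by
  have := hy.fin
  have := finF hy
  rw [IsGalois.card_aut_eq_finrank]
  have h := Module.natCard_eq_pow_finrank (K := F) (V := K)
  rw [hy.card, hy.cardK] at h
  exact (Nat.pow_right_injective (two_le hy) h).symm

theorem gal_cube (hy : HypD φ p n) (σ : K ≃ₐ[F] K) (a : K) : σ (σ (σ a)) = a := by
  have h : σ ^ 3 = 1 := by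
    rw [← card_gal hy]
    exact pow_card_eq_one'
  have h1 := DFunLike.congr_fun h a
  rw [pow_succ, pow_two] at h1
  exact h1

theorem gal_fixed (hy : HypD φ p n) {σ : K ≃ₐ[F] K} (h : σ ≠ 1) {x : K} (hx : σ x = x) :
    ∃ c : F, algebraMap F K c = x := by
  have : Fact (Nat.Prime 3) := ⟨Nat.prime_three⟩
  obtain ⟨i, hi⟩ := mem_zpowers_of_prime_card (card_gal hy) (g' := φ) h
  apply exists_coe φ
  have h1 : ∀ i : ℤ, (σ ^ i) x = x := by
    intro i
    have h2 : σ ∈ MulAction.stabilizer (K ≃ₐ[F] K) x := hx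
    exact zpow_mem h2 i
  have h3 := h1 i
  simp only at hi
  rw [hi] at h3
  exact h3

/-- squares generate a finite field additively -/
theorem add_squares {k : Type*} [Field k] [Finite k] (A : AddSubgroup k) (h : ∀ a : k, a ^ 2 ∈ A) (a : k) : a ∈ A := by
  by_cases h2 : (2 : k) = 0
  · have h3 : ringChar k = 2 := CharP.ringChar_of_prime_eq_zero Nat.prime_two (by exact_mod_cast h2)
    obtain ⟨b, hb⟩ := FiniteField.isSquare_of_char_two h3 a
    rw [hb, ← pow_two]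
    exact h b
  · have h3 : a = ((a + 1) / 2) ^ 2 - ((a - 1) / 2) ^ 2 := by
      field_simp
      ring
    rw [h3]
    exact sub_mem (h _) (h _)

end Field

section Rel
variable {Γ k : Type*} [Group Γ] [Field k] {x y : k → Γ}

/-- the relations -/
structure Rel (x y : k → Γ) : Prop where
  one : ∀ f : k, f ≠ 0 → ∀ g : k, (x f * y (-f⁻¹) * x f) * x g * (x f * y (-f⁻¹) * x f)⁻¹ = y (-(f⁻¹ ^ 2 * g))
  two : ∀ f : k, f ≠ 0 → ∀ g : k, (x f * y (-f⁻¹) * x f) * y g * (x f * y (-f⁻¹) * x f)⁻¹ = x (-(f ^ 2 * g))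

theorem Rel.one' (R : Rel x y) (g : k) : (x 1 * y (-1) * x 1) * x g * (x 1 * y (-1) * x 1)⁻¹ = y (-g) := by
  have h := R.one 1 one_ne_zero g
  simpa only [_root_.mul_inv_rev, _root_.inv_one, _root_.one_pow, _root_.one_mul] using h

theorem Rel.two' (R : Rel x y) (g : k) : (x 1 * y (-1) * x 1) * y g * (x 1 * y (-1) * x 1)⁻¹ = x (-g) := by
  have h := R.two 1 one_ne_zero g
  simpa only [_root_.mul_inv_rev, _root_.inv_one, _root_.one_pow, _root_.one_mul] using h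

theorem Rel.hx (R : Rel x y) {f : k} (hf : f ≠ 0) (g : k) :
    ((x f * y (-f⁻¹) * x f) * (x 1 * y (-1) * x 1)⁻¹) * x g *
      ((x f * y (-f⁻¹) * x f) * (x 1 * y (-1) * x 1)⁻¹)⁻¹ = x (f ^ 2 * g) := by
  have h1 := R.two' (-g)
  rw [neg_neg] at h1
  have h2 := R.two f hf (-g)
  rw [mul_neg, neg_neg] at h2
  rw [← h1, ← h2]
  group

theorem Rel.hy (R : Rel x y) {f : k} (hf : f ≠ 0) (g : k) :
    ((x f * y (-f⁻¹) * x f) * (x 1 * y (-1) * x 1)⁻¹) * y g *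
      ((x f * y (-f⁻¹) * x f) * (x 1 * y (-1) * x 1)⁻¹)⁻¹ = y (f⁻¹ ^ 2 * g) := by
  have h1 := R.one' (-g)
  rw [neg_neg] at h1
  have h2 := R.one f hf (-g)
  rw [mul_neg, neg_neg] at h2
  rw [← h1, ← h2]
  group

end Rel

section
variable {F K : Type u} [Field F] [Field K] [Algebra F K] {φ : K ≃ₐ[F] K} [Cub φ] {p n : ℕ}
variable [Fact p.Prime] {G : Subgroup (Equiv.Perm (V1 F K))} {Dc : Set (K × F × (K ≃+* K) × (F ≃+* F))}
  {H : Subgroup (Equiv.Perm (V1 F K))} {P0 : Sylow p ↥G} (C : Ctx φ p n G Dc H P0)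

theorem pres_tor (hy : HypD φ p n) {g : Equiv.Perm (V1 F K)} {s : K} {t : F} {τ : K ≃+* K} {ρ : F ≃+* F}
    (hp : Pres φ g) (h : IsTorV φ g s t τ ρ) : nm φ s * t ^ 2 = 1 ∧ ∀ c, ρ c = c := by
  have h1 : ∀ c : F, nm φ s * t ^ 2 * ρ c = c := by
    intro c
    have h2 := formV_torV hy h (c, 0, 0, 0) (0, 0, 0, 1)
    rw [hp] at h2
    have h3 : formV φ ((c, 0, 0, 0) : V1 F K) (0, 0, 0, 1) = c := by
      show c * 1 - 0 * 0 - tr φ (0 * 0) + tr φ (0 * 0) = c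
      rw [mul_zero, mul_zero, tr_zero]
      ring
    rw [h3] at h2
    exact h2.symm
  have h2 := h1 1
  rw [map_one, mul_one] at h2
  refine ⟨h2, fun c => ?_⟩
  have h3 := h1 c
  rw [h2, one_mul] at h3
  exact h3

include C in
/-- the elements normalizing both Sylow subgroups and generated by them -/
theorem tor_of {k : Type*} [Field k] {x y : k → ↥G} (R : Rel x y) {P' : Sylow p ↥G} (hP' : P' ≠ P0)
    (hfix : ∀ h : ↥H, hG C h • P' = P') (hrx : Set.range x = (P0 : Subgroup ↥G)) (hry : Set.range y = (P' : Subgroup ↥G))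
    {f : k} (hf : f ≠ 0) :
    ∃ s t τ ρ, (s, t, τ, ρ) ∈ Dc ∧ nm φ s * t ^ 2 = 1 ∧ (∀ c : F, ρ c = c) ∧
      IsTorV φ (((x f * y (-f⁻¹) * x f) * (x 1 * y (-1) * x 1)⁻¹ : ↥G) : Equiv.Perm (V1 F K)) s t τ ρ := by
  have hx : ∀ a, x a ∈ (P0 : Subgroup ↥G) := fun a => by
    rw [← SetLike.mem_coe, ← hrx]; exact ⟨a, rfl⟩
  have hy : ∀ a, y a ∈ (P' : Subgroup ↥G) := fun a => by
    rw [← SetLike.mem_coe, ← hry]; exact ⟨a, rfl⟩
  have h0 : ((x f * y (-f⁻¹) * x f) * (x 1 * y (-1) * x 1)⁻¹) • P0 = P0 := by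
    refine smul_eq_of _ P0 P0 fun z hz => ?_
    rw [← SetLike.mem_coe, ← hrx] at hz
    obtain ⟨g, rfl⟩ := hz
    rw [R.hx hf]
    exact hx _
  have h1 : ((x f * y (-f⁻¹) * x f) * (x 1 * y (-1) * x 1)⁻¹) • P' = P' := by
    refine smul_eq_of _ P' P' fun z hz => ?_
    rw [← SetLike.mem_coe, ← hry] at hz
    obtain ⟨g, rfl⟩ := hz
    rw [R.hy hf]
    exact hy _
  obtain ⟨s, t, τ, ρ, hD, hT⟩ := (C.memH _).1 (mem_H_of C hP' hfix h0 h1)
  have px : ∀ a, Pres φ (x a : Equiv.Perm (V1 F K)) := fun a => pres_of_mem C (hx a)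
  have py : ∀ a, Pres φ (y a : Equiv.Perm (V1 F K)) := fun a => pres_of_mem C (hy a)
  have hp : Pres φ (((x f * y (-f⁻¹) * x f) * (x 1 * y (-1) * x 1)⁻¹ : ↥G) : Equiv.Perm (V1 F K)) :=
    ((((px f).mul (py _)).mul (px f)).mul ((((px 1).mul (py _)).mul (px 1)).inv))
  obtain ⟨e1, e2⟩ := pres_tor C.hy hp hT
  exact ⟨s, t, τ, ρ, hD, e1, e2, hT⟩

include C in
/-- the parametrization of `P₀` by the field `k` is the identification of `k` with `K` -/
theorem exists_iso {k : Type*} [Field k] [Finite k] (hk : Nat.card k = p ^ (3 * n)) {x y : k → ↥G} (R : Rel x y)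
    {P' : Sylow p ↥G} (hP' : P' ≠ P0) (hfix : ∀ h : ↥H, hG C h • P' = P')
    (hrx : Set.range x = (P0 : Subgroup ↥G)) (hry : Set.range y = (P' : Subgroup ↥G))
    (ix : Function.Injective x) (ax : ∀ a b, x (a + b) = x a * x b) :
    ∃ (κ : K) (e : k ≃+* K), κ ≠ 0 ∧ ∀ a, x a = xG C (κ * e a) := by
  classical
  have hx : ∀ a, x a ∈ (P0 : Subgroup ↥G) := fun a => by
    rw [← SetLike.mem_coe, ← hrx]; exact ⟨a, rfl⟩
  choose θ hθ using fun a => exists_xG C (hx a)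
  have hadd : ∀ a b, θ (a + b) = θ a + θ b := by
    intro a b
    apply xG_injective C
    rw [← hθ, ax, hθ, hθ, xG_add]
  have hinj : Function.Injective θ := by
    intro a b hab
    apply ix
    rw [hθ, hθ, hab]
  have hsur : Function.Surjective θ := by
    intro c
    have h1 : xG C c ∈ Set.range x := by
      rw [hrx]
      exact xG_mem C c
    obtain ⟨a, ha⟩ := h1
    refine ⟨a, xG_injective C ?_⟩
    rw [← hθ, ha]
  have hzero : θ 0 = 0 := by
    have h := hadd 0 0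
    rw [add_zero] at h
    exact left_eq_add.1 h
  have hone : θ 1 ≠ 0 := by
    intro h
    exact one_ne_zero (hinj (h.trans hzero.symm))
  -- the semilinear maps
  have hM : ∀ f : k, f ≠ 0 → ∃ (s : K) (σ : K ≃ₐ[F] K), s ≠ 0 ∧ ∀ g, θ (f ^ 2 * g) = s * σ (θ g) := by
    intro f hf
    obtain ⟨s, t, τ, ρ, -, -, hρ, hT⟩ := tor_of C R hP' hfix hrx hry hf
    refine ⟨s, AlgEquiv.ofRingEquiv (f := τ) (fun c => by rw [hT.res, hρ]), hT.nes, fun g => ?_⟩
    apply xG_injective C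
    rw [← hθ, ← R.hx hf, hθ g, mul_inv_eq_iff_eq_mul]
    exact Subtype.ext (torV_conj C.hy hT (θ g))
  have : Nonempty (K ≃ₐ[F] K) := ⟨1⟩
  choose! S sg hS hMS using hM
  have hsig : ∀ f : k, f ≠ 0 → sg f = 1 := by
    intro f0 hf0
    by_contra hne
    have h3 : ∀ f : k, f ≠ 0 → ∃ c : F, c ≠ 0 ∧ ∀ g, θ (f ^ 6 * g) = algebraMap F K c * θ g := by
      intro f hf
      have e1 : ∀ g, θ (f ^ 6 * g) = (S f * sg f (S f) * sg f (sg f (S f))) * θ g := by
        intro g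
        have e2 : f ^ 6 * g = f ^ 2 * (f ^ 2 * (f ^ 2 * g)) := by ring
        rw [e2, hMS f hf, hMS f hf, hMS f hf, map_mul, map_mul, map_mul, gal_cube C.hy]
        ring
      set c := S f * sg f (S f) * sg f (sg f (S f)) with hc
      have hc0 : c ≠ 0 := by
        rw [hc]
        refine mul_ne_zero (mul_ne_zero (hS f hf) ?_) ?_
        · exact (map_ne_zero _).2 (hS f hf)
        · exact (map_ne_zero _).2 ((map_ne_zero _).2 (hS f hf))
      have e3 : sg f0 c = c := by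
        have e4 := hMS f0 hf0 (f ^ 6 * 1)
        rw [e1, map_mul, show f0 ^ 2 * (f ^ 6 * 1) = f ^ 6 * (f0 ^ 2 * 1) by ring, e1, hMS f0 hf0] at e4
        have e5 : sg f0 (θ 1) ≠ 0 := (map_ne_zero _).2 hone
        have e6 : (S f0 * sg f0 (θ 1)) * c = (S f0 * sg f0 (θ 1)) * sg f0 c := by linear_combination e4
        exact (mul_left_cancel₀ (mul_ne_zero (hS f0 hf0) e5) e6).symm
      obtain ⟨d, hd⟩ := gal_fixed C.hy hne e3
      refine ⟨d, ?_, fun g => by rw [hd, e1]⟩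
      rintro rfl
      rw [map_zero] at hd
      exact hc0 hd.symm
    have hpow : ∀ f : k, f ≠ 0 → f ^ (6 * (p ^ n - 1)) = 1 := by
      intro f hf
      obtain ⟨c, hc, hcg⟩ := h3 f hf
      have e1 : ∀ m : ℕ, ∀ g, θ (f ^ (6 * m) * g) = algebraMap F K (c ^ m) * θ g := by
        intro m
        induction m with
        | zero => intro g; simp
        | succ m ih =>
          intro g
          have e2 : f ^ (6 * (m + 1)) * g = f ^ (6 * m) * (f ^ 6 * g) := by ring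
          rw [e2, ih, hcg, pow_succ, map_mul]
          ring
      have hfF := finF C.hy
      let _ : Fintype F := Fintype.ofFinite F
      have e2 : c ^ (p ^ n - 1) = 1 := by
        rw [← C.hy.card, Nat.card_eq_fintype_card]
        exact FiniteField.pow_card_sub_one_eq_one c hc
      have e3 := e1 (p ^ n - 1) 1
      rw [e2, map_one, one_mul, mul_one] at e3
      exact hinj e3
    let _ : Fintype k := Fintype.ofFinite k
    have hdvd := (FiniteField.forall_pow_eq_one_iff k (6 * (p ^ n - 1))).1 (fun u => by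
      apply Units.ext
      rw [Units.val_pow_eq_pow_val, Units.val_one]
      exact hpow u u.ne_zero)
    rw [← Nat.card_eq_fintype_card, hk, mul_comm 3 n, pow_mul] at hdvd
    have hq := two_le C.hy
    generalize p ^ n = q at hdvd hq
    have hle := Nat.le_of_dvd (by omega) hdvd
    obtain ⟨r, rfl⟩ : ∃ r, q = r + 1 := ⟨q - 1, by omega⟩
    have h4 : (r + 1) ^ 3 - 1 = r * (r ^ 2 + 3 * r + 3) := by
      have : (r + 1) ^ 3 = r * (r ^ 2 + 3 * r + 3) + 1 := by ring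
      omega
    rw [h4, Nat.add_sub_cancel, mul_comm 6 r] at hle
    have h5 := Nat.le_of_mul_le_mul_left hle (by omega)
    nlinarith only [hq, h5]
  have hS1 : ∀ f : k, f ≠ 0 → ∀ g, θ (f ^ 2 * g) = S f * θ g := by
    intro f hf g
    rw [hMS f hf, hsig f hf]
    rfl
  have hmul : ∀ a b, (θ 1)⁻¹ * θ (a * b) = ((θ 1)⁻¹ * θ a) * ((θ 1)⁻¹ * θ b) := by
    intro a b
    let A : AddSubgroup k :=
      { carrier := {a | (θ 1)⁻¹ * θ (a * b) = ((θ 1)⁻¹ * θ a) * ((θ 1)⁻¹ * θ b)}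
        zero_mem' := by
          show (θ 1)⁻¹ * θ (0 * b) = ((θ 1)⁻¹ * θ 0) * ((θ 1)⁻¹ * θ b)
          rw [zero_mul, hzero]
          ring
        add_mem' := by
          intro a a' (ha : (θ 1)⁻¹ * θ (a * b) = ((θ 1)⁻¹ * θ a) * ((θ 1)⁻¹ * θ b))
            (ha' : (θ 1)⁻¹ * θ (a' * b) = ((θ 1)⁻¹ * θ a') * ((θ 1)⁻¹ * θ b))
          show (θ 1)⁻¹ * θ ((a + a') * b) = ((θ 1)⁻¹ * θ (a + a')) * ((θ 1)⁻¹ * θ b)
          rw [add_mul, hadd, hadd, mul_add, ha, ha']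
          ring
        neg_mem' := by
          intro a (ha : (θ 1)⁻¹ * θ (a * b) = ((θ 1)⁻¹ * θ a) * ((θ 1)⁻¹ * θ b))
          show (θ 1)⁻¹ * θ (-a * b) = ((θ 1)⁻¹ * θ (-a)) * ((θ 1)⁻¹ * θ b)
          have hneg : ∀ c, θ (-c) = -θ c := by
            intro c
            have h := hadd c (-c)
            rw [add_neg_cancel, hzero] at h
            exact (neg_eq_of_add_eq_zero_right h.symm).symm
          rw [neg_mul, hneg, hneg, mul_neg, ha]
          ring }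
    have h := add_squares A (fun f => by
      show (θ 1)⁻¹ * θ (f ^ 2 * b) = ((θ 1)⁻¹ * θ (f ^ 2)) * ((θ 1)⁻¹ * θ b)
      by_cases hf : f = 0
      · subst hf
        rw [zero_pow two_ne_zero, zero_mul, hzero]
        ring
      · have e1 := hS1 f hf 1
        rw [mul_one] at e1
        rw [hS1 f hf, e1]
        field_simp) a
    exact h
  let T : k →+* K :=
    { toFun := fun a => (θ 1)⁻¹ * θ a
      map_one' := inv_mul_cancel₀ hone
      map_mul' := hmul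
      map_zero' := by rw [hzero, mul_zero]
      map_add' := fun a b => by rw [hadd, mul_add] }
  have hbij : Function.Bijective T := by
    constructor
    · intro a b hab
      exact hinj (mul_left_cancel₀ (inv_ne_zero hone) hab)
    · intro c
      obtain ⟨a, ha⟩ := hsur (θ 1 * c)
      exact ⟨a, by show (θ 1)⁻¹ * θ a = c; rw [ha, inv_mul_cancel_left₀ hone]⟩
  refine ⟨θ 1, RingEquiv.ofBijective T hbij, hone, fun a => ?_⟩
  rw [hθ a]
  congr 1
  show θ a = θ 1 * ((θ 1)⁻¹ * θ a)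
  rw [mul_inv_cancel_left₀ hone]

include C in
theorem norm_form {z : ↥G} (h0 : z • P0 = P0) :
    ∃ a s t τ ρ, (s, t, τ, ρ) ∈ Dc ∧ ∃ y : Equiv.Perm (V1 F K), IsTorV φ y s t τ ρ ∧
      (z : Equiv.Perm (V1 F K)) = aP φ a * y := by
  obtain ⟨s, t, τ, ρ, hD, x, y, ⟨a, hx⟩, hy, hxy⟩ := C.hL.norm z.1 z.2 (by
    intro a x hx
    rw [isActV_iff] at hx
    subst hx
    have h2 := conj_mem_smul z P0 (xG_mem C a)
    rw [h0] at h2
    obtain ⟨b, hb⟩ := (C.mem _).1 h2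
    exact ⟨b, (isActV_iff φ).2 hb⟩)
  rw [isActV_iff] at hx
  subst hx
  exact ⟨a, s, t, τ, ρ, hD, y, hy, hxy⟩

include C in
theorem exists_rkV {k : Type*} [Field k] [Finite k] (hk : Nat.card k = p ^ (3 * n)) {x y : k → ↥G} (R : Rel x y)
    {P' : Sylow p ↥G} (hP' : P' ≠ P0) (hfix : ∀ h : ↥H, hG C h • P' = P')
    (hrx : Set.range x = (P0 : Subgroup ↥G)) (hry : Set.range y = (P' : Subgroup ↥G))
    (ix : Function.Injective x) (ax : ∀ a b, x (a + b) = x a * x b) (ay : ∀ a b, y (a + b) = y a * y b)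
    (h3 : p ^ n = 3 → ((-1 : K), (1 : F), RingEquiv.refl K, RingEquiv.refl F) ∈ Dc) :
    ∃ X Y : K → ↥G, Rel X Y ∧ Set.range X = (P0 : Subgroup ↥G) ∧ Set.range Y = (P' : Subgroup ↥G) ∧
      RkV φ (fun a => (X a : Equiv.Perm (V1 F K))) (fun a => (Y a : Equiv.Perm (V1 F K))) := by
  obtain ⟨κ, e, hκ, he⟩ := exists_iso C hk R hP' hfix hrx hry ix ax
  have hXa : ∀ a, x (e.symm (κ⁻¹ * a)) = xG C a := by
    intro a
    rw [he, RingEquiv.apply_symm_apply, mul_inv_cancel_left₀ hκ]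
  have RXY : Rel (fun a => x (e.symm (κ⁻¹ * a))) (fun b => y (e.symm (κ * b))) := by
    have hY : ∀ f : K, e.symm (κ * -f⁻¹) = -(e.symm (κ⁻¹ * f))⁻¹ := by
      intro f
      rw [← map_inv₀, ← map_neg, mul_inv, inv_inv, mul_neg]
    have hu : ∀ f : K, f ≠ 0 → e.symm (κ⁻¹ * f) ≠ 0 := fun f hf =>
      (map_ne_zero _).2 (mul_ne_zero (inv_ne_zero hκ) hf)
    constructor
    · intro f hf g
      show (x (e.symm (κ⁻¹ * f)) * y (e.symm (κ * -f⁻¹)) * x (e.symm (κ⁻¹ * f))) * x (e.symm (κ⁻¹ * g)) *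
        (x (e.symm (κ⁻¹ * f)) * y (e.symm (κ * -f⁻¹)) * x (e.symm (κ⁻¹ * f)))⁻¹ = y (e.symm (κ * -(f⁻¹ ^ 2 * g)))
      rw [hY, R.one _ (hu f hf)]
      congr 1
      rw [← map_inv₀, ← map_pow, ← map_mul, ← map_neg]
      congr 1
      field_simp
    · intro f hf g
      show (x (e.symm (κ⁻¹ * f)) * y (e.symm (κ * -f⁻¹)) * x (e.symm (κ⁻¹ * f))) * y (e.symm (κ * g)) *
        (x (e.symm (κ⁻¹ * f)) * y (e.symm (κ * -f⁻¹)) * x (e.symm (κ⁻¹ * f)))⁻¹ = x (e.symm (κ⁻¹ * -(f ^ 2 * g)))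
      rw [hY, R.two _ (hu f hf)]
      congr 1
      rw [← map_pow, ← map_mul, ← map_neg]
      congr 1
      field_simp
  have rX : Set.range (fun a => x (e.symm (κ⁻¹ * a))) = (P0 : Subgroup ↥G) := by
    rw [← hrx]
    ext z
    constructor
    · rintro ⟨a, rfl⟩
      exact ⟨_, rfl⟩
    · rintro ⟨a, rfl⟩
      refine ⟨κ * e a, ?_⟩
      show x (e.symm (κ⁻¹ * (κ * e a))) = x a
      rw [inv_mul_cancel_left₀ hκ, RingEquiv.symm_apply_apply]
  have rY : Set.range (fun b => y (e.symm (κ * b))) = (P' : Subgroup ↥G) := by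
    rw [← hry]
    ext z
    constructor
    · rintro ⟨a, rfl⟩
      exact ⟨_, rfl⟩
    · rintro ⟨a, rfl⟩
      refine ⟨κ⁻¹ * e a, ?_⟩
      show y (e.symm (κ * (κ⁻¹ * e a))) = y a
      rw [mul_inv_cancel_left₀ hκ, RingEquiv.symm_apply_apply]
  have hYmem : ∀ b, y (e.symm (κ * b)) ∈ (P' : Subgroup ↥G) := fun b => by
    rw [← SetLike.mem_coe, ← hry]
    exact ⟨_, rfl⟩
  refine ⟨_, _, RXY, rX, rY, ?_⟩
  constructor
  · intro a
    rw [hXa]
    exact isActV_aP φ a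
  · intro a b
    show ((y (e.symm (κ * (a + b))) : ↥G) : Equiv.Perm (V1 F K)) = _
    rw [mul_add, map_add, ay]
    rfl
  · intro a v w
    exact C.hL.add _ (y (e.symm (κ * a))).2 v w
  · intro a
    exact pres_of_mem C (hYmem a)
  · intro f hf g
    exact congrArg Subtype.val (RXY.one f hf g)
  · intro f hf g
    exact congrArg Subtype.val (RXY.two f hf g)
  · intro f hf
    obtain ⟨s, t, τ, ρ, -, hn, hρ, hT⟩ := tor_of C RXY hP' hfix rX rY hf
    have key : ∀ g, s * τ g = f ^ 2 * g := by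
      intro g
      have h1 := RXY.hx hf g
      simp only [hXa] at h1
      rw [mul_inv_eq_iff_eq_mul] at h1
      have h2 := torV_conj C.hy hT g
      have h3 := congrArg (Subtype.val : ↥G → Equiv.Perm (V1 F K)) h1
      simp only [hXa] at h2
      have h4 : aP φ (s * τ g) = aP φ (f ^ 2 * g) := by
        apply mul_right_cancel (b := (((xG C f * y (e.symm (κ * -f⁻¹)) * xG C f) *
          (xG C 1 * y (e.symm (κ * -1)) * xG C 1)⁻¹ : ↥G) : Equiv.Perm (V1 F K)))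
        exact h2.symm.trans h3
      exact aP_injective φ h4
    have hs : s = f ^ 2 := by
      have h1 := key 1
      rwa [map_one, mul_one, mul_one] at h1
    subst hs
    have hτ : τ = RingEquiv.refl K := by
      ext g
      exact mul_left_cancel₀ (pow_ne_zero 2 hf) (key g)
    have hρ' : ρ = RingEquiv.refl F := by
      ext c
      exact hρ c
    subst hτ hρ'
    refine ⟨t, ?_, hT⟩
    rw [pow_two f, nm_mul] at hn
    linear_combination hn
  · intro hF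
    have h4 : p ^ n = 3 := by rw [← C.hy.card, hF]
    obtain ⟨g, hg, hT⟩ := C.hL.tor _ _ _ _ (h3 h4)
    refine ⟨g, hT, fun b => ?_⟩
    have hgH : g ∈ H := (C.memH g).2 ⟨_, _, _, _, h3 h4, hT⟩
    have h5 := conj_mem_smul (hG C ⟨g, hgH⟩) P' (hYmem b)
    rw [hfix, ← SetLike.mem_coe, ← rY] at h5
    obtain ⟨c, hc⟩ := h5
    exact ⟨c, (congrArg Subtype.val hc).symm⟩
  · intro hF b v
    have hp2 : p = 2 := by
      have h4 : p ^ n = 2 := by rw [← C.hy.card, hF]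
      have h5 : p ∣ 2 := h4 ▸ dvd_pow_self p (Nat.one_le_iff_ne_zero.1 C.hy.hn)
      exact (Nat.prime_dvd_prime_iff_eq C.hy.pp Nat.prime_two).1 h5
    obtain ⟨ζ, hζ⟩ := C.hL.quad hp2 _ (y (e.symm (κ * b))).2
    show quadV φ (((y (e.symm (κ * b)) : ↥G) : Equiv.Perm (V1 F K)) v) = quadV φ v
    rw [hζ]
    have h6 : ∀ c : F, c = 0 ∨ c = 1 := by
      intro c
      by_contra hcon
      push Not at hcon
      have hfF := finF C.hy
      have h7 : ({0, 1, c} : Set F).ncard = 3 := by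
        rw [Set.ncard_eq_three]
        exact ⟨0, 1, c, zero_ne_one, hcon.1.symm, hcon.2.symm, rfl⟩
      have h8 := Set.ncard_le_card ({0, 1, c} : Set F)
      omega
    rcases h6 (quadV φ v) with h | h
    · rw [h, map_zero]
    · rw [h]
      rcases h6 (ζ 1) with h9 | h9
      · exact absurd (ζ.injective (h9.trans (map_zero ζ).symm)) one_ne_zero
      · exact h9

end

theorem stLin1 (h1 : StRk1.{u}) (h2 : StLin1b.{u}) : StLin1.{u} := by
  intro F K _ _ _ φ _ p n hy G Dc hL h3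
  have : Fact p.Prime := ⟨hy.pp⟩
  obtain ⟨P0, hP0⟩ := exists_syl hy hL
  obtain ⟨H, hcop, hH⟩ := hL.cop
  have C : Ctx φ p n G Dc H P0 := ⟨hy, hL, hP0, hcop, hH⟩
  have := hy.fin
  have := finV C
  have hcard : Nat.card ↥(P0 : Subgroup ↥G) = p ^ (3 * n) := by
    rw [mul_comm, pow_mul, ← hy.cardK]
    symm
    apply Nat.card_congr
    refine Equiv.ofBijective (fun a => (⟨xG C a, xG_mem C a⟩ : ↥(P0 : Subgroup ↥G))) ⟨?_, ?_⟩
    · intro a b hab
      exact xG_injective C (congrArg Subtype.val hab)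
    · rintro ⟨z, hz⟩
      obtain ⟨a, rfl⟩ := exists_xG C hz
      exact ⟨a, rfl⟩
  obtain ⟨hA, hB⟩ := h1 (G := ↥G) (p := p) (m := 3 * n) P0 (by have := hy.hn; omega) hcard
    (by
      intro x hx
      obtain ⟨a, rfl⟩ := exists_xG C hx
      exact Subtype.ext (aP_pow_p hy a))
    (by
      intro x hx y hy'
      obtain ⟨a, rfl⟩ := exists_xG C hx
      obtain ⟨b, rfl⟩ := exists_xG C hy'
      rw [← xG_add, ← xG_add, add_comm])
    (by
      intro g hg x hx hgx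
      by_contra hne
      exact hg (Sylow.smul_eq_iff_mem_normalizer.1 (ti C hx hne hgx)))
    (by
      intro hN
      obtain ⟨g, hg, a, x, hx, hn⟩ := hL.nn
      rw [isActV_iff] at hx
      subst hx
      apply hn
      have h4 := hN.conj_mem _ (xG_mem C a) ⟨g, hg⟩
      obtain ⟨b, hb⟩ := (C.mem _).1 h4
      exact ⟨b, (isActV_iff φ).2 hb⟩)
  have hA' : ∀ P' P'' : Sylow p ↥G, P' ≠ P0 → P'' ≠ P0 → ∃ x ∈ (P0 : Subgroup ↥G), x • P' = P'' := by
    intro P' P'' h h'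
    obtain ⟨x, hx, hxP⟩ := hA P' P'' h h'
    refine ⟨x, hx, smul_eq_of x P' P'' fun z hz => ?_⟩
    rw [← hxP]
    exact ⟨z, hz, rfl⟩
  obtain ⟨P', hP', hfix⟩ := exists_fixed C hA'
  obtain ⟨k, _, _, x, y, hk, hrx, hry, ix, iy, ax, ay, hrel⟩ := hB P' hP'
  have R : Rel x y := ⟨fun f hf g => (hrel f hf g).1, fun f hf g => (hrel f hf g).2⟩
  obtain ⟨X, Y, RXY, rX, rY, hRk⟩ := exists_rkV C (by rw [Nat.card_eq_fintype_card, hk]) R hP' hfix hrx hry ix ax ay h3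
  obtain ⟨hW, hTor⟩ := h2 hy _ _ hRk
  have hWe : ∀ {g g' : Equiv.Perm (V1 F K)}, IsW1V g → IsW1V g' → g = g' := by
    intro g g' hg hg'
    ext1 v
    rw [hg v, hg' v]
  refine ⟨fun a ha => ?_, fun g hg => ?_, fun g hg => ?_⟩
  · obtain ⟨s, t, τ, ρ, hD, -, -, hT⟩ := tor_of C RXY hP' hfix rX rY ha
    obtain ⟨rfl, rfl, rfl, rfl⟩ := torV_uniq hT (hTor a ha)
    exact hD
  · rw [hWe hg hW]
    exact (X 1 * Y (-1) * X 1 : ↥G).2
  · have hX : ∀ a, X a ∈ (P0 : Subgroup ↥G) := fun a => by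
      rw [← SetLike.mem_coe, ← rX]; exact ⟨a, rfl⟩
    have hY : ∀ a, Y a ∈ (P' : Subgroup ↥G) := fun a => by
      rw [← SetLike.mem_coe, ← rY]; exact ⟨a, rfl⟩
    have hcl : ∀ {z : ↥G}, z ∈ (P0 : Subgroup ↥G) → (z : Equiv.Perm (V1 F K)) ∈
        Subgroup.closure {x : Equiv.Perm (V1 F K) | (∃ a, IsActV φ x a) ∨ IsW1V x} := by
      intro z hz
      obtain ⟨a, rfl⟩ := exists_xG C hz
      exact Subgroup.subset_closure (Or.inl ⟨a, isActV_aP φ a⟩)
    by_cases h0 : (⟨g, hg⟩ : ↥G) • P0 = P0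
    · obtain ⟨a, s, t, τ, ρ, hD, z, hz, hgz⟩ := norm_form C h0
      exact ⟨aP φ a, hcl (xG_mem C a), s, t, τ, ρ, hD, z, hz, hgz⟩
    · have hWP : (X 1 * Y (-1) * X 1) • P0 = P' := by
        refine smul_eq_of _ P0 P' fun z hz => ?_
        rw [← SetLike.mem_coe, ← rX] at hz
        obtain ⟨a, rfl⟩ := hz
        rw [RXY.one']
        exact hY _
      obtain ⟨w, hw, hwP⟩ := hA' P' _ hP' h0
      have h4 : ((w * (X 1 * Y (-1) * X 1))⁻¹ * ⟨g, hg⟩) • P0 = P0 := by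
        rw [mul_smul, ← hwP, ← hWP, ← mul_smul, ← mul_smul, mul_assoc _ w, inv_mul_cancel, one_smul]
      obtain ⟨a, s, t, τ, ρ, hD, z, hz, hgz⟩ := norm_form C h4
      refine ⟨(w : Equiv.Perm (V1 F K)) * ((X 1 * Y (-1) * X 1 : ↥G) : Equiv.Perm (V1 F K)) * aP φ a, ?_, s, t, τ, ρ, hD,
        z, hz, ?_⟩
      · exact mul_mem (mul_mem (hcl hw) (Subgroup.subset_closure (Or.inr hW))) (hcl (xG_mem C a))
      · have h5 : g = ((w * (X 1 * Y (-1) * X 1) : ↥G) : Equiv.Perm (V1 F K)) *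
            (((w * (X 1 * Y (-1) * X 1))⁻¹ * ⟨g, hg⟩ : ↥G) : Equiv.Perm (V1 F K)) := by
          rw [← Subgroup.coe_mul, mul_inv_cancel_left]
        rw [h5, hgz, mul_assoc, mul_assoc]
        rfl

end Cfsg.Agent.H673.D4
end

-- part: H131/D3L1/Basic
section
/-!
# S5261, piece D3-L1: the group `Q₁`, the automorphisms acting trivially on `Q₁ / Z₁`, the torus (helper131)

* coordinates in `Q₁`, the centre;
* `CQ φ`: the automorphisms acting trivially on `Q₁ / Z₁`: normal, a `p`-group;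
* `TQ φ`: the restrictions of the torus, of order prime to `p`, normalized by the Weyl element.
-/

set_option autoImplicit false
set_option linter.unusedSectionVars false

namespace Cfsg.Agent.H131.D3L1

open Cfsg Cfsg.FusionSystem Cfsg.Agent.H765.D3 Cfsg.Agent.H780.D4 Cfsg.Agent.H802
open Cfsg.Agent.H765.D3.Sy (Q1 Q2 Z1 Z2 Z3 Z4 u1 u2 u3 u4 u5 u6 form)
open Cfsg.Agent.Hex.Defs (sh cr nm tr)
open scoped commutatorElement

universe u

variable {F K : Type u} [Field F] [Field K] [Algebra F K] {φ : K ≃ₐ[F] K} [Cub φ]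

/-! ### Coordinates in `Q₁` -/

theorem q1 (e : Q1 φ) : (e : Sy φ).x1 = 0 := e.2

theorem q6 (e f : Q1 φ) : ((e * f : Q1 φ) : Sy φ).x6 = (e : Sy φ).x6 + (f : Sy φ).x6 := rfl

theorem q5 (e f : Q1 φ) : ((e * f : Q1 φ) : Sy φ).x5 = (e : Sy φ).x5 + (f : Sy φ).x5 := by
  rw [Subgroup.coe_mul, Sy.mul_x5, q1 e, smul_zero, add_zero]

theorem q3 (e f : Q1 φ) : ((e * f : Q1 φ) : Sy φ).x3 = (e : Sy φ).x3 + (f : Sy φ).x3 := by
  rw [Subgroup.coe_mul, Sy.mul_x3, q1 e, cr_zero_left, sh_zero, smul_zero, add_zero, add_zero]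

theorem q2 (e f : Q1 φ) : ((e * f : Q1 φ) : Sy φ).x2 = (e : Sy φ).x2 + (f : Sy φ).x2 := by
  rw [Subgroup.coe_mul, Sy.mul_x2, q1 e, zero_mul, tr_zero, sh_zero, zero_mul, tr_zero, nm_zero, mul_zero,
    add_zero, add_zero, add_zero]

theorem q4 (e f : Q1 φ) : ((e * f : Q1 φ) : Sy φ).x4 = (e : Sy φ).x4 + (f : Sy φ).x4
    - (e : Sy φ).x2 * (f : Sy φ).x6 + tr φ ((e : Sy φ).x3 * (f : Sy φ).x5) := by
  rw [Subgroup.coe_mul, Sy.mul_x4, q1 e, zero_mul, tr_zero, sh_zero, zero_mul, tr_zero, nm_zero, mul_zero,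
    mul_zero, smul_zero, add_zero, add_zero, add_zero, add_zero]

theorem ext5 {e f : Q1 φ} (h6 : (e : Sy φ).x6 = (f : Sy φ).x6) (h5 : (e : Sy φ).x5 = (f : Sy φ).x5)
    (h3 : (e : Sy φ).x3 = (f : Sy φ).x3) (h2 : (e : Sy φ).x2 = (f : Sy φ).x2)
    (h4 : (e : Sy φ).x4 = (f : Sy φ).x4) : e = f := by
  apply Subtype.ext
  ext
  · rw [q1, q1]
  · exact h6
  · exact h5
  · exact h3
  · exact h2
  · exact h4

variable (φ) in
/-- root elements in `Q₁` -/
def U6 (a : F) : Q1 φ := ⟨u6 φ a, rfl⟩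
variable (φ) in
/-- root elements in `Q₁` -/
def U5 (a : K) : Q1 φ := ⟨u5 φ a, rfl⟩
variable (φ) in
/-- root elements in `Q₁` -/
def U3 (a : K) : Q1 φ := ⟨u3 φ a, rfl⟩
variable (φ) in
/-- root elements in `Q₁` -/
def U2 (a : F) : Q1 φ := ⟨u2 φ a, rfl⟩
variable (φ) in
/-- root elements in `Q₁` -/
def U4 (a : F) : Q1 φ := ⟨u4 φ a, rfl⟩

theorem U5_add (a b : K) : U5 φ (a + b) = U5 φ a * U5 φ b := Subtype.ext (Sy.u5_add a b)
theorem U3_add (a b : K) : U3 φ (a + b) = U3 φ a * U3 φ b := Subtype.ext (Sy.u3_add a b)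
theorem U4_add (a b : F) : U4 φ (a + b) = U4 φ a * U4 φ b := Subtype.ext (Sy.u4_add a b)

theorem decomp (e : Q1 φ) : e = U6 φ (e : Sy φ).x6 * U5 φ (e : Sy φ).x5 * U3 φ (e : Sy φ).x3 *
    U2 φ (e : Sy φ).x2 * U4 φ (e : Sy φ).x4 := by
  apply Subtype.ext
  have h := Sy.eq_prod (e : Sy φ)
  rw [q1 e, show u1 φ 0 = 1 from rfl, mul_one] at h
  exact h

/-! ### The centre -/

theorem mem_center_iff {z : Q1 φ} : z ∈ Subgroup.center (Q1 φ) ↔ (z : Sy φ) ∈ Z1 φ := by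
  rw [← Sy.centralizer_Q1, Subgroup.mem_center_iff, Subgroup.mem_centralizer_iff]
  constructor
  · intro h x hx
    exact congrArg Subtype.val (h ⟨x, hx⟩)
  · intro h x
    exact Subtype.ext (h x x.2)

theorem center_eq_U4 {z : Q1 φ} (hz : z ∈ Subgroup.center (Q1 φ)) : z = U4 φ (z : Sy φ).x4 :=
  Subtype.ext (Sy.eq_u4 (mem_center_iff.1 hz))

theorem U4_mem_center (w : F) : U4 φ w ∈ Subgroup.center (Q1 φ) := mem_center_iff.2 (Sy.u4_mem w)

theorem map_center {α : MulAut (Q1 φ)} {z : Q1 φ} (hz : z ∈ Subgroup.center (Q1 φ)) :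
    α z ∈ Subgroup.center (Q1 φ) := by
  rw [Subgroup.mem_center_iff] at hz ⊢
  intro g
  have := congrArg α (hz (α.symm g))
  rwa [map_mul, map_mul, MulEquiv.apply_symm_apply] at this

theorem U4_pow (w : F) (k : ℕ) : U4 φ w ^ k = U4 φ (k * w) := by
  induction k with
  | zero =>
    rw [pow_zero, Nat.cast_zero, zero_mul]
    rfl
  | succ k ih =>
    rw [pow_succ, ih, ← U4_add]
    congr 1
    push_cast
    ring

/-! ### Automorphisms trivial on `Q₁ / Z₁` -/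

variable (φ) in
/-- the automorphisms acting trivially on `Q₁ / Z₁` -/
def CQ : Subgroup (MulAut (Q1 φ)) where
  carrier := {c | Same1 c 1}
  one_mem' := fun _ => ⟨rfl, rfl, rfl, rfl⟩
  mul_mem' := by
    intro a b ha hb e
    obtain ⟨h1, h2, h3, h4⟩ := ha (b e)
    obtain ⟨k1, k2, k3, k4⟩ := hb e
    exact ⟨h1.trans k1, h2.trans k2, h3.trans k3, h4.trans k4⟩
  inv_mem' := by
    intro a ha e
    obtain ⟨h1, h2, h3, h4⟩ := ha (a⁻¹ e)
    rw [show a (a⁻¹ e) = e from a.apply_symm_apply e] at h1 h2 h3 h4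
    exact ⟨h1.symm, h2.symm, h3.symm, h4.symm⟩

theorem mem_CQ {c : MulAut (Q1 φ)} : c ∈ CQ φ ↔ ∀ e, e⁻¹ * c e ∈ Subgroup.center (Q1 φ) := by
  constructor
  · intro h e
    obtain ⟨h1, h2, h3, h4⟩ := h e
    have hz : c e = e * (e⁻¹ * c e) := by group
    set z := e⁻¹ * c e
    rw [hz, q6] at h1
    rw [hz, q5] at h2
    rw [hz, q3] at h3
    rw [hz, q2] at h4
    rw [mem_center_iff]
    exact ⟨q1 z, by simpa using h1, by simpa using h2, by simpa using h3, by simpa using h4⟩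
  · intro h e
    have hz : c e = e * (e⁻¹ * c e) := by group
    obtain ⟨-, h1, h2, h3, h4⟩ := mem_center_iff.1 (h e)
    rw [hz, q6, q5, q3, q2, h1, h2, h3, h4]
    simp

theorem same_iff {γ δ : MulAut (Q1 φ)} : Same1 γ δ ↔ γ * δ⁻¹ ∈ CQ φ := by
  constructor
  · intro h e
    obtain ⟨h1, h2, h3, h4⟩ := h (δ⁻¹ e)
    rw [show δ (δ⁻¹ e) = e from δ.apply_symm_apply e] at h1 h2 h3 h4
    exact ⟨h1, h2, h3, h4⟩
  · intro h e
    obtain ⟨h1, h2, h3, h4⟩ := h (δ e)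
    rw [MulAut.mul_apply, show δ⁻¹ (δ e) = e from δ.symm_apply_apply e] at h1 h2 h3 h4
    exact ⟨h1, h2, h3, h4⟩

instance CQ_normal : (CQ φ).Normal := by
  refine ⟨fun c hc γ => ?_⟩
  rw [mem_CQ] at hc ⊢
  intro e
  rw [MulAut.mul_apply, MulAut.mul_apply]
  set f := γ⁻¹ e with hf
  have h1 : γ f = e := γ.apply_symm_apply e
  have h2 : c f = f * (f⁻¹ * c f) := by group
  rw [h2, map_mul, h1, inv_mul_cancel_left]
  exact map_center (hc f)

theorem coe_comm (e f : Q1 φ) : ((⁅e, f⁆ : Q1 φ) : Sy φ) = ⁅(e : Sy φ), (f : Sy φ)⁆ := by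
  rw [commutatorElement_def, commutatorElement_def]
  rfl

theorem comm_eq (e f : Q1 φ) : ⁅e, f⁆ = U4 φ (form (e : Sy φ) (f : Sy φ)) := by
  apply Subtype.ext
  rw [coe_comm, Sy.comm_Q1 e.2 f.2]
  rfl

theorem U4_eq_comm (w : F) : U4 φ w = ⁅U6 φ 1, U2 φ w⁆ := by
  rw [comm_eq]
  congr 1
  change w = 1 * w - 0 * 0 - tr φ (0 * 0) + tr φ (0 * 0)
  rw [mul_zero, mul_zero, tr_zero]
  ring

theorem CQ_comm {c : MulAut (Q1 φ)} (hc : c ∈ CQ φ) (e f : Q1 φ) : ⁅c e, c f⁆ = ⁅e, f⁆ := by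
  rw [comm_eq, comm_eq]
  obtain ⟨h1, h2, h3, h4⟩ := hc e
  obtain ⟨k1, k2, k3, k4⟩ := hc f
  congr 1
  unfold form
  rw [h1, h2, h3, h4, k1, k2, k3, k4]
  rfl

theorem CQ_center {c : MulAut (Q1 φ)} (hc : c ∈ CQ φ) {z : Q1 φ} (hz : z ∈ Subgroup.center (Q1 φ)) : c z = z := by
  rw [center_eq_U4 hz, U4_eq_comm, map_commutatorElement, CQ_comm hc]

theorem CQ_pow {α : MulAut (Q1 φ)} (hα : α ∈ CQ φ) (e : Q1 φ) (k : ℕ) :
    (α ^ k) e = e * (e⁻¹ * α e) ^ k := by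
  induction k with
  | zero => simp only [_root_.pow_zero, _root_.MulAut.one_apply, _root_.mul_one]
  | succ k ih =>
    rw [pow_succ', MulAut.mul_apply, ih, map_mul, map_pow, CQ_center hα (mem_CQ.1 hα e), pow_succ',
      ← mul_assoc, mul_inv_cancel_left]

section field
variable {p n : ℕ}

theorem two_le_q (h : HypD φ p n) : 2 ≤ p ^ n := by
  have h1 : p ^ 1 ≤ p ^ n := Nat.pow_le_pow_right h.pp.pos h.hn
  have := h.pp.two_le
  rw [pow_one] at h1
  omega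

theorem finF (h : HypD φ p n) : Finite F := by
  apply Nat.finite_of_card_ne_zero
  rw [h.card]
  have := two_le_q h
  omega

theorem p_zero (h : HypD φ p n) : (p : F) = 0 := by
  have := h.char
  apply (algebraMap F K).injective
  rw [map_natCast, map_zero]
  exact CharP.cast_eq_zero K p

theorem CQ_pgroup (h : HypD φ p n) : IsPGroup p (CQ φ) := by
  rintro ⟨α, hα⟩
  refine ⟨1, ?_⟩
  apply Subtype.ext
  change α ^ (p ^ 1) = 1
  apply MulEquiv.ext
  intro e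
  rw [CQ_pow hα, pow_one, center_eq_U4 (mem_CQ.1 hα e), U4_pow, p_zero h, zero_mul,
    show U4 φ 0 = 1 from rfl, mul_one]
  rfl

/-- an element whose norm is not one -/
theorem exists_nm (h : HypD φ p n) (h2 : p ^ n ≠ 2) : ∃ s : K, s ≠ 0 ∧ nm φ s ≠ 1 := by
  have := h.fin
  by_contra hcon
  push Not at hcon
  have h3 : ∀ s : Kˣ, s ^ (1 + p ^ n + p ^ n * p ^ n) = 1 := by
    intro s
    apply Units.ext
    rw [Units.val_pow_eq_pow_val, Units.val_one, pow_add, pow_add, pow_one, pow_mul, ← h.phi, ← h.phi,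
      ← coe_nm, hcon s s.ne_zero, map_one]
  have h4 := Monoid.exponent_dvd_of_forall_pow_eq_one h3
  rw [IsCyclic.exponent_eq_card, Nat.card_units, h.cardK] at h4
  have h5 := Nat.le_of_dvd (by (clear * -; positivity)) h4
  have h6 := two_le_q h
  obtain ⟨k, hk⟩ : ∃ k, p ^ n = k + 3 := ⟨p ^ n - 3, by omega⟩
  rw [hk] at h5
  have h7 : (k + 3) ^ 3 - 1 = k ^ 3 + 9 * k ^ 2 + 27 * k + 26 := by
    have : (k + 3) ^ 3 = k ^ 3 + 9 * k ^ 2 + 27 * k + 27 := by ring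
    omega
  rw [h7] at h5
  linarith only [h5, Nat.zero_le (k ^ 3), _root_.sq_nonneg (↑k : ℤ), _root_.Nat.cast_nonneg (α := ℤ) (k)]

end field

/-! ### The torus -/

/-- `δ` is the restriction of the torus element with parameters `s`, `t` -/
structure IsTQ (δ : MulAut (Q1 φ)) (s : K) (t : F) : Prop where
  nes : s ≠ 0
  net : t ≠ 0
  x6 : ∀ e : Q1 φ, ((δ e : Q1 φ) : Sy φ).x6 = t * (e : Sy φ).x6
  x5 : ∀ e : Q1 φ, ((δ e : Q1 φ) : Sy φ).x5 = t • (s * (e : Sy φ).x5)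
  x3 : ∀ e : Q1 φ, ((δ e : Q1 φ) : Sy φ).x3 = t • (sh φ s * (e : Sy φ).x3)
  x2 : ∀ e : Q1 φ, ((δ e : Q1 φ) : Sy φ).x2 = nm φ s * t * (e : Sy φ).x2
  x4 : ∀ e : Q1 φ, ((δ e : Q1 φ) : Sy φ).x4 = nm φ s * t ^ 2 * (e : Sy φ).x4

theorem sh_one : sh φ 1 = 1 := by
  unfold sh
  rw [map_one, map_one, mul_one]

theorem nm_inv (s : K) : nm φ s⁻¹ = (nm φ s)⁻¹ := by
  by_cases hs : s = 0
  · rw [hs, inv_zero, nm_zero, inv_zero]
  · apply eq_inv_of_mul_eq_one_left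
    rw [← nm_mul, inv_mul_cancel₀ hs, nm_one]

theorem sh_inv (s : K) : sh φ s⁻¹ = (sh φ s)⁻¹ := by
  unfold sh
  rw [map_inv₀, map_inv₀, mul_inv]

theorem IsTQ.one : IsTQ (1 : MulAut (Q1 φ)) 1 1 where
  nes := one_ne_zero
  net := one_ne_zero
  x6 e := by rw [MulAut.one_apply, one_mul]
  x5 e := by rw [MulAut.one_apply, one_mul, one_smul]
  x3 e := by rw [MulAut.one_apply, sh_one, one_mul, one_smul]
  x2 e := by rw [MulAut.one_apply, nm_one, one_mul, one_mul]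
  x4 e := by rw [MulAut.one_apply, nm_one, one_mul, one_pow, one_mul]

theorem IsTQ.mul {δ δ' : MulAut (Q1 φ)} {s s' : K} {t t' : F} (h : IsTQ δ s t) (h' : IsTQ δ' s' t') :
    IsTQ (δ * δ') (s * s') (t * t') where
  nes := mul_ne_zero h.nes h'.nes
  net := mul_ne_zero h.net h'.net
  x6 e := by rw [MulAut.mul_apply, h.x6, h'.x6]; ring
  x5 e := by rw [MulAut.mul_apply, h.x5, h'.x5]; cub
  x3 e := by rw [MulAut.mul_apply, h.x3, h'.x3]; cub
  x2 e := by rw [MulAut.mul_apply, h.x2, h'.x2, nm_mul]; ring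
  x4 e := by rw [MulAut.mul_apply, h.x4, h'.x4, nm_mul]; ring

theorem IsTQ.pow {δ : MulAut (Q1 φ)} {s : K} {t : F} (h : IsTQ δ s t) (k : ℕ) :
    IsTQ (δ ^ k) (s ^ k) (t ^ k) := by
  induction k with
  | zero =>
    rw [pow_zero, pow_zero, pow_zero]
    exact IsTQ.one
  | succ k ih =>
    rw [pow_succ, pow_succ, pow_succ]
    exact ih.mul h

theorem IsTQ.inv {δ : MulAut (Q1 φ)} {s : K} {t : F} (h : IsTQ δ s t) : IsTQ δ⁻¹ s⁻¹ t⁻¹ := by
  have hs := h.nes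
  have ht := h.net
  have hn : nm φ s ≠ 0 := fun h0 => hs ((nm_eq_zero φ).1 h0)
  have hsh : sh φ s ≠ 0 := fun h0 => hs ((sh_eq_zero φ).1 h0)
  have e1 : ∀ e : Q1 φ, δ (δ⁻¹ e) = e := fun e => δ.apply_symm_apply e
  refine ⟨inv_ne_zero hs, inv_ne_zero ht, ?_, ?_, ?_, ?_, ?_⟩ <;> intro e
  · have := h.x6 (δ⁻¹ e)
    rw [e1] at this
    rw [this, inv_mul_cancel_left₀ ht]
  · have := h.x5 (δ⁻¹ e)
    rw [e1] at this
    rw [this, mul_smul_comm, inv_mul_cancel_left₀ hs, smul_smul, inv_mul_cancel₀ ht, one_smul]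
  · have := h.x3 (δ⁻¹ e)
    rw [e1] at this
    rw [this, sh_inv, mul_smul_comm, inv_mul_cancel_left₀ hsh, smul_smul, inv_mul_cancel₀ ht, one_smul]
  · have := h.x2 (δ⁻¹ e)
    rw [e1] at this
    rw [this, nm_inv]
    field_simp
  · have := h.x4 (δ⁻¹ e)
    rw [e1] at this
    rw [this, nm_inv]
    field_simp

theorem IsTQ.eq {δ δ' : MulAut (Q1 φ)} {s : K} {t : F} (h : IsTQ δ s t) (h' : IsTQ δ' s t) : δ = δ' := by
  apply MulEquiv.ext
  intro e
  exact ext5 (by rw [h.x6, h'.x6]) (by rw [h.x5, h'.x5]) (by rw [h.x3, h'.x3]) (by rw [h.x2, h'.x2])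
    (by rw [h.x4, h'.x4])

variable (φ) in
/-- the torus, acting on `Q₁` -/
def TQ : Subgroup (MulAut (Q1 φ)) where
  carrier := {δ | ∃ s t, IsTQ δ s t}
  one_mem' := ⟨1, 1, IsTQ.one⟩
  mul_mem' := by
    rintro a b ⟨s, t, h⟩ ⟨s', t', h'⟩
    exact ⟨_, _, h.mul h'⟩
  inv_mem' := by
    rintro a ⟨s, t, h⟩
    exact ⟨_, _, h.inv⟩

theorem TQ_coprime {p n : ℕ} (h : HypD φ p n) : (Nat.card (TQ φ)).Coprime p := by
  have := h.fin
  have := finF h
  have : Fact p.Prime := ⟨h.pp⟩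
  rw [Nat.coprime_comm, h.pp.coprime_iff_not_dvd]
  intro hd
  obtain ⟨⟨δ, hδ⟩, ho⟩ := exists_prime_orderOf_dvd_card' p hd
  obtain ⟨s, t, hst⟩ := hδ
  have ho' : orderOf δ = p := by
    rw [← ho]
    exact (Subgroup.orderOf_mk δ _).symm
  have : Fintype K := Fintype.ofFinite K
  have : Fintype F := Fintype.ofFinite F
  have hs : s ^ (Nat.card K - 1) = 1 := by
    rw [Nat.card_eq_fintype_card]
    exact FiniteField.pow_card_sub_one_eq_one s hst.nes
  have ht : t ^ (Nat.card K - 1) = 1 := by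
    apply (algebraMap F K).injective
    rw [map_pow, map_one, Nat.card_eq_fintype_card]
    apply FiniteField.pow_card_sub_one_eq_one
    intro h0
    exact hst.net ((algebraMap F K).injective (by rw [h0, map_zero]))
  have h1 := hst.pow (Nat.card K - 1)
  rw [hs, ht] at h1
  have h2 := orderOf_dvd_of_pow_eq_one (h1.eq IsTQ.one)
  rw [ho', h.cardK] at h2
  have h3 : p ∣ (p ^ n) ^ 3 := dvd_pow (dvd_pow_self p (by have := h.hn; omega)) (by norm_num)
  have h4 : 1 ≤ (p ^ n) ^ 3 := Nat.one_le_pow _ _ (by have := two_le_q h; omega)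
  have h5 : p ∣ 1 := by
    have := (Nat.dvd_sub h3 h2)
    rwa [Nat.sub_sub_self h4] at this
  exact h.pp.one_lt.ne' (Nat.dvd_one.1 h5)

/-! ### The Weyl element -/

theorem w1_conj {w δ : MulAut (Q1 φ)} {s : K} {t : F} (hw : IsW1 w) (h : IsTQ δ s t) :
    IsTQ (w * δ * w⁻¹) s⁻¹ (nm φ s * t) := by
  have hs := h.nes
  have ht := h.net
  have hn : nm φ s ≠ 0 := fun h0 => hs ((nm_eq_zero φ).1 h0)
  have hsh : sh φ s ≠ 0 := fun h0 => hs ((sh_eq_zero φ).1 h0)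
  have e1 : ∀ e : Q1 φ, w (w⁻¹ e) = e := fun e => w.apply_symm_apply e
  have hss : sh φ s * s = algebraMap F K (nm φ s) := sh_mul_self φ s
  have e6 : ∀ e : Q1 φ, (e : Sy φ).x6 = -((w⁻¹ e : Q1 φ) : Sy φ).x2 := fun e => by rw [← hw.x6, e1]
  have e5 : ∀ e : Q1 φ, (e : Sy φ).x5 = ((w⁻¹ e : Q1 φ) : Sy φ).x3 := fun e => by rw [← hw.x5, e1]
  have e3 : ∀ e : Q1 φ, (e : Sy φ).x3 = -((w⁻¹ e : Q1 φ) : Sy φ).x5 := fun e => by rw [← hw.x3, e1]
  have e2 : ∀ e : Q1 φ, (e : Sy φ).x2 = ((w⁻¹ e : Q1 φ) : Sy φ).x6 := fun e => by rw [← hw.x2, e1]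
  have e4 : ∀ e : Q1 φ, (e : Sy φ).x4 = ((w⁻¹ e : Q1 φ) : Sy φ).x4 +
      ((w⁻¹ e : Q1 φ) : Sy φ).x2 * ((w⁻¹ e : Q1 φ) : Sy φ).x6 -
      tr φ (((w⁻¹ e : Q1 φ) : Sy φ).x3 * ((w⁻¹ e : Q1 φ) : Sy φ).x5) := fun e => by rw [← hw.x4, e1]
  refine ⟨inv_ne_zero hs, mul_ne_zero hn ht, ?_, ?_, ?_, ?_, ?_⟩ <;> intro e <;>
    rw [MulAut.mul_apply, MulAut.mul_apply]
  · rw [hw.x6, h.x2, e6 e]
    ring
  · rw [hw.x5, h.x3, e5 e, Algebra.smul_def, Algebra.smul_def, map_mul, ← hss]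
    field_simp
  · rw [hw.x3, h.x5, e3 e, Algebra.smul_def, Algebra.smul_def, map_mul, ← hss, sh_inv]
    field_simp
  · rw [hw.x2, h.x6, e2 e, nm_inv]
    field_simp
  · rw [hw.x4, h.x4, h.x2, h.x6, h.x3, h.x5, e4 e, nm_inv]
    have : tr φ (t • (sh φ s * ((w⁻¹ e : Q1 φ) : Sy φ).x3) * t • (s * ((w⁻¹ e : Q1 φ) : Sy φ).x5)) =
        nm φ s * t ^ 2 * tr φ (((w⁻¹ e : Q1 φ) : Sy φ).x3 * ((w⁻¹ e : Q1 φ) : Sy φ).x5) := by
      fk φ
    rw [this]
    field_simp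

end Cfsg.Agent.H131.D3L1
end

-- part: H131/D3L1/Main
section
/-!
# S5261, piece D3-L1: `StL1` from `StL1a`, `StNLift`, `StGrpD` (helper131)
-/

set_option autoImplicit false
set_option linter.unusedSectionVars false

namespace Cfsg.Agent.H131.D3L1

open Cfsg Cfsg.FusionSystem Cfsg.Agent.H765.D3 Cfsg.Agent.H780.D4 Cfsg.Agent.H802
open Cfsg.Agent.H765.D3.Sy (Q1 Q2 Z1 Z2 Z3 Z4 u1 u2 u3 u4 u5 u6 form)
open Cfsg.Agent.Hex.Defs (sh cr nm tr)
open scoped commutatorElement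

universe u

variable {F K : Type u} [Field F] [Field K] [Algebra F K] {φ : K ≃ₐ[F] K} [Cub φ] {p n : ℕ}

/-! ### The function `ψ` of an element of `CQ` -/

/-- `c e = e u4 (ψ e)` -/
noncomputable def psi (c : MulAut (Q1 φ)) (e : Q1 φ) : F := ((c e : Q1 φ) : Sy φ).x4 - (e : Sy φ).x4

theorem psi_spec {c : MulAut (Q1 φ)} (hc : c ∈ CQ φ) (e : Q1 φ) : c e = e * U4 φ (psi c e) := by
  have h1 := center_eq_U4 (mem_CQ.1 hc e)
  have h2 : c e = e * (e⁻¹ * c e) := by group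
  generalize e⁻¹ * c e = z at h1 h2
  have h3 : (z : Sy φ).x4 = psi c e := by
    unfold psi
    rw [h2, q4, h1]
    change _ = _ + _ - _ * 0 + tr φ (_ * 0) - _
    rw [mul_zero, mul_zero, tr_zero]
    ring
  rw [h2, ← h3, ← h1]

theorem psi_mul {c : MulAut (Q1 φ)} (hc : c ∈ CQ φ) (e f : Q1 φ) : psi c (e * f) = psi c e + psi c f := by
  obtain ⟨h1, h2, h3, h4⟩ := hc e
  obtain ⟨k1, k2, k3, k4⟩ := hc f
  unfold psi
  rw [map_mul, q4, q4, h3, h4, k1, k2]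
  simp only [MulAut.one_apply]
  ring

theorem psi_U4 {c : MulAut (Q1 φ)} (hc : c ∈ CQ φ) (w : F) : psi c (U4 φ w) = 0 := by
  unfold psi
  rw [CQ_center hc (U4_mem_center w), sub_self]

theorem eq_one_of_psi {c : MulAut (Q1 φ)} (hc : c ∈ CQ φ) (h6 : ∀ u, psi c (U6 φ u) = 0)
    (h5 : ∀ u, psi c (U5 φ u) = 0) (h3 : ∀ u, psi c (U3 φ u) = 0) (h2 : ∀ u, psi c (U2 φ u) = 0) : c = 1 := by
  apply MulEquiv.ext
  intro e
  rw [psi_spec hc e, decomp e, psi_mul hc, psi_mul hc, psi_mul hc, psi_mul hc, h6, h5, h3, h2, psi_U4 hc, add_zero,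
    add_zero, add_zero, add_zero, show U4 φ 0 = 1 from rfl, mul_one]
  rfl

/-! ### The torus acts without fixed points on `CQ` for `q > 2` -/

theorem exists_TQ (hG : StGrpD.{u}) (h : HypD φ p n) (s : K) (t : F) (hs : s ≠ 0) (ht : t ≠ 0) :
    ∃ δ : MulAut (Q1 φ), IsTQ δ s t := by
  obtain ⟨α, hα⟩ := (hG h).2.2.1 s t (RingEquiv.refl K) (RingEquiv.refl F) hs ht (fun _ => rfl)
  let δ : MulAut (Q1 φ) :=
    { toFun := fun e => ⟨α e, Sy.map_Q1 α e.2⟩
      invFun := fun e => ⟨α.symm e, Sy.map_Q1 α.symm e.2⟩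
      left_inv := fun e => Subtype.ext (α.symm_apply_apply e)
      right_inv := fun e => Subtype.ext (α.apply_symm_apply e)
      map_mul' := fun e f => Subtype.ext (map_mul α (e : Sy φ) (f : Sy φ)) }
  have hδ : ∀ e : Q1 φ, ((δ e : Q1 φ) : Sy φ) = α e := fun _ => rfl
  refine ⟨δ, hs, ht, ?_, ?_, ?_, ?_, ?_⟩ <;> intro e <;> rw [hδ]
  · exact hα.x6 e
  · exact hα.x5 e
  · exact hα.x3 e
  · exact hα.x2 e
  · exact hα.x4 e

theorem TQ_res (hG : StGrpD.{u}) (h : HypD φ p n) {Γ : Subgroup (MulAut (Q1 φ))} {D : Subgroup (MulAut (Sy φ))}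
    (hP : Par p (Q1 φ) Γ D) (hT : HasT D) : TQ φ ≤ Γ := by
  rintro δ ⟨s, t, hst⟩
  obtain ⟨α, hα⟩ := (hG h).2.2.1 s t (RingEquiv.refl K) (RingEquiv.refl F) hst.nes hst.net (fun _ => rfl)
  refine hP.D_res α (hT s t α hα) δ ?_
  intro e
  ext
  · rw [q1, hα.x1, q1]
    simp
  · rw [hst.x6, hα.x6]; rfl
  · rw [hst.x5, hα.x5]; rfl
  · rw [hst.x3, hα.x3]; rfl
  · rw [hst.x2, hα.x2]; rfl
  · rw [hst.x4, hα.x4]; rfl

theorem psi_TQ {c δ : MulAut (Q1 φ)} (hcd : δ * c = c * δ) {s : K} {t : F} (h : IsTQ δ s t) (e : Q1 φ) :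
    psi c (δ e) = nm φ s * t ^ 2 * psi c e := by
  unfold psi
  have h1 : c (δ e) = δ (c e) := by
    rw [← MulAut.mul_apply, ← hcd, MulAut.mul_apply]
  rw [h1, h.x4, h.x4]
  ring

theorem add_zero_of_inv {A : K → F} (hA : ∀ x y, A (x + y) = A x + A y) (h : ∀ k x, k ≠ 0 → A (k * x) = A x)
    (hφ : ∃ t : K, φ t ≠ t) : ∀ x, A x = 0 := by
  obtain ⟨θ, hθ⟩ := hφ
  have h0 : θ ≠ 0 := by
    rintro rfl
    exact hθ (map_zero φ)
  have h1 : (1 : K) + θ ≠ 0 := by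
    intro h1
    apply hθ
    have : θ = -1 := by linear_combination h1
    rw [this, map_neg, map_one]
  have h2 : ∀ k : K, k ≠ 0 → A k = A 1 := by
    intro k hk
    rw [← h k 1 hk, mul_one]
  have h3 := hA 1 θ
  rw [h2 _ h1, h2 θ h0] at h3
  have h4 : A 1 = 0 := by linear_combination -h3
  intro x
  by_cases hx : x = 0
  · have := hA 0 0
    rw [add_zero] at this
    rw [hx]
    linear_combination -this
  · rw [h2 x hx, h4]

theorem TQ_fix (hG : StGrpD.{u}) (h : HypD φ p n) (h2 : p ^ n ≠ 2) {c : MulAut (Q1 φ)} (hc : c ∈ CQ φ)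
    (hcd : ∀ d ∈ TQ φ, d * c = c * d) : c = 1 := by
  obtain ⟨s0, hs0, hns0⟩ := exists_nm h h2
  have hn0 : nm φ s0 ≠ 0 := fun h0 => hs0 ((nm_eq_zero φ).1 h0)
  apply eq_one_of_psi hc
  · intro u
    obtain ⟨δ, hδ⟩ := exists_TQ hG h s0 1 hs0 one_ne_zero
    have h3 := psi_TQ (hcd δ ⟨_, _, hδ⟩) hδ (U6 φ u)
    have h4 : δ (U6 φ u) = U6 φ u := by
      apply ext5
      · rw [hδ.x6, one_mul]
      · rw [hδ.x5]; change (1 : F) • (s0 * 0) = 0; simp
      · rw [hδ.x3]; change (1 : F) • (_ * 0) = 0; simp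
      · rw [hδ.x2]; change _ * 0 = (0 : F); simp
      · rw [hδ.x4]; change _ * 0 = (0 : F); simp
    rw [h4, one_pow, mul_one] at h3
    have h5 : (nm φ s0 - 1) * psi c (U6 φ u) = 0 := by linear_combination -h3
    exact (mul_eq_zero.1 h5).resolve_left (sub_ne_zero.2 hns0)
  · apply add_zero_of_inv (φ := φ) (A := fun x => psi c (U5 φ x))
    · intro x y
      rw [U5_add, psi_mul hc]
    · intro k x hk
      have hnk : nm φ k ≠ 0 := fun h0 => hk ((nm_eq_zero φ).1 h0)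
      have hs : (nm φ k)⁻¹ • k ≠ 0 := smul_ne_zero (inv_ne_zero hnk) hk
      obtain ⟨δ, hδ⟩ := exists_TQ hG h ((nm φ k)⁻¹ • k) (nm φ k) hs hnk
      have h3 := psi_TQ (hcd δ ⟨_, _, hδ⟩) hδ (U5 φ x)
      have h4 : δ (U5 φ x) = U5 φ (k * x) := by
        apply ext5
        · rw [hδ.x6]; change _ * 0 = (0 : F); simp
        · rw [hδ.x5]
          change nm φ k • ((nm φ k)⁻¹ • k * x) = k * x
          rw [smul_mul_assoc, smul_smul, mul_inv_cancel₀ hnk, one_smul]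
        · rw [hδ.x3]; change _ • (_ * 0) = (0 : K); simp
        · rw [hδ.x2]; change _ * 0 = (0 : F); simp
        · rw [hδ.x4]; change _ * 0 = (0 : F); simp
      rw [h4, nm_smul] at h3
      rw [h3]
      field_simp
    · exact Cub.ne
  · apply add_zero_of_inv (φ := φ) (A := fun x => psi c (U3 φ x))
    · intro x y
      rw [U3_add, psi_mul hc]
    · intro k x hk
      have hnk : nm φ k ≠ 0 := fun h0 => hk ((nm_eq_zero φ).1 h0)
      have hs : sh φ k ≠ 0 := fun h0 => hk ((sh_eq_zero φ).1 h0)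
      obtain ⟨δ, hδ⟩ := exists_TQ hG h (sh φ k) (nm φ k)⁻¹ hs (inv_ne_zero hnk)
      have h3 := psi_TQ (hcd δ ⟨_, _, hδ⟩) hδ (U3 φ x)
      have h4 : δ (U3 φ x) = U3 φ (k * x) := by
        apply ext5
        · rw [hδ.x6]; change _ * 0 = (0 : F); simp
        · rw [hδ.x5]; change _ • (_ * 0) = (0 : K); simp
        · rw [hδ.x3]
          change (nm φ k)⁻¹ • (sh φ (sh φ k) * x) = k * x
          rw [sh_sh, smul_mul_assoc, smul_smul, inv_mul_cancel₀ hnk, one_smul]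
        · rw [hδ.x2]; change _ * 0 = (0 : F); simp
        · rw [hδ.x4]; change _ * 0 = (0 : F); simp
      have h5 : nm φ (sh φ k) = nm φ k ^ 2 := by fk φ
      rw [h4, h5] at h3
      rw [h3]
      field_simp
    · exact Cub.ne
  · intro u
    obtain ⟨δ, hδ⟩ := exists_TQ hG h s0 (nm φ s0)⁻¹ hs0 (inv_ne_zero hn0)
    have h3 := psi_TQ (hcd δ ⟨_, _, hδ⟩) hδ (U2 φ u)
    have h4 : δ (U2 φ u) = U2 φ u := by
      apply ext5
      · rw [hδ.x6]; change _ * 0 = (0 : F); simp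
      · rw [hδ.x5]; change _ • (s0 * 0) = (0 : K); simp
      · rw [hδ.x3]; change _ • (_ * 0) = (0 : K); simp
      · rw [hδ.x2, mul_inv_cancel₀ hn0, one_mul]
      · rw [hδ.x4]; change _ * 0 = (0 : F); simp
    rw [h4] at h3
    have h5 : (nm φ s0 - 1) * psi c (U2 φ u) = 0 := by
      have h6 : nm φ s0 * (nm φ s0)⁻¹ ^ 2 = (nm φ s0)⁻¹ := by field_simp
      rw [h6] at h3
      have h7 : nm φ s0 * psi c (U2 φ u) = psi c (U2 φ u) := by
        conv_lhs => rw [h3]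
        rw [mul_inv_cancel_left₀ hn0]
      linear_combination h7
    exact (mul_eq_zero.1 h5).resolve_left (sub_ne_zero.2 hns0)

/-! ### `q = 2` -/

theorem trdual (h : HypD φ p n) (h2 : p ^ n = 2) {A : K → F} (hA : ∀ x y, A (x + y) = A x + A y) :
    ∃ a : K, ∀ x, A x = tr φ (a * x) := by
  have := h.fin
  have := finF h
  have hF : ∀ u : F, u = 0 ∨ u = 1 := by
    intro u
    have h3 := h.card
    rw [h2] at h3
    obtain ⟨y, hy, hy'⟩ := (Nat.card_eq_two_iff' (0 : F)).1 h3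
    by_cases hu : u = 0
    · exact Or.inl hu
    · right
      rw [hy' u hu, hy' 1 one_ne_zero]
  let B : K →ₗ[F] Module.Dual F K := LinearMap.mk₂ F (fun a x => tr φ (a * x))
    (fun a b x => by rw [add_mul, tr_add]) (fun u a x => by rw [smul_mul_assoc, tr_smul]; rfl)
    (fun a x y => by rw [mul_add, tr_add]) (fun u a x => by rw [mul_smul_comm, tr_smul]; rfl)
  have hinj : Function.Injective B := by
    rw [injective_iff_map_eq_zero]
    intro a ha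
    apply tr_nondeg φ
    intro t
    exact congrArg (fun f : Module.Dual F K => f t) ha
  have hsurj : Function.Surjective B :=
    (LinearMap.injective_iff_surjective_of_finrank_eq_finrank (Subspace.dual_finrank_eq).symm).1 hinj
  have h0 : A 0 = 0 := by
    have := hA 0 0
    rw [add_zero] at this
    linear_combination -this
  let A' : Module.Dual F K :=
    { toFun := A
      map_add' := hA
      map_smul' := by
        intro u x
        rcases hF u with rfl | rfl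
        · rw [zero_smul, h0]; simp
        · rw [one_smul]; simp }
  obtain ⟨a, ha⟩ := hsurj A'
  exact ⟨a, fun x => (congrArg (fun f : Module.Dual F K => f x) ha).symm⟩

theorem CQ_le_two (h : HypD φ p n) (h2 : p ^ n = 2) : CQ φ ≤ autInducedBy ⊤ (Q1 φ) := by
  intro c hc
  have hF : ∀ u : F, u = 0 ∨ u = 1 := by
    intro u
    have h3 := h.card
    rw [h2] at h3
    obtain ⟨y, hy, hy'⟩ := (Nat.card_eq_two_iff' (0 : F)).1 h3
    by_cases hu : u = 0
    · exact Or.inl hu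
    · right
      rw [hy' u hu, hy' 1 one_ne_zero]
  have h1 : psi c 1 = 0 := by
    have := psi_mul hc 1 1
    rw [mul_one] at this
    linear_combination -this
  obtain ⟨a5, ha5⟩ := trdual h h2 (A := fun x => psi c (U5 φ x)) (fun x y => by
    rw [U5_add, psi_mul hc])
  obtain ⟨a3, ha3⟩ := trdual h h2 (A := fun x => psi c (U3 φ x)) (fun x y => by
    rw [U3_add, psi_mul hc])
  have h6 : ∀ u, psi c (U6 φ u) = u * psi c (U6 φ 1) := by
    intro u
    rcases hF u with rfl | rfl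
    · rw [zero_mul]; exact h1
    · rw [one_mul]
  have h2' : ∀ u, psi c (U2 φ u) = u * psi c (U2 φ 1) := by
    intro u
    rcases hF u with rfl | rfl
    · rw [zero_mul]; exact h1
    · rw [one_mul]
  let x : Q1 φ := ⟨{ x1 := 0, x6 := psi c (U2 φ 1), x5 := -a3, x3 := a5, x2 := -psi c (U6 φ 1), x4 := 0 }, rfl⟩
  have hpsi : ∀ e : Q1 φ, psi c e = form (x : Sy φ) (e : Sy φ) := by
    intro e
    conv_lhs => rw [decomp e]
    have e5 := ha5 (e : Sy φ).x5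
    have e3 := ha3 (e : Sy φ).x3
    rw [psi_mul hc, psi_mul hc, psi_mul hc, psi_mul hc, psi_U4 hc, h6, h2', e5, e3]
    change _ = psi c (U2 φ 1) * (e : Sy φ).x2 - (-psi c (U6 φ 1)) * (e : Sy φ).x6 - tr φ (-a3 * (e : Sy φ).x3)
      + tr φ (a5 * (e : Sy φ).x5)
    rw [neg_mul a3, tr_neg]
    ring
  rw [mem_autInducedBy_iff]
  refine ⟨x, Subgroup.mem_top _, fun e => ?_⟩
  have h3 : x * e * x⁻¹ = ⁅x, e⁆ * e := by rw [commutatorElement_def]; group
  have h4 : c e = x * e * x⁻¹ := by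
    rw [h3, comm_eq, ← hpsi e, psi_spec hc e]
    exact Subgroup.mem_center_iff.1 (U4_mem_center _) e
  rw [h4]
  rfl

/-! ### The main theorem -/

theorem w1_mem (hN : StNLift.{u}) (hG : StGrpD.{u}) (h : HypD φ p n) {Γ : Subgroup (MulAut (Q1 φ))}
    {D : Subgroup (MulAut (Sy φ))} (hP : Par p (Q1 φ) Γ D) (hT : HasT D) {w γ₀ : MulAut (Q1 φ)} (hw : IsW1 w)
    (hγ : γ₀ ∈ Γ) (hs : Same1 γ₀ w) : w ∈ Γ := by
  have := h.fin
  have := finF h
  have : Fact p.Prime := ⟨h.pp⟩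
  have h1 : w * γ₀⁻¹ ∈ CQ φ := by
    have := (CQ φ).inv_mem (same_iff.1 hs)
    rwa [mul_inv_rev, inv_inv] at this
  by_cases h2 : p ^ n = 2
  · have h3 := Γ.mul_mem (hP.indu (CQ_le_two h h2 h1)) hγ
    rwa [inv_mul_cancel_right] at h3
  · refine hN (CQ φ) Γ (TQ φ) inferInstance (CQ_pgroup h) (TQ_res hG h hP hT) (TQ_coprime h)
      (fun c hc hcd => TQ_fix hG h h2 hc hcd) w γ₀ hγ h1 ?_
    rintro d ⟨s, t, hd⟩
    exact ⟨_, _, w1_conj hw hd⟩

theorem CQ_inf_le (h : HypD φ p n) {Γ : Subgroup (MulAut (Q1 φ))}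
    {D : Subgroup (MulAut (Sy φ))} (hP : Par p (Q1 φ) Γ D) : CQ φ ⊓ Γ ≤ autInducedBy ⊤ (Q1 φ) := by
  have hp : IsPGroup p (CQ φ ⊓ Γ : Subgroup (MulAut (Q1 φ))) := (CQ_pgroup h).to_le inf_le_left
  obtain ⟨g, hg, hgx⟩ := hP.syl _ inf_le_right hp
  rintro c ⟨hc, hcΓ⟩
  have h1 : g⁻¹ * c * g ∈ CQ φ ⊓ Γ := by
    refine ⟨?_, Γ.mul_mem (Γ.mul_mem (Γ.inv_mem hg) hcΓ) hg⟩
    have := CQ_normal.conj_mem c hc g⁻¹
    rwa [inv_inv] at this
  have h2 := hgx _ h1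
  have h3 : g * (g⁻¹ * c * g) * g⁻¹ = c := by group
  rwa [h3] at h2

/-- (L1) -/
theorem stL1 (hN : StNLift.{u}) (hG : StGrpD.{u}) (h1a : StL1a.{u}) : StL1.{u} := by
  intro F K _ _ _ φ _ p n h Γ D hP hT γ
  obtain ⟨-, hL, hR⟩ := h1a h Γ D hP (fun _ α hα => hT _ _ α hα)
  have hLam : Lam1 φ ≤ Γ := by
    refine sup_le hP.indu ?_
    rw [Subgroup.closure_le]
    intro w hw
    have hwL : w ∈ Lam1 φ := Subgroup.mem_sup_right (Subgroup.subset_closure hw)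
    obtain ⟨γ₀, hγ₀, hs⟩ := hL w hwL
    exact w1_mem hN hG h hP hT hw hγ₀ hs
  constructor
  · intro hγ
    obtain ⟨l, hl, d, hd, δ, hdδ, hs⟩ := hR γ hγ
    have hδ : δ ∈ Γ := hP.D_res d hd δ hdδ
    have h1 : γ * (l * δ)⁻¹ ∈ CQ φ ⊓ Γ :=
      ⟨same_iff.1 hs, Γ.mul_mem hγ (Γ.inv_mem (Γ.mul_mem (hLam hl) hδ))⟩
    have h2 := CQ_inf_le h hP h1
    refine ⟨γ * (l * δ)⁻¹ * l, (Lam1 φ).mul_mem (Subgroup.mem_sup_left h2) hl, d, hd, δ, hdδ, ?_⟩
    group
  · rintro ⟨l, hl, d, hd, δ, hdδ, rfl⟩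
    exact Γ.mul_mem (hLam hl) (hP.D_res d hd δ hdδ)

end Cfsg.Agent.H131.D3L1
end

-- part: H491/FS/Rgd
section
/-!
# The fusion systems of a group with a root group datum and `p'`-automorphisms (S5261, S5210, S5211, S5262)

`real_rgd` : for a root group datum on `Y` and a `p'`-group `D` of automorphisms of `U` which extend to automorphisms of `Y`
fixing the frame, containing the automorphisms induced by `T`, the fusion system of `Y ⋊ D` over `U`.
-/

set_option autoImplicit false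
set_option linter.unusedSectionVars false

namespace Cfsg.Agent.H491.FS

open Cfsg Cfsg.FusionSystem Cfsg.Agent.H752 Cfsg.Agent.H802 Cfsg.Agent.H756.PU
open CoxeterSystem Cfsg.Agent.ChevalleyStructure.CoxeterGeom Cfsg.Agent.Tits.Roots Cfsg.Agent.Tits.Core
  Cfsg.Agent.Tits.Exchange Cfsg.Agent.Nodes.Reps Cfsg.Agent.Nodes.BNOf Cfsg.Agent.Nodes.StabComb
  Cfsg.Agent.Nodes.Bruhat Cfsg.Agent.Nodes.OppDec Cfsg.Agent.Nodes.LeviDec
open Cfsg.Agent.KFacts.RgdOpp Cfsg.Agent.KFacts.RgdAut Cfsg.Agent.KFacts.RgdDiag Cfsg.Agent.KFacts.RgdRigid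
  Cfsg.Agent.KFacts.RgdEx

universe u v

/-- the elements of `AF F` -/
theorem mem_AF {S : Type u} [Group S] (F : FusionSystem (⊤ : Subgroup S)) (θ : MulAut S) :
    θ ∈ AF F ↔ Mp F ⊤ θ := by
  constructor
  · rintro ⟨α, hα, rfl⟩
    have h1 := (mem_autGroup_iff F le_rfl α).1 hα
    refine ⟨_, h1, fun x hx => ?_⟩
    rfl
  · rintro ⟨φ, hφ, h1⟩
    refine ⟨(MulAut.congr Subgroup.topEquiv).symm θ, ?_, ?_⟩
    · refine (mem_autGroup_iff F le_rfl _).2 ?_
      refine mem_of_apply_eq hφ fun x => ?_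
      exact (h1 x x.2).symm
    · show (MulAut.congr Subgroup.topEquiv) ((MulAut.congr Subgroup.topEquiv).symm θ) = θ
      exact MulEquiv.apply_symm_apply _ _

variable {I W : Type*} {Y : Type v} [Fintype I] [DecidableEq I] [Group W] [Group Y] {M : CoxeterMatrix I}
  {cs : CoxeterSystem M W} {A : I → I → ℤ} {h : IsCartan M A} {p : ℕ} {T : Subgroup Y} {n : I → Y}
  {X : (I → ℤ) → Subgroup Y} (R : RGD cs h p T n X) [Finite W] [Finite Y] [Fact p.Prime]

include R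

/-- automorphisms fixing the frame fix `U` -/
theorem diag_fix_U {α : MulAut Y} (D : Diag T X α 1) : Fix α (RGD.Sup X (RGD.Pos cs h)) := by
  have h1 : ∀ {α : MulAut Y}, Diag T X α 1 → ∀ x ∈ RGD.Sup X (RGD.Pos cs h), α x ∈ RGD.Sup X (RGD.Pos cs h) := by
    intro α D x hx
    have h2 : RGD.Sup X (RGD.Pos cs h) ≤ (RGD.Sup X (RGD.Pos cs h)).comap α.toMonoidHom := by
      refine RGD.Sup_le fun z hz y hy => ?_
      have h3 := D.root_comp R (fun _ _ => rfl) hz.1 y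
      exact RGD.le_Sup (S := RGD.Pos cs h) hz (h3.2 hy)
    exact h2 hx
  intro x
  refine ⟨fun hx => ?_, h1 D x⟩
  have D' := D.inv
  rw [inv_one] at D'
  have := h1 D' _ hx
  rwa [MulAut.inv_apply_self] at this

/-- `X (-α_i) ∩ U = 1` -/
theorem neg_inf_U {i : I} {y : Y} (hy : y ∈ X (-sr i)) (hU : y ∈ RGD.Sup X (RGD.Pos cs h)) : y = 1 := by
  have h1 : y ∈ X (-sr i) ⊓ RGD.B cs h T X := ⟨hy, RGD.U_le_B hU⟩
  rw [Cfsg.Agent.Nodes.Unique.neg_inf_B R i] at h1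
  exact h1

/-- **The fusion system of a root group datum extended by automorphisms of the frame of order prime to `p`.** -/
theorem real_rgd (hG1 : RGD.Sup X {x | IsRoot cs h x} = ⊤) {S : Type u} [Group S]
    (e : S ≃* ↥(RGD.Sup X (RGD.Pos cs h))) (D : Subgroup (MulAut S)) (hD : (Nat.card D).Coprime p)
    (hext : ∀ d ∈ D, ∃ α : MulAut Y, Diag T X α 1 ∧ ∀ x, ((e (d x) : ↥(RGD.Sup X (RGD.Pos cs h))) : Y) = α (e x))
    (htor : ∀ t ∈ T, ∃ d ∈ D, ∀ x, ((e (d x) : ↥(RGD.Sup X (RGD.Pos cs h))) : Y) = t * e x * t⁻¹) :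
    ∃ F : FusionSystem (⊤ : Subgroup S), F.IsSaturated p ∧ F.IsRealizable p ∧
      AF F = (MulAut.conj : S →* MulAut S).range ⊔ D ∧
      (∀ (Q : Subgroup S) (f : S → S), Mp F Q f ↔ ∃ α : MulAut Y, (∃ d ∈ D, ∀ x,
        ((e (d x) : ↥(RGD.Sup X (RGD.Pos cs h))) : Y) = α (e x)) ∧ Diag T X α 1 ∧ ∃ g : Y, ∀ x ∈ Q,
        ((e (f x) : ↥(RGD.Sup X (RGD.Pos cs h))) : Y) = g * α (e x) * g⁻¹) ∧
      ∀ i : I, Subgroup.centralizer (VJ cs h X {i} : Set Y) ≤ VJ cs h X {i} → ∀ Q : Subgroup S,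
        (∀ x, x ∈ Q ↔ ((e x : ↥(RGD.Sup X (RGD.Pos cs h))) : Y) ∈ VJ cs h X {i}) →
        ¬ ∀ γ ∈ F.autGroup Q, NormAut (⊤ : Subgroup S) γ := by
  classical
  have hG := Cfsg.Agent.KFacts.RgdRigid.GG_eq_top (T := T) hG1
  have : Finite S := Finite.of_equiv _ e.symm.toEquiv
  obtain ⟨P, hP⟩ := Cfsg.Agent.KFacts.RgdAutFacts.exists_sylow R hG
  let e' : S ≃* ↥(P : Subgroup Y) := e.trans (MulEquiv.subgroupCongr hP.symm)
  have he' : ∀ x : S, ((e' x : ↥(P : Subgroup Y)) : Y) = e x := fun x => rfl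
  -- the group of automorphisms
  let B : Subgroup (MulAut Y) :=
    { carrier := {α | (∃ d ∈ D, ∀ x, ((e (d x) : ↥(RGD.Sup X (RGD.Pos cs h))) : Y) = α (e x)) ∧ Diag T X α 1}
      mul_mem' := by
        rintro α β ⟨⟨d, hd, h1⟩, h2⟩ ⟨⟨d', hd', h1'⟩, h2'⟩
        refine ⟨⟨d * d', mul_mem hd hd', fun x => ?_⟩, by simpa using h2.mul h2'⟩
        rw [MulAut.mul_apply, h1, h1', MulAut.mul_apply]
      one_mem' := ⟨⟨1, one_mem D, fun x => rfl⟩, Diag.one⟩
      inv_mem' := by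
        rintro α ⟨⟨d, hd, h1⟩, h2⟩
        refine ⟨⟨d⁻¹, inv_mem hd, fun x => ?_⟩, by simpa using h2.inv⟩
        have h3 := h1 (d⁻¹ x)
        rw [MulAut.apply_inv_self] at h3
        rw [h3, MulAut.inv_apply_self] }
  have hBc : (Nat.card B).Coprime p := by
    choose d hd h1 using fun b : B => b.2.1
    let f : B → D := fun b => ⟨d b, hd b⟩
    have hf : Function.Injective f := by
      intro b b' hbb
      have h2 : d b = d b' := congrArg Subtype.val hbb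
      have h3 : (b : MulAut Y) * (b' : MulAut Y)⁻¹ = 1 := by
        have D1 : Diag T X ((b : MulAut Y) * (b' : MulAut Y)⁻¹) 1 := by simpa using b.2.2.mul b'.2.2.inv
        refine Diag.eq_one R hG1 D1 fun i x hx => ?_
        have hxU : x ∈ RGD.Sup X (RGD.Pos cs h) :=
          RGD.le_Sup (S := RGD.Pos cs h) ⟨isRoot_sr cs h i, sr_nonneg i⟩ hx
        have hy : (b' : MulAut Y)⁻¹ x ∈ RGD.Sup X (RGD.Pos cs h) := by
          have D2 := b'.2.2.inv
          rw [inv_one] at D2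
          exact (diag_fix_U R D2 x).2 hxU
        set y : ↥(RGD.Sup X (RGD.Pos cs h)) := ⟨(b' : MulAut Y)⁻¹ x, hy⟩ with hyd
        have h4 := h1 b (e.symm y)
        have h5 := h1 b' (e.symm y)
        rw [e.apply_symm_apply] at h4 h5
        rw [MulAut.mul_apply]
        have h6 : (b : MulAut Y) ((b' : MulAut Y)⁻¹ x) = (b' : MulAut Y) ((b' : MulAut Y)⁻¹ x) := by
          have h7 : (b : MulAut Y) (y : Y) = (b' : MulAut Y) (y : Y) := by rw [← h4, ← h5, h2]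
          exact h7
        rw [h6, MulAut.apply_inv_self]
      exact Subtype.ext (mul_inv_eq_one.1 h3)
    -- `f` is a homomorphism
    have hfm : ∀ b b', f (b * b') = f b * f b' := by
      intro b b'
      apply Subtype.ext
      apply MulEquiv.ext
      intro x
      apply e.injective
      apply Subtype.ext
      show ((e (d (b * b') x) : ↥(RGD.Sup X (RGD.Pos cs h))) : Y) = e ((d b * d b') x)
      rw [h1, MulAut.mul_apply, h1, h1]
      rfl
    have h3 : Nat.card B ∣ Nat.card D := Subgroup.card_dvd_of_injective (MonoidHom.mk' f hfm) hf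
    exact Nat.Coprime.coprime_dvd_left h3 hD
  obtain ⟨F, hF1, hF2, hF3⟩ := exists_real_aut P e' B hBc
  have hF4 : ∀ (Q : Subgroup S) (f : S → S), Mp F Q f ↔ ∃ α : MulAut Y, (∃ d ∈ D, ∀ x,
        ((e (d x) : ↥(RGD.Sup X (RGD.Pos cs h))) : Y) = α (e x)) ∧ Diag T X α 1 ∧ ∃ g : Y, ∀ x ∈ Q,
        ((e (f x) : ↥(RGD.Sup X (RGD.Pos cs h))) : Y) = g * α (e x) * g⁻¹ := by
    intro Q f
    rw [hF3]
    constructor
    · rintro ⟨α, ⟨h1, h2⟩, g, hg⟩
      exact ⟨α, h1, h2, g, hg⟩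
    · rintro ⟨α, h1, h2, g, hg⟩
      exact ⟨α, ⟨h1, h2⟩, g, hg⟩
  refine ⟨F, hF1, hF2, ?_, hF4, ?_⟩
  · apply le_antisymm
    · intro θ hθ
      obtain ⟨α, ⟨d, hd, h1⟩, h2, g, hg⟩ := (hF4 _ _).1 ((mem_AF F θ).1 hθ)
      -- `g` normalises `U`
      have hgN : g ∈ Subgroup.normalizer (RGD.Sup X (RGD.Pos cs h) : Set Y) := by
        have h3 : ∀ y ∈ RGD.Sup X (RGD.Pos cs h), g * y * g⁻¹ ∈ RGD.Sup X (RGD.Pos cs h) := by
          intro y hy
          have D2 := h2.inv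
          rw [inv_one] at D2
          have hy' : α⁻¹ y ∈ RGD.Sup X (RGD.Pos cs h) := (diag_fix_U R D2 y).2 hy
          have h4 := hg (e.symm ⟨α⁻¹ y, hy'⟩) (Subgroup.mem_top _)
          rw [e.apply_symm_apply] at h4
          have h5 : α ((⟨α⁻¹ y, hy'⟩ : ↥(RGD.Sup X (RGD.Pos cs h))) : Y) = y := MulAut.apply_inv_self _ α y
          rw [h5] at h4
          rw [← h4]
          exact (e _).2
        exact Subgroup.mem_normalizer_fintype h3
      rw [normalizer_U' R hG] at hgN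
      obtain ⟨t, ht, u, hu, rfl⟩ := R.mem_B.1 hgN
      obtain ⟨dt, hdt, h3⟩ := htor t ht
      have h4 : θ = dt * MulAut.conj (e.symm ⟨u, hu⟩) * d := by
        apply MulEquiv.ext
        intro x
        apply e.injective
        apply Subtype.ext
        rw [hg x (Subgroup.mem_top _), MulAut.mul_apply, MulAut.mul_apply, h3, MulAut.conj_apply, map_mul, map_mul,
          map_inv, e.apply_symm_apply]
        show _ = t * (u * ((e (d x) : ↥(RGD.Sup X (RGD.Pos cs h))) : Y) * u⁻¹) * t⁻¹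
        rw [h1]
        group
      rw [h4]
      exact mul_mem (mul_mem ((le_sup_right : D ≤ _) hdt) ((le_sup_left : (MulAut.conj : S →* MulAut S).range ≤ _)
        ⟨_, rfl⟩)) ((le_sup_right : D ≤ _) hd)
    · refine sup_le ?_ ?_
      · rintro _ ⟨s, rfl⟩
        refine (mem_AF F _).2 ((hF4 _ _).2 ⟨1, ⟨1, one_mem D, fun x => rfl⟩, Diag.one, (e s : Y), fun x _ => ?_⟩)
        rw [MulAut.conj_apply, map_mul, map_mul, map_inv]
        rfl
      · intro d hd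
        obtain ⟨α, h1, h2⟩ := hext d hd
        refine (mem_AF F _).2 ((hF4 _ _).2 ⟨α, ⟨d, hd, h2⟩, h1, 1, fun x _ => ?_⟩)
        rw [h2, one_mul, inv_one, mul_one]
  · intro i hcent Q hQ hcon
    have hU : ∀ {v : Y}, v ∈ VJ cs h X {i} → v ∈ RGD.Sup X (RGD.Pos cs h) := fun {v} hv => VJ_le_U _ hv
    have hnN : n i ∈ Subgroup.normalizer (VJ cs h X {i} : Set Y) :=
      PJ_le_normalizer_VJ R {i} (LJ_le_PJ (n_mem_LJ R (Set.mem_singleton i)))
    have hnv : ∀ {v : Y}, v ∈ VJ cs h X {i} → n i * v * (n i)⁻¹ ∈ VJ cs h X {i} := fun {v} hv =>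
      (Subgroup.mem_normalizer_iff.1 hnN v).1 hv
    let f : S → S := fun x => if hx : n i * (e x : Y) * (n i)⁻¹ ∈ RGD.Sup X (RGD.Pos cs h) then
      e.symm ⟨_, hx⟩ else 1
    have hf : ∀ x ∈ Q, ((e (f x) : ↥(RGD.Sup X (RGD.Pos cs h))) : Y) = n i * (e x : Y) * (n i)⁻¹ := by
      intro x hx
      have h1 : n i * (e x : Y) * (n i)⁻¹ ∈ RGD.Sup X (RGD.Pos cs h) := hU (hnv ((hQ x).1 hx))
      have h2 : f x = e.symm ⟨_, h1⟩ := dif_pos h1
      rw [h2, e.apply_symm_apply]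
    obtain ⟨φ, hφ, h1⟩ := (hF4 Q f).2 ⟨1, ⟨1, one_mem D, fun x => rfl⟩, Diag.one, n i, hf⟩
    have hφQ : ∀ x : Q, φ x ∈ Q := by
      intro x
      rw [hQ, h1 x x.2, hf x x.2]
      exact hnv ((hQ x).1 x.2)
    obtain ⟨γ, hγ, h2⟩ := exists_aut hφ (range_eq_of_mapsTo hφ hφQ)
    have hγ' : ∀ x : Q, ((e ((γ x : Q) : S) : ↥(RGD.Sup X (RGD.Pos cs h))) : Y) = n i * (e (x : S) : Y) * (n i)⁻¹ := by
      intro x
      rw [h2, h1 x x.2, hf x x.2]
    obtain ⟨x₀, hx₀, hx₀1⟩ := exists_ne_one R i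
    have hx₀U : x₀ ∈ RGD.Sup X (RGD.Pos cs h) :=
      RGD.le_Sup (S := RGD.Pos cs h) ⟨isRoot_sr cs h i, sr_nonneg i⟩ hx₀
    have hUN : ∀ {u : Y}, u ∈ RGD.Sup X (RGD.Pos cs h) → u ∈ Subgroup.normalizer (VJ cs h X {i} : Set Y) := by
      intro u hu
      exact PJ_le_normalizer_VJ R {i} (B_le_PJ (RGD.U_le_B hu))
    have hs₀ : e.symm ⟨x₀, hx₀U⟩ ∈ Subgroup.normalizer (Q : Set S) := by
      refine Subgroup.mem_normalizer_fintype (S := (Q : Set S)) fun y hy => ?_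
      show _ ∈ Q
      rw [hQ, map_mul, map_mul, map_inv, e.apply_symm_apply]
      exact (Subgroup.mem_normalizer_iff.1 (hUN hx₀U) _).1 ((hQ y).1 hy)
    obtain ⟨α₀, hα₀⟩ := exists_conjAut hs₀
    have h3 := hcon γ hγ α₀ ((mem_autInducedBy_iff _ _ _).2 ⟨_, Subgroup.mem_top _, hα₀⟩)
    obtain ⟨s, -, h4⟩ := (mem_autInducedBy_iff _ _ _).1 h3
    set y := n i * x₀ * (n i)⁻¹ with hy
    have h5 : (e s : Y)⁻¹ * y ∈ Subgroup.centralizer (VJ cs h X {i} : Set Y) := by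
      rw [Subgroup.mem_centralizer_iff]
      intro v hv
      have hvQ : e.symm ⟨v, hU hv⟩ ∈ Q := by
        rw [hQ, e.apply_symm_apply]
        exact hv
      obtain ⟨w, hw⟩ := γ.surjective ⟨_, hvQ⟩
      have h6 := h4 (γ w)
      rw [MulAut.mul_apply, MulAut.mul_apply, MulAut.inv_apply_self] at h6
      have h7 := congrArg (fun z : S => ((e z : ↥(RGD.Sup X (RGD.Pos cs h))) : Y)) h6
      simp only [map_mul, map_inv, Subgroup.coe_mul, Subgroup.coe_inv] at h7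
      rw [hγ', hα₀, map_mul, map_mul, map_inv, e.apply_symm_apply] at h7
      have h8 : ((e ((γ w : Q) : S) : ↥(RGD.Sup X (RGD.Pos cs h))) : Y) = v := by
        rw [hw]
        show ((e (e.symm ⟨v, hU hv⟩) : ↥(RGD.Sup X (RGD.Pos cs h))) : Y) = v
        rw [e.apply_symm_apply]
      have h9 := hγ' w
      rw [h8] at h9 h7
      have h10 : y * v * y⁻¹ = (e s : Y) * v * (e s : Y)⁻¹ := by
        rw [← h7, h9, hy]
        show _ = n i * (x₀ * (e (w : S) : Y) * x₀⁻¹) * (n i)⁻¹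
        group
      calc v * ((e s : Y)⁻¹ * y) = (e s : Y)⁻¹ * ((e s : Y) * v * (e s : Y)⁻¹) * y := by group
        _ = (e s : Y)⁻¹ * (y * v * y⁻¹) * y := by rw [h10]
        _ = _ := by group
    have h6 : y ∈ RGD.Sup X (RGD.Pos cs h) := by
      have h7 := mul_mem (e s).2 (hU (hcent h5))
      rwa [mul_inv_cancel_left] at h7
    have h7 : y ∈ X (-sr i) := by
      have h8 := R.conj i (sr i) (isRoot_sr cs h i)
      rw [rep_simple_sr] at h8
      rw [← h8]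
      exact conj_mem_cj.2 hx₀
    have h8 := neg_inf_U R h7 h6
    apply hx₀1
    have h9 : x₀ = (n i)⁻¹ * y * n i := by rw [hy]; group
    rw [h9, h8]
    group

end Cfsg.Agent.H491.FS
end

-- part: H491/FS/Std
section
/-!
# The automorphism groups of the minimal parabolic subgroups in the realised fusion systems (S5261)
-/

set_option autoImplicit false
set_option linter.unusedSectionVars false

namespace Cfsg.Agent.H491.FS

open Cfsg Cfsg.FusionSystem Cfsg.Agent.H752 Cfsg.Agent.H802 Cfsg.Agent.H756.PU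
open CoxeterSystem Cfsg.Agent.ChevalleyStructure.CoxeterGeom Cfsg.Agent.Tits.Roots Cfsg.Agent.Tits.Core
  Cfsg.Agent.Tits.Exchange Cfsg.Agent.Nodes.Reps Cfsg.Agent.Nodes.BNOf Cfsg.Agent.Nodes.StabComb
  Cfsg.Agent.Nodes.Bruhat Cfsg.Agent.Nodes.OppDec Cfsg.Agent.Nodes.LeviDec
open Cfsg.Agent.KFacts.RgdOpp Cfsg.Agent.KFacts.RgdAut Cfsg.Agent.KFacts.RgdDiag Cfsg.Agent.KFacts.RgdRigid
  Cfsg.Agent.KFacts.RgdEx

universe u v

variable {I W : Type*} {Y : Type v} [Fintype I] [DecidableEq I] [Group W] [Group Y] {M : CoxeterMatrix I}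
  {cs : CoxeterSystem M W} {A : I → I → ℤ} {h : IsCartan M A} {p : ℕ} {T : Subgroup Y} {n : I → Y}
  {X : (I → ℤ) → Subgroup Y} (R : RGD cs h p T n X) [Finite W] [Finite Y] [Fact p.Prime]

include R

/-- `n j` normalises `V_i` only for `j = i` -/
theorem n_mem_norm_VJ {i j : I} : n j ∈ Subgroup.normalizer (VJ cs h X {i} : Set Y) ↔ j = i := by
  constructor
  · intro hn
    by_contra hji
    obtain ⟨x, hx, hx1⟩ := exists_ne_one R j
    have h1 : x ∈ VJ cs h X {i} := RGD.le_Sup (S := NotJ cs h {i}) (sr_mem_NotJ (J := {i}) hji) hx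
    have h2 : n j * x * (n j)⁻¹ ∈ VJ cs h X {i} := (Subgroup.mem_normalizer_iff.1 hn x).1 h1
    have h3 : n j * x * (n j)⁻¹ ∈ X (-sr j) := by
      have h8 := R.conj j (sr j) (isRoot_sr cs h j)
      rw [rep_simple_sr] at h8
      rw [← h8]
      exact conj_mem_cj.2 hx
    have h4 := neg_inf_U R h3 (VJ_le_U _ h2)
    apply hx1
    have h9 : x = (n j)⁻¹ * (n j * x * (n j)⁻¹) * n j := by group
    rw [h9, h4]
    group
  · rintro rfl
    exact PJ_le_normalizer_VJ R {j} (LJ_le_PJ (n_mem_LJ R (Set.mem_singleton j)))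

/-- conjugation by an element of `T` fixes the frame -/
theorem diag_conj {t : Y} (ht : t ∈ T) : Diag T X (MulAut.conj t) 1 where
  tor x := by
    rw [MulAut.conj_apply]
    constructor
    · intro h1
      have h2 := mul_mem (mul_mem (inv_mem ht) h1) ht
      have e : t⁻¹ * (t * x * t⁻¹) * t = x := by group
      rwa [e] at h2
    · intro h1
      exact mul_mem (mul_mem ht h1) (inv_mem ht)
  pos i x := by
    have h1 := R.tor (sr i) (isRoot_sr cs h i) t ht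
    show t * x * t⁻¹ ∈ X (sr i) ↔ _
    nth_rewrite 1 [← h1]
    exact conj_mem_cj
  neg i x := by
    have h1 := R.tor (-sr i) (isRoot_sr cs h i).neg t ht
    show t * x * t⁻¹ ∈ X (-sr i) ↔ _
    nth_rewrite 1 [← h1]
    exact conj_mem_cj

end Cfsg.Agent.H491.FS
end

-- part: H491/D4/Emb
section
/-!
# The embedding of `Sy φ` in `³D₄(q)` and the root group datum (S5261, REAL)
-/

set_option autoImplicit false
set_option linter.unusedSectionVars false

namespace Cfsg.Agent.H491.D4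

open Cfsg Cfsg.Lie Cfsg.Agent.H765.D3
open Cfsg.Agent.H765.D3.Sy (Q1 Q2 Z1 Z2 Z3 Z4 u1 u2 u3 u4 u5 u6)
open Cfsg.Agent.Hexagon.Pos Cfsg.Agent.Hexagon.PosOfRel Cfsg.Agent.Hexagon.TwD4Par Cfsg.Agent.Hexagon.TwD4Rel
open Cfsg.Agent.ChevalleyStructure
open Cfsg.Agent.ChevalleyStructure.D4Comm (xG)
open Cfsg.Agent.ChevalleyStructure.D4Twisted
open CoxeterSystem Cfsg.Agent.ChevalleyStructure.CoxeterGeom Cfsg.Agent.Tits.Roots Cfsg.Agent.Tits.Core
  Cfsg.Agent.Tits.Exchange Cfsg.Agent.Nodes.Reps Cfsg.Agent.Nodes.BNOf Cfsg.Agent.Nodes.StabComb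
  Cfsg.Agent.Nodes.Bruhat Cfsg.Agent.Nodes.OppDec Cfsg.Agent.Nodes.LeviDec
open Cfsg.Agent.Nodes.RGDTwD4 (A isCartan)

universe u

section Emb

variable {F K : Type u} [Field F] [Field K] [Algebra F K] (φ : K ≃ₐ[F] K) [Cub φ] [Fintype K] {q : ℕ}

/-- the ring homomorphism -/
def f0 : K →+* K := (φ : K →+* K)

variable {φ} (hK : Fintype.card K = q ^ 3) (hφ : ∀ t, φ t = t ^ q)

include hK hφ in
/-- the parametrisation of the root groups -/
theorem hpar : Cfsg.Agent.SplitTwo.HexPar (φ : K ≃+* K) (Cfsg.Agent.Hexagon.TwD4RGD.X K q) (ev (X1 (φ : K ≃+* K))) (ev X2)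
    (ev (X3 (φ : K ≃+* K))) (ev X4) (ev (X5 (φ : K ≃+* K))) (ev X6) :=
  hexPar (φ := f0 φ) hφ (D4Fixed.twisted_le_fix hK hφ) (fun _ => rfl) (phi3 φ)

/-- the positive relations -/
noncomputable def PP : HexPos φ ↥(twistedD4 K q) := hexPos (Cub.pair (φ := φ)) (fun _ => rfl) (hpar hK hφ)

/-- the embedding -/
noncomputable def ι : Sy φ →* ↥(twistedD4 K q) := (Rels.ofHexPos (PP hK hφ)).hom

theorem ι_inj : Function.Injective (ι hK hφ) := Rels.hom_injective _ fun w hw => (PP hK hφ).inj4 w hw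

theorem fixF (s : F) : (φ : K ≃+* K) (algebraMap F K s) = algebraMap F K s := φ.commutes s

theorem ι_u1 (a : K) : (ι hK hφ (u1 φ a) : GL chevD4.Idx K) = X1 (φ : K ≃+* K) a := by
  rw [ι, Rels.hom_u1]
  exact c1 (φ := f0 φ) hφ (fun _ => rfl) a

theorem ι_u2 (s : F) : (ι hK hφ (u2 φ s) : GL chevD4.Idx K) = X2 (algebraMap F K s) := by
  rw [ι, Rels.hom_u2]
  exact c2 (φ := f0 φ) hφ (fun _ => rfl) (fixF s)

theorem ι_u3 (a : K) : (ι hK hφ (u3 φ a) : GL chevD4.Idx K) = X3 (φ : K ≃+* K) a := by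
  rw [ι, Rels.hom_u3]
  exact c3 (φ := f0 φ) hφ (fun _ => rfl) a

theorem ι_u4 (s : F) : (ι hK hφ (u4 φ s) : GL chevD4.Idx K) = X4 (algebraMap F K s) := by
  rw [ι, Rels.hom_u4]
  exact c4 (φ := f0 φ) hφ (fun _ => rfl) (fixF s)

theorem ι_u5 (a : K) : (ι hK hφ (u5 φ a) : GL chevD4.Idx K) = X5 (φ : K ≃+* K) a := by
  rw [ι, Rels.hom_u5]
  exact (c5 (φ := f0 φ) (σ := (φ : K ≃+* K)) hφ (fun _ => rfl) (- -a)).trans (by rw [neg_neg])

theorem ι_u6 (s : F) : (ι hK hφ (u6 φ s) : GL chevD4.Idx K) = X6 (-algebraMap F K s) := by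
  rw [ι, Rels.hom_u6]
  exact c6 (φ := f0 φ) (σ := (φ : K ≃+* K)) hφ (fun _ => rfl) (by rw [map_neg, fixF])

end Emb

/-! ### two homomorphisms which agree on `u1`, `u6` -/

theorem eq_top_of_sup {G : Type*} [Group G] [Finite G] {p : ℕ} [Fact p.Prime] (hG : IsPGroup p G) (H : Subgroup G)
    (h : H ⊔ commutator G = ⊤) : H = ⊤ :=
  frattini_nongenerating (by
    rw [eq_top_iff, ← h]
    exact sup_le_sup_left (Cfsg.Agent.Lib.FrattiniPGroup.commutator_le_frattini hG) H)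

section Ext

variable {F K : Type u} [Field F] [Field K] [Algebra F K] {φ : K ≃ₐ[F] K} [Cub φ]

theorem finF (F K : Type u) [Field F] [Field K] [Algebra F K] [Finite K] : Finite F :=
  Finite.of_injective _ (algebraMap F K).injective

theorem isPGroup_Sy [Finite K] {p n : ℕ} [Fact p.Prime] (hF : Nat.card F = p ^ n) (hK : Nat.card K = (p ^ n) ^ 3) :
    IsPGroup p (Sy φ) := by
  have : Finite F := finF F K
  refine IsPGroup.of_card (n := n * 12) ?_
  rw [Sy.card_eq, hF, hK]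
  ring

/-- homomorphisms which agree on `u1`, `u6` are equal -/
theorem hom_ext [Finite K] {p n : ℕ} [Fact p.Prime] (hF : Nat.card F = p ^ n) (hK : Nat.card K = (p ^ n) ^ 3)
    {G : Type*} [Group G] (f g : Sy φ →* G) (h1 : ∀ a, f (u1 φ a) = g (u1 φ a)) (h6 : ∀ u, f (u6 φ u) = g (u6 φ u)) :
    f = g := by
  have : Finite F := finF F K
  have h : MonoidHom.eqLocus f g = ⊤ := by
    refine eq_top_of_sup (isPGroup_Sy hF hK) _ ?_
    rw [Sy.commutator_eq, eq_top_iff]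
    intro x _
    have e : x = u6 φ x.x6 * (u5 φ x.x5 * u3 φ x.x3 * u2 φ x.x2 * u4 φ x.x4) * u1 φ x.x1 := by
      rw [← mul_assoc, ← mul_assoc, ← mul_assoc]
      exact Sy.eq_prod x
    rw [e]
    have hz : u5 φ x.x5 * u3 φ x.x3 * u2 φ x.x2 * u4 φ x.x4 ∈ Z4 φ :=
      mul_mem (mul_mem (mul_mem (Sy.u5_mem _) (Sy.Z3_le_Z4 (Sy.u3_mem _)))
        (Sy.Z3_le_Z4 (Sy.Z2_le_Z3 (Sy.u2_mem _)))) (Sy.Z3_le_Z4 (Sy.Z2_le_Z3 (Sy.Z1_le_Z2 (Sy.u4_mem _))))
    exact mul_mem (mul_mem ((le_sup_left : MonoidHom.eqLocus f g ≤ _) (h6 _))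
      ((le_sup_right : Z4 φ ≤ MonoidHom.eqLocus f g ⊔ Z4 φ) hz)) ((le_sup_left : MonoidHom.eqLocus f g ≤ _) (h1 _))
  ext x
  have : x ∈ MonoidHom.eqLocus f g := h ▸ Subgroup.mem_top x
  exact this

end Ext

/-! ### the roots -/

section Roots

variable {W : Type*} [Group W] (cs : CoxeterSystem CoxeterMatrix.G₂ W)

/-- the root `a β + b α` -/
def rt (a b : ℤ) : Fin 2 → ℤ := ![a, b]

theorem sr0 : (sr 0 : Fin 2 → ℤ) = rt 1 0 := by
  funext k; fin_cases k <;> rfl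
theorem sr1 : (sr 1 : Fin 2 → ℤ) = rt 0 1 := by
  funext k; fin_cases k <;> rfl

theorem s0 (a b : ℤ) : rep cs isCartan (cs.simple 0) (rt a b) = rt (-a + b) b := by
  rw [rep_simple_eq]
  funext k
  fin_cases k
  · show a - pairing A 0 (rt a b) • (sr 0 : Fin 2 → ℤ) 0 = -a + b
    have h1 : pairing A 0 (rt a b) = 2 * a + (-1) * b := by
      unfold pairing
      rw [Fin.sum_univ_two]
      rfl
    have h2 : (sr 0 : Fin 2 → ℤ) 0 = 1 := rfl
    rw [h1, h2, smul_eq_mul]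
    ring
  · show b - pairing A 0 (rt a b) • (sr 0 : Fin 2 → ℤ) 1 = b
    have h2 : (sr 0 : Fin 2 → ℤ) 1 = 0 := rfl
    rw [h2, smul_zero, sub_zero]

theorem s1 (a b : ℤ) : rep cs isCartan (cs.simple 1) (rt a b) = rt a (3 * a - b) := by
  rw [rep_simple_eq]
  funext k
  fin_cases k
  · show a - pairing A 1 (rt a b) • (sr 1 : Fin 2 → ℤ) 0 = a
    have h2 : (sr 1 : Fin 2 → ℤ) 0 = 0 := rfl
    rw [h2, smul_zero, sub_zero]
  · show b - pairing A 1 (rt a b) • (sr 1 : Fin 2 → ℤ) 1 = 3 * a - b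
    have h1 : pairing A 1 (rt a b) = (-3) * a + 2 * b := by
      unfold pairing
      rw [Fin.sum_univ_two]
      rfl
    have h2 : (sr 1 : Fin 2 → ℤ) 1 = 1 := rfl
    rw [h1, h2, smul_eq_mul]
    ring

theorem r10 : IsRoot cs isCartan (rt 1 0) := sr0 ▸ isRoot_sr cs isCartan 0
theorem r01 : IsRoot cs isCartan (rt 0 1) := sr1 ▸ isRoot_sr cs isCartan 1
theorem r11 : IsRoot cs isCartan (rt 1 1) := by
  have h := (r01 cs).act (cs.simple 0)
  rw [s0] at h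
  exact h
theorem r12 : IsRoot cs isCartan (rt 1 2) := by
  have h := (r11 cs).act (cs.simple 1)
  rw [s1] at h
  exact h
theorem r13 : IsRoot cs isCartan (rt 1 3) := by
  have h := (r10 cs).act (cs.simple 1)
  rw [s1] at h
  exact h
theorem r23 : IsRoot cs isCartan (rt 2 3) := by
  have h := (r13 cs).act (cs.simple 0)
  rw [s0] at h
  exact h

theorem rt_nonneg {a b : ℤ} (ha : 0 ≤ a) (hb : 0 ≤ b) : 0 ≤ rt a b := by
  intro k
  fin_cases k
  · exact ha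
  · exact hb

theorem mem_Not1 {a b : ℤ} (h : IsRoot cs isCartan (rt a b)) (ha : 0 < a) (hb : 0 ≤ b) :
    rt a b ∈ NotJ cs isCartan {1} := ⟨h, rt_nonneg ha.le hb, 0, by simp, ha⟩

theorem mem_Not0 {a b : ℤ} (h : IsRoot cs isCartan (rt a b)) (ha : 0 ≤ a) (hb : 0 < b) :
    rt a b ∈ NotJ cs isCartan {0} := ⟨h, rt_nonneg ha hb.le, 1, by simp, hb⟩

end Roots

end Cfsg.Agent.H491.D4
end

-- part: H491/D4/Tor
section
/-!
# The torus of `³D₄(q)` on the simple root groups (S5261, REAL)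
-/

set_option autoImplicit false
set_option linter.unusedSectionVars false

namespace Cfsg.Agent.H491.D4

open Cfsg Cfsg.Lie Cfsg.Agent.H765.D3
open Cfsg.Agent.ChevalleyStructure
open Cfsg.Agent.ChevalleyStructure.D4Comm (xG)
open Cfsg.Agent.ChevalleyStructure.D4Torus (tor val diagU coe_diagU)
open Cfsg.Agent.ChevalleyStructure.D4NConj
open Cfsg.Agent.ChevalleyStructure.LaurentWord (code code_inl code_inr)

universe u

theorem wt_coef : ∀ s ∈ List.range 24, ∀ i ∈ List.range 4, wt i (4 + s) = D4Cols.coef s i := by decide +kernel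

variable {K : Type u} [Field K]

theorem tor_eq (χ : Fin 4 → Kˣ) : tor χ = torG χ := by
  apply Units.ext
  rw [coe_torG]
  show Matrix.diagonal _ = Matrix.diagonal _
  congr 1
  funext k
  rcases k with i | s
  · show ((1 : Kˣ) : K) = dv (fun i => (χ i : K)) (code chevD4 (Sum.inl i))
    rw [code_inl, dv_def]
    have h : ∀ j, wt j i.val = 0 := fun j => if_pos i.2
    simp only [h, zpow_zero, mul_one, Units.val_one]
  · show (((χ 0 ^ D4Cols.coef s.val 0 * (χ 1 ^ D4Cols.coef s.val 1 * (χ 2 ^ D4Cols.coef s.val 2 *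
      χ 3 ^ D4Cols.coef s.val 3))) : Kˣ) : K) = dv (fun i => (χ i : K)) (4 + s.val)
    have h : ∀ i < 4, wt i (4 + s.val) = D4Cols.coef s.val i := fun i hi =>
      wt_coef s.val (List.mem_range.2 s.2) i (List.mem_range.2 hi)
    rw [dv_def, h 0 (by norm_num), h 1 (by norm_num), h 2 (by norm_num), h 3 (by norm_num)]
    simp only [Units.val_mul, Units.val_zpow_eq_zpow_val, mul_assoc]

theorem tor_conj (χ : Fin 4 → Kˣ) {s : ℕ} (hs : s < 24) (u : K) :
    tor χ * xG s u * (tor χ)⁻¹ = xG s (chi χ s * u) := by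
  rw [tor_eq, torG_conj χ hs]

theorem chi_18 (χ : Fin 4 → Kˣ) : (chi χ 18 : K) = χ 0 := by
  show (χ 0 : K) ^ (1 : ℤ) * (χ 1 : K) ^ (0 : ℤ) * (χ 2 : K) ^ (0 : ℤ) * (χ 3 : K) ^ (0 : ℤ) = _
  simp

theorem chi_14 (χ : Fin 4 → Kˣ) : (chi χ 14 : K) = χ 1 := by
  show (χ 0 : K) ^ (0 : ℤ) * (χ 1 : K) ^ (1 : ℤ) * (χ 2 : K) ^ (0 : ℤ) * (χ 3 : K) ^ (0 : ℤ) = _
  simp

theorem chi_13 (χ : Fin 4 → Kˣ) : (chi χ 13 : K) = χ 2 := by
  show (χ 0 : K) ^ (0 : ℤ) * (χ 1 : K) ^ (0 : ℤ) * (χ 2 : K) ^ (1 : ℤ) * (χ 3 : K) ^ (0 : ℤ) = _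
  simp

theorem chi_12 (χ : Fin 4 → Kˣ) : (chi χ 12 : K) = χ 3 := by
  show (χ 0 : K) ^ (0 : ℤ) * (χ 1 : K) ^ (0 : ℤ) * (χ 2 : K) ^ (0 : ℤ) * (χ 3 : K) ^ (1 : ℤ) = _
  simp

end Cfsg.Agent.H491.D4
end

-- part: H491/D4/Pos
section
/-!
# The position of `Sy φ` in the root group datum of `³D₄(q)` (S5261, REAL)
-/

set_option autoImplicit false
set_option linter.unusedSectionVars false

namespace Cfsg.Agent.H491.D4

open Cfsg Cfsg.Lie Cfsg.Agent.H765.D3
open Cfsg.Agent.H765.D3.Sy (Q1 Q2 Z1 Z2 Z3 Z4 u1 u2 u3 u4 u5 u6)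
open Cfsg.Agent.Hexagon.Pos Cfsg.Agent.Hexagon.PosOfRel Cfsg.Agent.Hexagon.TwD4Par Cfsg.Agent.Hexagon.TwD4Rel
open Cfsg.Agent.ChevalleyStructure
open Cfsg.Agent.ChevalleyStructure.D4Comm (xG)
open Cfsg.Agent.ChevalleyStructure.D4Twisted
open Cfsg.Agent.ChevalleyStructure.D4Fixed (sig)
open CoxeterSystem Cfsg.Agent.ChevalleyStructure.CoxeterGeom Cfsg.Agent.Tits.Roots Cfsg.Agent.Tits.Core
  Cfsg.Agent.Tits.Exchange Cfsg.Agent.Nodes.Reps Cfsg.Agent.Nodes.BNOf Cfsg.Agent.Nodes.StabComb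
  Cfsg.Agent.Nodes.Bruhat Cfsg.Agent.Nodes.OppDec Cfsg.Agent.Nodes.LeviDec
open Cfsg.Agent.Nodes.RGDTwD4 (A isCartan foldData hp)
open Cfsg.Agent.Nodes
open Cfsg.Agent.ChevalleyStructure.D4U Cfsg.Agent.ChevalleyStructure.TwistedU

universe u

variable {F K : Type u} [Field F] [Field K] [Algebra F K] {φ : K ≃ₐ[F] K} [Cub φ] [Fintype K] {q : ℕ}
  (hK : Fintype.card K = q ^ 3) (hφ : ∀ t, φ t = t ^ q)

/-- the root groups -/
noncomputable abbrev XX (φ : K ≃ₐ[F] K) (q : ℕ) : (Fin 2 → ℤ) → Subgroup ↥(twistedD4 K q) := RGDTwD4.X (f0 φ) q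

/-- the reflections -/
noncomputable abbrev nn (hφ : ∀ t, φ t = t ^ q) : Fin 2 → ↥(twistedD4 K q) := RGDTwD4.n (φ := f0 φ) hφ

theorem nn0 : ((nn hφ 0 : ↥(twistedD4 K q)) : GL chevD4.Idx K) = na K := RGDTwD4.nI_zero

theorem nn1 : ((nn hφ 1 : ↥(twistedD4 K q)) : GL chevD4.Idx K) = nb K := RGDTwD4.nI_one

theorem m1 (a : K) : ι hK hφ (u1 φ a) ∈ XX φ q (sr 1) := by
  show ι hK hφ (u1 φ a) ∈ (RGDFold.R chevD4 hp K RGDTwD4.J (sig (f0 φ)) (sr 1)).subgroupOf (twistedD4 K q)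
  rw [Subgroup.mem_subgroupOf, RGDTwD4.R1]
  refine ⟨?_, D4Fixed.twisted_le_fix hK (φ := f0 φ) hφ (ι hK hφ (u1 φ a)).2⟩
  show (ι hK hφ (u1 φ a) : GL chevD4.Idx K) ∈ RS K [18, 13, 12]
  rw [ι_u1, X1_eq _ (f0 φ) (fun _ => rfl)]
  exact X_mem_RS a

theorem m6 (s : F) : ι hK hφ (u6 φ s) ∈ XX φ q (sr 0) := by
  show ι hK hφ (u6 φ s) ∈ (RGDFold.R chevD4 hp K RGDTwD4.J (sig (f0 φ)) (sr 0)).subgroupOf (twistedD4 K q)
  rw [Subgroup.mem_subgroupOf, RGDTwD4.R0]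
  refine ⟨?_, D4Fixed.twisted_le_fix hK (φ := f0 φ) hφ (ι hK hφ (u6 φ s)).2⟩
  show (ι hK hφ (u6 φ s) : GL chevD4.Idx K) ∈ RS K [14]
  rw [ι_u6]
  rw [X6, w1_eq]
  exact mem_rspan xG (S := {k | k ∈ [14]}) (by simp) _

theorem n5 (a : K) : ι hK hφ (u5 φ a) = nn hφ 0 * ι hK hφ (u1 φ a) * (nn hφ 0)⁻¹ := by
  apply Subtype.ext
  rw [Subgroup.coe_mul, Subgroup.coe_mul, Subgroup.coe_inv, nn0, ι_u5, ι_u1, na_X1]

theorem n3 (a : K) : ι hK hφ (u3 φ a) = nn hφ 1 * ι hK hφ (u5 φ (-a)) * (nn hφ 1)⁻¹ := by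
  apply Subtype.ext
  rw [Subgroup.coe_mul, Subgroup.coe_mul, Subgroup.coe_inv, nn1, ι_u3, ι_u5, nb_X5]

theorem n2 (s : F) : ι hK hφ (u2 φ s) = nn hφ 1 * ι hK hφ (u6 φ s) * (nn hφ 1)⁻¹ := by
  apply Subtype.ext
  rw [Subgroup.coe_mul, Subgroup.coe_mul, Subgroup.coe_inv, nn1, ι_u2, ι_u6, nb_X6]

theorem n4 (s : F) : ι hK hφ (u4 φ s) = nn hφ 0 * ι hK hφ (u2 φ (-s)) * (nn hφ 0)⁻¹ := by
  apply Subtype.ext
  rw [Subgroup.coe_mul, Subgroup.coe_mul, Subgroup.coe_inv, nn0, ι_u4, ι_u2, map_neg, na_X2]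

section RG

variable {W : Type} [Group W] (cs : CoxeterSystem CoxeterMatrix.G₂ W) (p : ℕ) [Fact p.Prime] [CharP K p]

include hK in
theorem rg : RGD cs isCartan p (RGDTwD4.T K q) (nn hφ) (XX φ q) := RGDTwD4.rgd (φ := f0 φ) cs hK hφ p

variable {p}

include hK cs in
theorem cj_mem {x : Fin 2 → ℤ} (hx : IsRoot cs isCartan x) {y : ↥(twistedD4 K q)} (hy : y ∈ XX φ q x) (i : Fin 2) :
    nn hφ i * y * (nn hφ i)⁻¹ ∈ XX φ q (rep cs isCartan (cs.simple i) x) := by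
  obtain ⟨p, hp'⟩ := CharP.exists K
  have : Fact p.Prime := ⟨CharP.char_is_prime K p⟩
  have h8 := (rg (φ := φ) hK hφ cs p).conj i x hx
  rw [← h8]
  exact conj_mem_cj.2 hy

include cs

theorem m1' (a : K) : ι hK hφ (u1 φ a) ∈ XX φ q (rt 0 1) := by
  rw [← sr1]; exact m1 hK hφ a

theorem m6' (s : F) : ι hK hφ (u6 φ s) ∈ XX φ q (rt 1 0) := by
  rw [← sr0]; exact m6 hK hφ s

theorem m5 (a : K) : ι hK hφ (u5 φ a) ∈ XX φ q (rt 1 1) := by
  have h := cj_mem hK hφ cs (r01 cs) (m1' hK hφ cs a) 0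
  rw [s0, ← n5] at h
  exact h

theorem m3 (a : K) : ι hK hφ (u3 φ a) ∈ XX φ q (rt 1 2) := by
  have h := cj_mem hK hφ cs (r11 cs) (m5 hK hφ cs (-a)) 1
  rw [s1, ← n3] at h
  exact h

theorem m2 (s : F) : ι hK hφ (u2 φ s) ∈ XX φ q (rt 1 3) := by
  have h := cj_mem hK hφ cs (r10 cs) (m6' hK hφ cs s) 1
  rw [s1, ← n2] at h
  exact h

theorem m4 (s : F) : ι hK hφ (u4 φ s) ∈ XX φ q (rt 2 3) := by
  have h := cj_mem hK hφ cs (r13 cs) (m2 hK hφ cs (-s)) 0
  rw [s0, ← n4] at h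
  exact h

theorem ι_Q1 {x : Sy φ} (hx : x ∈ Q1 φ) : ι hK hφ x ∈ VJ cs isCartan (XX φ q) {1} := by
  have e : x = u6 φ x.x6 * u5 φ x.x5 * u3 φ x.x3 * u2 φ x.x2 * u4 φ x.x4 := by
    conv_lhs => rw [Sy.eq_prod x]
    rw [Sy.mem_Q1.1 hx]
    show _ * (1 : Sy φ) = _
    rw [mul_one]
  rw [e]
  simp only [map_mul]
  have key : ∀ {a b : ℤ} {y : ↥(twistedD4 K q)}, IsRoot cs isCartan (rt a b) → 0 < a → 0 ≤ b → y ∈ XX φ q (rt a b) →
      y ∈ VJ cs isCartan (XX φ q) {1} := fun h ha hb hy => RGD.le_Sup (S := NotJ cs isCartan {1}) (mem_Not1 cs h ha hb) hy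
  exact mul_mem (mul_mem (mul_mem (mul_mem (key (r10 cs) (by norm_num) (by norm_num) (m6' hK hφ cs _))
    (key (r11 cs) (by norm_num) (by norm_num) (m5 hK hφ cs _)))
    (key (r12 cs) (by norm_num) (by norm_num) (m3 hK hφ cs _)))
    (key (r13 cs) (by norm_num) (by norm_num) (m2 hK hφ cs _)))
    (key (r23 cs) (by norm_num) (by norm_num) (m4 hK hφ cs _))

theorem ι_Q2 {x : Sy φ} (hx : x ∈ Q2 φ) : ι hK hφ x ∈ VJ cs isCartan (XX φ q) {0} := by
  have e : x = u5 φ x.x5 * u3 φ x.x3 * u2 φ x.x2 * u4 φ x.x4 * u1 φ x.x1 := by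
    conv_lhs => rw [Sy.eq_prod x]
    rw [Sy.mem_Q2.1 hx]
    show (1 : Sy φ) * _ * _ * _ * _ * _ = _
    rw [one_mul]
  rw [e]
  simp only [map_mul]
  have key : ∀ {a b : ℤ} {y : ↥(twistedD4 K q)}, IsRoot cs isCartan (rt a b) → 0 ≤ a → 0 < b → y ∈ XX φ q (rt a b) →
      y ∈ VJ cs isCartan (XX φ q) {0} := fun h ha hb hy => RGD.le_Sup (S := NotJ cs isCartan {0}) (mem_Not0 cs h ha hb) hy
  exact mul_mem (mul_mem (mul_mem (mul_mem (key (r11 cs) (by norm_num) (by norm_num) (m5 hK hφ cs _))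
    (key (r12 cs) (by norm_num) (by norm_num) (m3 hK hφ cs _)))
    (key (r13 cs) (by norm_num) (by norm_num) (m2 hK hφ cs _)))
    (key (r23 cs) (by norm_num) (by norm_num) (m4 hK hφ cs _)))
    (key (r01 cs) (by norm_num) (by norm_num) (m1' hK hφ cs _))

theorem ι_U (x : Sy φ) : ι hK hφ x ∈ RGD.Sup (XX φ q) (RGD.Pos cs isCartan) := by
  have e : x = u6 φ x.x6 * (u5 φ x.x5 * u3 φ x.x3 * u2 φ x.x2 * u4 φ x.x4 * u1 φ x.x1) := by
    conv_lhs => rw [Sy.eq_prod x]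
    simp only [mul_assoc]
  rw [e, map_mul]
  refine mul_mem (VJ_le_U {1} (ι_Q1 hK hφ cs (Sy.u6_mem _))) (VJ_le_U {0} (ι_Q2 hK hφ cs ?_))
  exact mul_mem (mul_mem (mul_mem (mul_mem (Sy.Z4_le_Q2 (Sy.u5_mem _)) (Sy.Z4_le_Q2 (Sy.Z3_le_Z4 (Sy.u3_mem _))))
        (Sy.Z4_le_Q2 (Sy.Z3_le_Z4 (Sy.Z2_le_Z3 (Sy.u2_mem _)))))
        (Sy.Z4_le_Q2 (Sy.Z3_le_Z4 (Sy.Z2_le_Z3 (Sy.Z1_le_Z2 (Sy.u4_mem _)))))) (Sy.u1_mem _)

end RG

end Cfsg.Agent.H491.D4
end

-- part: H491/D4/Main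
section
/-!
# The fusion systems of `³D₄(q) ⋊ (field automorphisms)` (S5261, REAL)
-/

set_option autoImplicit false
set_option linter.unusedSectionVars false

namespace Cfsg.Agent.H491.D4

open Cfsg Cfsg.Lie Cfsg.FusionSystem Cfsg.Agent.H765.D3 Cfsg.Agent.H780.D4
open Cfsg.Agent.H765.D3.Sy (Q1 Q2 Z1 Z2 Z3 Z4 u1 u2 u3 u4 u5 u6)
open Cfsg.Agent.Hexagon.Pos Cfsg.Agent.Hexagon.PosOfRel Cfsg.Agent.Hexagon.TwD4Par Cfsg.Agent.Hexagon.TwD4Rel
open Cfsg.Agent.ChevalleyStructure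
open Cfsg.Agent.ChevalleyStructure.D4Comm (xG)
open Cfsg.Agent.ChevalleyStructure.D4Torus (tor)
open Cfsg.Agent.Hex.Defs (sh cr nm tr)
open CoxeterSystem Cfsg.Agent.ChevalleyStructure.CoxeterGeom Cfsg.Agent.Tits.Roots Cfsg.Agent.Tits.Core
  Cfsg.Agent.Tits.Exchange Cfsg.Agent.Nodes.Reps Cfsg.Agent.Nodes.BNOf Cfsg.Agent.Nodes.StabComb
  Cfsg.Agent.Nodes.Bruhat Cfsg.Agent.Nodes.OppDec Cfsg.Agent.Nodes.LeviDec
open Cfsg.Agent.KFacts.RgdOpp Cfsg.Agent.KFacts.RgdAut Cfsg.Agent.KFacts.RgdDiag Cfsg.Agent.KFacts.RgdRigid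
  Cfsg.Agent.KFacts.RgdEx
open Cfsg.Agent.Nodes.RGDTwD4 (A isCartan foldData hp)
open Cfsg.Agent.Nodes Cfsg.Agent.H491.FS
open Cfsg.Agent.H756.PU (NormAut AF)

universe u

section

variable {F K : Type u} [Field F] [Field K] [Algebra F K] {φ : K ≃ₐ[F] K} [Cub φ] [Fintype K] {q : ℕ}
  (hK : Fintype.card K = q ^ 3) (hφ : ∀ t, φ t = t ^ q)

/-- the Weyl group -/
abbrev W2 : Type := CoxeterMatrix.G₂.Group

/-- the Coxeter system -/
abbrev c2 : CoxeterSystem CoxeterMatrix.G₂ W2 := CoxeterMatrix.G₂.toCoxeterSystem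

instance finite_W2 : Finite W2 := Cfsg.Agent.Nodes.RGDFold.finite_W (hp := hp) c2 isCartan foldData

/-- `U` -/
noncomputable abbrev UU (φ : K ≃ₐ[F] K) (q : ℕ) : Subgroup ↥(twistedD4 K q) := RGD.Sup (XX φ q) (RGD.Pos c2 isCartan)

include hK hφ in
theorem G1top : RGD.Sup (XX φ q) {x | IsRoot c2 isCartan x} = ⊤ := RGDTwD4.G1_eq_top (φ := f0 φ) c2 hK hφ

include hK hφ in
theorem GGtop : GG c2 isCartan (RGDTwD4.T K q) (XX φ q) = ⊤ :=
  Cfsg.Agent.KFacts.RgdRigid.GG_eq_top (T := RGDTwD4.T K q) (G1top hK hφ)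

/-- the image is `U` -/
theorem range_eq {p n : ℕ} [Fact p.Prime] [CharP K p] (hn : 1 ≤ n) (hq : q = p ^ n) (hF : Nat.card F = q) :
    (ι hK hφ).range = UU φ q := by
  have hp' : p.Prime := Fact.out
  have hq' : IsPrimePow q := hq ▸ hp'.isPrimePow.pow (by omega)
  have hq1 : 1 < q := hq'.one_lt
  have : Finite F := finF F K
  have hcard : Nat.card (ι hK hφ).range = q ^ 12 := by
    rw [← Nat.card_congr (MonoidHom.ofInjective (ι_inj hK hφ)).toEquiv, Sy.card_eq, hF, Nat.card_eq_fintype_card, hK]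
    ring
  have hG := Cfsg.Agent.S1067.result (K := K) hq' hK
  have hpq : ∀ m, m ≠ 0 → p ∣ q ^ m := fun m hm => by
    rw [hq, ← pow_mul]
    exact dvd_pow_self p (Nat.mul_ne_zero (by omega) hm)
  have hidx : (ι hK hφ).range.index = (q ^ 2 - 1) * (q ^ 6 - 1) * (q ^ 8 + q ^ 4 + 1) := by
    have h1 := (ι hK hφ).range.card_mul_index
    rw [hcard, hG, mul_assoc, mul_assoc] at h1
    have h2 := Nat.eq_of_mul_eq_mul_left (pow_pos (by omega) 12) h1
    rw [h2, mul_assoc]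
  have hnd : ¬ p ∣ (ι hK hφ).range.index := by
    rw [hidx]
    intro h
    have hs : ∀ m, m ≠ 0 → ¬ p ∣ q ^ m - 1 := fun m hm h => by
      have h0 := hpq m hm
      have h1 : 1 ≤ q ^ m := Nat.one_le_pow _ _ (by omega)
      have : p ∣ 1 := by
        have := (Nat.dvd_add_right h).1 (by rw [Nat.sub_add_cancel h1]; exact h0)
        exact this
      exact hp'.one_lt.ne' (Nat.dvd_one.1 this)
    rcases (Nat.Prime.dvd_mul hp').1 h with h | h
    · rcases (Nat.Prime.dvd_mul hp').1 h with h | h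
      · exact hs 2 (by norm_num) h
      · exact hs 6 (by norm_num) h
    · have h1 : p ∣ 1 := (Nat.dvd_add_right (dvd_add (hpq 8 (by norm_num)) (hpq 4 (by norm_num)))).1 h
      exact hp'.one_lt.ne' (Nat.dvd_one.1 h1)
  have hle : (ι hK hφ).range ≤ UU φ q := by
    rintro _ ⟨x, rfl⟩
    exact ι_U hK hφ c2 x
  obtain ⟨P, hP⟩ := Cfsg.Agent.KFacts.RgdAutFacts.exists_sylow (rg (φ := φ) hK hφ c2 p) (GGtop hK hφ)
  have hP' : (P : Subgroup ↥(twistedD4 K q)) = UU φ q := hP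
  have hUp : IsPGroup p ↥(UU φ q) := by
    rw [← hP']
    exact P.2
  refine le_antisymm hle ?_
  rw [← Subgroup.relIndex_eq_one]
  by_contra hne
  obtain ⟨k, hk⟩ := hUp.index ((ι hK hφ).range.subgroupOf (UU φ q))
  have h1 : p ∣ (ι hK hφ).range.relIndex (UU φ q) := by
    have h2 : (ι hK hφ).range.relIndex (UU φ q) = p ^ k := hk
    rw [h2] at hne ⊢
    exact dvd_pow_self p (fun h => hne (by rw [h, pow_zero]))
  exact hnd (h1.trans ⟨_, (Subgroup.relIndex_mul_index hle).symm⟩)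

/-- the isomorphism -/
noncomputable def ee {p n : ℕ} [Fact p.Prime] [CharP K p] (hn : 1 ≤ n) (hq : q = p ^ n) (hF : Nat.card F = q) :
    Sy φ ≃* ↥(UU φ q) :=
  (MonoidHom.ofInjective (ι_inj hK hφ)).trans (MulEquiv.subgroupCongr (range_eq hK hφ hn hq hF))

/-- the positions of `Q1`, `Q2` -/
theorem mem_Q1_iff {p : ℕ} [Fact p.Prime] [CharP K p] (x : Sy φ) :
    x ∈ Q1 φ ↔ ι hK hφ x ∈ VJ c2 isCartan (XX φ q) {1} := by
  refine ⟨fun hx => ι_Q1 hK hφ c2 hx, fun hx => ?_⟩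
  have R := rg (φ := φ) hK hφ c2 p
  set y := u6 φ x.x6 * u5 φ x.x5 * u3 φ x.x3 * u2 φ x.x2 * u4 φ x.x4 with hy
  have e : x = y * u1 φ x.x1 := Sy.eq_prod x
  have hyQ : y ∈ Q1 φ := mul_mem (mul_mem (mul_mem (mul_mem (Sy.u6_mem _) (Sy.Z4_le_Q1 (Sy.u5_mem _)))
        (Sy.Z4_le_Q1 (Sy.Z3_le_Z4 (Sy.u3_mem _))))
        (Sy.Z4_le_Q1 (Sy.Z3_le_Z4 (Sy.Z2_le_Z3 (Sy.u2_mem _)))))
        (Sy.Z4_le_Q1 (Sy.Z3_le_Z4 (Sy.Z2_le_Z3 (Sy.Z1_le_Z2 (Sy.u4_mem _)))))
  have h1 : ι hK hφ (u1 φ x.x1) ∈ VJ c2 isCartan (XX φ q) {1} := by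
    have e2 : u1 φ x.x1 = y⁻¹ * x := by rw [eq_inv_mul_iff_mul_eq, ← e]
    rw [e2, map_mul]
    exact mul_mem (ι_Q1 hK hφ c2 (inv_mem hyQ)) hx
  have h2 := (Subgroup.mem_normalizer_iff.1 ((n_mem_norm_VJ R (i := 1) (j := 1)).2 rfl) _).1 h1
  have h3 := cj_mem hK hφ c2 (isRoot_sr c2 isCartan 1) (m1 hK hφ x.x1) 1
  rw [rep_simple_sr] at h3
  have h4 := neg_inf_U R h3 (VJ_le_U _ h2)
  have h5 : ι hK hφ (u1 φ x.x1) = ι hK hφ 1 := by
    rw [map_one]
    exact mul_eq_left.1 (mul_inv_eq_one.1 h4)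
  have h6 := ι_inj hK hφ h5
  exact congrArg Sy.x1 h6

theorem mem_Q2_iff {p : ℕ} [Fact p.Prime] [CharP K p] (x : Sy φ) :
    x ∈ Q2 φ ↔ ι hK hφ x ∈ VJ c2 isCartan (XX φ q) {0} := by
  refine ⟨fun hx => ι_Q2 hK hφ c2 hx, fun hx => ?_⟩
  have R := rg (φ := φ) hK hφ c2 p
  set y := u5 φ x.x5 * u3 φ x.x3 * u2 φ x.x2 * u4 φ x.x4 * u1 φ x.x1 with hy
  have e : x = u6 φ x.x6 * y := by
    conv_lhs => rw [Sy.eq_prod x]
    rw [hy]
    simp only [mul_assoc]
  have hyQ : y ∈ Q2 φ := mul_mem (mul_mem (mul_mem (mul_mem (Sy.Z4_le_Q2 (Sy.u5_mem _))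
        (Sy.Z4_le_Q2 (Sy.Z3_le_Z4 (Sy.u3_mem _))))
        (Sy.Z4_le_Q2 (Sy.Z3_le_Z4 (Sy.Z2_le_Z3 (Sy.u2_mem _)))))
        (Sy.Z4_le_Q2 (Sy.Z3_le_Z4 (Sy.Z2_le_Z3 (Sy.Z1_le_Z2 (Sy.u4_mem _)))))) (Sy.u1_mem _)
  have h1 : ι hK hφ (u6 φ x.x6) ∈ VJ c2 isCartan (XX φ q) {0} := by
    have e2 : u6 φ x.x6 = x * y⁻¹ := by rw [eq_mul_inv_iff_mul_eq, ← e]
    rw [e2, map_mul]
    exact mul_mem hx (ι_Q2 hK hφ c2 (inv_mem hyQ))
  have h2 := (Subgroup.mem_normalizer_iff.1 ((n_mem_norm_VJ R (i := 0) (j := 0)).2 rfl) _).1 h1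
  have h3 := cj_mem hK hφ c2 (isRoot_sr c2 isCartan 0) (m6 hK hφ x.x6) 0
  rw [rep_simple_sr] at h3
  have h4 := neg_inf_U R h3 (VJ_le_U _ h2)
  have h5 : ι hK hφ (u6 φ x.x6) = ι hK hφ 1 := by
    rw [map_one]
    exact mul_eq_left.1 (mul_inv_eq_one.1 h4)
  have h6 := ι_inj hK hφ h5
  exact congrArg Sy.x6 h6

/-! ### the torus -/

theorem X1_word (x : K) : X1 (φ : K ≃+* K) x = xG 18 x * (xG 13 (φ x) * xG 12 (φ (φ x))) := by
  rw [X1, w3_eq]
  rfl

theorem conj_char {t : ↥(twistedD4 K q)} {χ : Fin 4 → Kˣ} (h0 : tor χ = (t : GL chevD4.Idx K))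
    (h2 : χ 2 = Units.map (f0 φ : K →* K) (χ 0))
    (h3 : χ 3 = Units.map (f0 φ : K →* K) (Units.map (f0 φ : K →* K) (χ 0))) {b : F} (hb : algebraMap F K b = χ 1) :
    (∀ x, t * ι hK hφ (u1 φ x) * t⁻¹ = ι hK hφ (u1 φ ((χ 0 : K) * x))) ∧
      ∀ s, t * ι hK hφ (u6 φ s) * t⁻¹ = ι hK hφ (u6 φ (b * s)) := by
  have e2 : (χ 2 : K) = φ (χ 0) := by rw [h2]; rfl
  have e3 : (χ 3 : K) = φ (φ (χ 0)) := by rw [h3]; rfl
  constructor
  · intro x
    apply Subtype.ext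
    rw [Subgroup.coe_mul, Subgroup.coe_mul, Subgroup.coe_inv, ι_u1, ι_u1, ← h0, X1_word, X1_word, conj3,
      tor_conj χ (by norm_num), tor_conj χ (by norm_num), tor_conj χ (by norm_num), chi_18, chi_13, chi_12, e2, e3,
      map_mul, map_mul]
  · intro s
    apply Subtype.ext
    rw [Subgroup.coe_mul, Subgroup.coe_mul, Subgroup.coe_inv, ι_u6, ι_u6, ← h0, X6, X6, w1_eq, w1_eq,
      tor_conj χ (by norm_num), chi_14, map_mul, hb, mul_neg]

/-- the torus acts by characters -/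
theorem exists_ch {t : ↥(twistedD4 K q)} (ht : t ∈ RGDTwD4.T K q) : ∃ (a : K) (b : F), a ≠ 0 ∧ b ≠ 0 ∧
    (∀ x, t * ι hK hφ (u1 φ x) * t⁻¹ = ι hK hφ (u1 φ (a * x))) ∧
      ∀ s, t * ι hK hφ (u6 φ s) * t⁻¹ = ι hK hφ (u6 φ (b * s)) := by
  obtain ⟨χ, h0, h1, h2, h3⟩ := D4H1.exists_char (φ := f0 φ) hK hφ (g := (t : GL chevD4.Idx K)) ht
  obtain ⟨b, hb⟩ := exists_coe φ (t := (χ 1 : K)) h1
  obtain ⟨h4, h5⟩ := conj_char hK hφ h0 h2 h3 hb
  refine ⟨χ 0, b, (χ 0).ne_zero, ?_, h4, h5⟩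
  rintro rfl
  rw [map_zero] at hb
  exact (χ 1).ne_zero hb.symm

/-- all characters occur -/
theorem exists_tor (hq : IsPrimePow q) {a : K} {b : F} (ha : a ≠ 0) (hb : b ≠ 0) : ∃ t ∈ RGDTwD4.T K q,
    (∀ x, t * ι hK hφ (u1 φ x) * t⁻¹ = ι hK hφ (u1 φ (a * x))) ∧
      ∀ s, t * ι hK hφ (u6 φ s) * t⁻¹ = ι hK hφ (u6 φ (b * s)) := by
  classical
  choose χ hχ using fun g : ↥(chevD4.diagonalSubgroup K ⊓ twistedD4 K q) =>
    D4H1.exists_char (φ := f0 φ) hK hφ g.2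
  let f : ↥(chevD4.diagonalSubgroup K ⊓ twistedD4 K q) → Kˣ × {b : Kˣ // f0 φ b = b} :=
    fun g => (χ g 0, ⟨χ g 1, (hχ g).2.1⟩)
  have hf : Function.Injective f := by
    intro g g' h
    have h0 : χ g 0 = χ g' 0 := congrArg Prod.fst h
    have h1 : χ g 1 = χ g' 1 := congrArg (fun x => (Prod.snd x).1) h
    apply Subtype.ext
    rw [← (hχ g).1, ← (hχ g').1]
    congr 1
    funext i
    fin_cases i
    · exact h0
    · exact h1
    · show χ g 2 = χ g' 2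
      rw [(hχ g).2.2.1, (hχ g').2.2.1, h0]
    · show χ g 3 = χ g' 3
      rw [(hχ g).2.2.2, (hχ g').2.2.2, h0]
  have hcard : Nat.card (Kˣ × {b : Kˣ // f0 φ b = b}) = (q - 1) * (q ^ 3 - 1) := by
    rw [Nat.card_prod, D4H1.card_fixed hq.one_lt hK (φ := f0 φ) hφ, D4H1.natCard_units hK, mul_comm]
  have hbij := hf.bijective_of_nat_card_le (by rw [hcard, D4H1.card_H1 (φ := f0 φ) hq hK hφ])
  have hb' : algebraMap F K b ≠ 0 := fun h => hb ((map_eq_zero (algebraMap F K)).1 h)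
  obtain ⟨g, hg⟩ := hbij.2 (Units.mk0 a ha, ⟨Units.mk0 _ hb', φ.commutes b⟩)
  have h0 : χ g 0 = Units.mk0 a ha := congrArg Prod.fst hg
  have h1 : χ g 1 = Units.mk0 _ hb' := congrArg (fun x => (Prod.snd x).1) hg
  have hgT : (⟨(g : GL chevD4.Idx K), g.2.2⟩ : ↥(twistedD4 K q)) ∈ RGDTwD4.T K q := g.2
  refine ⟨⟨(g : GL chevD4.Idx K), g.2.2⟩, hgT, ?_⟩
  have h4 := conj_char hK hφ (t := ⟨(g : GL chevD4.Idx K), g.2.2⟩) (χ := χ g) (b := b) (hχ g).1 (hχ g).2.2.1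
    (hχ g).2.2.2 (by rw [h1]; rfl)
  rw [h0] at h4
  exact h4

/-! ### the field automorphisms -/

theorem glE (τ : K ≃+* K) (r : ℕ) (x : K) :
    Cfsg.Agent.ChevStructure.FieldMap.glEquiv chevD4 τ (xG r x) = xG r (τ x) := by
  rw [← RGDTwD4.xG_eq]
  exact CpAut.RgdTwStd.glE_xG hp.inList τ r x

theorem tau_phi (hφ : ∀ t, φ t = t ^ q) (τ : K ≃+* K) (x : K) : τ (φ x) = φ (τ x) := by rw [hφ, hφ, map_pow]

theorem st_u1 (τ : K ≃+* K) (x : K) : CpAut.RgdTwD4.st q τ (ι hK hφ (u1 φ x)) = ι hK hφ (u1 φ (τ x)) := by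
  apply Subtype.ext
  rw [ι_u1]
  show Cfsg.Agent.ChevStructure.FieldMap.glEquiv chevD4 τ (ι hK hφ (u1 φ x) : GL chevD4.Idx K) = _
  rw [ι_u1, X1_word, X1_word, map_mul, map_mul, glE, glE, glE, tau_phi hφ, tau_phi hφ, tau_phi hφ]

theorem st_u6 (τ : K ≃+* K) {ρ : F ≃+* F} (hτ : ∀ x : F, τ (algebraMap F K x) = algebraMap F K (ρ x)) (x : F) :
    CpAut.RgdTwD4.st q τ (ι hK hφ (u6 φ x)) = ι hK hφ (u6 φ (ρ x)) := by
  apply Subtype.ext
  rw [ι_u6]
  show Cfsg.Agent.ChevStructure.FieldMap.glEquiv chevD4 τ (ι hK hφ (u6 φ x) : GL chevD4.Idx K) = _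
  rw [ι_u6, X6, X6, w1_eq, w1_eq, glE, map_neg, hτ]

/-! ### the centralisers of the unipotent radicals -/

theorem hconn : ∀ J : Set (Fin 2), J.Nonempty → J ≠ Set.univ → ∃ a ∈ J, ∃ b, b ∉ J ∧ CoxeterMatrix.G₂ a b ≠ 2 := by
  intro J h1 h2
  obtain ⟨a, ha⟩ := h1
  obtain ⟨b, hb⟩ := (Set.ne_univ_iff_exists_notMem J).1 h2
  refine ⟨a, ha, b, hb, ?_⟩
  have hab : a ≠ b := fun h => hb (h ▸ ha)
  fin_cases a <;> fin_cases b
  · exact absurd rfl hab
  · show (6 : ℕ) ≠ 2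
    decide
  · show (6 : ℕ) ≠ 2
    decide
  · exact absurd rfl hab

include hK hφ in
theorem cent_le (hq : IsPrimePow q) (p : ℕ) [Fact p.Prime] [CharP K p] (i : Fin 2) :
    Subgroup.centralizer (VJ c2 isCartan (XX φ q) {i} : Set ↥(twistedD4 K q)) ≤ VJ c2 isCartan (XX φ q) {i} := by
  intro c hc
  have R := rg (φ := φ) hK hφ c2 p
  have hJ : ({i} : Set (Fin 2)) ≠ Set.univ := by
    intro h
    have h0 : (0 : Fin 2) ∈ ({i} : Set (Fin 2)) := h ▸ Set.mem_univ _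
    have h1 : (1 : Fin 2) ∈ ({i} : Set (Fin 2)) := h ▸ Set.mem_univ _
    exact absurd (h0.trans h1.symm) (by decide)
  obtain ⟨t, ht, v, hv, rfl, h1, -⟩ := Cfsg.Agent.KFacts.RgdVJ.cent_VJ R hconn hJ (c := c) (by
    rw [GGtop hK hφ]
    exact Subgroup.mem_top _) fun v hv => (Subgroup.mem_centralizer_iff.1 hc v hv).symm
  have ht1 : t ∈ Subgroup.center ↥(twistedD4 K q) := by
    have h2 : RGD.Sup (XX φ q) {x | IsRoot c2 isCartan x} ≤ Subgroup.centralizer {t} := by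
      refine RGD.Sup_le fun x hx u hu => ?_
      rw [Subgroup.mem_centralizer_singleton_iff]
      exact (h1 x hx u hu).symm
    rw [G1top hK hφ] at h2
    rw [Subgroup.mem_center_iff]
    intro g
    exact Subgroup.mem_centralizer_singleton_iff.1 (h2 (Subgroup.mem_top g))
  obtain ⟨hs, hnc⟩ := Cfsg.Agent.S1071.result (K := K) hq hK
  have hz : Subgroup.center ↥(twistedD4 K q) = ⊥ := by
    rcases (Subgroup.instNormalCenter (G := ↥(twistedD4 K q))).eq_bot_or_eq_top with h | h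
    · exact h
    · exfalso
      exact hnc ⟨⟨fun a b => (Subgroup.mem_center_iff.1 (h ▸ Subgroup.mem_top a : a ∈ Subgroup.center _) b).symm⟩⟩
  rw [hz, Subgroup.mem_bot] at ht1
  rw [ht1, one_mul]
  exact hv

end

/-! ### the result -/

section

variable {F K : Type u} [Field F] [Field K] [Algebra F K] {φ : K ≃ₐ[F] K} [Cub φ]

theorem IsTor.u1 {α : MulAut (Sy φ)} {s : K} {t : F} {τ : K ≃+* K} {ρ : F ≃+* F} (h : IsTor α s t τ ρ) (x : K) :
    α (u1 φ x) = Sy.u1 φ (s * τ x) := by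
  ext
  · rw [h.x1]; rfl
  · rw [h.x6]
    show t * ρ 0 = 0
    rw [map_zero, mul_zero]
  · rw [h.x5]
    show t • (s * τ 0) = 0
    rw [map_zero, mul_zero, smul_zero]
  · rw [h.x3]
    show t • (sh φ s * τ 0) = 0
    rw [map_zero, mul_zero, smul_zero]
  · rw [h.x2]
    show nm φ s * t * ρ 0 = 0
    rw [map_zero, mul_zero]
  · rw [h.x4]
    show nm φ s * t ^ 2 * ρ 0 = 0
    rw [map_zero, mul_zero]

theorem IsTor.u6 {α : MulAut (Sy φ)} {s : K} {t : F} {τ : K ≃+* K} {ρ : F ≃+* F} (h : IsTor α s t τ ρ) (x : F) :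
    α (u6 φ x) = Sy.u6 φ (t * ρ x) := by
  ext
  · rw [h.x1]
    show s * τ 0 = 0
    rw [map_zero, mul_zero]
  · rw [h.x6]; rfl
  · rw [h.x5]
    show t • (s * τ 0) = 0
    rw [map_zero, mul_zero, smul_zero]
  · rw [h.x3]
    show t • (sh φ s * τ 0) = 0
    rw [map_zero, mul_zero, smul_zero]
  · rw [h.x2]
    show nm φ s * t * ρ 0 = 0
    rw [map_zero, mul_zero]
  · rw [h.x4]
    show nm φ s * t ^ 2 * ρ 0 = 0
    rw [map_zero, mul_zero]

/-- **(REALD)**, from the existence of the automorphisms -/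
theorem stRealD_of (hG : StGrpD.{u}) : StRealD.{u} := by
  intro F K _ _ _ φ _ p n _ H D hD hDc hT
  have hfin := H.fin
  have hchar := H.char
  have : Fintype K := Fintype.ofFinite K
  have hp' : p.Prime := Fact.out
  have hcK : Fintype.card K = (p ^ n) ^ 3 := by rw [← Nat.card_eq_fintype_card, H.cardK]
  have hq : IsPrimePow (p ^ n) := hp'.isPrimePow.pow (by have := H.hn; omega)
  obtain ⟨-, -, hex, hTT, -, -⟩ := hG H
  have R := rg (φ := φ) hcK H.phi c2 p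
  have hj : ∀ f g : Sy φ →* ↥(twistedD4 K (p ^ n)), (∀ a, f (u1 φ a) = g (u1 φ a)) →
      (∀ u, f (u6 φ u) = g (u6 φ u)) → f = g := fun f g => hom_ext H.card H.cardK f g
  set e := ee hcK H.phi H.hn rfl H.card with he
  -- the extensions
  have hext : ∀ d ∈ D, ∃ α : MulAut ↥(twistedD4 K (p ^ n)), Diag (RGDTwD4.T K (p ^ n)) (XX φ (p ^ n)) α 1 ∧
      ∀ x, ((e (d x) : ↥(UU φ (p ^ n))) : ↥(twistedD4 K (p ^ n))) = α (e x) := by
    intro d hd
    obtain ⟨s, t, τ, ρ, h⟩ := hTT d (hD hd)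
    obtain ⟨g, hg, hg1, hg6⟩ := exists_tor hcK H.phi hq h.nes h.net
    refine ⟨MulAut.conj g * CpAut.RgdTwD4.st (p ^ n) τ, ?_, ?_⟩
    · have h2 := (diag_conj R hg).mul (CpAut.RgdTwD4.ntau_st (φ := f0 φ) H.phi hcK τ c2 p).diag
      rwa [one_mul] at h2
    · have h3 := hj ((ι hcK H.phi).comp d.toMonoidHom)
        ((MulAut.conj g * CpAut.RgdTwD4.st (p ^ n) τ).toMonoidHom.comp (ι hcK H.phi)) (fun a => ?_) (fun u => ?_)
      · intro x
        exact DFunLike.congr_fun h3 x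
      · show ι hcK H.phi (d (u1 φ a)) = g * CpAut.RgdTwD4.st (p ^ n) τ (ι hcK H.phi (u1 φ a)) * g⁻¹
        rw [IsTor.u1 h, st_u1, hg1]
      · show ι hcK H.phi (d (u6 φ u)) = g * CpAut.RgdTwD4.st (p ^ n) τ (ι hcK H.phi (u6 φ u)) * g⁻¹
        rw [IsTor.u6 h, st_u6 hcK H.phi τ h.res, hg6]
  have htor : ∀ t ∈ RGDTwD4.T K (p ^ n), ∃ d ∈ D, ∀ x,
      ((e (d x) : ↥(UU φ (p ^ n))) : ↥(twistedD4 K (p ^ n))) = t * e x * t⁻¹ := by
    intro t ht
    obtain ⟨a, b, ha, hb, h1, h6⟩ := exists_ch hcK H.phi ht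
    obtain ⟨α, hα⟩ := hex a b (RingEquiv.refl K) (RingEquiv.refl F) ha hb (fun _ => rfl)
    refine ⟨α, hT a b α hα, ?_⟩
    have h3 := hj ((ι hcK H.phi).comp α.toMonoidHom) ((MulAut.conj t).toMonoidHom.comp (ι hcK H.phi))
      (fun x => ?_) (fun u => ?_)
    · intro x
      exact DFunLike.congr_fun h3 x
    · show ι hcK H.phi (α (u1 φ x)) = t * ι hcK H.phi (u1 φ x) * t⁻¹
      rw [IsTor.u1 hα, h1]
      rfl
    · show ι hcK H.phi (α (u6 φ u)) = t * ι hcK H.phi (u6 φ u) * t⁻¹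
      rw [IsTor.u6 hα, h6]
      rfl
  obtain ⟨Fs, hF1, hF2, hF3, -, hF5⟩ := real_rgd R (G1top hcK H.phi) e D hDc hext htor
  refine ⟨Fs, hF1, hF2, hF3, ?_, ?_⟩
  · exact hF5 1 (cent_le hcK H.phi hq p 1) (Q1 φ) fun x => mem_Q1_iff (p := p) hcK H.phi x
  · exact hF5 0 (cent_le hcK H.phi hq p 0) (Q2 φ) fun x => mem_Q2_iff (p := p) hcK H.phi x

end

end Cfsg.Agent.H491.D4
end

private theorem dce_8510383910b4 : _root_.True := by
  try have : _root_.True := by simp only [_root_.Cfsg.Agent.H673.D4.aP.congr_simp]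
  try have : _root_.True := by simp only [_root_.Cfsg.Agent.H491.D4.ι.congr_simp]
  try have : _root_.True := by simp only [_root_.Cfsg.Agent.H673.D4.xG.congr_simp]
  try have : _root_.True := by simp only [_root_.Cfsg.Agent.H491.D4.ι.eq_1]
  try have : _root_.True := by simp only [_root_.Cfsg.Agent.Nodes.LeviDec.VJ.congr_simp]
  try have : _root_.True := by simp only [_root_.Cfsg.Agent.KFacts.RgdDiag.Diag.congr_simp]
  exact _root_.True.intro
end
end
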