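import Mathlib
import Cfsg.Agent.H205.TE.P2_m3
import Cfsg.Prelude.Def_EvenType
import Cfsg.Agent.H802.TE.Pre_m3
import Cfsg.Agent.H765.D3.Pos
import Cfsg.Agent.Schreier.Tools2
import Cfsg.Agent.Solvable.SZ
import Cfsg.Agent.Lib.FrattiniPGroup
import Cfsg.Agent.H756.PU.AsmGen
import Cfsg.Agent.H802.FusEss
import Cfsg.Agent.Solvable.SchurZassenhausConj
import Cfsg.Agent.H294.PU.Gen_m3
import Cfsg.Agent.H805.PU.Main_m3
import Cfsg.Agent.FastGrp
import Cfsg.Agent.Prune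
set_option linter.all false

section
prune_inst 0x7ffcacf9aeb8bddfdfff7e7faed8ddfc39905fffe4dff94bffe061ef0bdf03022dc123ad09e050fc0ea2421410a87843f97eceffe26bdc7ffffd5df45ffbee0fe5f7bd0851d68c340fbc0ff703f07f8e7f3fffffffffffffffffffffffffffbeffbfffffffff

-- part: H218/TE/Sq_mg
section
prune_inst 0x24200000002000000000000040001c46d200008000080000000108400480040004000020808000014000000400300068100000000000000000200000011801800000100000000000000000000000000000000000000000000000000000000000000000000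
set_option linter.all false
open scoped Cfsg.Agent.FastGrp

-- part: H218/TE/Sq
section
/-!
# `|A|² ≤ |M : C_M(A)| |M : C_M(B)|` and `|A|² ≤ |[M, A]| |[M, B]|` from S3083

`StSQ` is the statement S3083 in one universe. Main theorems `p2_gen`, `mod_p2`.
-/

set_option autoImplicit false
set_option linter.unusedSectionVars false
set_option linter.unusedVariables false

namespace Cfsg.Agent.H218.TE

open Cfsg.Agent.H218.Count Cfsg.Agent.H218.CountQ Cfsg.Agent.H218.Glob Cfsg.Agent.H218.Fus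

universe u

/-- S3083 -/
def StSQ : Prop :=
  ∀ {H : Type u} [Group H] [Finite H] (p : ℕ) [Fact p.Prime] (M : Subgroup H) (_ : Cfsg.IsStronglyPEmbedded p M)
    (T : Sylow p H) (V : Type u) [AddCommGroup V] [Module (ZMod p) V] [Finite V] (ρ : Representation (ZMod p) H V)
    (_ : Function.Injective ρ), Nat.card T ^ 2 ≤ Nat.card V

section Elem

variable {G : Type*} [Group G] [Finite G] {p : ℕ} [hp : Fact p.Prime] {X : Subgroup G}

theorem isPGroup_zpowers' {G : Type*} [Group G] {p : ℕ} {q : G} (hq : ∃ k, q ^ p ^ k = 1) :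
    IsPGroup p (Subgroup.zpowers q) := by
  obtain ⟨k, hk⟩ := hq
  rintro ⟨z, n, rfl⟩
  refine ⟨k, Subtype.ext ?_⟩
  show (q ^ n) ^ p ^ k = 1
  rw [← zpow_natCast, ← zpow_mul, mul_comm, zpow_mul, zpow_natCast, hk, one_zpow]

/-- a `p`-subgroup meeting `X` nontrivially is in `X` -/
theorem SE.pgroup_le (hX : SE p X) {P : Subgroup G} (hP : IsPGroup p P) {q : G} (hqP : q ∈ P) (hq : q ∈ X)
    (hq1 : q ≠ 1) : P ≤ X := by
  have hpow : ∀ x ∈ P, ∃ k, x ^ p ^ k = 1 := by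
    intro x hx
    obtain ⟨k, hk⟩ := hP ⟨x, hx⟩
    exact ⟨k, congrArg Subtype.val hk⟩
  have hnt : Nontrivial P := ⟨⟨⟨q, hqP⟩, 1, fun h' => hq1 (congrArg Subtype.val h')⟩⟩
  have hc := hP.center_nontrivial
  obtain ⟨⟨z, hz⟩, hz1⟩ := exists_ne (1 : Subgroup.center P)
  have hzc : ∀ s ∈ P, s * (z : G) = z * s := fun s hs =>
    congrArg Subtype.val (Subgroup.mem_center_iff.1 hz ⟨s, hs⟩)
  have hz1' : (z : G) ≠ 1 := fun h' => hz1 (Subtype.ext (Subtype.ext h'))
  have hzX : (z : G) ∈ X := hX.cent hq hq1 (hpow q hqP) (hzc q hqP).symm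
  intro s hs
  exact hX.cent hzX hz1' (hpow z z.2) (hzc s hs)

/-- a normal `p`-subgroup is trivial -/
theorem SE.normal_p (hX : SE p X) {q : G} (hq : q ∈ X) (hq1 : q ≠ 1) (hqp : ∃ k, q ^ p ^ k = 1)
    {K : Subgroup G} [hK : K.Normal] (hKp : IsPGroup p K) : K = ⊥ := by
  have hQ : IsPGroup p (Subgroup.zpowers q) := isPGroup_zpowers' hqp
  have hP : IsPGroup p (K ⊔ Subgroup.zpowers q : Subgroup G) := hKp.to_sup_of_normal_left hQ
  have h1 := SE.pgroup_le hX hP (Subgroup.mem_sup_right (Subgroup.mem_zpowers q)) hq hq1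
  obtain ⟨x, hx⟩ := hX.ne
  rw [eq_bot_iff]
  intro k hk
  rw [Subgroup.mem_bot]
  by_contra hk1
  obtain ⟨n, hn⟩ := hKp ⟨k, hk⟩
  exact hX.se k (h1 (Subgroup.mem_sup_left hk)) hk1 ⟨n, congrArg Subtype.val hn⟩ x hx
    (h1 (Subgroup.mem_sup_left (hK.conj_mem k hk x)))

/-- the prelude's notion from the elementwise one -/
theorem SE.toStrong (hX : SE p X) {q : G} (hq : q ∈ X) (hq1 : q ≠ 1) (hqp : ∃ k, q ^ p ^ k = 1) :
    Cfsg.IsStronglyPEmbedded p X := by
  apply Cfsg.Agent.EvenType.StrongP.of_inter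
  · obtain ⟨n, hn⟩ := hqp
    obtain ⟨i, hi, hi2⟩ := (Nat.dvd_prime_pow hp.out).1 (orderOf_dvd_of_pow_eq_one hn)
    have h1 : i ≠ 0 := by
      rintro rfl
      rw [pow_zero, orderOf_eq_one_iff] at hi2
      exact hq1 hi2
    exact (dvd_pow_self p h1).trans (hi2 ▸ Subgroup.orderOf_dvd_natCard _ hq)
  · obtain ⟨x, hx⟩ := hX.ne
    intro h
    exact hx (h ▸ Subgroup.mem_top x)
  · intro g hg hdvd
    obtain ⟨⟨y, hy⟩, hyp⟩ := exists_prime_orderOf_dvd_card' p hdvd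
    obtain ⟨hyX, z, hz, hzy⟩ := hy
    have hzy' : g * z * g⁻¹ = y := hzy
    have hyp1 : orderOf y = p := by
      rw [← hyp]
      exact (Subgroup.orderOf_mk y _).symm
    have hzp : orderOf z = p := by
      rw [← hyp1, ← hzy']
      exact (orderOf_injective (MulAut.conj g).toMonoidHom (MulAut.conj g).injective z).symm
    have hz1 : z ≠ 1 := by
      rintro rfl
      rw [orderOf_one] at hzp
      exact hp.out.one_lt.ne hzp
    refine hX.se z hz hz1 ⟨1, ?_⟩ g hg (hzy'.symm ▸ hyX)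
    rw [pow_one, ← hzp, pow_orderOf_eq_one]

end Elem

section Mod

variable {L : Type u} [Group L] [Finite L] {M : Type u} [AddCommGroup M] [Finite M] [DistribMulAction L M]
  {p : ℕ} [hp : Fact p.Prime] {Y : Subgroup L}

/-- the representation -/
def rep (p : ℕ) [Module (ZMod p) M] : Representation (ZMod p) L M where
  toFun g := (DistribSMul.toAddMonoidHom M g).toZModLinearMap p
  map_one' := by ext m; exact one_smul L m
  map_mul' x y := by ext m; exact mul_smul x y m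

theorem sq_le (hSQ : StSQ.{u}) (pM : ∀ m : M, p • m = 0) (hY : SE p Y) {q : L} (hq : q ∈ Y) (hq1 : q ≠ 1)
    (hqp : ∃ k, q ^ p ^ k = 1) (hf : ∀ g : L, (∀ m : M, g • m = m) → g = 1) {A : Subgroup L} (hA : IsPGroup p A) :
    Nat.card A ^ 2 ≤ Nat.card M := by
  let := AddCommGroup.zmodModule pM
  obtain ⟨T, hT⟩ := hA.exists_le_sylow
  have h1 := hSQ p Y (SE.toStrong hY hq hq1 hqp) T M (rep p) (by
    rw [injective_iff_map_eq_one]
    intro g hg
    exact hf g fun m => LinearMap.congr_fun hg m)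
  exact (Nat.pow_le_pow_left (Subgroup.card_le_of_le hT) 2).trans h1

omit [Finite L] [Finite M] hp in
theorem pow_smul_eq {k : L} {m : M} (h : k • (k • m - m) = k • m - m) (n : ℕ) :
    (k ^ n) • m = m + n • (k • m - m) := by
  induction n with
  | zero => simp
  | succ n ih =>
    have h2 : k • (n • (k • m - m)) = n • (k • m - m) := by rw [smul_comm, h]
    rw [pow_succ', mul_smul, ih, smul_add, h2, succ_nsmul]
    abel

omit [Finite L] [Finite M] hp in
theorem pow_eq_one_of (pM : ∀ m : M, p • m = 0) (hf : ∀ g : L, (∀ m : M, g • m = m) → g = 1) {k : L}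
    (h : ∀ m : M, k • (k • m - m) = k • m - m) : k ^ p = 1 := by
  apply hf
  intro m
  rw [pow_smul_eq (h m), pM, add_zero]

theorem sq_le_index (hSQ : StSQ.{u}) (pM : ∀ m : M, p • m = 0) (hY : SE p Y) {q : L} (hq : q ∈ Y) (hq1 : q ≠ 1)
    (hqp : ∃ k, q ^ p ^ k = 1) (hf : ∀ g : L, (∀ m : M, g • m = m) → g = 1) {A : Subgroup L} (hA : IsPGroup p A) :
    Nat.card A ^ 2 ≤ (fx M (⊤ : Subgroup L)).index := by
  classical
  set Z := fx M (⊤ : Subgroup L) with hZ
  let := quotAct (L := L) Z (fun l m hm => by rw [hm l (Subgroup.mem_top l)]; exact hm)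
  have hmk : ∀ (l : L) (m : M), l • (QuotientAddGroup.mk m : M ⧸ Z) = QuotientAddGroup.mk (l • m) := fun l m => rfl
  rw [AddSubgroup.index_eq_card]
  refine sq_le hSQ (M := M ⧸ Z) (Y := Y) ?_ hY hq hq1 hqp ?_ hA
  · intro x
    obtain ⟨m, rfl⟩ := QuotientAddGroup.mk_surjective x
    rw [← QuotientAddGroup.mk_nsmul, pM]; rfl
  · -- the kernel is a normal `p`-subgroup
    have hsub : ∀ k ∈ (MulAction.toPermHom L (M ⧸ Z)).ker, ∀ m : M, k • m - m ∈ Z := by
      intro k hk m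
      have h1 : k • (QuotientAddGroup.mk m : M ⧸ Z) = QuotientAddGroup.mk m :=
        Equiv.congr_fun (MonoidHom.mem_ker.1 hk) (QuotientAddGroup.mk m : M ⧸ Z)
      rw [hmk, QuotientAddGroup.eq] at h1
      have h2 := neg_mem h1
      have e : -(-(k • m) + m) = k • m - m := by abel
      rwa [e] at h2
    have hKp : IsPGroup p (MulAction.toPermHom L (M ⧸ Z)).ker := by
      rintro ⟨k, hk⟩
      refine ⟨1, Subtype.ext ?_⟩
      rw [pow_one]
      exact pow_eq_one_of pM hf fun m => hsub k hk m k (Subgroup.mem_top _)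
    have hK := SE.normal_p hY hq hq1 hqp hKp
    intro g hg
    have h1 : g ∈ (MulAction.toPermHom L (M ⧸ Z)).ker := by
      rw [MonoidHom.mem_ker]
      ext x
      exact hg x
    rwa [hK, Subgroup.mem_bot] at h1

/-- the action on an invariant subgroup -/
@[reducible] def subAct {L : Type*} [Group L] {M : Type*} [AddCommGroup M] [DistribMulAction L M] (Z : AddSubgroup M)
    (hZ : ∀ (l : L) (m : M), m ∈ Z → l • m ∈ Z) : DistribMulAction L Z where
  smul l m := ⟨l • (m : M), hZ l m m.2⟩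
  one_smul m := Subtype.ext (one_smul L (m : M))
  mul_smul x y m := Subtype.ext (mul_smul x y (m : M))
  smul_zero x := Subtype.ext (smul_zero x)
  smul_add x a b := Subtype.ext (smul_add x (a : M) (b : M))

theorem sq_le_comm (hSQ : StSQ.{u}) (pM : ∀ m : M, p • m = 0) (hY : SE p Y) {q : L} (hq : q ∈ Y) (hq1 : q ≠ 1)
    (hqp : ∃ k, q ^ p ^ k = 1) (hf : ∀ g : L, (∀ m : M, g • m = m) → g = 1) {A : Subgroup L} (hA : IsPGroup p A) :
    Nat.card A ^ 2 ≤ Nat.card (cm M (⊤ : Subgroup L)) := by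
  classical
  set Z := cm M (⊤ : Subgroup L) with hZ
  have hin : ∀ (l : L) (m : M), l • m - m ∈ Z := fun l m =>
    AddSubgroup.subset_closure ⟨l, Subgroup.mem_top l, m, rfl⟩
  let := subAct (L := L) Z (fun l m hm => by
    have h1 := add_mem (hin l m) hm
    rwa [sub_add_cancel] at h1)
  have hco : ∀ (l : L) (m : Z), ((l • m : Z) : M) = l • (m : M) := fun l m => rfl
  refine sq_le hSQ (M := Z) (Y := Y) ?_ hY hq hq1 hqp ?_ hA
  · intro x
    exact Subtype.ext (pM x)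
  · have hKp : IsPGroup p (MulAction.toPermHom L Z).ker := by
      rintro ⟨k, hk⟩
      refine ⟨1, Subtype.ext ?_⟩
      rw [pow_one]
      refine pow_eq_one_of pM hf fun m => ?_
      have h1 : k • (⟨k • m - m, hin k m⟩ : Z) = ⟨k • m - m, hin k m⟩ :=
        Equiv.congr_fun (MonoidHom.mem_ker.1 hk) (⟨k • m - m, hin k m⟩ : Z)
      exact congrArg Subtype.val h1
    have hK := SE.normal_p hY hq hq1 hqp hKp
    intro g hg
    have h1 : g ∈ (MulAction.toPermHom L Z).ker := by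
      rw [MonoidHom.mem_ker]
      ext x
      exact congrArg Subtype.val (hg x)
    rwa [hK, Subgroup.mem_bot] at h1

end Mod

section P2

variable {G : Type u} [Group G] [Finite G] {M : Type u} [AddCommGroup M] [Finite M] [DistribMulAction G M]
  {p : ℕ} [hp : Fact p.Prime] {X A B : Subgroup G}

theorem add_card_sup_le (N₁ N₂ : AddSubgroup M) :
    Nat.card (N₁ ⊔ N₂ : AddSubgroup M) ≤ Nat.card N₁ * Nat.card N₂ := by
  rw [← Nat.card_prod]
  refine Nat.card_le_card_of_surjective (fun x : N₁ × N₂ => (⟨(x.1 : M) + x.2,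
    AddSubgroup.add_mem_sup x.1.2 x.2.2⟩ : (N₁ ⊔ N₂ : AddSubgroup M))) ?_
  rintro ⟨y, hy⟩
  obtain ⟨a, ha, b, hb, rfl⟩ := AddSubgroup.mem_sup.1 hy
  exact ⟨(⟨a, ha⟩, ⟨b, hb⟩), rfl⟩

theorem card_cm_cj (x : G) (A : Subgroup G) : Nat.card (cm M (cj x A)) ≤ Nat.card (cm M A) := by
  have h1 : cm M (cj x A) ≤ (cm M A).map (DistribSMul.toAddMonoidHom M x) := by
    unfold cm
    rw [AddSubgroup.closure_le]
    rintro _ ⟨y, hy, m, rfl⟩
    rw [mem_cj] at hy
    refine ⟨(x⁻¹ * y * x) • (x⁻¹ • m) - x⁻¹ • m, AddSubgroup.subset_closure ⟨_, hy, _, rfl⟩, ?_⟩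
    show x • ((x⁻¹ * y * x) • (x⁻¹ • m) - x⁻¹ • m) = y • m - m
    rw [mul_smul, smul_inv_smul, mul_smul, smul_sub, smul_inv_smul, smul_inv_smul]
  refine (Nat.card_mono (Set.toFinite _) h1).trans ?_
  exact Nat.card_le_card_of_surjective (fun m : cm M A => (⟨x • (m : M), ⟨m, m.2, rfl⟩⟩ :
    (cm M A).map (DistribSMul.toAddMonoidHom M x))) (by
      rintro ⟨_, m, hm, rfl⟩
      exact ⟨⟨m, hm⟩, rfl⟩)

theorem cm_top (J : Subgroup G) : cm M (⊤ : Subgroup J) = cm M J := by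
  unfold cm
  congr 1
  ext x
  constructor
  · rintro ⟨a, -, m, rfl⟩
    exact ⟨a, a.2, m, rfl⟩
  · rintro ⟨a, ha, m, rfl⟩
    exact ⟨⟨a, ha⟩, Subgroup.mem_top _, m, rfl⟩

theorem cm_sup (A B : Subgroup G) : cm M (A ⊔ B) ≤ cm M A ⊔ cm M B := by
  set N := cm M A ⊔ cm M B with hN
  let C : Subgroup G := {
    carrier := {g | ∀ m : M, g • m - m ∈ N}
    one_mem' := fun m => by rw [one_smul, sub_self]; exact zero_mem _
    mul_mem' := by
      intro a b ha hb m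
      have h1 := add_mem (ha (b • m)) (hb m)
      have e : a • b • m - b • m + (b • m - m) = (a * b) • m - m := by rw [mul_smul]; abel
      rwa [e] at h1
    inv_mem' := by
      intro a ha m
      have h1 := neg_mem (ha (a⁻¹ • m))
      rw [smul_inv_smul] at h1
      have e : -(m - a⁻¹ • m) = a⁻¹ • m - m := by abel
      rwa [e] at h1 }
  have hC : A ⊔ B ≤ C := by
    refine sup_le ?_ ?_
    · intro a ha m
      exact AddSubgroup.mem_sup_left (AddSubgroup.subset_closure ⟨a, ha, m, rfl⟩)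
    · intro a ha m
      exact AddSubgroup.mem_sup_right (AddSubgroup.subset_closure ⟨a, ha, m, rfl⟩)
  show AddSubgroup.closure _ ≤ N
  rw [AddSubgroup.closure_le]
  rintro _ ⟨g, hg, m, rfl⟩
  exact hC hg m

/-- faithful case -/
theorem p2_faithful (hSQ : StSQ.{u}) (pM : ∀ m : M, p • m = 0) (hX : SE p X)
    (hf : ∀ g : G, (∀ m : M, g • m = m) → g = 1) (hAX : A ≤ X) (hBX : B ≤ X) (hA : IsPGroup p A)
    (hB : IsPGroup p B) (hB1 : B ≠ ⊥) :
    Nat.card A ^ 2 ≤ (fx M A).index * (fx M B).index ∧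
      Nat.card A ^ 2 ≤ Nat.card (cm M A) * Nat.card (cm M B) ∧ Nat.card A ^ 2 ≤ Nat.card M := by
  classical
  by_cases hA1 : A = ⊥
  · subst hA1
    rw [Subgroup.card_bot, one_pow]
    exact ⟨Nat.mul_pos (Nat.pos_of_ne_zero AddSubgroup.index_ne_zero_of_finite)
      (Nat.pos_of_ne_zero AddSubgroup.index_ne_zero_of_finite), Nat.mul_pos Nat.card_pos Nat.card_pos, Nat.card_pos⟩
  obtain ⟨x, hx⟩ := hX.ne
  obtain ⟨⟨a, ha⟩, ha1⟩ := Subgroup.ne_bot_iff_exists_ne_one.1 hA1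
  obtain ⟨⟨b, hb⟩, hb1⟩ := Subgroup.ne_bot_iff_exists_ne_one.1 hB1
  have ha1 : a ≠ 1 := fun h => ha1 (Subtype.ext h)
  have hb1 : b ≠ 1 := fun h => hb1 (Subtype.ext h)
  have hap : ∃ k, a ^ p ^ k = 1 := by
    obtain ⟨k, hk⟩ := hA ⟨a, ha⟩
    exact ⟨k, congrArg Subtype.val hk⟩
  have hbp : ∃ k, b ^ p ^ k = 1 := by
    obtain ⟨k, hk⟩ := hB ⟨b, hb⟩
    exact ⟨k, congrArg Subtype.val hk⟩
  have hx' : x⁻¹ ∉ X := fun h => hx (by have := inv_mem h; rwa [inv_inv] at this)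
  set J : Subgroup G := B ⊔ cj x A with hJ
  have hAJ : cj x A ≤ J := le_sup_right
  have hYse : SE p ((cj x X).subgroupOf J) := by
    refine ⟨⟨⟨b, Subgroup.mem_sup_left hb⟩, fun h => ?_⟩, ?_⟩
    · rw [Subgroup.mem_subgroupOf, mem_cj] at h
      have h1 := hX.se b (hBX hb) hb1 hbp x⁻¹ hx'
      rw [inv_inv] at h1
      exact h1 h
    · rintro q hq hq1 ⟨k, hk⟩ g hg hmem
      rw [Subgroup.mem_subgroupOf, mem_cj] at hq hg hmem
      refine hX.se _ hq ?_ ⟨k, ?_⟩ _ hg ?_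
      · intro h
        apply hq1
        apply Subtype.ext
        have h2 : x * (x⁻¹ * (q : G) * x) * x⁻¹ = 1 := by rw [h]; group
        have e : x * (x⁻¹ * (q : G) * x) * x⁻¹ = q := by group
        rw [e] at h2
        exact h2
      · have h2 : (q : G) ^ p ^ k = 1 := congrArg Subtype.val hk
        have h3 := conj_pow (i := p ^ k) (a := x⁻¹) (b := (q : G))
        rw [inv_inv] at h3
        rw [h3, h2]; group
      · have e : x⁻¹ * (g : G) * x * (x⁻¹ * (q : G) * x) * (x⁻¹ * (g : G) * x)⁻¹ =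
            x⁻¹ * ((g * q * g⁻¹ : J) : G) * x := by push_cast; group
        rw [e]; exact hmem
  set q : J := ⟨x * a * x⁻¹, hAJ (conj_mem_cj ha)⟩ with hq
  have hqY : q ∈ (cj x X).subgroupOf J := Subgroup.mem_subgroupOf.2 (conj_mem_cj (hAX ha))
  have hq1 : q ≠ 1 := by
    intro h
    apply ha1
    have h2 : x * a * x⁻¹ = 1 := congrArg Subtype.val h
    have h3 : x⁻¹ * (x * a * x⁻¹) * x = 1 := by rw [h2]; group
    have e : x⁻¹ * (x * a * x⁻¹) * x = a := by group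
    rwa [e] at h3
  have hqp : ∃ k, q ^ p ^ k = 1 := by
    obtain ⟨k, hk⟩ := hap
    refine ⟨k, Subtype.ext ?_⟩
    show (x * a * x⁻¹) ^ p ^ k = 1
    rw [conj_pow, hk]; group
  have hfJ : ∀ g : J, (∀ m : M, g • m = m) → g = 1 := fun g hg => Subtype.ext (hf g hg)
  have hAp : IsPGroup p ((cj x A).subgroupOf J) := (hA.map _).comap_subtype
  have hcard : Nat.card ((cj x A).subgroupOf J) = Nat.card A := by
    rw [Nat.card_congr (Subgroup.subgroupOfEquivOfLe hAJ).toEquiv, card_cj]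
  have h1 := sq_le_index hSQ (M := M) pM hYse hqY hq1 hqp hfJ hAp
  have h2 := sq_le_comm hSQ (M := M) pM hYse hqY hq1 hqp hfJ hAp
  rw [hcard, fx_top, hJ, fx_sup] at h1
  rw [hcard, cm_top, hJ] at h2
  refine ⟨h1.trans ?_, h2.trans ?_, sq_le hSQ pM hX (hBX hb) hb1 hbp hf hA⟩
  · calc (fx M B ⊓ fx M (cj x A)).index ≤ (fx M B).index * (fx M (cj x A)).index := AddSubgroup.index_inf_le
      _ = (fx M A).index * (fx M B).index := by rw [index_fx_cj, mul_comm]
  · calc Nat.card (cm M (B ⊔ cj x A)) ≤ Nat.card (cm M B ⊔ cm M (cj x A) : AddSubgroup M) :=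
          Nat.card_mono (Set.toFinite _) (cm_sup _ _)
      _ ≤ Nat.card (cm M B) * Nat.card (cm M (cj x A)) := add_card_sup_le _ _
      _ ≤ Nat.card (cm M B) * Nat.card (cm M A) := Nat.mul_le_mul_left _ (card_cm_cj x A)
      _ = _ := mul_comm _ _

/-- kernel inside `X`, nontrivial `p`-elements act nontrivially -/
theorem p2_gen (hSQ : StSQ.{u}) (pM : ∀ m : M, p • m = 0) (hX : SE p X)
    (hf : ∀ g : G, (∀ m : M, g • m = m) → (∃ k, g ^ p ^ k = 1) → g = 1)
    (hK : ∀ g : G, (∀ m : M, g • m = m) → g ∈ X) (hAX : A ≤ X) (hBX : B ≤ X) (hA : IsPGroup p A)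
    (hB : IsPGroup p B) (hB1 : B ≠ ⊥) :
    Nat.card A ^ 2 ≤ (fx M A).index * (fx M B).index ∧
      Nat.card A ^ 2 ≤ Nat.card (cm M A) * Nat.card (cm M B) ∧ Nat.card A ^ 2 ≤ Nat.card M := by
  classical
  set f : G →* Equiv.Perm M := MulAction.toPermHom G M with hfdef
  let := rangeAct G M
  let φ : G →* f.range := f.rangeRestrict
  have hφ : Function.Surjective φ := f.rangeRestrict_surjective
  have hfin : Finite f.range := Finite.of_surjective φ hφ
  have hact : ∀ (g : G) (m : M), (φ g) • m = g • m := fun g m => rfl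
  have hker : ∀ g : G, φ g = 1 → ∀ m : M, g • m = m := by
    intro g hg m
    rw [← hact, hg, one_smul]
  have hKX : φ.ker ≤ X := fun g hg => hK g (hker g hg)
  have hfx : ∀ C : Subgroup G, fx M (C.map φ) = fx M C := by
    intro C
    ext m
    constructor
    · intro h a ha
      rw [← hact]
      exact h _ ⟨a, ha, rfl⟩
    · rintro h _ ⟨a, ha, rfl⟩
      rw [hact]
      exact h a ha
  have hcm : ∀ C : Subgroup G, cm M (C.map φ) = cm M C := by
    intro C
    unfold cm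
    congr 1
    ext x
    constructor
    · rintro ⟨_, ⟨a, ha, rfl⟩, u, rfl⟩
      exact ⟨a, ha, u, by rw [hact]⟩
    · rintro ⟨a, ha, u, rfl⟩
      exact ⟨φ a, ⟨a, ha, rfl⟩, u, by rw [hact]⟩
  have hinj : ∀ C : Subgroup G, IsPGroup p C → ∀ a ∈ C, φ a = 1 → a = 1 := by
    intro C hC a ha ha1
    obtain ⟨k, hk⟩ := hC ⟨a, ha⟩
    exact hf a (hker a ha1) ⟨k, congrArg Subtype.val hk⟩
  have hcard : Nat.card A ≤ Nat.card (A.map φ) := by
    refine Nat.card_le_card_of_injective (fun a : A => (⟨φ a, ⟨a, a.2, rfl⟩⟩ : A.map φ)) ?_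
    intro a b hab
    have h4 : φ (a : G) = φ (b : G) := congrArg Subtype.val hab
    have h5 := hinj A hA _ (mul_mem a.2 (inv_mem b.2)) (by rw [map_mul, map_inv, h4, mul_inv_cancel])
    exact Subtype.ext (mul_inv_eq_one.1 h5)
  have h1 := p2_faithful hSQ (M := M) (A := A.map φ) (B := B.map φ) pM (hX.map hφ hKX) (by
    intro g hg
    apply Subtype.ext
    ext m
    exact hg m) (Subgroup.map_mono hAX) (Subgroup.map_mono hBX) (hA.map φ) (hB.map φ) (by
    intro h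
    apply hB1
    rw [eq_bot_iff]
    intro b hb
    rw [Subgroup.mem_bot]
    refine hinj B hB b hb ?_
    have h2 : φ b ∈ B.map φ := ⟨b, hb, rfl⟩
    rwa [h, Subgroup.mem_bot] at h2)
  rw [hfx, hfx, hcm, hcm] at h1
  exact ⟨(Nat.pow_le_pow_left hcard 2).trans h1.1, (Nat.pow_le_pow_left hcard 2).trans h1.2.1,
    (Nat.pow_le_pow_left hcard 2).trans h1.2.2⟩

variable {I : Subgroup G}

/-- modulo a normal `p`-subgroup `I` acting trivially -/
theorem mod_p2 (hSQ : StSQ.{u}) [I.Normal] (pM : ∀ m : M, p • m = 0) (hX : SEm p I X) (hIp : IsPGroup p I)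
    (hI : ∀ g ∈ I, ∀ m : M, g • m = m)
    (hf : ∀ g : G, (∀ m : M, g • m = m) → (∃ k, g ^ p ^ k = 1) → g ∈ I)
    (hK : ∀ g : G, (∀ m : M, g • m = m) → g ∈ X) (hAX : A ≤ X) (hBX : B ≤ X) (hA : IsPGroup p A)
    (hB : IsPGroup p B) (hB1 : ¬ B ≤ I) :
    (I.relIndex A) ^ 2 ≤ (fx M A).index * (fx M B).index ∧
      (I.relIndex A) ^ 2 ≤ Nat.card (cm M A) * Nat.card (cm M B) ∧ (I.relIndex A) ^ 2 ≤ Nat.card M := by
  classical
  let := modAct M I hI
  let φ : G →* G ⧸ I := QuotientGroup.mk' I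
  have hact : ∀ (g : G) (m : M), (φ g) • m = g • m := fun g m => rfl
  have hSE := hX.quot
  have hfx : ∀ C : Subgroup G, fx M (C.map φ) = fx M C := by
    intro C
    ext m
    constructor
    · intro h a ha
      rw [← hact]
      exact h _ ⟨a, ha, rfl⟩
    · rintro h _ ⟨a, ha, rfl⟩
      rw [hact]
      exact h a ha
  have hcm : ∀ C : Subgroup G, cm M (C.map φ) = cm M C := by
    intro C
    unfold cm
    congr 1
    ext x
    constructor
    · rintro ⟨_, ⟨a, ha, rfl⟩, u, rfl⟩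
      exact ⟨a, ha, u, by rw [hact]⟩
    · rintro ⟨a, ha, u, rfl⟩
      exact ⟨φ a, ⟨a, ha, rfl⟩, u, by rw [hact]⟩
  have hcard : I.relIndex A = Nat.card (A.map φ) := by
    have h1 := Subgroup.relIndex_ker (K := A) φ
    rwa [QuotientGroup.ker_mk'] at h1
  have h1 := p2_gen hSQ (M := M) (A := A.map φ) (B := B.map φ) pM hSE (by
    intro x hx hxp
    obtain ⟨g₀, rfl⟩ := QuotientGroup.mk'_surjective I x
    obtain ⟨g, -, hg, hgp⟩ := exists_lift (X := ⊤) φ (q₀ := g₀) (Subgroup.mem_top _) hxp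
    have h1 : g ∈ I := hf g (fun m => by
      have h2 := hx m
      change φ g₀ • m = m at h2
      rw [← hg] at h2
      exact h2) hgp
    change φ g₀ = 1
    rw [← hg]
    exact (QuotientGroup.eq_one_iff g).2 h1) (by
    intro x hx
    obtain ⟨g, rfl⟩ := QuotientGroup.mk'_surjective I x
    exact ⟨g, hK g hx, rfl⟩) (Subgroup.map_mono hAX) (Subgroup.map_mono hBX) (hA.map φ) (hB.map φ) (by
    intro h
    apply hB1
    intro b hb
    have h2 : φ b ∈ B.map φ := ⟨b, hb, rfl⟩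
    rw [h, Subgroup.mem_bot] at h2
    exact (QuotientGroup.eq_one_iff b).1 h2)
  rw [hfx, hfx, hcm, hcm, ← hcard] at h1
  exact h1

/-- the kernel is inside `X` when there is a big elementary abelian subgroup -/
theorem mod_kernel_le [I.Normal] (hX : SEm p I X) (hI : ∀ g ∈ I, ∀ m : M, g • m = m)
    (hf : ∀ g : G, (∀ m : M, g • m = m) → (∃ k, g ^ p ^ k = 1) → g ∈ I) {A₀ : Subgroup G} (hAX : A₀ ≤ X)
    (hAc : ∀ a ∈ A₀, ∀ b ∈ A₀, a * b * a⁻¹ * b⁻¹ ∈ I) (hAp : ∀ a ∈ A₀, a ^ p ∈ I) (hcard : p < I.relIndex A₀) :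
    ∀ g : G, (∀ m : M, g • m = m) → g ∈ X := by
  classical
  let φ : G →* G ⧸ I := QuotientGroup.mk' I
  have hSE := hX.quot
  -- the image of the kernel
  let K : Subgroup G := (MulAction.toPermHom G M).ker
  have hKm : ∀ g : G, g ∈ K ↔ ∀ m : M, g • m = m := by
    intro g
    rw [MonoidHom.mem_ker]
    constructor
    · intro h m
      exact Equiv.congr_fun h m
    · intro h
      ext m
      exact h m
  have hAc' : ∀ a ∈ A₀.map φ, ∀ b ∈ A₀.map φ, a * b = b * a := by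
    rintro _ ⟨a, ha, rfl⟩ _ ⟨b, hb, rfl⟩
    have h1 : φ (a * b * a⁻¹ * b⁻¹) = 1 := (QuotientGroup.eq_one_iff _).2 (hAc a ha b hb)
    rw [map_mul, map_mul, map_mul, map_inv, map_inv, mul_inv_eq_one, mul_inv_eq_iff_eq_mul] at h1
    exact h1
  have hAp' : ∀ a ∈ A₀.map φ, a ^ p = 1 := by
    rintro _ ⟨a, ha, rfl⟩
    rw [← map_pow]
    exact (QuotientGroup.eq_one_iff _).2 (hAp a ha)
  have hcard' : I.relIndex A₀ = Nat.card (A₀.map φ) := by
    have h1 := Subgroup.relIndex_ker (K := A₀) φ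
    rwa [QuotientGroup.ker_mk'] at h1
  have hcy : ¬ IsCyclic (A₀.map φ) := by
    intro hcy
    obtain ⟨a, ha⟩ := hcy.exists_generator
    have h1 : orderOf a = Nat.card (A₀.map φ) := orderOf_eq_card_of_forall_mem_zpowers ha
    have h2 : orderOf a ∣ p := orderOf_dvd_of_pow_eq_one (Subtype.ext (by simpa only [_root_.SubmonoidClass.coe_pow, _root_.OneMemClass.coe_one] using hAp' a a.2))
    have h3 := Nat.le_of_dvd hp.out.pos h2
    rw [h1, ← hcard'] at h3
    omega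
  have hKn : (K.map φ).Normal := (inferInstance : K.Normal).map φ (QuotientGroup.mk'_surjective I)
  have hle : K.map φ ≤ X.map φ := by
    refine hSE.normal_le (Subgroup.map_mono hAX) hAc' hAp' hcy ?_ ?_
    · intro a _
      rw [Subgroup.normalizer_eq_top (K.map φ)]
      trivial
    · intro hdvd
      obtain ⟨⟨x, g₀, hg₀, hgx⟩, hxp⟩ := exists_prime_orderOf_dvd_card' p hdvd
      have h1 : orderOf x = p := by rw [← hxp]; exact (Subgroup.orderOf_mk x _).symm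
      have h2 : ∃ k, (φ g₀) ^ p ^ k = 1 := ⟨1, by rw [pow_one, hgx, ← h1, pow_orderOf_eq_one]⟩
      obtain ⟨g, hgK, hg, hgp⟩ := exists_lift (X := K) φ hg₀ h2
      have h3 : g ∈ I := hf g ((hKm g).1 hgK) hgp
      have h4 : φ g = 1 := (QuotientGroup.eq_one_iff g).2 h3
      rw [hg, hgx] at h4
      rw [h4, orderOf_one] at h1
      exact hp.out.one_lt.ne h1
  intro g hg
  have h1 : φ g ∈ X.map φ := hle ⟨g, (hKm g).2 hg, rfl⟩
  exact mem_of_map (by rw [QuotientGroup.ker_mk']; exact hX.le) h1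

/-- `|M : C_M(b)| = |[M, b]|` -/
theorem card_cm_zpowers (b : G) : Nat.card (cm M (Subgroup.zpowers b)) = (fx M (Subgroup.zpowers b)).index := by
  have h1 : cm M (Subgroup.zpowers b) = (del M b).range := by
    apply le_antisymm
    · unfold cm
      rw [AddSubgroup.closure_le]
      rintro _ ⟨c, hc, m, rfl⟩
      -- the set of `c` with `c • m - m ∈ range` for all `m`
      let C : Subgroup G := {
        carrier := {g | ∀ m : M, g • m - m ∈ (del M b).range}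
        one_mem' := fun m => by rw [one_smul, sub_self]; exact zero_mem _
        mul_mem' := by
          intro a b ha hb m
          have h1 := add_mem (ha (b • m)) (hb m)
          have e : a • b • m - b • m + (b • m - m) = (a * b) • m - m := by rw [mul_smul]; abel
          rwa [e] at h1
        inv_mem' := by
          intro a ha m
          have h1 := neg_mem (ha (a⁻¹ • m))
          rw [smul_inv_smul] at h1
          have e : -(m - a⁻¹ • m) = a⁻¹ • m - m := by abel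
          rwa [e] at h1 }
      have h2 : Subgroup.zpowers b ≤ C := (Subgroup.zpowers_le).2 fun m => ⟨m, rfl⟩
      exact h2 hc m
    · rintro _ ⟨m, rfl⟩
      exact AddSubgroup.subset_closure ⟨b, Subgroup.mem_zpowers b, m, rfl⟩
  have h2 : fx M (Subgroup.zpowers b) = (del M b).ker := by
    ext m
    rw [AddMonoidHom.mem_ker, del_apply, sub_eq_zero]
    constructor
    · intro h; exact h b (Subgroup.mem_zpowers b)
    · intro h
      have h3 : Subgroup.zpowers b ≤ MulAction.stabilizer G m := (Subgroup.zpowers_le).2 h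
      exact fun c hc => h3 hc
  rw [h1, h2]
  exact (AddSubgroup.index_ker _).symm

end P2

end Cfsg.Agent.H218.TE
end

-- part: H765/D4/Grp
section
/-!
# S5261: `StGrpD` (orders, torus and field automorphisms, Weyl elements)
-/

set_option autoImplicit false
set_option linter.unusedSectionVars false

namespace Cfsg.Agent.H765.D4

open Cfsg Cfsg.Agent.H765.D3 Cfsg.Agent.H780.D4
open Cfsg.Agent.H765.D3.Sy (Q1 Q2 Z1 Z2 Z3 Z4 mem_Q1 mem_Q2 mul_x1 mul_x2 mul_x3 mul_x4 mul_x5 mul_x6)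
open Cfsg.Agent.Hex.Defs (sh cr nm tr)

universe u

section

variable {F K : Type u} [Field F] [Field K] [Algebra F K] {φ : K ≃ₐ[F] K}

theorem finF {p n : ℕ} (h : HypD φ p n) : Finite F :=
  Nat.finite_of_card_ne_zero (by rw [h.card]; exact pow_ne_zero _ h.pp.ne_zero)

variable [Cub φ]

theorem card_Sy {p n : ℕ} (h : HypD φ p n) : Nat.card (Sy φ) = (p ^ n) ^ 12 := by
  have := h.fin
  have := finF h
  rw [Sy.card_eq, h.card, h.cardK]
  ring

theorem isPGroup {p n : ℕ} (h : HypD φ p n) : IsPGroup p (⊤ : Subgroup (Sy φ)) :=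
  IsPGroup.of_card (n := n * 12) (by rw [Subgroup.card_top, card_Sy h, ← pow_mul])

/-- the field automorphism as an element of `Gal φ` -/
def galOf {p n : ℕ} (h : HypD φ p n) (τ : K ≃+* K) (ρ : F ≃+* F)
    (hr : ∀ x : F, τ (algebraMap F K x) = algebraMap F K (ρ x)) : Gal φ where
  τ := τ
  ρ := ρ
  res s := (hr s).symm
  comm t := by rw [h.phi, h.phi, map_pow]

/-- `stdAut` is a torus element -/
theorem isTor_stdAut (l : Kˣ) (m : Fˣ) (g : Gal φ) :
    IsTor (stdAut l m g : MulAut (Sy φ)) (l : K) (m : F) g.τ g.ρ where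
  nes := l.ne_zero
  net := m.ne_zero
  res x := (g.res x).symm
  x1 _ := rfl
  x6 _ := rfl
  x5 _ := rfl
  x3 _ := rfl
  x2 y := by rw [stdAut_x2]; ring
  x4 y := by rw [stdAut_x4]; ring

theorem exists_isTor {p n : ℕ} (h : HypD φ p n) (s : K) (t : F) (τ : K ≃+* K) (ρ : F ≃+* F) (hs : s ≠ 0)
    (ht : t ≠ 0) (hr : ∀ x : F, τ (algebraMap F K x) = algebraMap F K (ρ x)) :
    ∃ α : MulAut (Sy φ), IsTor α s t τ ρ :=
  ⟨stdAut (Units.mk0 s hs) (Units.mk0 t ht) (galOf h τ ρ hr), isTor_stdAut _ _ _⟩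

/-- a torus element is a standard automorphism -/
theorem eq_std {p n : ℕ} (h : HypD φ p n) {α : MulAut (Sy φ)} {s : K} {t : F} {τ : K ≃+* K} {ρ : F ≃+* F}
    (hα : IsTor α s t τ ρ) :
    α = stdAut (Units.mk0 s hα.nes) (Units.mk0 t hα.net) (galOf h τ ρ hα.res) := by
  apply MulEquiv.ext
  intro g
  ext
  · rw [hα.x1]; rfl
  · rw [hα.x6]; rfl
  · rw [hα.x5]; rfl
  · rw [hα.x3]; rfl
  · rw [hα.x2, stdAut_x2]
    change _ = t * nm φ s * ρ g.x2
    ring
  · rw [hα.x4, stdAut_x4]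
    change _ = t ^ 2 * nm φ s * ρ g.x4
    ring

theorem mem_TT {p n : ℕ} (h : HypD φ p n) {α : MulAut (Sy φ)} :
    α ∈ TT φ ↔ ∃ s t τ ρ, IsTor α s t τ ρ := by
  constructor
  · intro hα
    have key : ∀ α ∈ TT φ, ∃ (l : Kˣ) (m : Fˣ) (g : Gal φ), α = stdAut l m g := by
      intro α hα
      unfold TT at hα
      induction hα using Subgroup.closure_induction with
      | mem x hx =>
        obtain ⟨s, t, τ, ρ, hx⟩ := hx
        exact ⟨_, _, _, eq_std h hx⟩
      | one => exact ⟨1, 1, Gal.id φ, by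
          apply MulEquiv.ext
          intro x
          exact (stdFun_one (Gal.id φ) (fun _ => rfl) (fun _ => rfl) x).symm⟩
      | mul x y _ _ hx hy =>
        obtain ⟨l, m, g, rfl⟩ := hx
        obtain ⟨l', m', g', rfl⟩ := hy
        refine ⟨l * Units.map g.τ.toMonoidHom l', m * Units.map g.ρ.toMonoidHom m', g'.trans g, ?_⟩
        apply MulEquiv.ext
        intro x
        exact stdFun_comp _ _ _ _ _ _ _
      | inv x _ hx =>
        obtain ⟨l, m, g, rfl⟩ := hx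
        refine ⟨Units.map g.τ.symm.toMonoidHom l⁻¹, Units.map g.ρ.symm.toMonoidHom m⁻¹, g.symm, ?_⟩
        apply MulEquiv.ext
        intro x
        rfl
    obtain ⟨l, m, g, rfl⟩ := key α hα
    exact ⟨_, _, _, _, isTor_stdAut l m g⟩
  · intro hα
    exact Subgroup.subset_closure hα

/-! ### The Weyl elements -/

/-- the map `w1` -/
noncomputable def w1Fun (φ : K ≃ₐ[F] K) (e : Sy φ) : Sy φ where
  x1 := 0
  x6 := -e.x2
  x5 := e.x3
  x3 := -e.x5
  x2 := e.x6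
  x4 := e.x4 + e.x2 * e.x6 - tr φ (e.x3 * e.x5)

theorem w1Fun_mul {x y : Sy φ} (hx : x.x1 = 0) (hy : y.x1 = 0) :
    w1Fun φ (x * y) = w1Fun φ x * w1Fun φ y := by
  ext
  · simp only [w1Fun, Sy.mul_def]; ring
  · simp only [w1Fun, Sy.mul_def, hx, hy]
    apply (algebraMap F K).injective
    cub
  · simp only [w1Fun, Sy.mul_def, hx, hy]; cub
  · simp only [w1Fun, Sy.mul_def, hx, hy]; cub
  · simp only [w1Fun, Sy.mul_def, hx, hy]
    apply (algebraMap F K).injective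
    cub
  · simp only [w1Fun, Sy.mul_def, hx, hy]
    apply (algebraMap F K).injective
    cub

/-- the map `w2` -/
noncomputable def w2Fun (φ : K ≃ₐ[F] K) (e : Sy φ) : Sy φ where
  x1 := -e.x5
  x6 := 0
  x5 := e.x1
  x3 := e.x3 - cr φ e.x1 e.x5
  x2 := e.x4 - tr φ (e.x3 * e.x5) + tr φ (e.x1 * sh φ e.x5)
  x4 := -e.x2 + tr φ (e.x1 * e.x3) - tr φ (sh φ e.x1 * e.x5)

theorem w2Fun_mul {x y : Sy φ} (hx : x.x6 = 0) (hy : y.x6 = 0) :
    w2Fun φ (x * y) = w2Fun φ x * w2Fun φ y := by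
  ext
  · simp only [w2Fun, Sy.mul_def, hx, hy]; cub
  · simp only [w2Fun, Sy.mul_def]; ring
  · simp only [w2Fun, Sy.mul_def, hx, hy]; cub
  · simp only [w2Fun, Sy.mul_def, hx, hy]; cub
  · simp only [w2Fun, Sy.mul_def, hx, hy]
    apply (algebraMap F K).injective
    cub
  · simp only [w2Fun, Sy.mul_def, hx, hy]
    apply (algebraMap F K).injective
    cub

theorem exists_w1 [Finite K] [Finite F] : ∃ γ : MulAut (Q1 φ), IsW1 γ := by
  let f : Q1 φ →* Q1 φ := MonoidHom.mk' (fun e => ⟨w1Fun φ e, rfl⟩) (fun x y =>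
    (Subtype.ext (w1Fun_mul (mem_Q1.1 x.2) (mem_Q1.1 y.2)) : _))
  have hf : ∀ e : Q1 φ, ((f e : Q1 φ) : Sy φ) = w1Fun φ e := fun _ => rfl
  have hinj : Function.Injective f := by
    intro x y h
    have h0 : w1Fun φ (x : Sy φ) = w1Fun φ (y : Sy φ) := congrArg Subtype.val h
    have h6 : (x : Sy φ).x6 = (y : Sy φ).x6 := congrArg Sy.x2 h0
    have h2 : (x : Sy φ).x2 = (y : Sy φ).x2 := neg_injective (congrArg Sy.x6 h0)
    have h3 : (x : Sy φ).x3 = (y : Sy φ).x3 := congrArg Sy.x5 h0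
    have h5 : (x : Sy φ).x5 = (y : Sy φ).x5 := neg_injective (congrArg Sy.x3 h0)
    have h4 := congrArg Sy.x4 h0
    simp only [w1Fun] at h4
    rw [h6, h2, h3, h5] at h4
    apply Subtype.ext
    ext
    · exact (mem_Q1.1 x.2).trans (mem_Q1.1 y.2).symm
    · exact h6
    · exact h5
    · exact h3
    · exact h2
    · linear_combination h4
  exact ⟨MulEquiv.ofBijective f (Finite.injective_iff_bijective.1 hinj),
    ⟨fun _ => rfl, fun _ => rfl, fun _ => rfl, fun _ => rfl, fun _ => rfl⟩⟩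

theorem exists_w2 [Finite K] [Finite F] : ∃ γ : MulAut (Q2 φ), IsW2 γ := by
  let f : Q2 φ →* Q2 φ := MonoidHom.mk' (fun e => ⟨w2Fun φ e, rfl⟩) (fun x y =>
    (Subtype.ext (w2Fun_mul (mem_Q2.1 x.2) (mem_Q2.1 y.2)) : _))
  have hinj : Function.Injective f := by
    intro x y h
    have h0 : w2Fun φ (x : Sy φ) = w2Fun φ (y : Sy φ) := congrArg Subtype.val h
    have h1 : (x : Sy φ).x1 = (y : Sy φ).x1 := congrArg Sy.x5 h0
    have h5 : (x : Sy φ).x5 = (y : Sy φ).x5 := neg_injective (congrArg Sy.x1 h0)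
    have h3 : (x : Sy φ).x3 = (y : Sy φ).x3 := by
      have := congrArg Sy.x3 h0
      simp only [w2Fun] at this
      rw [h1, h5] at this
      linear_combination this
    have h4 : (x : Sy φ).x4 = (y : Sy φ).x4 := by
      have := congrArg Sy.x2 h0
      simp only [w2Fun] at this
      rw [h1, h5, h3] at this
      linear_combination this
    have h2 : (x : Sy φ).x2 = (y : Sy φ).x2 := by
      have := congrArg Sy.x4 h0
      simp only [w2Fun] at this
      rw [h1, h5, h3] at this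
      linear_combination -this
    apply Subtype.ext
    ext
    · exact h1
    · exact (mem_Q2.1 x.2).trans (mem_Q2.1 y.2).symm
    · exact h5
    · exact h3
    · exact h2
    · exact h4
  exact ⟨MulEquiv.ofBijective f (Finite.injective_iff_bijective.1 hinj),
    ⟨fun _ => rfl, fun _ => rfl, fun _ => rfl, fun _ => rfl, fun _ => rfl⟩⟩

end

/-- **(GRPD)** -/
theorem stGrpD : StGrpD.{u} := by
  intro F K _ _ _ φ _ p n h
  have := h.fin
  have := finF h
  exact ⟨card_Sy h, isPGroup h, fun s t τ ρ => exists_isTor h s t τ ρ, fun α hα => (mem_TT h).1 hα, exists_w1,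
    exists_w2⟩

end Cfsg.Agent.H765.D4
end

-- part: H765/D3/PosB
section
/-!
# S5261: for `q > 2` every automorphism of `Sy φ` is standard on `S / Q1` and `S / Q2`
-/

set_option autoImplicit false
set_option linter.unusedSectionVars false

namespace Cfsg.Agent.H765.D3

open Cfsg.Agent.Hexagon.Pos
open Cfsg.Agent.Hex.Defs (sh cr nm tr)
open scoped commutatorElement

variable {F K : Type*} [Field F] [Field K] [Algebra F K]
variable {φ : K ≃ₐ[F] K} [Cub φ]

namespace Sy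

variable (α : Sy φ ≃* Sy φ)

theorem al6_one_ne : al6 α 1 ≠ 0 := fun h => by
  have := (al6_bij α).1 (h.trans (al6_zero α).symm)
  exact one_ne_zero this

theorem al1_one_ne : al1 α 1 ≠ 0 := fun h => by
  have := (al1_bij α).1 (h.trans (al1_zero α).symm)
  exact one_ne_zero this

theorem al5_eq (a : K) : al5 α a = al6 α 1 • al1 α a := by
  have := al5_smul α 1 a
  rwa [one_smul] at this

/-- the quotient `al6 u / al6 1` -/
noncomputable def rhoF (u : F) : F := al6 α u / al6 α 1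

theorem al6_eq (u : F) : al6 α u = al6 α 1 * rhoF α u := by
  rw [rhoF, mul_div_cancel₀ _ (al6_one_ne α)]

theorem al1_smul (u : F) (a : K) : al1 α (u • a) = rhoF α u • al1 α a := by
  have h := al5_smul α u a
  rw [al5_eq, al6_eq α u, mul_smul] at h
  exact smul_right_injective K (al6_one_ne α) h

theorem rhoF_mul (u v : F) : rhoF α (u * v) = rhoF α u * rhoF α v := by
  have h := al1_smul α (u * v) 1
  rw [mul_smul, al1_smul, al1_smul, smul_smul] at h
  exact (smul_left_injective F (al1_one_ne α) h).symm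

theorem rhoF_one : rhoF α 1 = 1 := div_self (al6_one_ne α)

theorem rhoF_zero : rhoF α 0 = 0 := by rw [rhoF, al6_zero, zero_div]

theorem rhoF_add (u v : F) : rhoF α (u + v) = rhoF α u + rhoF α v := by
  rw [rhoF, rhoF, rhoF, al6_add, add_div]

/-- the induced automorphism of `F` -/
noncomputable def rho [Finite F] : F ≃+* F :=
  RingEquiv.ofBijective
    ({ toFun := rhoF α
       map_one' := rhoF_one α
       map_mul' := rhoF_mul α
       map_zero' := rhoF_zero α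
       map_add' := rhoF_add α } : F →+* F)
    (Finite.injective_iff_bijective.1 (RingHom.injective _))

theorem al3_smul (u : F) (b : K) : al3 α (u • b) = rhoF α u • al3 α b := by
  obtain ⟨a, c, c', rfl⟩ := exists_cr_add φ b
  rw [smul_add, al3_add, al3_add, ← cr_smul_left, ← cr_smul_left, al3_cr, al3_cr, al3_cr, al3_cr, al1_smul,
    al1_smul, cr_smul_left, cr_smul_left, smul_add]

theorem exists_form [Finite K] {g : Gal φ} {f : K → K} (hadd : ∀ s t, f (s + t) = f s + f t)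
    (hsmul : ∀ (u : F) (a : K), f (u • a) = g.ρ u • f a) :
    ∃ A B C : K, ∀ a, f a = A * g.τ a + B * φ (g.τ a) + C * φ (φ (g.τ a)) := by
  have e : ∀ (u : F) (x : K), g.τ.symm (u • x) = g.ρ.symm u • g.τ.symm x := fun u x =>
    tau_smul g.symm u x
  let L : K →ₗ[F] K :=
    { toFun := fun x => f (g.τ.symm x)
      map_add' := fun x y => by rw [map_add, hadd]
      map_smul' := fun u x => by rw [e, hsmul, RingEquiv.apply_symm_apply]; rfl }
  obtain ⟨A, B, C, h⟩ := exists_lin φ L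
  refine ⟨A, B, C, fun a => ?_⟩
  have h1 := h (g.τ a)
  have h2 : L (g.τ a) = f a := by
    change f (g.τ.symm (g.τ a)) = f a
    rw [RingEquiv.symm_apply_apply]
  rw [← h2, h1]

/-- commutator of an element of `Q2` and one of `Q1`, `x3`-coordinate -/
theorem comm_x3_gen {x y : Sy φ} (hx : x.x6 = 0) (hy : y.x1 = 0) :
    (⁅x, y⁆).x3 = cr φ x.x1 y.x5 + y.x6 • sh φ x.x1 := by
  have := congrArg Sy.x3 (comm_mul x y)
  rw [mul_x3, mul_x3, mul_x3, comm_x1, hx, hy] at this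
  simp only [cr_zero_left, sh_zero, smul_zero, zero_smul, add_zero] at this
  linear_combination -this

/-- the `x3`-coordinate on `Z4` -/
theorem apply_x3_Z4 {z : Sy φ} (hz : z ∈ Z4 φ) :
    (α z).x3 = (α (u5 φ z.x5)).x3 + al3 α z.x3 := by
  have h1 : z = u5 φ z.x5 * ((u5 φ z.x5)⁻¹ * z) := by group
  have h2 : ((u5 φ z.x5)⁻¹ * z) ∈ Z3 φ := by
    have := mul_mem (inv_mem (u5_mem (φ := φ) z.x5)) hz
    refine ⟨this.1, this.2, ?_⟩
    rw [mul_x5, inv_x5, hz.2]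
    simp [u5]
  have h3 : ((u5 φ z.x5)⁻¹ * z).x3 = z.x3 := by
    rw [mul_x3, inv_x3, inv_x1, hz.2]
    simp only [u5, neg_zero, cr_zero_left, zero_smul, add_zero, sub_zero, zero_add]
  conv_lhs => rw [h1]
  rw [map_mul, mul_x3, (map_Z4 α (u5_mem (φ := φ) z.x5)).1, cr_zero_left, sh_zero, smul_zero, add_zero, add_zero,
    apply_x3 α h2, h3]

theorem del_eq (u : F) (a : K) : (α (u5 φ (u • a))).x3 + al3 α (u • sh φ a) =
    cr φ (al1 α a) (α (u6 φ u)).x5 + al6 α u • sh φ (al1 α a) := by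
  have h1 : (α ⁅u1 φ a, u6 φ u⁆).x3 = cr φ (al1 α a) (α (u6 φ u)).x5 + al6 α u • sh φ (al1 α a) := by
    rw [map_commutatorElement, comm_x3_gen (u1_x6 α a) (u6_x1 α u)]
    rfl
  have h2 := apply_x3_Z4 α (comm_mem_Z4 (u1 φ a) (u6 φ u))
  have h3 : (⁅u1 φ a, u6 φ u⁆).x5 = u • a := by
    rw [comm_x5]
    simp [u1, u6]
  have h4 : (⁅u1 φ a, u6 φ u⁆).x3 = u • sh φ a := by
    rw [comm_x3_gen rfl rfl]
    simp only [u1, u6, cr_zero_right, zero_add]
  rw [h3, h4, h1] at h2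
  exact h2.symm

/-- the quadratic relation -/
theorem al3_sh {v : F} (hv0 : v ≠ 0) (hv1 : v ≠ 1) (a : K) :
    al3 α (sh φ a) = al6 α 1 • sh φ (al1 α a) := by
  let D : K → K := fun a => al3 α (sh φ a) - al6 α 1 • sh φ (al1 α a)
  have hD : ∀ u a, (α (u5 φ (u • a))).x3 = cr φ (al1 α a) (α (u6 φ u)).x5 - rhoF α u • D a := fun u a => by
    have h := del_eq α u a
    rw [al3_smul, al6_eq α u, mul_comm, mul_smul] at h
    simp only [D, smul_sub]
    linear_combination h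
  have hDs : ∀ u a, D (u • a) = rhoF α u ^ 2 • D a := fun u a => by
    simp only [D]
    rw [sh_smul, al3_smul, al1_smul, sh_smul, sq, rhoF_mul, smul_sub, ← sq, smul_comm]
  set r : F := rhoF α v ^ 2 - rhoF α v with hr
  have hinj : Function.Injective (rhoF α) := by
    intro x y h
    apply (al6_bij α).1
    rw [al6_eq, al6_eq α y, h]
  have hr0 : r ≠ 0 := by
    intro h
    have h1 : rhoF α v * (rhoF α v - 1) = 0 := by rw [hr] at h; linear_combination h
    rcases mul_eq_zero.1 h1 with h2 | h2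
    · exact hv0 (hinj (h2.trans (rhoF_zero α).symm))
    · exact hv1 (hinj ((sub_eq_zero.1 h2).trans (rhoF_one α).symm))
  have h1 : ∀ a, r • D a = cr φ (al1 α a) (rhoF α v • (α (u6 φ 1)).x5 - (α (u6 φ v)).x5) := fun a => by
    have e1 := hD v a
    have e2 := hD 1 (v • a)
    rw [one_smul, rhoF_one, one_smul, hDs, al1_smul, cr_smul_left] at e2
    have e3 : cr φ (al1 α a) (rhoF α v • (α (u6 φ 1)).x5 - (α (u6 φ v)).x5) =
        rhoF α v • cr φ (al1 α a) (α (u6 φ 1)).x5 - cr φ (al1 α a) (α (u6 φ v)).x5 := by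
      rw [sub_eq_add_neg, cr_add_right, cr_neg_right, cr_smul_right, sub_eq_add_neg]
    rw [e3, hr, sub_smul]
    linear_combination e2 - e1
  have h2 : r • (r • D a) = 0 := by
    have e1 := h1 (v • a)
    rw [hDs, al1_smul, cr_smul_left, ← h1 a, smul_smul, smul_smul, ← sub_eq_zero, ← sub_smul] at e1
    rw [smul_smul]
    convert e1 using 2
    rw [hr]; ring
  have h3 : D a = 0 := by
    rcases smul_eq_zero.1 h2 with h | h
    · exact absurd h hr0
    · exact (smul_eq_zero.1 h).resolve_left hr0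
  exact sub_eq_zero.1 h3

/-- **Every automorphism is standard on `S/Q1` and `S/Q2`, `q > 2`** -/
theorem exists_std [Finite K] {v : F} (hv0 : v ≠ 0) (hv1 : v ≠ 1) :
    ∃ (l : Kˣ) (m : Fˣ) (g : Gal φ), ∀ x, (α x).x1 = l * g.τ x.x1 ∧ (α x).x6 = m * g.ρ x.x6 := by
  have hF := finite_F φ
  obtain ⟨g, hg⟩ := exists_gal (φ := φ) (rho α)
  have hgr : ∀ u, g.ρ u = rhoF α u := fun u => by rw [hg]; rfl
  obtain ⟨A, B, C, h1⟩ := exists_form (g := g) (al1_add α) (fun u a => by rw [hgr, al1_smul])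
  obtain ⟨A', B', C', h3⟩ := exists_form (g := g) (al3_add α) (fun u a => by rw [hgr, al3_smul])
  have hm : (algebraMap F K (al6 α 1)) ≠ 0 := by
    rw [map_ne_zero]
    exact al6_one_ne α
  have key := quad_indep φ (m0 := -(algebraMap F K (al6 α 1)) * (φ C * φ (φ B)))
    (m1 := -(algebraMap F K (al6 α 1)) * (φ A * φ (φ C))) (m2 := -(algebraMap F K (al6 α 1)) * (φ B * φ (φ A)))
    (n0 := A' - algebraMap F K (al6 α 1) * (φ A * φ (φ A) + φ B * φ (φ C)))
    (n1 := B' - algebraMap F K (al6 α 1) * (φ B * φ (φ B) + φ C * φ (φ A)))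
    (n2 := C' - algebraMap F K (al6 α 1) * (φ C * φ (φ C) + φ A * φ (φ B))) (fun s => by
      have h := al3_sh α hv0 hv1 (g.τ.symm s)
      rw [h3, h1, tau_sh, RingEquiv.apply_symm_apply, Algebra.smul_def] at h
      simp only [sh, map_add, map_mul, phi3] at h
      linear_combination h)
  obtain ⟨k0, k1, k2, -⟩ := key
  have k0' := (mul_eq_zero.1 k0).resolve_left (neg_ne_zero.2 hm)
  have k1' := (mul_eq_zero.1 k1).resolve_left (neg_ne_zero.2 hm)
  have k2' := (mul_eq_zero.1 k2).resolve_left (neg_ne_zero.2 hm)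
  rw [mul_eq_zero] at k0' k1' k2'
  simp only [EmbeddingLike.map_eq_zero_iff] at k0' k1' k2'
  have hx6 : ∀ x, (α x).x6 = (Units.mk0 _ (al6_one_ne α) : Fˣ) * g.ρ x.x6 := fun x => by
    rw [apply_x6, al6_eq, hgr]; rfl
  have h0 : ¬ (A = 0 ∧ B = 0 ∧ C = 0) := by
    rintro ⟨rfl, rfl, rfl⟩
    apply al1_one_ne α
    rw [h1]; ring
  by_cases hA : A = 0
  · by_cases hB : B = 0
    · have hC : C ≠ 0 := fun hC => h0 ⟨hA, hB, hC⟩
      refine ⟨Units.mk0 C hC, Units.mk0 _ (al6_one_ne α), g.trans ((Gal.ofPhi φ).trans (Gal.ofPhi φ)), fun x =>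
        ⟨?_, hx6 x⟩⟩
      rw [apply_x1, h1, hA, hB, zero_mul, zero_mul, zero_add, zero_add]
      rfl
    · have hC : C = 0 := k0'.resolve_right hB
      refine ⟨Units.mk0 B hB, Units.mk0 _ (al6_one_ne α), g.trans (Gal.ofPhi φ), fun x => ⟨?_, hx6 x⟩⟩
      rw [apply_x1, h1, hA, hC, zero_mul, zero_mul, zero_add, add_zero]
      rfl
  · have hC : C = 0 := k1'.resolve_left hA
    have hB : B = 0 := k2'.resolve_right hA
    refine ⟨Units.mk0 A hA, Units.mk0 _ (al6_one_ne α), g, fun x => ⟨?_, hx6 x⟩⟩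
    rw [apply_x1, h1, hB, hC, zero_mul, zero_mul, add_zero, add_zero]
    rfl

end Sy

end Cfsg.Agent.H765.D3
end

-- part: H765/D4/PosD
section
/-!
# S5261: `StPosD`: `p'`-groups of automorphisms of `Sy φ` are conjugate into `TT φ`
-/

set_option autoImplicit false
set_option linter.unusedSectionVars false

namespace Cfsg.Agent.H765.D4

open Cfsg Cfsg.Agent.H765.D3 Cfsg.Agent.H780.D4
open Cfsg.Agent.H765.D3.Sy (Q1 Q2 Z1 Z2 Z3 Z4 u1 u6 mem_Q1 mem_Q2 mul_x1 mul_x2 mul_x3 mul_x4 mul_x5 mul_x6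
  inv_x1 inv_x6 al1 al6 apply_x1 apply_x6 rhoF)
open Cfsg.Agent.Hex.Defs (sh cr nm tr)

universe u

section

open scoped Pointwise in
/-- Schur-Zassenhaus inside a subgroup -/
theorem sz_in {G : Type u} [Group G] [Finite G] (R D T : Subgroup G) [R.Normal] (hs : Group.IsSolvable R)
    (hcop : (Nat.card D).Coprime (Nat.card R)) (hRT : R ⊓ T = ⊥)
    (hall : ∀ x ∈ D, ∃ t ∈ T, x * t⁻¹ ∈ R) : ∃ g : G, ∀ d ∈ D, g * d * g⁻¹ ∈ T := by
  let L : Subgroup G := D ⊔ R
  have hDL : D ≤ L := le_sup_left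
  have hRL : R ≤ L := le_sup_right
  let N : Subgroup L := R.subgroupOf L
  have hN : N.Normal := inferInstance
  let H : Subgroup L := D.subgroupOf L
  let T' : Subgroup L := T.subgroupOf L
  have cN : Nat.card N = Nat.card R := Nat.card_congr (Subgroup.subgroupOfEquivOfLe hRL).toEquiv
  have cH : Nat.card H = Nat.card D := Nat.card_congr (Subgroup.subgroupOfEquivOfLe hDL).toEquiv
  have hDR : D ⊓ R = ⊥ := (Subgroup.disjoint_of_coprime_natCard hcop).eq_bot
  have hNH : N.IsComplement' H := by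
    refine Subgroup.isComplement'_of_disjoint_and_mul_eq_univ ?_ ?_
    · rw [disjoint_iff, eq_bot_iff]
      rintro ⟨x, hx⟩ ⟨h1, h2⟩
      have h3 : x ∈ D ⊓ R := ⟨h2, h1⟩
      rw [hDR] at h3
      exact Subgroup.mem_bot.2 (Subtype.ext h3)
    · rw [Set.eq_univ_iff_forall]
      rintro ⟨x, hx⟩
      have hx' : x ∈ ((R ⊔ D : Subgroup G) : Set G) := by
        rw [sup_comm]
        exact hx
      rw [Subgroup.normal_mul] at hx'
      obtain ⟨r, hr, d, hd, rfl⟩ := Set.mem_mul.1 hx'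
      exact Set.mem_mul.2 ⟨⟨r, hRL hr⟩, hr, ⟨d, hDL hd⟩, hd, rfl⟩
  have hNT : N.IsComplement' T' := by
    refine Subgroup.isComplement'_of_disjoint_and_mul_eq_univ ?_ ?_
    · rw [disjoint_iff, eq_bot_iff]
      rintro ⟨x, hx⟩ ⟨h1, h2⟩
      have h3 : x ∈ R ⊓ T := ⟨h1, h2⟩
      rw [hRT] at h3
      exact Subgroup.mem_bot.2 (Subtype.ext h3)
    · rw [Set.eq_univ_iff_forall]
      rintro ⟨x, hx⟩
      have hx' : x ∈ ((R ⊔ D : Subgroup G) : Set G) := by
        rw [sup_comm]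
        exact hx
      rw [Subgroup.normal_mul] at hx'
      obtain ⟨r, hr, d, hd, rfl⟩ := Set.mem_mul.1 hx'
      obtain ⟨t, ht, hxt⟩ := hall d hd
      have htL : t ∈ L := by
        have : (d * t⁻¹)⁻¹ * d ∈ L := L.mul_mem (L.inv_mem (hRL hxt)) (hDL hd)
        simpa using this
      refine Set.mem_mul.2 ⟨⟨r * (d * t⁻¹), hRL (mul_mem hr hxt)⟩, mul_mem hr hxt, ⟨t, htL⟩, ht, ?_⟩
      apply Subtype.ext
      change r * (d * t⁻¹) * t = r * d
      group
  have iH : Nat.card H = N.index := hNH.symm.index_eq_card.symm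
  have iT : Nat.card T' = N.index := hNT.symm.index_eq_card.symm
  have hcop' : (Nat.card N).Coprime N.index := by
    rw [cN, ← iH, cH]
    exact hcop.symm
  have hsN : Group.IsSolvable N :=
    Group.isSolvable_of_isSolvable_injective (f := (Subgroup.subgroupOfEquivOfLe hRL).toMonoidHom)
      (Subgroup.subgroupOfEquivOfLe hRL).injective
  obtain ⟨g, hg⟩ := Cfsg.Agent.Solvable.SZ.main (Nat.card L) L rfl N hcop' H T' (Or.inl hsN) iH iT
  refine ⟨g, fun d hd => ?_⟩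
  have h1 : MulAut.conj g • (⟨d, hDL hd⟩ : L) ∈ MulAut.conj g • H :=
    Subgroup.smul_mem_pointwise_smul _ _ _ hd
  rw [hg] at h1
  exact h1

variable {F K : Type u} [Field F] [Field K] [Algebra F K] {φ : K ≃ₐ[F] K} [Cub φ]

theorem finite_mulAut {G : Type*} [Group G] [Finite G] : Finite (MulAut G) :=
  Finite.of_injective (fun f : MulAut G => (f : G → G)) fun _ _ h => MulEquiv.ext fun t => congrFun h t

variable (φ) in
/-- automorphisms trivial on `S / Z4` -/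
def NN : Subgroup (MulAut (Sy φ)) where
  carrier := {α | ∀ x, (α x).x1 = x.x1 ∧ (α x).x6 = x.x6}
  one_mem' _ := ⟨rfl, rfl⟩
  mul_mem' {α β} ha hb x := by
    rw [MulAut.mul_apply]
    exact ⟨(ha _).1.trans (hb x).1, (ha _).2.trans (hb x).2⟩
  inv_mem' {α} ha x := by
    have := ha (α⁻¹ x)
    rw [MulAut.apply_inv_self] at this
    exact ⟨this.1.symm, this.2.symm⟩

theorem mem_NN {α : MulAut (Sy φ)} : α ∈ NN φ ↔ ∀ x, (α x).x1 = x.x1 ∧ (α x).x6 = x.x6 := Iff.rfl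

instance NN_normal : (NN φ).Normal := ⟨fun α hα β x => by
  have h1 := hα (β⁻¹ x)
  rw [MulAut.mul_apply, MulAut.mul_apply]
  constructor
  · rw [Sy.apply_x1 β, h1.1, ← Sy.apply_x1 β, MulAut.apply_inv_self]
  · rw [Sy.apply_x6 β, h1.2, ← Sy.apply_x6 β, MulAut.apply_inv_self]⟩

theorem NN_pGroup {p : ℕ} [Fact p.Prime] [Finite (Sy φ)] (hp : IsPGroup p (Sy φ)) : IsPGroup p (NN φ) := by
  apply Cfsg.Agent.Schreier.Tools2.isPGroup_of_trivial_mod_frattini hp
  intro α hα x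
  apply Cfsg.Agent.Lib.FrattiniPGroup.commutator_le_frattini hp
  rw [Sy.commutator_eq]
  have h := hα x
  refine ⟨?_, ?_⟩
  · rw [mul_x1, inv_x1, h.1]; ring
  · rw [mul_x6, inv_x6, h.2]; ring

theorem NN_inf_TT {p n : ℕ} (h : HypD φ p n) : NN φ ⊓ TT φ = ⊥ := by
  rw [eq_bot_iff]
  rintro α ⟨h1, h2⟩
  obtain ⟨s, t, τ, ρ, hα⟩ := (mem_TT h).1 h2
  have h1' := mem_NN.1 h1
  have e6 : ∀ u, t * ρ u = u := fun u => by
    have := (h1' (u6 φ u)).2
    rw [hα.x6] at this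
    exact this
  have et : t = 1 := by
    have := e6 1
    rwa [map_one, mul_one] at this
  have eρ : ∀ u, ρ u = u := fun u => by
    have := e6 u
    rwa [et, one_mul] at this
  have e1 : ∀ a, s * τ a = a := fun a => by
    have := (h1' (u1 φ a)).1
    rw [hα.x1] at this
    exact this
  have es : s = 1 := by
    have := e1 1
    rwa [map_one, mul_one] at this
  have eτ : ∀ a, τ a = a := fun a => by
    have := e1 a
    rwa [es, one_mul] at this
  rw [Subgroup.mem_bot]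
  apply MulEquiv.ext
  intro g
  rw [MulAut.one_apply]
  ext
  · rw [hα.x1, es, eτ, one_mul]
  · rw [hα.x6, et, eρ, one_mul]
  · rw [hα.x5, es, et, eτ, one_mul, one_smul]
  · rw [hα.x3, es, et, eτ, one_smul]; cub
  · rw [hα.x2, es, et, eρ, nm_one]; ring
  · rw [hα.x4, es, et, eρ, nm_one]; ring

/-- the conclusion if `D` lies in `NN TT` -/
theorem pos_of_mem {p n : ℕ} (h : HypD φ p n) {D : Subgroup (MulAut (Sy φ))} (hD : (Nat.card D).Coprime p)
    (hall : ∀ d ∈ D, ∃ (l : Kˣ) (m : Fˣ) (g : Gal φ), ∀ x, (d x).x1 = l * g.τ x.x1 ∧ (d x).x6 = m * g.ρ x.x6) :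
    ∃ θ : MulAut (Sy φ), ∀ d ∈ D, θ * d * θ⁻¹ ∈ TT φ := by
  have := h.fin
  have := finF h
  have hp : Fact p.Prime := ⟨h.pp⟩
  have : Finite (MulAut (Sy φ)) := finite_mulAut
  have hpS : IsPGroup p (Sy φ) := (isPGroup h).of_equiv Subgroup.topEquiv
  have hpN := NN_pGroup (φ := φ) hpS
  have hnil := hpN.isNilpotent
  have hs : Group.IsSolvable (NN φ) := inferInstance
  obtain ⟨e, he⟩ := hpN.exists_card_eq
  refine sz_in (NN φ) D (TT φ) hs ?_ (NN_inf_TT h) ?_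
  · rw [he]
    exact Nat.Coprime.pow_right e hD
  · intro d hd
    obtain ⟨l, m, g, hlmg⟩ := hall d hd
    refine ⟨stdAut l m g, (mem_TT h).2 ⟨_, _, _, _, isTor_stdAut l m g⟩, fun x => ?_⟩
    have e : stdAut l m g ((stdAut l m g : MulAut (Sy φ))⁻¹ x) = x :=
      MulAut.apply_inv_self _ (stdAut l m g : MulAut (Sy φ)) x
    rw [MulAut.mul_apply, (hlmg _).1, (hlmg _).2]
    constructor
    · conv_rhs => rw [← e]
      rfl
    · conv_rhs => rw [← e]
      rfl

/-- `q > 2` -/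
theorem pos_big {p n : ℕ} (h : HypD φ p n) (hq : 2 < p ^ n) (D : Subgroup (MulAut (Sy φ)))
    (hD : (Nat.card D).Coprime p) : ∃ θ : MulAut (Sy φ), ∀ d ∈ D, θ * d * θ⁻¹ ∈ TT φ := by
  classical
  have := h.fin
  have := finF h
  obtain ⟨v, hv⟩ : ∃ v : F, v ∉ ({0, 1} : Set F) := by
    by_contra hcon
    push Not at hcon
    have h1 : Nat.card F ≤ 2 := by
      have h2 : (Set.univ : Set F) ⊆ {0, 1} := fun x _ => hcon x
      have h3 := Set.ncard_le_ncard h2 (Set.toFinite _)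
      rw [Set.ncard_univ] at h3
      have h4 := Set.ncard_insert_le (0 : F) {1}
      rw [Set.ncard_singleton] at h4
      exact h3.trans h4
    rw [h.card] at h1
    omega
  have hv0 : v ≠ 0 := fun e => hv (Or.inl e)
  have hv1 : v ≠ 1 := fun e => hv (Or.inr e)
  exact pos_of_mem h hD fun d _ => Sy.exists_std d hv0 hv1

/-! ### `q = 2` -/

section Two

theorem zero_or_one (hF : Nat.card F = 2) (u : F) : u = 0 ∨ u = 1 := by
  classical
  have : Finite F := Nat.finite_of_card_ne_zero (by rw [hF]; norm_num)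
  by_contra hcon
  push Not at hcon
  have h1 : ({0, 1, u} : Set F).ncard = 3 := by
    rw [Set.ncard_eq_three]
    exact ⟨0, 1, u, zero_ne_one, fun e => hcon.1 e.symm, fun e => hcon.2 e.symm, rfl⟩
  have h2 := Set.ncard_le_card ({0, 1, u} : Set F)
  omega

/-- action on `S/Q1` as linear maps -/
noncomputable def lin (hF : Nat.card F = 2) : MulAut (Sy φ) →* (K ≃ₗ[F] K) where
  toFun α := LinearEquiv.ofBijective
    { toFun := al1 α
      map_add' := Sy.al1_add α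
      map_smul' := fun u a => by
        rw [Sy.al1_smul, RingHom.id_apply]
        rcases zero_or_one hF u with rfl | rfl
        · rw [Sy.rhoF_zero]
        · rw [Sy.rhoF_one] }
    (Sy.al1_bij α)
  map_one' := by
    ext a
    rfl
  map_mul' α β := by
    ext a
    change al1 (α * β) a = al1 α (al1 β a)
    rw [al1, MulAut.mul_apply, apply_x1]
    rfl

theorem lin_apply (hF : Nat.card F = 2) (α : MulAut (Sy φ)) (a : K) : lin hF α a = al1 α a := rfl

theorem al6_id (hF : Nat.card F = 2) (α : MulAut (Sy φ)) (u : F) : al6 α u = u := by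
  rcases zero_or_one hF u with rfl | rfl
  · exact Sy.al6_zero α
  · exact (zero_or_one hF _).resolve_left (Sy.al6_one_ne α)

theorem ker_lin (hF : Nat.card F = 2) : (lin (φ := φ) hF).ker = NN φ := by
  ext α
  rw [MonoidHom.mem_ker, mem_NN]
  constructor
  · intro h x
    refine ⟨?_, ?_⟩
    · rw [apply_x1, ← lin_apply hF, h]; rfl
    · rw [apply_x6, al6_id hF]
  · intro h
    ext a
    exact (h (u1 φ a)).1

omit φ in
theorem card_lin [Finite K] (h3 : Module.finrank F K = 3) (hF : Nat.card F = 2) : Nat.card (K ≃ₗ[F] K) = 168 := by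
  have hfin : Finite F := Nat.finite_of_card_ne_zero (by rw [hF]; norm_num)
  have := Fintype.ofFinite F
  have hm : Module.Finite F K := Module.Finite.of_finite
  let b := Module.finBasisOfFinrankEq F K h3
  have e1 : (K ≃ₗ[F] K) ≃ LinearMap.GeneralLinearGroup F (Fin 3 → F) :=
    ((LinearMap.GeneralLinearGroup.generalLinearEquiv F K).symm.trans
      (LinearMap.GeneralLinearGroup.congrLinearEquiv b.equivFun)).toEquiv
  have e2 : GL (Fin 3) F ≃ LinearMap.GeneralLinearGroup F (Fin 3 → F) :=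
    (Matrix.GeneralLinearGroup.toLin).toEquiv
  rw [Nat.card_congr e1, ← Nat.card_congr e2, Matrix.card_GL_field]
  rw [← Nat.card_eq_fintype_card, hF]
  decide

/-- Sylow conjugacy for a prime `r` with `r² ∤ |A|` -/
theorem sylow_conj {A : Type*} [Group A] [Finite A] {r : ℕ} [hr : Fact r.Prime] (h : ¬ r ^ 2 ∣ Nat.card A)
    {P D : Subgroup A} (hP : Nat.card P = r) (hD : IsPGroup r D) : ∃ g : A, ∀ d ∈ D, g * d * g⁻¹ ∈ P := by
  obtain ⟨S1, h1⟩ := hD.exists_le_sylow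
  obtain ⟨S2, h2⟩ := (IsPGroup.of_card (n := 1) (by rw [hP, pow_one]) : IsPGroup r P).exists_le_sylow
  have h3 : (S2 : Subgroup A) ≤ P := by
    obtain ⟨k, hk⟩ := S2.isPGroup'.exists_card_eq
    have h4 : Nat.card (S2 : Subgroup A) ∣ Nat.card A := Subgroup.card_subgroup_dvd_card _
    have hk1 : k ≤ 1 := by
      by_contra hcon
      apply h
      refine dvd_trans ?_ h4
      rw [hk]
      exact pow_dvd_pow r (by omega)
    have h5 : Nat.card (S2 : Subgroup A) ≤ Nat.card P := by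
      rw [hk, hP]
      calc r ^ k ≤ r ^ 1 := Nat.pow_le_pow_right hr.out.pos hk1
        _ = r := pow_one r
    exact (Subgroup.eq_of_le_of_card_ge h2 h5).ge
  obtain ⟨g, hg⟩ := MulAction.exists_smul_eq A S1 S2
  refine ⟨g, fun d hd => h3 ?_⟩
  rw [← hg]
  exact Subgroup.smul_mem_pointwise_smul d (MulAut.conj g) _ (h1 hd)

theorem card_dvd [Finite K] (hF : Nat.card F = 2) :
    ∃ r, Nat.card (MulAut (Sy φ)) = Nat.card (NN φ) * r ∧ r ∣ 168 := by
  refine ⟨(NN φ).index, ((NN φ).card_mul_index).symm, ?_⟩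
  rw [← ker_lin hF, Subgroup.index_ker, ← card_lin (finrank_K φ) hF]
  exact Subgroup.card_subgroup_dvd_card _

/-- the torus `Kˣ` -/
noncomputable def tK (φ : K ≃ₐ[F] K) [Cub φ] : Kˣ →* MulAut (Sy φ) := (tor φ).comp (MonoidHom.inl Kˣ Fˣ)

theorem tK_x1 (l : Kˣ) (x : Sy φ) : (tK φ l x).x1 = l * x.x1 := rfl

theorem tK_inj : Function.Injective (tK φ) := by
  intro l l' h
  have h1 := congrArg (fun α : MulAut (Sy φ) => (α (u1 φ 1)).x1) h
  simp only [tK_x1] at h1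
  apply Units.ext
  have e : (u1 φ (1 : K)).x1 = 1 := rfl
  rw [e, mul_one, mul_one] at h1
  exact h1

theorem card_tK [Finite K] (hK : Nat.card K = 8) : Nat.card (tK φ).range = 7 := by
  rw [← Nat.card_congr (MonoidHom.ofInjective (tK_inj (φ := φ))).toEquiv]
  have := Fintype.ofFinite K
  classical
  rw [Nat.card_eq_fintype_card, Fintype.card_units, ← Nat.card_eq_fintype_card, hK]

/-- elements normalizing the torus are semilinear -/
theorem semi_of_norm {p n : ℕ} (h : HypD φ p n) (hF : Nat.card F = 2) {d : MulAut (Sy φ)}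
    (hd : ∀ t ∈ (tK φ).range, d * t * d⁻¹ ∈ (tK φ).range) :
    ∃ (l : Kˣ) (m : Fˣ) (g : Gal φ), ∀ x, (d x).x1 = l * g.τ x.x1 ∧ (d x).x6 = m * g.ρ x.x6 := by
  have := h.fin
  have key : ∀ l : Kˣ, ∃ l' : Kˣ, ∀ a, al1 d (l * a) = l' * al1 d a := by
    intro l
    obtain ⟨l', hl'⟩ := hd (tK φ l) ⟨l, rfl⟩
    refine ⟨l', fun a => ?_⟩
    have h1 : tK φ l' * d = d * tK φ l := by
      rw [hl']; group
    have h2 := congrArg (fun α : MulAut (Sy φ) => (α (u1 φ a)).x1) h1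
    simp only [MulAut.mul_apply] at h2
    rw [tK_x1, apply_x1 d, apply_x1 d, tK_x1] at h2
    exact h2.symm
  have f0 := Sy.al1_zero d
  have f1 := Sy.al1_one_ne d
  have hmul : ∀ s t : K, al1 d (s * t) * al1 d 1 = al1 d s * al1 d t := by
    intro s t
    by_cases hs : s = 0
    · rw [hs, zero_mul, f0, zero_mul, zero_mul]
    · obtain ⟨l', hl'⟩ := key (Units.mk0 s hs)
      have e1 := hl' 1
      have e2 := hl' t
      rw [Units.val_mk0] at e1 e2
      rw [mul_one] at e1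
      rw [e1, e2]
      ring
  let ψ : K →+* K :=
    { toFun := fun t => al1 d t * (al1 d 1)⁻¹
      map_one' := mul_inv_cancel₀ f1
      map_mul' := by
        intro s t
        field_simp
        linear_combination hmul s t
      map_zero' := by rw [f0, zero_mul]
      map_add' := by
        intro s t
        rw [Sy.al1_add, add_mul] }
  have hbij : Function.Bijective ψ := Finite.injective_iff_bijective.1 ψ.injective
  let τ : K ≃+* K := RingEquiv.ofBijective ψ hbij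
  have hτ : ∀ t, τ t = al1 d t * (al1 d 1)⁻¹ := fun t => rfl
  refine ⟨Units.mk0 _ f1, 1, galOf h τ (RingEquiv.refl F) (fun x => ?_), fun x => ⟨?_, ?_⟩⟩
  · rcases zero_or_one hF x with rfl | rfl
    · rw [map_zero, map_zero, map_zero, map_zero]
    · rw [map_one, map_one, map_one, map_one]
  · change _ = al1 d 1 * τ x.x1
    rw [apply_x1, hτ]
    field_simp
  · change _ = (1 : F) * x.x6
    rw [apply_x6, al6_id hF, one_mul]

theorem pos_two {p n : ℕ} (h : HypD φ p n) (hq : p ^ n = 2) (D : Subgroup (MulAut (Sy φ)))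
    (hD : (Nat.card D).Coprime p) : ∃ θ : MulAut (Sy φ), ∀ d ∈ D, θ * d * θ⁻¹ ∈ TT φ := by
  have := h.fin
  have := finF h
  have hF : Nat.card F = 2 := by rw [h.card, hq]
  have hK : Nat.card K = 8 := by rw [h.cardK, hq]; norm_num
  have hp2 : p = 2 := by
    have h1 : p ∣ 2 := hq ▸ dvd_pow_self p (by have := h.hn; omega)
    exact (Nat.prime_dvd_prime_iff_eq h.pp Nat.prime_two).1 h1
  subst hp2
  have hfin : Finite (MulAut (Sy φ)) := finite_mulAut
  have hpS : IsPGroup 2 (Sy φ) := (isPGroup h).of_equiv Subgroup.topEquiv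
  obtain ⟨e, he⟩ := (NN_pGroup (φ := φ) hpS).exists_card_eq
  obtain ⟨r, hr, hr2⟩ := card_dvd (φ := φ) hF
  rw [he] at hr
  have hr0 : r ≠ 0 := by rintro rfl; norm_num at hr2
  have hcopr : ∀ m, Nat.Coprime m 2 → m ∣ Nat.card (MulAut (Sy φ)) → m ∣ 21 := fun m hm hd => by
    rw [hr] at hd
    have h1 : m ∣ r := (Nat.Coprime.pow_right e hm).dvd_of_dvd_mul_left hd
    have h2 : m ∣ 2 ^ 3 * 21 := h1.trans hr2
    exact (Nat.Coprime.pow_right 3 hm).dvd_of_dvd_mul_left h2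
  have hDdvd : Nat.card D ∣ 21 := hcopr _ hD (Subgroup.card_subgroup_dvd_card D)
  have n9 : ¬ 3 ^ 2 ∣ Nat.card (MulAut (Sy φ)) := fun hh => by
    have := hcopr (3 ^ 2) (by norm_num) hh
    norm_num at this
  have n49 : ¬ 7 ^ 2 ∣ Nat.card (MulAut (Sy φ)) := fun hh => by
    have := hcopr (7 ^ 2) (by norm_num) hh
    norm_num at this
  have f3 : Fact (Nat.Prime 3) := ⟨Nat.prime_three⟩
  have f7 : Fact (Nat.Prime 7) := ⟨by norm_num⟩
  by_cases h7 : 7 ∣ Nat.card D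
  · -- a normal Sylow `7`-subgroup
    obtain ⟨k, hk⟩ := h7
    have hk3 : k ∣ 3 := by
      have h1 : 7 * k ∣ 7 * 3 := by rw [← hk]; exact hDdvd
      exact Nat.dvd_of_mul_dvd_mul_left (by norm_num) h1
    have hk' : k = 1 ∨ k = 3 := (Nat.dvd_prime Nat.prime_three).1 hk3
    let P : Sylow 7 D := default
    have hPc : Nat.card P = 7 := by
      obtain ⟨j, hj⟩ := P.isPGroup'.exists_card_eq
      have h1 : Nat.card P ∣ Nat.card D := Subgroup.card_subgroup_dvd_card _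
      have h2 : Nat.card P * (P : Subgroup D).index = Nat.card D := Subgroup.card_mul_index _
      have h3 : ¬ 7 ∣ (P : Subgroup D).index := P.not_dvd_index
      have h4 : 7 ∣ Nat.card P := by
        have : 7 ∣ Nat.card P * (P : Subgroup D).index := by rw [h2, hk]; exact Dvd.intro _ rfl
        exact (Nat.Prime.dvd_mul (by norm_num)).1 this |>.resolve_right h3
      have hj1 : j ≤ 1 := by
        by_contra hcon
        have h5 : 7 ^ 2 ∣ Nat.card D := by
          refine dvd_trans ?_ h1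
          rw [hj]
          exact pow_dvd_pow 7 (by omega)
        have h6 := h5.trans hDdvd
        norm_num at h6
      have hj2 : j ≠ 0 := by
        rintro rfl
        rw [hj] at h4
        norm_num at h4
      have : j = 1 := by omega
      rw [hj, this, pow_one]
    have hPn : ((P : Subgroup D).Normal :) := by
      have h1 : Nat.card (Sylow 7 D) ∣ (P : Subgroup D).index := Sylow.card_dvd_index P
      have h2 : Nat.card P * (P : Subgroup D).index = Nat.card D := Subgroup.card_mul_index _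
      have h3 : (P : Subgroup D).index = k := by
        rw [hPc, hk] at h2
        exact Nat.eq_of_mul_eq_mul_left (by norm_num) h2
      have h4 : Nat.card (Sylow 7 D) ≡ 1 [MOD 7] := card_sylow_modEq_one 7 D
      have h5 : Nat.card (Sylow 7 D) = 1 := by
        rw [h3] at h1
        have h6 : Nat.card (Sylow 7 D) ∣ 3 := h1.trans hk3
        rcases (Nat.dvd_prime Nat.prime_three).1 h6 with h7 | h7
        · exact h7
        · rw [h7] at h4
          exact absurd h4 (by decide)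
      have h6 : Subsingleton (Sylow 7 D) := (Nat.card_eq_one_iff_unique.1 h5).1
      exact Sylow.normal_of_subsingleton P
    have hP' : IsPGroup 7 (((P : Subgroup D).map D.subtype :)) := P.isPGroup'.map _
    have hP'c : Nat.card ((P : Subgroup D).map D.subtype) = 7 := by
      refine Eq.trans ?_ hPc
      exact (Nat.card_congr ((P : Subgroup D).equivMapOfInjective D.subtype D.subtype_injective).toEquiv).symm
    obtain ⟨g, hg⟩ := sylow_conj n49 (card_tK (φ := φ) hK) hP'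
    -- `g P' g⁻¹` is the torus
    have hgP : ∀ t ∈ (tK φ).range, g⁻¹ * t * g ∈ (P : Subgroup D).map D.subtype := by
      have h1 : ((P : Subgroup D).map D.subtype).map (MulAut.conj g).toMonoidHom ≤ (tK φ).range := by
        rintro _ ⟨x, hx, rfl⟩
        exact hg x hx
      have h2 : ((P : Subgroup D).map D.subtype).map (MulAut.conj g).toMonoidHom = (tK φ).range := by
        apply Subgroup.eq_of_le_of_card_ge h1
        rw [card_tK hK]
        refine le_trans (le_of_eq hP'c.symm) ?_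
        exact (Nat.card_congr (((P : Subgroup D).map D.subtype).equivMapOfInjective
          (MulAut.conj g).toMonoidHom (MulAut.conj g).injective).toEquiv).le
      intro t ht
      rw [← h2] at ht
      obtain ⟨x, hx, rfl⟩ := ht
      have : g⁻¹ * (MulAut.conj g).toMonoidHom x * g = x := by
        change g⁻¹ * (g * x * g⁻¹) * g = x
        group
      rw [this]
      exact hx
    let D' : Subgroup (MulAut (Sy φ)) := D.map (MulAut.conj g).toMonoidHom
    have hD'c : Nat.card D' = Nat.card D :=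
      (Nat.card_congr (D.equivMapOfInjective (MulAut.conj g).toMonoidHom (MulAut.conj g).injective).toEquiv).symm
    obtain ⟨θ, hθ⟩ := pos_of_mem h (D := D') (by rw [hD'c]; exact hD) (fun d' hd' => by
      obtain ⟨d, hd, rfl⟩ := hd'
      apply semi_of_norm h hF
      intro t ht
      obtain ⟨x, hx, hxt⟩ := hgP t ht
      have h1 : D.subtype ((⟨d, hd⟩ : D) * x * (⟨d, hd⟩ : D)⁻¹) ∈ ((P : Subgroup D).map D.subtype :) :=
        ⟨_, hPn.conj_mem x hx _, rfl⟩
      have h2 := hg _ h1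
      have h3 : g * D.subtype ((⟨d, hd⟩ : D) * x * (⟨d, hd⟩ : D)⁻¹) * g⁻¹ =
          (MulAut.conj g).toMonoidHom d * t * ((MulAut.conj g).toMonoidHom d)⁻¹ := by
        rw [map_mul, map_mul, map_inv, hxt]
        change g * (d * (g⁻¹ * t * g) * d⁻¹) * g⁻¹ = (g * d * g⁻¹) * t * (g * d * g⁻¹)⁻¹
        group
      rw [← h3]
      exact h2)
    refine ⟨θ * g, fun d hd => ?_⟩
    have h1 := hθ ((MulAut.conj g).toMonoidHom d) ⟨d, hd, rfl⟩
    have h2 : θ * g * d * (θ * g)⁻¹ = θ * (MulAut.conj g).toMonoidHom d * θ⁻¹ := by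
      change θ * g * d * (θ * g)⁻¹ = θ * (g * d * g⁻¹) * θ⁻¹
      group
    rw [h2]
    exact h1
  · have hD3 : Nat.card D ∣ 3 := by
      have h1 : Nat.card D ∣ 7 * 3 := hDdvd
      exact ((Nat.Prime.coprime_iff_not_dvd (by norm_num)).2 h7).symm.dvd_of_dvd_mul_left h1
    have hDp : IsPGroup 3 D := by
      rcases (Nat.dvd_prime Nat.prime_three).1 hD3 with h1 | h1
      · exact IsPGroup.of_card (n := 0) (by rw [h1, pow_zero])
      · exact IsPGroup.of_card (n := 1) (by rw [h1, pow_one])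
    let σ : MulAut (Sy φ) := galAut (Gal.ofPhi φ)
    have hσ3 : σ ^ 3 = 1 := by
      apply MulEquiv.ext
      intro x
      change stdFun 1 1 (Gal.ofPhi φ) (stdFun 1 1 (Gal.ofPhi φ) (stdFun 1 1 (Gal.ofPhi φ) x)) = x
      rw [stdFun_comp, stdFun_comp]
      simp only [map_one, mul_one]
      exact stdFun_one _ (fun t => phi3 φ t) (fun t => rfl) x
    have hσ1 : σ ≠ 1 := by
      intro e1
      obtain ⟨t, ht⟩ := Cub.ne (φ := φ)
      apply ht
      have h2 := congrArg (fun α : MulAut (Sy φ) => (α (u1 φ t)).x1) e1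
      change (1 : K) * φ t = t at h2
      rwa [one_mul] at h2
    have hσo : orderOf σ = 3 := orderOf_eq_prime hσ3 hσ1
    obtain ⟨g, hg⟩ := sylow_conj n9 (P := Subgroup.zpowers σ) (by rw [Nat.card_zpowers, hσo]) hDp
    refine ⟨g, fun d hd => ?_⟩
    have h1 : Subgroup.zpowers σ ≤ TT φ := by
      rw [Subgroup.zpowers_le]
      exact (mem_TT h).2 ⟨_, _, _, _, isTor_stdAut 1 1 (Gal.ofPhi φ)⟩
    exact h1 (hg d hd)

end Two

end

/-- **(POSD)** -/
theorem stPosD : StPosD.{u} := by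
  intro F K _ _ _ φ _ p n h D hD
  have h1 : 2 ≤ p ^ n := by
    calc 2 ≤ p := h.pp.two_le
      _ = p ^ 1 := (pow_one p).symm
      _ ≤ p ^ n := Nat.pow_le_pow_right h.pp.pos h.hn
  rcases h1.lt_or_eq with h2 | h2
  · exact pos_big h h2 D hD
  · exact pos_two h h2.symm D hD

end Cfsg.Agent.H765.D4
end

-- part: H200/D4/LinA
section
/-!
# S5261 [D3-LIN1B]: preliminaries (field automorphisms, squares, form) (helper200)
-/

set_option autoImplicit false
set_option linter.unusedSectionVars false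

namespace Cfsg.Agent.H200.D4

open Cfsg.Agent.H765.D3 Cfsg.Agent.H780.D4
open Cfsg.Agent.Hex.Defs (sh cr nm tr)

universe u

section fields

variable {F K : Type u} [Field F] [Field K] [Algebra F K] {φ : K ≃ₐ[F] K} [Cub φ] {p n : ℕ}

theorem sq_fix {f : K} (h : φ f ^ 2 = f ^ 2) : φ f = f := by
  have h1 : (φ f - f) * (φ f + f) = 0 := by linear_combination h
  rcases mul_eq_zero.1 h1 with h2 | h2
  · exact sub_eq_zero.1 h2
  · have h3 : φ f = -f := by linear_combination h2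
    have h4 := phi3 φ f
    rw [h3, map_neg, map_neg, h3, map_neg, h3] at h4
    -- `h4 : - - - f = f`
    have h5 : -f = f := by simpa using h4
    rw [h3, h5]

/-- if `f ^ N = 1` for all nonzero `f` then `q³ - 1 ≤ N` -/
theorem pow_count (hD : HypD φ p n) {N : ℕ} (hN : 0 < N) (h : ∀ f : K, f ≠ 0 → f ^ N = 1) :
    (p ^ n) ^ 3 - 1 ≤ N := by
  have := hD.fin
  obtain ⟨g, hg⟩ := IsCyclic.exists_generator (α := Kˣ)
  have h1 : orderOf g = (p ^ n) ^ 3 - 1 := by
    rw [orderOf_eq_card_of_forall_mem_zpowers hg, ← hD.cardK]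
    have := Fintype.ofFinite K
    rw [Nat.card_units]
  rw [← h1]
  apply Nat.le_of_dvd hN
  apply orderOf_dvd_of_pow_eq_one
  apply Units.ext
  rw [Units.val_pow_eq_pow_val]
  exact h g g.ne_zero

theorem two_le_q (hD : HypD φ p n) : 2 ≤ p ^ n :=
  le_trans hD.pp.two_le (Nat.le_self_pow (by have := hD.hn; omega) p)

/-- `f⁴` is not fixed by `φ` for all `f` -/
theorem not_four (hD : HypD φ p n) (h : ∀ f : K, f ≠ 0 → φ f ^ 4 = f ^ 4) : False := by
  have hq := two_le_q hD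
  obtain ⟨m, hm⟩ : ∃ m, p ^ n = m + 2 := ⟨p ^ n - 2, by omega⟩
  have h1 := pow_count hD (N := 4 * (p ^ n - 1)) (by omega) (fun f hf => by
    have h2 := h f hf
    rw [hD.phi, hm] at h2
    have h3 : f ^ (4 * (p ^ n - 1)) * f ^ 4 = f ^ 4 := by
      rw [← pow_add, hm, show 4 * (m + 2 - 1) + 4 = (m + 2) * 4 by omega, pow_mul]
      exact h2
    exact mul_right_cancel₀ (pow_ne_zero 4 hf) (by rw [h3, one_mul]))
  rw [hm] at h1
  have h4 : (m + 2) ^ 3 - 1 = m ^ 3 + 6 * m ^ 2 + 12 * m + 7 := by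
    have : (m + 2) ^ 3 = m ^ 3 + 6 * m ^ 2 + 12 * m + 7 + 1 := by ring
    omega
  rw [h4] at h1
  have h5 : 0 ≤ m ^ 3 := Nat.zero_le _
  have h6 : 0 ≤ m ^ 2 := Nat.zero_le _
  omega

/-- `f⁴ = 1` is not true for all `f` -/
theorem not_four_one (hD : HypD φ p n) (h : ∀ f : K, f ≠ 0 → f ^ 4 = 1) : False := by
  apply not_four hD
  intro f hf
  rw [h f hf, h (φ f) (by simpa using hf)]

/-- the square of the norm is 1 for all elements only if `q ≤ 3` -/
theorem nm_sq_count (hD : HypD φ p n) (h : ∀ f : K, f ≠ 0 → nm φ f ^ 2 = 1) : p ^ n ≤ 3 := by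
  have hq := two_le_q hD
  have h1 := pow_count hD (N := 2 * (1 + p ^ n + (p ^ n) ^ 2)) (by positivity) (fun f hf => by
    have h2 := congrArg (algebraMap F K) (h f hf)
    rw [map_pow, coe_nm, map_one, hD.phi, hD.phi] at h2
    rw [← h2]
    ring)
  obtain ⟨m, hm⟩ : ∃ m, p ^ n = m + 2 := ⟨p ^ n - 2, by omega⟩
  rw [hm] at h1 ⊢
  by_contra hcon
  obtain ⟨l, rfl⟩ : ∃ l, m = l + 2 := ⟨m - 2, by omega⟩
  have h4 : (l + 2 + 2) ^ 3 - 1 = l ^ 3 + 12 * l ^ 2 + 48 * l + 63 := by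
    have : (l + 2 + 2) ^ 3 = l ^ 3 + 12 * l ^ 2 + 48 * l + 63 + 1 := by ring
    omega
  rw [h4] at h1
  have h5 : 2 * (1 + (l + 2 + 2) + (l + 2 + 2) ^ 2) = 2 * l ^ 2 + 18 * l + 42 := by ring
  rw [h5] at h1
  have h6 : 0 ≤ l ^ 3 := Nat.zero_le _
  have h7 : 0 ≤ l ^ 2 := Nat.zero_le _
  (clear * - h1; omega)

/-- a ring homomorphism `K → K` fixing `F` is `1`, `φ` or `φ²` -/
theorem gal_cases (hD : HypD φ p n) (σ : K →+* K) (hσ : ∀ s : F, σ (algebraMap F K s) = algebraMap F K s) :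
    (∀ t, σ t = t) ∨ (∀ t, σ t = φ t) ∨ (∀ t, σ t = φ (φ t)) := by
  have := hD.fin
  obtain ⟨g, hg⟩ := IsCyclic.exists_generator (α := Kˣ)
  have h1 : ∀ t : K, (σ t - t) * ((σ t - φ t) * (σ t - φ (φ t))) = 0 := fun t => by
    have h2 : t ^ 3 - algebraMap F K (tr φ t) * t ^ 2 + algebraMap F K (tr φ (sh φ t)) * t -
        algebraMap F K (nm φ t) = 0 := by
      rw [coe_tr, coe_tr, coe_nm, sh]
      simp only [map_mul, phi3]
      ring
    have h3 := congrArg σ h2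
    rw [map_sub, map_add, map_sub, map_mul, map_mul, map_pow, map_pow, hσ, hσ, hσ, map_zero] at h3
    rw [coe_tr, coe_tr, coe_nm, sh] at h3
    simp only [map_mul, phi3] at h3
    linear_combination h3
  have ext : ∀ τ : K →+* K, σ (g : K) = τ (g : K) → ∀ t, σ t = τ t := fun τ hτ t => by
    by_cases ht : t = 0
    · rw [ht, map_zero, map_zero]
    obtain ⟨k, hk⟩ := hg (Units.mk0 t ht)
    have h5 : t = ((g ^ k : Kˣ) : K) := by
      change g ^ k = Units.mk0 t ht at hk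
      rw [hk]
      rfl
    rw [h5, Units.val_zpow_eq_zpow_val, map_zpow₀, map_zpow₀, hτ]
  have h6 := h1 g
  rcases mul_eq_zero.1 h6 with h7 | h7
  · left
    exact ext (RingHom.id K) (sub_eq_zero.1 h7)
  rcases mul_eq_zero.1 h7 with h8 | h8
  · right; left
    exact ext (φ : K →+* K) (sub_eq_zero.1 h8)
  · right; right
    exact ext ((φ : K →+* K).comp (φ : K →+* K)) (sub_eq_zero.1 h8)

/-- an additive subgroup of `K` containing all squares is `K` -/
theorem squares_span (hD : HypD φ p n) (A : AddSubgroup K) (h : ∀ f : K, f ^ 2 ∈ A) (t : K) : t ∈ A := by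
  have hfin := hD.fin
  have hch := hD.char
  by_cases h2 : (2 : K) = 0
  · have hp2 : p = 2 := by
      have : ((2 : ℕ) : K) = 0 := by exact_mod_cast h2
      have h3 := (CharP.cast_eq_zero_iff K p 2).1 this
      exact (Nat.prime_dvd_prime_iff_eq hD.pp Nat.prime_two).1 h3
    subst hp2
    obtain ⟨s, hs⟩ := (FiniteField.isSquare_of_char_two (F := K) (by
      exact ringChar.eq K 2) t)
    rw [hs, ← pow_two]
    exact h s
  · have h3 : t = ((t + 1) / 2) ^ 2 - ((t - 1) / 2) ^ 2 := by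
      field_simp
      ring
    rw [h3]
    exact sub_mem (h _) (h _)

/-- **Lemma (b)** -/
theorem semi_cases (hD : HypD φ p n) (ψ : K → K) (hadd : ∀ s t, ψ (s + t) = ψ s + ψ t)
    (hlin : ∀ (a : F) t, ψ (a • t) = a • ψ t) (c : K → K) (hc : ∀ f, f ≠ 0 → ∀ v, ψ (f ^ 2 * v) = c f * ψ v) :
    (∀ t, ψ t = 0) ∨ (ψ 1 ≠ 0 ∧ ∃ σ : K →+* K, (∀ f : K, f ≠ 0 → σ (f ^ 2) = c f) ∧ (∀ t, ψ t = ψ 1 * σ t) ∧
      ((∀ t, σ t = t) ∨ (∀ t, σ t = φ t) ∨ (∀ t, σ t = φ (φ t)))) := by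
  have h00 : ψ 0 = 0 := by
    have := hadd 0 0
    rw [add_zero] at this
    simpa using this
  have hneg : ∀ t, ψ (-t) = -ψ t := fun t => by
    have := hadd t (-t)
    rw [add_neg_cancel, h00] at this
    exact (neg_eq_of_add_eq_zero_right this.symm).symm
  by_cases h1 : ψ 1 = 0
  · left
    intro t
    let A : AddSubgroup K :=
      { carrier := {s | ψ s = 0}
        add_mem' := fun {a b} (ha : ψ a = 0) (hb : ψ b = 0) => by
          change ψ (a + b) = 0
          rw [hadd, ha, hb, add_zero]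
        zero_mem' := h00
        neg_mem' := fun {a} (ha : ψ a = 0) => by
          change ψ (-a) = 0
          rw [hneg, ha, neg_zero] }
    refine squares_span hD A (fun f => ?_) t
    change ψ (f ^ 2) = 0
    by_cases hf : f = 0
    · rw [hf, zero_pow two_ne_zero, h00]
    have := hc f hf 1
    rw [mul_one, h1, mul_zero] at this
    exact this
  · right
    refine ⟨h1, ?_⟩
    have hmul : ∀ s t, ψ (s * t) * ψ 1 = ψ s * ψ t := fun s t => by
      let A : AddSubgroup K :=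
        { carrier := {s | ψ (s * t) * ψ 1 = ψ s * ψ t}
          add_mem' := fun {a b} (ha : ψ (a * t) * ψ 1 = ψ a * ψ t) (hb : ψ (b * t) * ψ 1 = ψ b * ψ t) => by
            change ψ ((a + b) * t) * ψ 1 = ψ (a + b) * ψ t
            rw [add_mul, hadd, hadd, add_mul, add_mul, ha, hb]
          zero_mem' := by
            change ψ (0 * t) * ψ 1 = ψ 0 * ψ t
            rw [zero_mul, h00, zero_mul, zero_mul]
          neg_mem' := fun {a} (ha : ψ (a * t) * ψ 1 = ψ a * ψ t) => by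
            change ψ ((-a) * t) * ψ 1 = ψ (-a) * ψ t
            rw [neg_mul, hneg, hneg, neg_mul, neg_mul, ha] }
      refine squares_span hD A (fun f => ?_) s
      change ψ (f ^ 2 * t) * ψ 1 = ψ (f ^ 2) * ψ t
      by_cases hf : f = 0
      · rw [hf, zero_pow two_ne_zero, zero_mul, h00, zero_mul, zero_mul]
      have h2 := hc f hf 1
      rw [mul_one] at h2
      rw [hc f hf t, h2]
      ring
    let σ : K →+* K :=
      { toFun := fun t => ψ t / ψ 1
        map_one' := div_self h1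
        map_mul' := fun s t => by
          change ψ (s * t) / ψ 1 = ψ s / ψ 1 * (ψ t / ψ 1)
          rw [div_mul_div_comm, ← hmul, mul_div_mul_right _ _ h1]
        map_zero' := by
          change ψ 0 / ψ 1 = 0
          rw [h00, zero_div]
        map_add' := fun s t => by
          change ψ (s + t) / ψ 1 = ψ s / ψ 1 + ψ t / ψ 1
          rw [hadd, add_div] }
    have hσ : ∀ t, σ t = ψ t / ψ 1 := fun t => rfl
    refine ⟨σ, fun f hf => ?_, fun t => ?_, ?_⟩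
    · have h2 := hc f hf 1
      rw [mul_one] at h2
      rw [hσ, h2, mul_div_assoc, div_self h1, mul_one]
    · rw [hσ, mul_div_cancel₀ _ h1]
    · apply gal_cases hD
      intro s
      rw [hσ, Algebra.algebraMap_eq_smul_one, hlin, smul_div_assoc, div_self h1]

end fields

end Cfsg.Agent.H200.D4
end

-- part: H200/D4/LinB
section
/-!
# S5261 [D3-LIN1B]: the form, the relations (helper200)
-/

set_option autoImplicit false
set_option linter.unusedSectionVars false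

namespace Cfsg.Agent.H200.D4

open Cfsg.Agent.H765.D3 Cfsg.Agent.H780.D4
open Cfsg.Agent.Hex.Defs (sh cr nm tr)

universe u

section semi

variable {F K : Type u} [Field F] [Field K] [Algebra F K] {φ : K ≃ₐ[F] K} [Cub φ] {p n : ℕ}

theorem semi_A (hD : HypD φ p n) (ψ : K → K) (hadd : ∀ s t, ψ (s + t) = ψ s + ψ t)
    (hlin : ∀ (a : F) t, ψ (a • t) = a • ψ t) (c : K → K) (hc : ∀ f, f ≠ 0 → ∀ v, ψ (f ^ 2 * v) = c f * ψ v)
    (h2 : ∀ f, f ≠ 0 → c f ^ 2 = φ f ^ 4 * φ (φ f) ^ 4) : ∀ t, ψ t = 0 := by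
  rcases semi_cases hD ψ hadd hlin c hc with h | ⟨-, σ, h3, -, h4⟩
  · exact h
  exfalso
  have h5 : ∀ f : K, f ≠ 0 → σ f ^ 4 = φ f ^ 4 * φ (φ f) ^ 4 := fun f hf => by
    rw [← h2 f hf, ← h3 f hf, map_pow]
    ring
  rcases h4 with h4 | h4 | h4
  · apply not_four hD
    intro f hf
    have h6 := h5 f hf
    have h7 := h5 (φ f) (by simpa using hf)
    rw [h4] at h6 h7
    rw [phi3] at h7
    have h8 : φ (f ^ 4) = f ^ 4 := by
      apply sq_fix
      rw [map_pow]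
      linear_combination (φ f) ^ 4 * h7 - f ^ 4 * h6
    rw [map_pow] at h8
    exact h8
  · apply not_four_one hD
    intro f hf
    have h6 := h5 f hf
    rw [h4] at h6
    have h9 : φ f ^ 4 ≠ 0 := pow_ne_zero _ (by simpa using hf)
    have h7 : φ (φ f) ^ 4 = 1 := mul_left_cancel₀ h9 (by rw [mul_one]; exact h6.symm)
    have h8 := congrArg φ h7
    rw [map_pow, phi3, map_one] at h8
    exact h8
  · apply not_four_one hD
    intro f hf
    have h6 := h5 f hf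
    rw [h4] at h6
    have h9 : φ (φ f) ^ 4 ≠ 0 := pow_ne_zero _ (by simpa using hf)
    have h7 : φ f ^ 4 = 1 := mul_right_cancel₀ h9 (by rw [one_mul]; exact h6.symm)
    have h8 := congrArg (fun t => φ (φ t)) h7
    simp only [map_pow, phi3, map_one] at h8
    exact h8

theorem semi_B (hD : HypD φ p n) (ψ : K → K) (hadd : ∀ s t, ψ (s + t) = ψ s + ψ t)
    (hlin : ∀ (a : F) t, ψ (a • t) = a • ψ t) (c : K → K) (hc : ∀ f, f ≠ 0 → ∀ v, ψ (f ^ 2 * v) = c f * ψ v)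
    (h2 : ∀ f, f ≠ 0 → c f ^ 2 = f ^ 4) : ∀ t, ψ t = ψ 1 * t := by
  rcases semi_cases hD ψ hadd hlin c hc with h | ⟨-, σ, h3, h0, h4⟩
  · intro t
    rw [h t, h 1, zero_mul]
  have h5 : ∀ f : K, f ≠ 0 → σ f ^ 4 = f ^ 4 := fun f hf => by
    rw [← h2 f hf, ← h3 f hf, map_pow]
    ring
  rcases h4 with h4 | h4 | h4
  · intro t
    rw [h0 t, h4 t]
  · exfalso
    apply not_four hD
    intro f hf
    rw [← h4, h5 f hf]
  · exfalso
    apply not_four hD
    intro f hf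
    have h6 := congrArg φ (h5 f hf)
    rw [h4, map_pow, map_pow, phi3] at h6
    exact h6.symm

end semi

section group

variable {K : Type u} [Field K] {G : Type*} [Group G]

/-- `w(f)` -/
def ww (x y : K → G) (f : K) : G := x f * y (-f⁻¹) * x f

variable {x y : K → G}
  (rel1 : ∀ f : K, f ≠ 0 → ∀ g : K, ww x y f * x g * (ww x y f)⁻¹ = y (-(f⁻¹ ^ 2 * g)))
  (rel2 : ∀ f : K, f ≠ 0 → ∀ g : K, ww x y f * y g * (ww x y f)⁻¹ = x (-(f ^ 2 * g)))

include rel1 rel2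

theorem ww_eq {g : K} (hg : g ≠ 0) : ww x y g = y (-g⁻¹) * x g * y (-g⁻¹) := by
  have h1 : ww x y g = (ww x y g * x g * (ww x y g)⁻¹) * (ww x y g * y (-g⁻¹) * (ww x y g)⁻¹) *
      (ww x y g * x g * (ww x y g)⁻¹) := by
    have h2 : (ww x y g * x g * (ww x y g)⁻¹) * (ww x y g * y (-g⁻¹) * (ww x y g)⁻¹) *
      (ww x y g * x g * (ww x y g)⁻¹) = ww x y g * (x g * y (-g⁻¹) * x g) * (ww x y g)⁻¹ := by group
    rw [h2]
    change ww x y g = ww x y g * ww x y g * (ww x y g)⁻¹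
    group
  rw [h1, rel1 g hg, rel2 g hg]
  have h3 : -(g⁻¹ ^ 2 * g) = -g⁻¹ := by field_simp
  have h4 : -(g ^ 2 * -g⁻¹) = g := by field_simp
  rw [h3, h4]

theorem ww_conj {f : K} (hf : f ≠ 0) : ww x y 1 * ww x y f * (ww x y 1)⁻¹ = ww x y f⁻¹ := by
  have h1 : ww x y 1 * ww x y f * (ww x y 1)⁻¹ = (ww x y 1 * x f * (ww x y 1)⁻¹) *
      (ww x y 1 * y (-f⁻¹) * (ww x y 1)⁻¹) * (ww x y 1 * x f * (ww x y 1)⁻¹) := by
    change ww x y 1 * (x f * y (-f⁻¹) * x f) * (ww x y 1)⁻¹ = _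
    group
  rw [h1, rel1 1 one_ne_zero, rel2 1 one_ne_zero, ww_eq rel1 rel2 (inv_ne_zero hf)]
  simp

/-- `h(f) = w(f) w(1)⁻¹` -/
theorem hh_conj {f : K} (hf : f ≠ 0) :
    ww x y 1 * (ww x y f * (ww x y 1)⁻¹) = (ww x y f⁻¹ * (ww x y 1)⁻¹) * ww x y 1 := by
  rw [← ww_conj rel1 rel2 hf]
  group

end group

section form

variable {F K : Type u} [Field F] [Field K] [Algebra F K] {φ : K ≃ₐ[F] K} [Cub φ] {p n : ℕ}

/-- the simp set for identities in `F`, by the injection into `K` -/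
macro "cubF" : tactic => `(tactic| (apply (algebraMap F K).injective; cub))

theorem formV_smul_left (c : F) (v w : V1 F K) : formV φ (c • v) w = c * formV φ v w := by
  obtain ⟨v0, v1, v2, v3⟩ := v
  obtain ⟨w0, w1, w2, w3⟩ := w
  change c * v0 * w3 - c * v3 * w0 - tr φ (c • v1 * w2) + tr φ (c • v2 * w1) =
    c * (v0 * w3 - v3 * w0 - tr φ (v1 * w2) + tr φ (v2 * w1))
  rw [smul_mul_assoc, smul_mul_assoc, tr_smul, tr_smul]
  ring

theorem formV_sub_left (v v' w : V1 F K) : formV φ (v - v') w = formV φ v w - formV φ v' w := by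
  simp only [formV, Prod.fst_sub, Prod.snd_sub, sub_mul, tr_sub]
  ring

theorem formV_nondeg {v : V1 F K} (h : ∀ w, formV φ v w = 0) : v = 0 := by
  obtain ⟨v0, v1, v2, v3⟩ := v
  have h0 := h (0, 0, 0, 1)
  have h3 := h (1, 0, 0, 0)
  simp only [formV, mul_zero, mul_one, tr_zero, sub_zero, add_zero] at h0 h3
  have h1 : v1 = 0 := tr_nondeg φ (fun t => by
    have := h (0, 0, t, 0)
    simp only [formV, mul_zero, tr_zero, sub_zero, add_zero, zero_sub, neg_eq_zero] at this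
    exact this)
  have h2 : v2 = 0 := tr_nondeg φ (fun t => by
    have := h (0, t, 0, 0)
    simp only [formV, mul_zero, tr_zero, sub_zero, zero_add] at this
    exact this)
  rw [h0, h1, h2]
  have h3' : v3 = 0 := by simpa using h3
  rw [h3']
  rfl

/-- additive bijections preserving the form -/
structure Gd (φ : K ≃ₐ[F] K) (g : Equiv.Perm (V1 F K)) : Prop where
  add : ∀ v w, g (v + w) = g v + g w
  frm : ∀ v w, formV φ (g v) (g w) = formV φ v w

theorem Gd.mul {g h : Equiv.Perm (V1 F K)} (hg : Gd φ g) (hh : Gd φ h) : Gd φ (g * h) := by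
  refine ⟨fun v w => ?_, fun v w => ?_⟩
  · rw [Equiv.Perm.mul_apply, Equiv.Perm.mul_apply, Equiv.Perm.mul_apply, hh.add, hg.add]
  · rw [Equiv.Perm.mul_apply, Equiv.Perm.mul_apply, hg.frm, hh.frm]

theorem Gd.smul {g : Equiv.Perm (V1 F K)} (hg : Gd φ g) (c : F) (v : V1 F K) : g (c • v) = c • g v := by
  rw [← sub_eq_zero]
  apply formV_nondeg (φ := φ)
  intro w
  obtain ⟨u, rfl⟩ := g.surjective w
  rw [formV_sub_left, formV_smul_left, hg.frm, hg.frm, formV_smul_left, sub_self]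

theorem Gd.zero {g : Equiv.Perm (V1 F K)} (hg : Gd φ g) : g 0 = 0 := by
  have := hg.smul 0 0
  rwa [zero_smul, zero_smul] at this

theorem act_Gd {g : Equiv.Perm (V1 F K)} {a : K} (hg : IsActV φ g a) : Gd φ g := by
  refine ⟨fun v w => ?_, fun v w => ?_⟩
  · rw [hg, hg, hg]
    obtain ⟨v0, v1, v2, v3⟩ := v
    obtain ⟨w0, w1, w2, w3⟩ := w
    simp only [Prod.mk_add_mk]
    refine Prod.ext rfl (Prod.ext ?_ (Prod.ext ?_ ?_))
    · dsimp only
      rw [add_smul]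
      ring
    · dsimp only
      rw [add_smul, cr_add_right]
      ring
    · dsimp only
      rw [mul_add, mul_add, tr_add, tr_add]
      ring
  · rw [hg, hg]
    obtain ⟨v0, v1, v2, v3⟩ := v
    obtain ⟨w0, w1, w2, w3⟩ := w
    simp only [formV]
    cubF

theorem act_quadV (h2 : (2 : F) = 0) {g : Equiv.Perm (V1 F K)} {a : K} (hg : IsActV φ g a) (v : V1 F K) :
    quadV φ (g v) = quadV φ v := by
  have h2' : (2 : K) = 0 := by
    have := congrArg (algebraMap F K) h2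
    rw [map_ofNat, map_zero] at this
    exact this
  rw [hg]
  obtain ⟨v0, v1, v2, v3⟩ := v
  simp only [quadV]
  apply (algebraMap F K).injective
  simp only [map_add, map_mul, coe_tr, coe_nm, sh, cr, phi3, phi_coe, Algebra.smul_def]
  linear_combination (a * v2 * (algebraMap F K) v0 + a * φ a * φ (φ a) * (algebraMap F K) v0 ^ 2 * 2 +
    a * φ a * φ (φ v1) * (algebraMap F K) v0 * 2 + a * φ (φ a) * φ v1 * (algebraMap F K) v0 * 2 +
    a * φ v1 * φ (φ v1) + φ a * φ v2 * (algebraMap F K) v0 + φ a * φ (φ a) * v1 * (algebraMap F K) v0 * 2 +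
    φ a * v1 * φ (φ v1) + φ (φ a) * φ (φ v2) * (algebraMap F K) v0 + φ (φ a) * v1 * φ v1) * h2'

end form

end Cfsg.Agent.H200.D4
end

-- part: H200/D4/LinC
section
/-!
# S5261 [D3-LIN1B]: the Weyl element on the middle coordinates (helper200)
-/

set_option autoImplicit false
set_option linter.unusedSectionVars false

namespace Cfsg.Agent.H200.D4

open Cfsg.Agent.H765.D3 Cfsg.Agent.H780.D4
open Cfsg.Agent.Hex.Defs (sh cr nm tr)

universe u

section main

variable {F K : Type u} [Field F] [Field K] [Algebra F K] {φ : K ≃ₐ[F] K} [Cub φ] {p n : ℕ}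
  {x y : K → Equiv.Perm (V1 F K)}

theorem y_zero (hR : RkV φ x y) : y 0 = 1 := by
  have := hR.yadd 0 0
  rw [add_zero] at this
  exact (left_eq_mul.1 this)

theorem y_neg (hR : RkV φ x y) (a : K) : y (-a) = (y a)⁻¹ := by
  apply eq_inv_of_mul_eq_one_left
  rw [← hR.yadd, neg_add_cancel, y_zero hR]

theorem x_Gd (hR : RkV φ x y) (a : K) : Gd φ (x a) := act_Gd (hR.xact a)

theorem y_Gd (hR : RkV φ x y) (a : K) : Gd φ (y a) := ⟨hR.lin a, hR.frm a⟩

theorem w_Gd (hR : RkV φ x y) (f : K) : Gd φ (ww x y f) := ((x_Gd hR _).mul (y_Gd hR _)).mul (x_Gd hR _)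

theorem ww_one : ww x y 1 = x 1 * y (-1) * x 1 := by rw [ww, inv_one]

theorem wx (hR : RkV φ x y) (g : K) : ww x y 1 * x g = y (-g) * ww x y 1 := by
  have h := hR.rel1 1 one_ne_zero g
  change ww x y 1 * x g * (ww x y 1)⁻¹ = _ at h
  rw [inv_one, one_pow, one_mul] at h
  rw [← h]
  group

theorem wy (hR : RkV φ x y) (g : K) : ww x y 1 * y g = x (-g) * ww x y 1 := by
  have h := hR.rel2 1 one_ne_zero g
  change ww x y 1 * y g * (ww x y 1)⁻¹ = _ at h
  rw [one_pow, one_mul] at h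
  rw [← h]
  group

theorem wx' (hR : RkV φ x y) (g : K) (v : V1 F K) : ww x y 1 (x g v) = y (-g) (ww x y 1 v) := by
  rw [← Equiv.Perm.mul_apply, wx hR, Equiv.Perm.mul_apply]

theorem wy' (hR : RkV φ x y) (g : K) (v : V1 F K) : ww x y 1 (y g v) = x (-g) (ww x y 1 v) := by
  rw [← Equiv.Perm.mul_apply, wy hR, Equiv.Perm.mul_apply]

/-- the parameters of `h(f)` -/
structure Tor (φ : K ≃ₐ[F] K) (x y : K → Equiv.Perm (V1 F K)) (T : K → F) : Prop where
  sq : ∀ f : K, f ≠ 0 → T f ^ 2 * nm φ f ^ 2 = 1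
  app : ∀ f : K, f ≠ 0 → ∀ v : V1 F K, (ww x y f * (ww x y 1)⁻¹) v =
    (T f * v.1, T f • (f ^ 2 * v.2.1), T f • (sh φ (f ^ 2) * v.2.2.1), nm φ (f ^ 2) * T f * v.2.2.2)

theorem exists_Tor (hR : RkV φ x y) : ∃ T : K → F, Tor φ x y T := by
  have h : ∀ f : K, ∃ t : F, f ≠ 0 → t ^ 2 * nm φ f ^ 2 = 1 ∧
      IsTorV φ (ww x y f * (ww x y 1)⁻¹) (f ^ 2) t (RingEquiv.refl K) (RingEquiv.refl F) := fun f => by
    by_cases hf : f = 0
    · exact ⟨0, fun h => absurd hf h⟩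
    · obtain ⟨t, h1, h2⟩ := hR.tor f hf
      rw [← ww_one] at h2
      exact ⟨t, fun _ => ⟨h1, h2⟩⟩
  choose T hT using h
  refine ⟨T, fun f hf => (hT f hf).1, fun f hf v => ?_⟩
  have := (hT f hf).2.app v
  exact this

variable {T : K → F}

theorem Tor.ne (hT : Tor φ x y T) {f : K} (hf : f ≠ 0) : T f ≠ 0 := by
  intro h
  have := hT.sq f hf
  rw [h] at this
  simp at this

/-- `T f⁻¹ / T f` -/
theorem Tor.ratio (hT : Tor φ x y T) {f : K} (hf : f ≠ 0) : (T f⁻¹ / T f) ^ 2 = nm φ f ^ 4 := by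
  have h1 := hT.sq f hf
  have h2 := hT.sq f⁻¹ (inv_ne_zero hf)
  have h3 : nm φ f * nm φ f⁻¹ = 1 := by rw [← nm_mul, mul_inv_cancel₀ hf, nm_one]
  have h4 := hT.ne hf
  rw [div_pow, div_eq_iff (pow_ne_zero 2 h4)]
  have h5 : T f⁻¹ ^ 2 = nm φ f ^ 2 * (T f⁻¹ ^ 2 * nm φ f⁻¹ ^ 2) := by
    have : nm φ f ^ 2 * (T f⁻¹ ^ 2 * nm φ f⁻¹ ^ 2) = T f⁻¹ ^ 2 * (nm φ f * nm φ f⁻¹) ^ 2 := by ring
    rw [this, h3, one_pow, mul_one]
  rw [h5, h2]
  linear_combination -nm φ f ^ 2 * h1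

theorem Tor.key (hR : RkV φ x y) (hT : Tor φ x y T) {f : K} (hf : f ≠ 0) (v : V1 F K) :
    ww x y 1 (T f * v.1, T f • (f ^ 2 * v.2.1), T f • (sh φ (f ^ 2) * v.2.2.1), nm φ (f ^ 2) * T f * v.2.2.2) =
      (T f⁻¹ * (ww x y 1 v).1, T f⁻¹ • (f⁻¹ ^ 2 * (ww x y 1 v).2.1),
        T f⁻¹ • (sh φ (f⁻¹ ^ 2) * (ww x y 1 v).2.2.1), nm φ (f⁻¹ ^ 2) * T f⁻¹ * (ww x y 1 v).2.2.2) := by
  rw [← hT.app f hf, ← hT.app f⁻¹ (inv_ne_zero hf), ← Equiv.Perm.mul_apply, ← Equiv.Perm.mul_apply]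
  rw [hh_conj (fun f hf g => hR.rel1 f hf g) (fun f hf g => hR.rel2 f hf g) hf]

theorem coord_add {g : Equiv.Perm (V1 F K)} (hg : Gd φ g) (v w : V1 F K) :
    (g (v + w)).1 = (g v).1 + (g w).1 ∧ (g (v + w)).2.1 = (g v).2.1 + (g w).2.1 ∧
      (g (v + w)).2.2.1 = (g v).2.2.1 + (g w).2.2.1 ∧ (g (v + w)).2.2.2 = (g v).2.2.2 + (g w).2.2.2 := by
  rw [hg.add]
  exact ⟨rfl, rfl, rfl, rfl⟩

theorem coord_smul {g : Equiv.Perm (V1 F K)} (hg : Gd φ g) (c : F) (v : V1 F K) :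
    (g (c • v)).1 = c * (g v).1 ∧ (g (c • v)).2.1 = c • (g v).2.1 ∧
      (g (c • v)).2.2.1 = c • (g v).2.2.1 ∧ (g (c • v)).2.2.2 = c * (g v).2.2.2 := by
  rw [hg.smul]
  exact ⟨rfl, rfl, rfl, rfl⟩

theorem inj1 (s t : K) : ((0 : F), s + t, (0 : K), (0 : F)) = ((0, s, 0, 0) : V1 F K) + (0, t, 0, 0) := by
  change _ = (((0 : F) + 0, s + t, (0 : K) + 0, (0 : F) + 0) : V1 F K)
  simp

theorem inj2 (s t : K) : ((0 : F), (0 : K), s + t, (0 : F)) = ((0, 0, s, 0) : V1 F K) + (0, 0, t, 0) := by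
  change _ = (((0 : F) + 0, (0 : K) + 0, s + t, (0 : F) + 0) : V1 F K)
  simp

theorem sm1 (c : F) (s : K) : ((0 : F), c • s, (0 : K), (0 : F)) = c • ((0, s, 0, 0) : V1 F K) := by
  change _ = ((c * 0, c • s, c • 0, c * 0) : V1 F K)
  simp

theorem sm2 (c : F) (s : K) : ((0 : F), (0 : K), c • s, (0 : F)) = c • ((0, 0, s, 0) : V1 F K) := by
  change _ = ((c * 0, c • 0, c • s, c * 0) : V1 F K)
  simp

/-- the relation with `h(f)` on the coordinates -/
theorem Tor.k1 (hR : RkV φ x y) (hT : Tor φ x y T) {f : K} (hf : f ≠ 0) (a : K) :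
    T f • (ww x y 1 (0, f ^ 2 * a, 0, 0)).2.1 = T f⁻¹ • (f⁻¹ ^ 2 * (ww x y 1 (0, a, 0, 0)).2.1) ∧
    T f • (ww x y 1 (0, f ^ 2 * a, 0, 0)).2.2.1 = T f⁻¹ • (sh φ (f⁻¹ ^ 2) * (ww x y 1 (0, a, 0, 0)).2.2.1) := by
  have h := Tor.key hR hT hf (0, a, 0, 0)
  simp only [mul_zero, smul_zero] at h
  rw [sm1, (w_Gd hR 1).smul] at h
  exact ⟨congrArg (fun v => v.2.1) h, congrArg (fun v => v.2.2.1) h⟩

theorem Tor.k2 (hR : RkV φ x y) (hT : Tor φ x y T) {f : K} (hf : f ≠ 0) (b : K) :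
    T f • (ww x y 1 (0, 0, sh φ (f ^ 2) * b, 0)).2.1 = T f⁻¹ • (f⁻¹ ^ 2 * (ww x y 1 (0, 0, b, 0)).2.1) ∧
    T f • (ww x y 1 (0, 0, sh φ (f ^ 2) * b, 0)).2.2.1 =
      T f⁻¹ • (sh φ (f⁻¹ ^ 2) * (ww x y 1 (0, 0, b, 0)).2.2.1) := by
  have h := Tor.key hR hT hf (0, 0, b, 0)
  simp only [mul_zero, smul_zero] at h
  rw [sm2, (w_Gd hR 1).smul] at h
  exact ⟨congrArg (fun v => v.2.1) h, congrArg (fun v => v.2.2.1) h⟩

theorem Tor.k3 (hR : RkV φ x y) (hT : Tor φ x y T) {f : K} (hf : f ≠ 0) (b : K) :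
    (T f * nm φ (f ^ 2)) • (ww x y 1 (0, 0, b, 0)).2.1 =
      T f⁻¹ • (f⁻¹ ^ 2 * (ww x y 1 (0, 0, f ^ 2 * b, 0)).2.1) ∧
    (T f * nm φ (f ^ 2)) • (ww x y 1 (0, 0, b, 0)).2.2.1 =
      T f⁻¹ • (sh φ (f⁻¹ ^ 2) * (ww x y 1 (0, 0, f ^ 2 * b, 0)).2.2.1) := by
  have h := Tor.k2 hR hT hf (f ^ 2 * b)
  have h1 : sh φ (f ^ 2) * (f ^ 2 * b) = nm φ (f ^ 2) • b := by
    rw [← mul_assoc, sh_mul_self, Algebra.smul_def]
  rw [h1, sm2, (coord_smul (w_Gd hR 1) _ _).2.1, (coord_smul (w_Gd hR 1) _ _).2.2.1] at h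
  rw [mul_smul, mul_smul]
  exact h

/-- **(c)**: the Weyl element on the middle coordinates -/
theorem mid (hD : HypD φ p n) (hR : RkV φ x y) : ∃ β γ : K, ∀ a b : K,
    (ww x y 1 (0, a, b, 0)).2.1 = β * b ∧ (ww x y 1 (0, a, b, 0)).2.2.1 = γ * a := by
  obtain ⟨T, hT⟩ := exists_Tor hR
  have hW := w_Gd hR 1
  have ratK : ∀ f : K, f ≠ 0 → (algebraMap F K (T f⁻¹ / T f)) ^ 2 = (f * φ f * φ (φ f)) ^ 4 := fun f hf => by
    rw [← coe_nm, ← map_pow, ← map_pow, hT.ratio hf]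
  have ratK' : ∀ f : K, f ≠ 0 → (algebraMap F K (T f / T f⁻¹)) ^ 2 * (f * φ f * φ (φ f)) ^ 4 = 1 := fun f hf => by
    rw [← ratK f hf, ← map_pow, ← map_pow, ← map_mul, ← mul_pow, div_mul_div_cancel₀ (hT.ne (inv_ne_zero hf)),
      div_self (hT.ne hf), one_pow, map_one]
  have hne : ∀ f : K, f ≠ 0 → φ f ≠ 0 ∧ φ (φ f) ≠ 0 := fun f hf => ⟨by simpa using hf, by simpa using hf⟩
  -- solve `T f • u = T f⁻¹ • v`
  have sol : ∀ (f : K) (u v : K), f ≠ 0 → T f • u = T f⁻¹ • v → u = algebraMap F K (T f⁻¹ / T f) * v :=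
    fun f u v hf h => by
      have h1 : algebraMap F K (T f) ≠ 0 := by simpa using hT.ne hf
      rw [Algebra.smul_def, Algebra.smul_def] at h
      rw [map_div₀, div_mul_eq_mul_div, eq_div_iff h1, ← h, mul_comm]
  have hα : ∀ a, (ww x y 1 (0, a, 0, 0)).2.1 = 0 := by
    refine semi_A hD (fun a => (ww x y 1 (0, a, 0, 0)).2.1) (fun s t => ?_) (fun c t => ?_)
      (fun f => algebraMap F K (T f⁻¹ / T f) * f⁻¹ ^ 2) (fun f hf v => ?_) (fun f hf => ?_)
    · rw [inj1]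
      exact (coord_add hW _ _).2.1
    · rw [sm1]
      exact (coord_smul hW _ _).2.1
    · rw [mul_assoc]
      exact sol f _ _ hf (Tor.k1 hR hT hf v).1
    · rw [mul_pow, ratK f hf]
      field_simp
  have hγ : ∀ a, (ww x y 1 (0, a, 0, 0)).2.2.1 = (ww x y 1 (0, 1, 0, 0)).2.2.1 * a := by
    refine semi_B hD (fun a => (ww x y 1 (0, a, 0, 0)).2.2.1) (fun s t => ?_) (fun c t => ?_)
      (fun f => algebraMap F K (T f⁻¹ / T f) * sh φ (f⁻¹ ^ 2)) (fun f hf v => ?_) (fun f hf => ?_)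
    · rw [inj1]
      exact (coord_add hW _ _).2.2.1
    · rw [sm1]
      exact (coord_smul hW _ _).2.2.1
    · rw [mul_assoc]
      exact sol f _ _ hf (Tor.k1 hR hT hf v).2
    · obtain ⟨h1, h2⟩ := hne f hf
      rw [mul_pow, ratK f hf, sh]
      simp only [map_pow, map_inv₀]
      field_simp
  have hδ : ∀ a, (ww x y 1 (0, 0, a, 0)).2.2.1 = 0 := by
    refine semi_A hD (fun a => (ww x y 1 (0, 0, a, 0)).2.2.1) (fun s t => ?_) (fun c t => ?_)
      (fun f => algebraMap F K (T f / T f⁻¹) * (f * φ f * φ (φ f)) ^ 2 * sh φ (f ^ 2)) (fun f hf v => ?_)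
      (fun f hf => ?_)
    · rw [inj2]
      exact (coord_add hW _ _).2.2.1
    · rw [sm2]
      exact (coord_smul hW _ _).2.2.1
    · obtain ⟨h1, h2⟩ := hne f hf
      have h3 := (Tor.k3 hR hT hf v).2
      have h4 : algebraMap F K (T f) ≠ 0 := by simpa using hT.ne hf
      have h5 : algebraMap F K (T f⁻¹) ≠ 0 := by simpa using hT.ne (inv_ne_zero hf)
      rw [Algebra.smul_def, Algebra.smul_def, map_mul, coe_nm, sh] at h3
      simp only [map_pow, map_inv₀] at h3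
      rw [sh, map_div₀]
      simp only [map_pow]
      generalize algebraMap F K (T f⁻¹) = A at h3 h5 ⊢
      field_simp at h3 ⊢
      linear_combination -h3
    · rw [mul_pow, mul_pow]
      have h3 := ratK' f hf
      rw [sh]
      simp only [map_pow]
      linear_combination (φ f ^ 4 * φ (φ f) ^ 4) * h3
  have hβ : ∀ a, (ww x y 1 (0, 0, a, 0)).2.1 = (ww x y 1 (0, 0, 1, 0)).2.1 * a := by
    refine semi_B hD (fun a => (ww x y 1 (0, 0, a, 0)).2.1) (fun s t => ?_) (fun c t => ?_)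
      (fun f => algebraMap F K (T f / T f⁻¹) * (f * φ f * φ (φ f)) ^ 2 * f ^ 2) (fun f hf v => ?_)
      (fun f hf => ?_)
    · rw [inj2]
      exact (coord_add hW _ _).2.1
    · rw [sm2]
      exact (coord_smul hW _ _).2.1
    · obtain ⟨h1, h2⟩ := hne f hf
      have h3 := (Tor.k3 hR hT hf v).1
      have h4 : algebraMap F K (T f) ≠ 0 := by simpa using hT.ne hf
      have h5 : algebraMap F K (T f⁻¹) ≠ 0 := by simpa using hT.ne (inv_ne_zero hf)
      rw [Algebra.smul_def, Algebra.smul_def, map_mul, coe_nm] at h3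
      simp only [map_pow] at h3
      rw [map_div₀]
      generalize algebraMap F K (T f⁻¹) = A at h3 h5 ⊢
      field_simp at h3 ⊢
      linear_combination -h3
    · rw [mul_pow, mul_pow]
      have h3 := ratK' f hf
      linear_combination (f ^ 4) * h3
  refine ⟨(ww x y 1 (0, 0, 1, 0)).2.1, (ww x y 1 (0, 1, 0, 0)).2.2.1, fun a b => ?_⟩
  have h1 : ((0 : F), a, b, (0 : F)) = ((0, a, 0, 0) : V1 F K) + (0, 0, b, 0) := by
    change _ = (((0 : F) + 0, a + 0, (0 : K) + b, (0 : F) + 0) : V1 F K)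
    simp
  rw [h1, (coord_add hW _ _).2.1, (coord_add hW _ _).2.2.1, hα a, hδ b, hβ b, hγ a, zero_add, add_zero]
  exact ⟨rfl, rfl⟩

end main

end Cfsg.Agent.H200.D4
end

-- part: H200/D4/Lin1b
section
/-!
# S5261 [D3-LIN1B]: the relations determine the Weyl element and the torus (helper200)
-/

set_option autoImplicit false
set_option linter.unusedSectionVars false

namespace Cfsg.Agent.H200.D4

open Cfsg.Agent.H765.D3 Cfsg.Agent.H780.D4
open Cfsg.Agent.Hex.Defs (sh cr nm tr)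

universe u

section main

variable {F K : Type u} [Field F] [Field K] [Algebra F K] {φ : K ≃ₐ[F] K} [Cub φ] {p n : ℕ}
  {x y : K → Equiv.Perm (V1 F K)}

theorem sm3 (c : F) : ((0 : F), (0 : K), (0 : K), c) = c • ((0, 0, 0, 1) : V1 F K) := by
  change _ = ((c * 0, c • 0, c • 0, c * 1) : V1 F K)
  simp

theorem sm0 (c : F) : (c, (0 : K), (0 : K), (0 : F)) = c • ((1, 0, 0, 0) : V1 F K) := by
  change _ = ((c * 1, c • 0, c • 0, c * 0) : V1 F K)
  simp

theorem sh_one' : sh φ 1 = 1 := by simp [sh]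

theorem x_m (hR : RkV φ x y) (a : K) : x a (0, 0, 0, 1) = (0, 0, 0, 1) := by
  rw [hR.xact]
  simp [cr_zero_right, tr_zero]

theorem x_e (hR : RkV φ x y) (a : K) : x a (1, 0, 0, 0) = (1, a, sh φ a, nm φ a) := by
  rw [hR.xact]
  simp [cr_zero_right, tr_zero]

/-- fixed vectors of the unipotent group -/
theorem fixX (hR : RkV φ x y) {v : V1 F K} (h : ∀ a, x a v = v) : v = v.2.2.2 • ((0, 0, 0, 1) : V1 F K) := by
  obtain ⟨v0, v1, v2, v3⟩ := v
  have h0 : v0 = 0 := by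
    have h1 := h 1
    rw [hR.xact] at h1
    have h2 := congrArg (fun v => v.2.1) h1
    dsimp only at h2
    have h3 : v0 • (1 : K) = 0 := by simpa using h2
    rw [Algebra.smul_def, mul_one] at h3
    simpa using h3
  subst h0
  have h1 : v1 = 0 := cr_nondeg φ (fun a => by
    have h1 := h a
    rw [hR.xact] at h1
    have h2 := congrArg (fun v => v.2.2.1) h1
    dsimp only at h2
    simpa using h2)
  subst h1
  have h2 : v2 = 0 := tr_nondeg φ (fun a => by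
    have h1 := h a
    rw [hR.xact] at h1
    have h2 := congrArg (fun v => v.2.2.2) h1
    dsimp only at h2
    rw [mul_comm]
    simpa [tr_zero] using h2)
  subst h2
  exact sm3 v3

theorem yWm (hR : RkV φ x y) (b : K) : y b (ww x y 1 (0, 0, 0, 1)) = ww x y 1 (0, 0, 0, 1) := by
  have := wx' hR (-b) (0, 0, 0, 1)
  rw [neg_neg, x_m hR] at this
  exact this.symm

theorem Wm_ne (hR : RkV φ x y) : ww x y 1 (0, 0, 0, 1) ≠ 0 := by
  intro h
  have h1 : ww x y 1 (0, 0, 0, 1) = ww x y 1 0 := by rw [h, (w_Gd hR 1).zero]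
  have h2 := (ww x y 1).injective h1
  have h3 := congrArg (fun v : V1 F K => v.2.2.2) h2
  exact one_ne_zero h3

/-- not all `f²` are in `F` -/
theorem not_sq (h : ∀ f : K, f ≠ 0 → φ f ^ 2 = f ^ 2) : False := by
  obtain ⟨θ, hθ⟩ := Cub.ne (φ := φ)
  apply hθ
  apply sq_fix
  apply h
  rintro rfl
  exact hθ (map_zero φ)

/-- the relation with `h(f)` on `W m` -/
theorem Tor.m {T : K → F} (hR : RkV φ x y) (hT : Tor φ x y T) {f : K} (hf : f ≠ 0) :
    nm φ (f ^ 2) * T f * (ww x y 1 (0, 0, 0, 1)).1 = T f⁻¹ * (ww x y 1 (0, 0, 0, 1)).1 ∧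
    (nm φ (f ^ 2) * T f) • (ww x y 1 (0, 0, 0, 1)).2.1 = T f⁻¹ • (f⁻¹ ^ 2 * (ww x y 1 (0, 0, 0, 1)).2.1) ∧
    (nm φ (f ^ 2) * T f) • (ww x y 1 (0, 0, 0, 1)).2.2.1 =
      T f⁻¹ • (sh φ (f⁻¹ ^ 2) * (ww x y 1 (0, 0, 0, 1)).2.2.1) ∧
    nm φ (f ^ 2) * T f * (ww x y 1 (0, 0, 0, 1)).2.2.2 =
      nm φ (f⁻¹ ^ 2) * T f⁻¹ * (ww x y 1 (0, 0, 0, 1)).2.2.2 := by
  have h := Tor.key hR hT hf (0, 0, 0, 1)
  simp only [mul_zero, smul_zero, mul_one] at h
  rw [sm3, (w_Gd hR 1).smul] at h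
  exact ⟨congrArg (fun v => v.1) h, congrArg (fun v => v.2.1) h, congrArg (fun v => v.2.2.1) h,
    congrArg (fun v => v.2.2.2) h⟩

theorem Wm_mid (hR : RkV φ x y) :
    (ww x y 1 (0, 0, 0, 1)).2.1 = 0 ∧ (ww x y 1 (0, 0, 0, 1)).2.2.1 = 0 := by
  obtain ⟨T, hT⟩ := exists_Tor hR
  constructor
  · by_contra hne
    apply not_sq (φ := φ)
    intro f hf
    have hf' := inv_ne_zero hf
    have h1 := (Tor.m hR hT hf').2.1
    rw [inv_inv, Algebra.smul_def, Algebra.smul_def, ← mul_assoc] at h1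
    have h2 := mul_right_cancel₀ hne h1
    have h3 : algebraMap F K (T f) ≠ 0 := by simpa using hT.ne hf
    have h4 : f ^ 2 = algebraMap F K (nm φ (f⁻¹ ^ 2) * T f⁻¹ / T f) := by
      rw [map_div₀, eq_div_iff h3, h2, mul_comm]
    rw [← map_pow, h4, phi_coe]
  · by_contra hne
    apply not_sq (φ := φ)
    intro f hf
    have hf' := inv_ne_zero hf
    have h1 := (Tor.m hR hT hf').2.2.1
    rw [inv_inv, Algebra.smul_def, Algebra.smul_def, ← mul_assoc] at h1
    have h2 := mul_right_cancel₀ hne h1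
    have h3 : algebraMap F K (T f) ≠ 0 := by simpa using hT.ne hf
    have h4 : sh φ (f ^ 2) = algebraMap F K (nm φ (f⁻¹ ^ 2) * T f⁻¹ / T f) := by
      rw [map_div₀, eq_div_iff h3, h2, mul_comm]
    have h5 := congrArg φ h4
    rw [phi_coe, ← h4, sh] at h5
    simp only [map_mul, map_pow, phi3] at h5
    have h6 : φ (φ f) ^ 2 ≠ 0 := pow_ne_zero 2 (by simpa using hf)
    apply mul_right_cancel₀ h6
    linear_combination -h5

/-- **(d)** -/
theorem Wm_fst (hD : HypD φ p n) (hR : RkV φ x y) : (ww x y 1 (0, 0, 0, 1)).1 ≠ 0 := by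
  intro h0
  obtain ⟨β, γ, hmid⟩ := mid hD hR
  obtain ⟨h1, h2⟩ := Wm_mid hR
  have hW := w_Gd hR 1
  obtain ⟨s, hs⟩ : ∃ s, s = (ww x y 1 (0, 0, 0, 1)).2.2.2 := ⟨_, rfl⟩
  have hWm : ww x y 1 (0, 0, 0, 1) = s • ((0, 0, 0, 1) : V1 F K) := by
    rw [← sm3, hs]
    exact Prod.ext h0 (Prod.ext h1 (Prod.ext h2 rfl))
  have hs0 : s ≠ 0 := by
    rintro rfl
    exact Wm_ne hR (by rw [hWm, zero_smul])
  -- first coordinates
  have hfst : ∀ v : V1 F K, v.1 = 0 → (ww x y 1 v).1 = 0 := fun v hv => by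
    have h3 := hW.frm (0, 0, 0, 1) v
    rw [hWm, formV_smul_left] at h3
    simp only [formV, hv, zero_mul, mul_zero, tr_zero, one_mul, zero_sub, sub_zero, add_zero] at h3
    rcases mul_eq_zero.1 h3 with h4 | h4
    · exact absurd h4 hs0
    · simpa using h4
  have hym : ∀ b, y b (0, 0, 0, 1) = (0, 0, 0, 1) := fun b => by
    have h3 := yWm hR b
    rw [hWm, (y_Gd hR b).smul] at h3
    have h4 := congrArg (fun v => s⁻¹ • v) h3
    rw [smul_smul, smul_smul, inv_mul_cancel₀ hs0, one_smul, one_smul] at h4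
    exact h4
  have hβ : β ≠ 0 := by
    rintro rfl
    have h3 := hmid 0 1
    have h4 : ww x y 1 (0, 0, 1, 0) = ww x y 1 (((ww x y 1 (0, 0, 1, 0)).2.2.2 / s) • ((0, 0, 0, 1) : V1 F K)) := by
      rw [hW.smul, hWm, smul_smul, div_mul_cancel₀ _ hs0, ← sm3]
      refine Prod.ext (hfst _ rfl) (Prod.ext ?_ (Prod.ext ?_ rfl))
      · rw [h3.1, zero_mul]
      · rw [h3.2, mul_zero]
    have h5 := (ww x y 1).injective h4
    rw [← sm3] at h5
    have h6 := congrArg (fun v : V1 F K => v.2.2.1) h5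
    exact one_ne_zero h6
  have hγ : γ ≠ 0 := by
    rintro rfl
    have h3 := hmid 1 0
    have h4 : ww x y 1 (0, 1, 0, 0) = ww x y 1 (((ww x y 1 (0, 1, 0, 0)).2.2.2 / s) • ((0, 0, 0, 1) : V1 F K)) := by
      rw [hW.smul, hWm, smul_smul, div_mul_cancel₀ _ hs0, ← sm3]
      refine Prod.ext (hfst _ rfl) (Prod.ext ?_ (Prod.ext ?_ rfl))
      · rw [h3.1, mul_zero]
      · rw [h3.2, zero_mul]
    have h5 := (ww x y 1).injective h4
    rw [← sm3] at h5
    have h6 := congrArg (fun v : V1 F K => v.2.1) h5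
    exact one_ne_zero h6
  -- vectors with first coordinate 0
  have dec : ∀ (a b : K) (c : F), ((0 : F), a, b, c) = ((0, a, b, 0) : V1 F K) + c • ((0, 0, 0, 1) : V1 F K) :=
    fun a b c => by
      rw [← sm3]
      change _ = (((0 : F) + 0, a + 0, b + 0, (0 : F) + c) : V1 F K)
      simp
  have hWc : ∀ (a b : K) (c : F), (ww x y 1 (0, a, b, c)).2.1 = β * b ∧ (ww x y 1 (0, a, b, c)).2.2.1 = γ * a :=
    fun a b c => by
      rw [dec, (coord_add hW _ _).2.1, (coord_add hW _ _).2.2.1, (coord_smul hW _ _).2.1,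
        (coord_smul hW _ _).2.2.1, h1, h2, smul_zero, add_zero, add_zero]
      exact hmid a b
  have hyc : ∀ (a b : K) (c : F), (y (-1) (0, a, b, c)).1 = (y (-1) (0, a, b, 0)).1 ∧
      (y (-1) (0, a, b, c)).2.1 = (y (-1) (0, a, b, 0)).2.1 := fun a b c => by
    have hY := y_Gd hR (-1)
    rw [dec, (coord_add hY _ _).2.1, (coord_add hY _ _).1, (coord_smul hY _ _).2.1,
      (coord_smul hY _ _).1, hym]
    constructor
    · simp
    · simp
  have hx0 : ∀ (a b : K) (c : F), x 1 (0, a, b, c) = (0, a, b + cr φ 1 a, c + tr φ b + tr φ a) := fun a b c => by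
    rw [hR.xact]
    simp [sh_one']
  -- `y(-1)` on the middle coordinates
  have hy1 : ∀ a b : K, (y (-1) (0, β * b, γ * a, 0)).1 = 0 ∧
      (y (-1) (0, β * b, γ * a, 0)).2.1 = β * (b + cr φ 1 a) := fun a b => by
    have h3 := wx' hR 1 (0, a, b, 0)
    have h4 : ww x y 1 (0, a, b, 0) = (0, β * b, γ * a, (ww x y 1 (0, a, b, 0)).2.2.2) :=
      Prod.ext (hfst _ rfl) (Prod.ext (hmid a b).1 (Prod.ext (hmid a b).2 rfl))
    rw [h4, hx0] at h3
    rw [← (hyc _ _ (ww x y 1 (0, a, b, 0)).2.2.2).1, ← (hyc _ _ (ww x y 1 (0, a, b, 0)).2.2.2).2, ← h3]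
    exact ⟨hfst _ rfl, (hWc _ _ _).1⟩
  have main : ∀ v : K, v + β * cr φ 1 (γ⁻¹ * cr φ 1 v) = 0 := fun v => by
    have h3 := (hmid v 0).1
    rw [mul_zero, ww_one, Equiv.Perm.mul_apply, Equiv.Perm.mul_apply, hx0] at h3
    have h4 := hy1 (γ⁻¹ * (0 + cr φ 1 v)) (β⁻¹ * v)
    rw [mul_inv_cancel_left₀ hβ, mul_inv_cancel_left₀ hγ] at h4
    have h5 := hyc v (0 + cr φ 1 v) (0 + tr φ 0 + tr φ v)
    rw [h4.1, h4.2] at h5
    rw [hR.xact] at h3
    dsimp only at h3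
    rw [h5.1, h5.2, zero_smul, add_zero, zero_add, mul_add, mul_inv_cancel_left₀ hβ] at h3
    exact h3
  have h7 := (dedekind φ (x := 1 + β * (φ (φ γ⁻¹) + φ γ⁻¹)) (y := β * φ (φ γ⁻¹)) (z := β * φ γ⁻¹) fun v => by
    have h8 := main v
    simp only [cr, map_add, map_mul, map_one, phi3, one_mul] at h8
    linear_combination h8).2.2
  rcases mul_eq_zero.1 h7 with h9 | h9
  · exact hβ h9
  · have : γ⁻¹ = 0 := by simpa using h9
    exact hγ (by simpa using this)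

theorem two_ne (hD : HypD φ p n) (hp : p ≠ 2) : (2 : F) ≠ 0 := by
  intro h
  have h1 : (2 : K) = 0 := by
    have := congrArg (algebraMap F K) h
    rw [map_ofNat, map_zero] at this
    exact this
  have hch := hD.char
  have : ((2 : ℕ) : K) = 0 := by exact_mod_cast h1
  have h3 := (CharP.cast_eq_zero_iff K p 2).1 this
  exact hp ((Nat.prime_dvd_prime_iff_eq hD.pp Nat.prime_two).1 h3)

theorem two_eq (hD : HypD φ p n) (hp : p = 2) : (2 : F) = 0 := by
  have hch := hD.char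
  subst hp
  apply (algebraMap F K).injective
  rw [map_ofNat, map_zero]
  have := CharP.cast_eq_zero K 2
  exact_mod_cast this

/-- **(e)** -/
theorem Wm_last (hD : HypD φ p n) (hR : RkV φ x y) : (ww x y 1 (0, 0, 0, 1)).2.2.2 = 0 := by
  by_contra hs
  have hr := Wm_fst hD hR
  obtain ⟨h1, h2⟩ := Wm_mid hR
  obtain ⟨T, hT⟩ := exists_Tor hR
  have hW := w_Gd hR 1
  have hnm : ∀ f : K, f ≠ 0 → nm φ f ^ 2 = 1 := fun f hf => by
    have hf' := inv_ne_zero hf
    obtain ⟨e1, -, -, e2⟩ := Tor.m hR hT hf'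
    rw [inv_inv] at e1 e2
    have e3 := mul_right_cancel₀ hr e1
    have e4 := mul_right_cancel₀ hs e2
    rw [e3, pow_two, nm_mul] at e4
    have e5 : (nm φ f * nm φ f) * T f = 1 * T f := by rw [one_mul]; exact e4.symm
    rw [pow_two]
    exact mul_right_cancel₀ (hT.ne hf) e5
  have hq := nm_sq_count hD hnm
  have hq2 := two_le_q hD
  obtain ⟨r, hr'⟩ : ∃ r, r = (ww x y 1 (0, 0, 0, 1)).1 := ⟨_, rfl⟩
  obtain ⟨s, hs'⟩ : ∃ s, s = (ww x y 1 (0, 0, 0, 1)).2.2.2 := ⟨_, rfl⟩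
  have hWm : ww x y 1 (0, 0, 0, 1) = (r, 0, 0, s) :=
    Prod.ext hr'.symm (Prod.ext h1 (Prod.ext h2 hs'.symm))
  rw [← hs'] at hs
  rw [← hr'] at hr
  rcases (by omega : p ^ n = 2 ∨ p ^ n = 3) with hc | hc
  · -- `q = 2`
    have hp : p = 2 := by
      have h3 : p ∣ 2 := by rw [← hc]; exact dvd_pow_self p (by have := hD.hn; omega)
      exact (Nat.prime_dvd_prime_iff_eq hD.pp Nat.prime_two).1 h3
    have h3 : quadV φ (ww x y 1 (0, 0, 0, 1)) = quadV φ (0, 0, 0, 1) := by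
      rw [ww_one, Equiv.Perm.mul_apply, Equiv.Perm.mul_apply, act_quadV (two_eq hD hp) (hR.xact 1),
        hR.two (by rw [hD.card, hc]), act_quadV (two_eq hD hp) (hR.xact 1)]
    rw [hWm] at h3
    simp only [quadV, mul_zero, tr_zero, add_zero] at h3
    rcases mul_eq_zero.1 h3 with h4 | h4
    · exact hs h4
    · exact hr h4
  · -- `q = 3`
    have hp : p ≠ 2 := by
      rintro rfl
      have h3 : 2 ∣ 3 := by rw [← hc]; exact dvd_pow_self 2 (by have := hD.hn; omega)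
      omega
    obtain ⟨g, hg, hgy⟩ := hR.three (by rw [hD.card, hc])
    have hgv : ∀ v : V1 F K, g v = (v.1, -v.2.1, v.2.2.1, -v.2.2.2) := fun v => by
      rw [hg.app v]
      simp [sh_neg, sh_one', nm_neg, nm_one]
    have hgg : g * g = 1 := by
      apply Equiv.ext
      intro v
      rw [Equiv.Perm.mul_apply, hgv, hgv]
      simp
    have hginv : g⁻¹ = g := inv_eq_of_mul_eq_one_left hgg
    have hfix : ∀ b, y b (g (ww x y 1 (0, 0, 0, 1))) = g (ww x y 1 (0, 0, 0, 1)) := fun b => by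
      obtain ⟨c, hc⟩ := hgy b
      rw [hginv] at hc
      have h3 : y b * g = g * y c := by
        rw [← hc, ← mul_assoc, ← mul_assoc, hgg, one_mul]
      rw [← Equiv.Perm.mul_apply, h3, Equiv.Perm.mul_apply, yWm hR]
    obtain ⟨z, hz⟩ := (ww x y 1).surjective (g (ww x y 1 (0, 0, 0, 1)))
    have hzfix : ∀ a, x a z = z := fun a => by
      apply (ww x y 1).injective
      rw [wx' hR, hz, hfix]
    have hz2 := fixX hR hzfix
    rw [hz2, hW.smul, hWm, hgv] at hz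
    have e1 := congrArg (fun v : V1 F K => v.1) hz
    have e2 := congrArg (fun v : V1 F K => v.2.2.2) hz
    change z.2.2.2 * r = r at e1
    change z.2.2.2 * s = -s at e2
    have e3 : z.2.2.2 = 1 := mul_right_cancel₀ hr (by rw [e1, one_mul])
    rw [e3, one_mul] at e2
    have e4 : 2 * s = 0 := by linear_combination e2
    rcases mul_eq_zero.1 e4 with e5 | e5
    · exact two_ne hD hp e5
    · exact hs e5

/-- **(f)** -/
theorem W_final (hD : HypD φ p n) (hR : RkV φ x y) : IsW1V (ww x y 1) := by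
  obtain ⟨β, γ, hmid⟩ := mid hD hR
  obtain ⟨h1, h2⟩ := Wm_mid hR
  have h3 := Wm_last hD hR
  have hr := Wm_fst hD hR
  have hW := w_Gd hR 1
  obtain ⟨r, hr'⟩ : ∃ r, r = (ww x y 1 (0, 0, 0, 1)).1 := ⟨_, rfl⟩
  have hWm : ww x y 1 (0, 0, 0, 1) = r • ((1, 0, 0, 0) : V1 F K) := by
    rw [← sm0]
    exact Prod.ext hr'.symm (Prod.ext h1 (Prod.ext h2 h3))
  rw [← hr'] at hr
  have hye : ∀ b, y b (1, 0, 0, 0) = (1, 0, 0, 0) := fun b => by
    have h3 := yWm hR b
    rw [hWm, (y_Gd hR b).smul] at h3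
    have h4 := congrArg (fun v => r⁻¹ • v) h3
    rw [smul_smul, smul_smul, inv_mul_cancel₀ hr, one_smul, one_smul] at h4
    exact h4
  have hWe : ww x y 1 (1, 0, 0, 0) = (ww x y 1 (1, 0, 0, 0)).2.2.2 • ((0, 0, 0, 1) : V1 F K) := by
    apply fixX hR
    intro a
    have h5 := wy' hR (-a) (1, 0, 0, 0)
    rw [neg_neg, hye] at h5
    exact h5.symm
  obtain ⟨d, hd⟩ : ∃ d, d = (ww x y 1 (1, 0, 0, 0)).2.2.2 := ⟨_, rfl⟩
  rw [← hd] at hWe
  have hd0 : d ≠ 0 := by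
    rintro rfl
    rw [zero_smul, ← hW.zero] at hWe
    have h5 := congrArg (fun v : V1 F K => v.1) ((ww x y 1).injective hWe)
    exact one_ne_zero h5
  have hmid2 : ∀ a b : K, ww x y 1 (0, a, b, 0) = (0, β * b, γ * a, 0) := fun a b => by
    refine Prod.ext ?_ (Prod.ext (hmid a b).1 (Prod.ext (hmid a b).2 ?_))
    · have h5 := hW.frm (1, 0, 0, 0) (0, a, b, 0)
      rw [hWe, formV_smul_left] at h5
      simp only [formV, zero_mul, mul_zero, tr_zero, one_mul, zero_sub, sub_zero, add_zero] at h5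
      rcases mul_eq_zero.1 h5 with h6 | h6
      · exact absurd h6 hd0
      · simpa using h6
    · have h5 := hW.frm (0, 0, 0, 1) (0, a, b, 0)
      rw [hWm, formV_smul_left] at h5
      simp only [formV, zero_mul, mul_zero, tr_zero, one_mul, sub_zero, add_zero] at h5
      rcases mul_eq_zero.1 h5 with h6 | h6
      · exact absurd h6 hr
      · simpa using h6
  have hWv : ∀ v0 v1 v2 v3, ww x y 1 (v0, v1, v2, v3) = (r * v3, β * v2, γ * v1, d * v0) := fun v0 v1 v2 v3 => by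
    have h5 : (v0, v1, v2, v3) = (v0 • ((1, 0, 0, 0) : V1 F K) + (0, v1, v2, 0)) + v3 • ((0, 0, 0, 1) : V1 F K) := by
      rw [← sm3, ← sm0]
      change _ = ((v0 + 0 + 0, 0 + v1 + 0, 0 + v2 + 0, 0 + 0 + v3) : V1 F K)
      simp
    rw [h5, hW.add, hW.add, hW.smul, hW.smul, hWm, hWe, hmid2, smul_smul, smul_smul, ← sm3, ← sm0]
    change ((0 + 0 + v3 * r, 0 + β * v2 + 0, 0 + γ * v1 + 0, v0 * d + 0 + 0) : V1 F K) = _
    simp [mul_comm]
  have e1 : y (-1) (x 1 (1, 0, 0, 0)) = ww x y 1 (1, 0, 0, 0) := by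
    apply (x 1).injective
    have e2 : x 1 (y (-1) (x 1 (1, 0, 0, 0))) = ww x y 1 (1, 0, 0, 0) := by
      rw [ww_one, Equiv.Perm.mul_apply, Equiv.Perm.mul_apply]
    rw [e2, hWe, (x_Gd hR 1).smul, x_m hR]
  have e3 : x 1 (1, 0, 0, 0) = ww x y 1 (x (-1) (1, 0, 0, 0)) := by
    rw [wx' hR, neg_neg, ← e1, ← Equiv.Perm.mul_apply, y_neg hR, mul_inv_cancel, Equiv.Perm.one_apply]
  rw [x_e hR, x_e hR, hWv, sh_neg, sh_one', nm_neg, nm_one] at e3
  have f0 := congrArg (fun v : V1 F K => v.1) e3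
  have f1 := congrArg (fun v : V1 F K => v.2.1) e3
  have f2 := congrArg (fun v : V1 F K => v.2.2.1) e3
  have f3 := congrArg (fun v : V1 F K => v.2.2.2) e3
  dsimp only at f0 f1 f2 f3
  have g0 : r = -1 := by linear_combination f0
  have g1 : β = 1 := by linear_combination -f1
  have g2 : γ = -1 := by linear_combination f2
  have g3 : d = 1 := by linear_combination -f3
  rintro ⟨v0, v1, v2, v3⟩
  rw [hWv, g0, g1, g2, g3]
  simp

end main

/-- **S5261 [D3-LIN1B]** -/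
theorem stLin1b : StLin1b.{u} := by
  intro F K _ _ _ φ _ p n hD x y hR
  have hW := W_final hD hR
  refine ⟨by rw [← ww_one]; exact hW, fun f hf => ?_⟩
  obtain ⟨T, hT⟩ := exists_Tor hR
  have hWe : ww x y 1 (1, 0, 0, 0) = (0, 0, 0, 1) := by
    rw [hW]
    simp
  -- `T f = (nm f)⁻¹`
  have h1 : nm φ (f ^ 2) * T f = nm φ f := by
    have h2 := hT.app f hf (0, 0, 0, 1)
    simp only [mul_zero, smul_zero, mul_one] at h2
    rw [Equiv.Perm.mul_apply, ← hWe, ← Equiv.Perm.mul_apply (ww x y 1)⁻¹, inv_mul_cancel, Equiv.Perm.one_apply, sm3] at h2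
    have h3 : y (-f⁻¹) (x f (1, 0, 0, 0)) = (nm φ (f ^ 2) * T f) • ((0, 0, 0, 1) : V1 F K) := by
      apply (x f).injective
      rw [(x_Gd hR f).smul, x_m hR, ← h2]
      rfl
    have h4 : x f (1, 0, 0, 0) = (nm φ (f ^ 2) * T f) • ww x y 1 (x (-f⁻¹) (1, 0, 0, 0)) := by
      rw [wx' hR, neg_neg, hWe, ← (y_Gd hR f⁻¹).smul, ← h3, ← Equiv.Perm.mul_apply, y_neg hR,
        mul_inv_cancel, Equiv.Perm.one_apply]
    rw [x_e hR, x_e hR, hW] at h4
    have h5 := congrArg (fun v : V1 F K => v.2.2.2) h4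
    change nm φ f = nm φ (f ^ 2) * T f * 1 at h5
    rw [mul_one] at h5
    exact h5.symm
  have hnm : nm φ f ≠ 0 := fun h => hf ((nm_eq_zero φ).1 h)
  have hTf : T f = (nm φ f)⁻¹ := by
    rw [pow_two, nm_mul] at h1
    field_simp
    apply mul_left_cancel₀ hnm
    linear_combination h1
  rw [← ww_one]
  refine ⟨pow_ne_zero 2 hf, inv_ne_zero hnm, fun _ => rfl, fun v => ?_⟩
  rw [← hTf]
  exact hT.app f hf v

end Cfsg.Agent.H200.D4
end

private theorem dce_351880055ba3 : _root_.True := by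
  try have : _root_.True := by simp only [_root_.Cfsg.Agent.H780.D4.formV.eq_1]
  try have : _root_.True := by simp only [_root_.Cfsg.Agent.H765.D3.Sy.rhoF.eq_1]
  try have : _root_.True := by simp only [_root_.Cfsg.Agent.H200.D4.ww.eq_1]
  try have : _root_.True := by simp only [_root_.Cfsg.Agent.H765.D4.tK.congr_simp]
  try have : _root_.True := by simp only [_root_.Cfsg.Agent.H765.D4.w1Fun.eq_1]
  try have : _root_.True := by simp only [_root_.Cfsg.Agent.H780.D4.quadV.eq_1]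
  try have : _root_.True := by simp only [_root_.Cfsg.Agent.H765.D4.w2Fun.eq_1]
  exact _root_.True.intro
end

-- part: H802/TE/Mid
section
prune_inst 0x1102004000000000000001010000000000001200040000000a001020000000000000000080001100008000000000000000000800000000000000000000400000000000000000000000000000000000000000000000000000000000000000004000000000
set_option linter.all false
open scoped Cfsg.Agent.FastGrp

-- part: H218/TE/RoAbs
section
/-!
# S5261, (Ro): the abstract half, `V = R/Φ(R)`, `Z = Z2/Φ(R)`, `M/Z` the fixed space of `T` on `V/Z`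

No finite group has such a module (`p` odd). Main theorem `RoHyp.false`, and `roAbs` for representations.
-/

set_option autoImplicit false
set_option linter.unusedSectionVars false
set_option linter.unusedVariables false

namespace Cfsg.Agent.H218.TE

open Cfsg.Agent.H218.Count Cfsg.Agent.H218.CountQ Cfsg.Agent.H218.Glob Cfsg.Agent.H218.Fus

universe u

/-- the hypotheses -/
structure RoHyp {G V : Type u} [Group G] [AddCommGroup V] [DistribMulAction G V] (p : ℕ) (T : Subgroup G)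
    (Z M : AddSubgroup V) : Prop where
  pV : ∀ v : V, p • v = 0
  p2 : p ≠ 2
  faith : ∀ g : G, (∀ v : V, g • v = v) → g = 1
  Tp : IsPGroup p T
  T1 : T ≠ ⊥
  nonn : ∃ g : G, ∃ t ∈ T, g * t * g⁻¹ ∉ T
  syl : ∀ P : Subgroup G, IsPGroup p P → ∃ g : G, ∀ x ∈ P, g * x * g⁻¹ ∈ T
  ZM : Z ≤ M
  Zinv : ∀ (g : G), ∀ z ∈ Z, g • z ∈ Z
  TZ : ∀ t ∈ T, ∀ z ∈ Z, t • z = z
  fix : ∀ v : V, (∀ t ∈ T, t • v = v) → v ∈ Z
  TM : ∀ t ∈ T, ∀ v : V, t • v - v ∈ M
  M1 : ∀ t ∈ T, t ≠ 1 → ∀ v : V, t • v - v ∈ Z ↔ v ∈ M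
  cV : Nat.card V = Nat.card Z * Nat.card T ^ 2
  cM : Nat.card M = Nat.card Z * Nat.card T

namespace RoHyp

variable {G V : Type u} [Group G] [Finite G] [AddCommGroup V] [Finite V] [DistribMulAction G V] {p : ℕ}
  [hp : Fact p.Prime] {T : Subgroup G} {Z M : AddSubgroup V} (h : RoHyp p T Z M)

/-- the translate `g M` -/
def tM (M : AddSubgroup V) (g : G) : AddSubgroup V := M.comap (DistribSMul.toAddMonoidHom V g⁻¹)

omit [Finite G] [Finite V] in
theorem mem_tM {M : AddSubgroup V} {g : G} {v : V} : v ∈ tM M g ↔ g⁻¹ • v ∈ M := Iff.rfl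

omit [Finite G] [Finite V] in
theorem smul_mem_tM {M : AddSubgroup V} {g : G} {v : V} (hv : v ∈ M) : g • v ∈ tM M g := by
  rw [mem_tM, inv_smul_smul]; exact hv

theorem card_tM (M : AddSubgroup V) (g : G) : Nat.card (tM M g) = Nat.card M := by
  refine Nat.card_congr ⟨fun v => ⟨g⁻¹ • (v : V), v.2⟩, fun v => ⟨g • (v : V), smul_mem_tM v.2⟩, ?_, ?_⟩
  · intro v; exact Subtype.ext (smul_inv_smul g (v : V))
  · intro v; exact Subtype.ext (inv_smul_smul g (v : V))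

/-- three-step chains are stabilized by elements of order `p` only -/
theorem pow_p_eq_one (pV : ∀ v : V, p • v = 0) (p2 : p ≠ 2) (faith : ∀ g : G, (∀ v : V, g • v = v) → g = 1)
    {M' Z' : AddSubgroup V} {c : G} (h1 : ∀ v : V, c • v - v ∈ M') (h2 : ∀ m ∈ M', c • m - m ∈ Z')
    (h3 : ∀ z ∈ Z', c • z = z) : c ^ p = 1 := by
  apply faith
  intro v
  set m := c • v - v with hm
  set z := c • m - m with hz
  have hcz : c • z = z := h3 _ (h2 _ (h1 v))
  have key : ∀ n : ℕ, (c ^ n) • v = v + n • m + (n.choose 2) • z := by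
    intro n
    induction n with
    | zero => simp
    | succ n ih =>
      have e1 : c • v = v + m := by rw [hm]; abel
      have e2 : c • m = m + z := by rw [hz]; abel
      rw [pow_succ', mul_smul, ih, smul_add, smul_add, e1, smul_comm c n m, e2, smul_comm c (n.choose 2) z, hcz,
        Nat.choose_succ_succ' n 1, Nat.choose_one_right, smul_add, succ_nsmul, add_smul]
      abel
  rw [key, pV, add_zero]
  have h4 : p ∣ p.choose 2 := hp.out.dvd_choose_self (by norm_num) (by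
    have := hp.out.two_le
    omega)
  obtain ⟨k, hk⟩ := h4
  rw [hk, mul_smul, pV, add_zero]

include h

theorem card_T : 2 ≤ Nat.card T := by
  have h1 : Nat.card T ≠ 1 := fun h1 => h.T1 (Subgroup.eq_bot_of_card_eq _ h1)
  have h2 : 0 < Nat.card T := Nat.card_pos
  omega

/-- `T` is a maximal `p`-subgroup -/
theorem eq_T {P : Subgroup G} (hP : IsPGroup p P) (hTP : T ≤ P) : P = T := by
  obtain ⟨g, hg⟩ := h.syl P hP
  symm
  apply Subgroup.eq_of_le_of_card_ge hTP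
  refine Nat.card_le_card_of_injective (fun x : P => (⟨g * x * g⁻¹, hg x x.2⟩ : T)) ?_
  intro x y hxy
  have h1 : g * (x : G) * g⁻¹ = g * y * g⁻¹ := congrArg Subtype.val hxy
  exact Subtype.ext (mul_left_cancel (mul_right_cancel h1))

theorem pelt_Z {q : G} (hq : ∃ k, q ^ p ^ k = 1) {z : V} (hz : z ∈ Z) : q • z = z := by
  obtain ⟨g, hg⟩ := h.syl _ (isPGroup_zpowers' hq)
  have h1 := h.TZ _ (hg q (Subgroup.mem_zpowers q)) (g • z) (h.Zinv g z hz)
  rw [← mul_smul] at h1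
  have e : g * q * g⁻¹ * g = g * q := by group
  rw [e, mul_smul] at h1
  exact smul_left_cancel g h1

theorem pelt_T {t : G} (ht : t ∈ T) : ∃ k, t ^ p ^ k = 1 := by
  obtain ⟨k, hk⟩ := h.Tp ⟨t, ht⟩
  exact ⟨k, congrArg Subtype.val hk⟩

theorem Zinv' {g : G} {z : V} : g • z ∈ Z ↔ z ∈ Z := by
  constructor
  · intro h1
    have h2 := h.Zinv g⁻¹ _ h1
    rwa [inv_smul_smul] at h2
  · exact h.Zinv g z

/-- translates of `M` agree when the conjugates meet -/
theorem tM_eq {g t : G} (ht : t ∈ T) (ht1 : t ≠ 1) (hs : g⁻¹ * t * g ∈ T) : tM M g = M := by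
  have hs1 : g⁻¹ * t * g ≠ 1 := by
    intro h1
    apply ht1
    have : g * (g⁻¹ * t * g) * g⁻¹ = 1 := by rw [h1]; group
    have e : g * (g⁻¹ * t * g) * g⁻¹ = t := by group
    rwa [e] at this
  ext v
  have e : (g⁻¹ * t * g) • g⁻¹ • v - g⁻¹ • v = g⁻¹ • (t • v - v) := by
    rw [mul_smul, smul_inv_smul, mul_smul, smul_sub]
  have h1 : g⁻¹ • v ∈ M ↔ (g⁻¹ * t * g) • g⁻¹ • v - g⁻¹ • v ∈ Z := (h.M1 _ hs hs1 (g⁻¹ • v)).symm
  have h2 : v ∈ M ↔ t • v - v ∈ Z := (h.M1 t ht ht1 v).symm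
  rw [mem_tM, h1, h2, e, h.Zinv']

/-- `T` is TI -/
theorem ti {g t : G} (ht : t ∈ T) (ht1 : t ≠ 1) (hs : g⁻¹ * t * g ∈ T) : g ∈ Subgroup.normalizer (T : Set G) := by
  have hgM := h.tM_eq ht ht1 hs
  -- the stabilizer of the chain
  let C : Subgroup G := {
    carrier := {c | (∀ v : V, c • v - v ∈ M) ∧ (∀ m ∈ M, c • m - m ∈ Z) ∧ ∀ z ∈ Z, c • z = z}
    one_mem' := ⟨fun v => by rw [one_smul, sub_self]; exact zero_mem _,
      fun v _ => by rw [one_smul, sub_self]; exact zero_mem _, fun z _ => one_smul _ z⟩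
    mul_mem' := by
      rintro a b ⟨ha1, ha2, ha3⟩ ⟨hb1, hb2, hb3⟩
      refine ⟨fun v => ?_, fun v hv => ?_, fun z hz => ?_⟩
      · have h1 := add_mem (ha1 (b • v)) (hb1 v)
        have e : a • b • v - b • v + (b • v - v) = (a * b) • v - v := by rw [mul_smul]; abel
        rwa [e] at h1
      · have hbv : b • v ∈ M := by
          have h1 := add_mem (hb1 v) hv
          rwa [sub_add_cancel] at h1
        have h1 := add_mem (ha2 (b • v) hbv) (hb2 v hv)
        have e : a • b • v - b • v + (b • v - v) = (a * b) • v - v := by rw [mul_smul]; abel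
        rwa [e] at h1
      · rw [mul_smul, hb3 z hz, ha3 z hz]
    inv_mem' := by
      rintro a ⟨ha1, ha2, ha3⟩
      have hinv : ∀ v ∈ M, a⁻¹ • v ∈ M := by
        -- `a` permutes the finite set `M`
        have h1 : ∀ v ∈ M, a • v ∈ M := fun v hv => by
          have h1 := add_mem (ha1 v) hv
          rwa [sub_add_cancel] at h1
        have h2 : M.map (DistribSMul.toAddMonoidHom V a) = M := by
          apply AddSubgroup.eq_of_le_of_card_ge
          · rintro _ ⟨v, hv, rfl⟩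
            exact h1 v hv
          · exact Nat.card_le_card_of_injective (fun v : M => (⟨a • (v : V), ⟨v, v.2, rfl⟩⟩ :
              M.map (DistribSMul.toAddMonoidHom V a))) (fun x y hxy =>
                Subtype.ext (smul_left_cancel a (congrArg Subtype.val hxy)))
        intro v hv
        rw [← h2] at hv
        obtain ⟨w, hw, rfl⟩ := hv
        show a⁻¹ • a • w ∈ M
        rw [inv_smul_smul]; exact hw
      refine ⟨fun v => ?_, fun v hv => ?_, fun z hz => ?_⟩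
      · have h1 := neg_mem (ha1 (a⁻¹ • v))
        rw [smul_inv_smul] at h1
        have e : -(v - a⁻¹ • v) = a⁻¹ • v - v := by abel
        rwa [e] at h1
      · have h1 := neg_mem (ha2 (a⁻¹ • v) (hinv v hv))
        rw [smul_inv_smul] at h1
        have e : -(v - a⁻¹ • v) = a⁻¹ • v - v := by abel
        rwa [e] at h1
      · rw [inv_smul_eq_iff, ha3 z hz] }
  have hCp : IsPGroup p C := by
    rintro ⟨c, hc1, hc2, hc3⟩
    refine ⟨1, Subtype.ext ?_⟩
    rw [pow_one]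
    exact pow_p_eq_one h.pV h.p2 h.faith hc1 hc2 hc3
  have hM1 : ∀ t ∈ T, ∀ m ∈ M, t • m - m ∈ Z := by
    intro t ht m hm
    by_cases h1 : t = 1
    · rw [h1, one_smul, sub_self]; exact zero_mem _
    · exact (h.M1 t ht h1 m).2 hm
  have hTC : T ≤ C := fun t ht => ⟨h.TM t ht, hM1 t ht, h.TZ t ht⟩
  have hCT := h.eq_T hCp hTC
  have hconj : ∀ s ∈ T, g * s * g⁻¹ ∈ T := by
    intro s hs
    rw [← hCT]
    refine ⟨fun v => ?_, fun m hm => ?_, fun z hz => ?_⟩
    · rw [← hgM, mem_tM]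
      have e : g⁻¹ • ((g * s * g⁻¹) • v - v) = s • g⁻¹ • v - g⁻¹ • v := by
        rw [smul_sub, ← mul_smul, ← mul_smul]
        congr 2; group
      rw [e]
      exact h.TM s hs _
    · rw [← hgM, mem_tM] at hm
      have e : g⁻¹ • ((g * s * g⁻¹) • m - m) = s • g⁻¹ • m - g⁻¹ • m := by
        rw [smul_sub, ← mul_smul, ← mul_smul]
        congr 2; group
      rw [← h.Zinv' (g := g⁻¹), e]
      exact hM1 s hs _ hm
    · rw [mul_smul, mul_smul, h.TZ s hs _ (h.Zinv _ _ hz), smul_inv_smul]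
  rw [Subgroup.mem_normalizer_iff]
  have hmap : T.map (MulAut.conj g).toMonoidHom = T := by
    apply Subgroup.eq_of_le_of_card_ge
    · rintro _ ⟨s, hs, rfl⟩
      exact hconj s hs
    · rw [Nat.card_congr (T.equivMapOfInjective (MulAut.conj g).toMonoidHom (MulAut.conj g).injective).toEquiv]
  intro x
  constructor
  · exact hconj x
  · intro hx
    rw [← hmap] at hx
    obtain ⟨s, hs, hsx⟩ := hx
    have h1 : g * s * g⁻¹ = g * x * g⁻¹ := hsx
    rw [← mul_left_cancel (mul_right_cancel h1)]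
    exact hs

/-- `N(T)` -/
theorem mem_T_of_N {q : G} (hq : q ∈ Subgroup.normalizer (T : Set G)) (hqp : ∃ k, q ^ p ^ k = 1) : q ∈ T := by
  have h1 : IsPGroup p (T ⊔ Subgroup.zpowers q : Subgroup G) :=
    h.Tp.to_sup_of_normal_left' (isPGroup_zpowers' hqp) ((Subgroup.zpowers_le).2 hq)
  rw [← h.eq_T h1 le_sup_left]
  exact Subgroup.mem_sup_right (Subgroup.mem_zpowers q)

theorem conj_pelt {q g : G} (hqp : ∃ k, q ^ p ^ k = 1) : ∃ k, (g * q * g⁻¹) ^ p ^ k = 1 := by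
  obtain ⟨k, hk⟩ := hqp
  exact ⟨k, by rw [conj_pow, hk]; group⟩

theorem seN : SE p (Subgroup.normalizer (T : Set G)) where
  ne := by
    obtain ⟨g, t, ht, hgt⟩ := h.nonn
    exact ⟨g, fun h1 => hgt ((Subgroup.mem_normalizer_iff.1 h1 t).1 ht)⟩
  se := by
    intro q hq hq1 hqp g hg hmem
    have h1 := h.mem_T_of_N hq hqp
    have h2 := h.mem_T_of_N hmem (h.conj_pelt hqp)
    apply hg
    refine h.ti h2 ?_ ?_
    · intro h3
      apply hq1
      have : g⁻¹ * (g * q * g⁻¹) * g = 1 := by rw [h3]; group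
      have e : g⁻¹ * (g * q * g⁻¹) * g = q := by group
      rwa [e] at this
    · have e : g⁻¹ * (g * q * g⁻¹) * g = q := by group
      rw [e]; exact h1

theorem exists_t : ∃ t ∈ T, t ≠ 1 := by
  obtain ⟨⟨t, ht⟩, ht1⟩ := Subgroup.ne_bot_iff_exists_ne_one.1 h.T1
  exact ⟨t, ht, fun h1 => ht1 (Subtype.ext h1)⟩

theorem TMZ {t : G} (ht : t ∈ T) {m : V} (hm : m ∈ M) : t • m - m ∈ Z := by
  by_cases h1 : t = 1
  · rw [h1, one_smul, sub_self]; exact zero_mem _
  · exact (h.M1 t ht h1 m).2 hm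

theorem TM' {g s : G} (hs : s ∈ T) (v : V) : (g * s * g⁻¹) • v - v ∈ tM M g := by
  rw [mem_tM]
  have e : g⁻¹ • ((g * s * g⁻¹) • v - v) = s • g⁻¹ • v - g⁻¹ • v := by
    rw [smul_sub, ← mul_smul, ← mul_smul]
    congr 2; group
  rw [e]
  exact h.TM s hs _

theorem TMZ' {g s : G} (hs : s ∈ T) {m : V} (hm : m ∈ tM M g) : (g * s * g⁻¹) • m - m ∈ Z := by
  rw [mem_tM] at hm
  have e : g⁻¹ • ((g * s * g⁻¹) • m - m) = s • g⁻¹ • m - g⁻¹ • m := by
    rw [smul_sub, ← mul_smul, ← mul_smul]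
    congr 2; group
  rw [← h.Zinv' (g := g⁻¹), e]
  exact h.TMZ hs hm

theorem M1' {g s : G} (hs : s ∈ T) (hs1 : s ≠ 1) {v : V} (hv : (g * s * g⁻¹) • v - v ∈ Z) : v ∈ tM M g := by
  have e : g⁻¹ • ((g * s * g⁻¹) • v - v) = s • g⁻¹ • v - g⁻¹ • v := by
    rw [smul_sub, ← mul_smul, ← mul_smul]
    congr 2; group
  rw [← h.Zinv' (g := g⁻¹), e, h.M1 s hs hs1] at hv
  exact hv

theorem Z_le_tM (g : G) : Z ≤ tM M g := fun z hz => by
  rw [mem_tM]; exact h.ZM (h.Zinv _ _ hz)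

/-- different translates meet in `Z` -/
theorem inf_eq (hSQ : StSQ.{u}) {g : G} (hg : g ∉ Subgroup.normalizer (T : Set G)) : M ⊓ tM M g = Z := by
  classical
  obtain ⟨t, ht, ht1⟩ := h.exists_t
  set F := M ⊓ tM M g with hF
  set J : Subgroup G := T ⊔ cj g T with hJ
  have hZF : Z ≤ F := le_inf h.ZM (h.Z_le_tM g)
  -- `J` acts trivially on `F/Z` and on `Z`
  have hJF : ∀ j ∈ J, (∀ v ∈ F, j • v - v ∈ Z) ∧ ∀ z ∈ Z, j • z = z := by
    let C : Subgroup G := {
      carrier := {c | (∀ v ∈ F, c • v - v ∈ Z) ∧ ∀ z ∈ Z, c • z = z}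
      one_mem' := ⟨fun v _ => by rw [one_smul, sub_self]; exact zero_mem _, fun z _ => one_smul _ z⟩
      mul_mem' := by
        rintro a b ⟨ha1, ha2⟩ ⟨hb1, hb2⟩
        refine ⟨fun v hv => ?_, fun z hz => by rw [mul_smul, hb2 z hz, ha2 z hz]⟩
        have h1 := add_mem (h.Zinv a _ (hb1 v hv)) (ha1 v hv)
        have e : a • (b • v - v) + (a • v - v) = (a * b) • v - v := by rw [mul_smul, smul_sub]; abel
        rwa [e] at h1
      inv_mem' := by
        rintro a ⟨ha1, ha2⟩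
        refine ⟨fun v hv => ?_, fun z hz => by rw [inv_smul_eq_iff, ha2 z hz]⟩
        have h1 := neg_mem (h.Zinv a⁻¹ _ (ha1 v hv))
        have e : -(a⁻¹ • (a • v - v)) = a⁻¹ • v - v := by rw [smul_sub, inv_smul_smul]; abel
        rwa [e] at h1 }
    have hJC : J ≤ C := by
      refine sup_le ?_ ?_
      · intro s hs
        exact ⟨fun v hv => h.TMZ hs hv.1, h.TZ s hs⟩
      · rintro _ ⟨s, hs, rfl⟩
        exact ⟨fun v hv => h.TMZ' hs hv.2, fun z hz => h.pelt_Z (h.conj_pelt (h.pelt_T hs)) hz⟩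
    exact fun j hj => hJC hj
  have hJinv : ∀ (l : J) (m : V), m ∈ F → l • m ∈ F := by
    intro l m hm
    have h1 := add_mem (hZF ((hJF l l.2).1 m hm)) hm
    rwa [sub_add_cancel] at h1
  let := quotAct (L := J) F hJinv
  have hmk : ∀ (l : J) (m : V), l • (QuotientAddGroup.mk m : V ⧸ F) = QuotientAddGroup.mk (l • m) := fun l m => rfl
  -- strongly embedded in `J`
  have hN := h.seN
  have hY : SE p ((Subgroup.normalizer (T : Set G)).subgroupOf J) := by
    refine ⟨?_, ?_⟩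
    · by_contra hcon
      push Not at hcon
      apply hg
      have h1 : g * t * g⁻¹ ∈ T := by
        refine h.mem_T_of_N ?_ (h.conj_pelt (h.pelt_T ht))
        exact Subgroup.mem_subgroupOf.1 (hcon ⟨g * t * g⁻¹, Subgroup.mem_sup_right (conj_mem_cj ht)⟩)
      refine h.ti h1 ?_ ?_
      · intro h3
        apply ht1
        have : g⁻¹ * (g * t * g⁻¹) * g = 1 := by rw [h3]; group
        have e : g⁻¹ * (g * t * g⁻¹) * g = t := by group
        rwa [e] at this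
      · have e : g⁻¹ * (g * t * g⁻¹) * g = t := by group
        rw [e]; exact ht
    · rintro q hq hq1 ⟨k, hk⟩ x hx hmem
      rw [Subgroup.mem_subgroupOf] at hq hx hmem
      exact hN.se q hq (fun h1 => hq1 (Subtype.ext h1)) ⟨k, congrArg Subtype.val hk⟩ x hx hmem
  set q : J := ⟨t, Subgroup.mem_sup_left ht⟩ with hq
  have hqY : q ∈ (Subgroup.normalizer (T : Set G)).subgroupOf J :=
    Subgroup.mem_subgroupOf.2 (Subgroup.le_normalizer ht)
  have hq1 : q ≠ 1 := fun h1 => ht1 (congrArg Subtype.val h1)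
  have hqp : ∃ k, q ^ p ^ k = 1 := by
    obtain ⟨k, hk⟩ := h.pelt_T ht
    exact ⟨k, Subtype.ext hk⟩
  -- faithful on `V/F`
  have hKp : IsPGroup p (MulAction.toPermHom J (V ⧸ F)).ker := by
    rintro ⟨k, hk⟩
    refine ⟨1, Subtype.ext ?_⟩
    rw [pow_one]
    apply Subtype.ext
    show (k : G) ^ p = 1
    refine pow_p_eq_one h.pV h.p2 h.faith (M' := F) (Z' := Z) ?_ (hJF k k.2).1 (hJF k k.2).2
    intro m
    have h1 : k • (QuotientAddGroup.mk m : V ⧸ F) = QuotientAddGroup.mk m :=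
      Equiv.congr_fun (MonoidHom.mem_ker.1 hk) (QuotientAddGroup.mk m : V ⧸ F)
    rw [hmk, QuotientAddGroup.eq] at h1
    have h2 := neg_mem h1
    have e : -(-(k • m) + m) = k • m - m := by abel
    rwa [e] at h2
  have hK := SE.normal_p hY hqY hq1 hqp hKp
  have hAp : IsPGroup p (T.subgroupOf J) := h.Tp.comap_subtype
  have hcard : Nat.card (T.subgroupOf J) = Nat.card T :=
    Nat.card_congr (Subgroup.subgroupOfEquivOfLe le_sup_left).toEquiv
  have h1 := sq_le hSQ (M := V ⧸ F) (Y := (Subgroup.normalizer (T : Set G)).subgroupOf J) (by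
    intro x
    obtain ⟨m, rfl⟩ := QuotientAddGroup.mk_surjective x
    rw [← QuotientAddGroup.mk_nsmul, h.pV]; rfl) hY hqY hq1 hqp (by
    intro x hx
    have h1 : x ∈ (MulAction.toPermHom J (V ⧸ F)).ker := by
      rw [MonoidHom.mem_ker]
      ext y
      exact hx y
    rwa [hK, Subgroup.mem_bot] at h1) hAp
  rw [hcard] at h1
  have h2 := F.card_mul_index
  rw [AddSubgroup.index_eq_card, h.cV] at h2
  symm
  apply AddSubgroup.eq_of_le_of_card_ge hZF
  have h3 : Nat.card F * Nat.card T ^ 2 ≤ Nat.card Z * Nat.card T ^ 2 := by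
    rw [← h2]; exact Nat.mul_le_mul_left _ h1
  exact Nat.le_of_mul_le_mul_right h3 (pow_pos Nat.card_pos 2)

/-- elements of `N(T)` stabilize `M` -/
theorem N_smul {g : G} (hg : g ∈ Subgroup.normalizer (T : Set G)) {m : V} (hm : m ∈ M) : g • m ∈ M := by
  obtain ⟨t, ht, ht1⟩ := h.exists_t
  have h1 : g⁻¹ * t * g ∈ T := by
    have h2 := (Subgroup.mem_normalizer_iff.1 (inv_mem hg) t).1 ht
    rwa [inv_inv] at h2
  rw [← h.tM_eq ht ht1 h1]
  exact smul_mem_tM hm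

theorem tr_inf (hSQ : StSQ.{u}) {a b : G} (hab : a⁻¹ * b ∉ Subgroup.normalizer (T : Set G)) {m m' : V} (hm : m ∈ M)
    (hm' : m' ∈ M) (he : a • m = b • m') : m ∈ Z := by
  rw [← h.inf_eq hSQ hab]
  refine ⟨hm, ?_⟩
  have e : m = (a⁻¹ * b) • m' := by rw [mul_smul, ← he, inv_smul_smul]
  rw [e]
  exact smul_mem_tM hm'

theorem conj_not_mem {g x : G} (hg : g ∉ Subgroup.normalizer (T : Set G)) (hx : x ∈ T) (hx1 : x ≠ 1) :
    g⁻¹ * x * g ∉ Subgroup.normalizer (T : Set G) := by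
  intro h1
  apply hg
  refine h.ti hx hx1 (h.mem_T_of_N h1 ?_)
  have h2 := h.conj_pelt (g := g⁻¹) (h.pelt_T hx)
  rwa [inv_inv] at h2

/-- the counting step -/
theorem exists_N (hSQ : StSQ.{u}) {a b : G} (ha : a ∉ Subgroup.normalizer (T : Set G))
    (hb : b ∉ Subgroup.normalizer (T : Set G)) : ∃ t ∈ T, b⁻¹ * t * a ∈ Subgroup.normalizer (T : Set G) := by
  classical
  by_contra hcon
  push Not at hcon
  set N := Subgroup.normalizer (T : Set G) with hN
  have hTN : T ≤ N := Subgroup.le_normalizer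
  let c : Option (Option T) → G := fun i => match i with
    | none => 1
    | some none => b
    | some (some t) => t * a
  have hc : ∀ i j, i ≠ j → (c i)⁻¹ * c j ∉ N := by
    have key : ∀ i j, i ≠ j → (c i)⁻¹ * c j ∈ N → (c j)⁻¹ * c i ∈ N := by
      intro i j _ h1
      have h2 := inv_mem h1
      rwa [mul_inv_rev, inv_inv] at h2
    have h01 : (c none)⁻¹ * c (some none) ∉ N := by
      show (1 : G)⁻¹ * b ∉ N
      rwa [inv_one, one_mul]
    have h02 : ∀ t : T, (c none)⁻¹ * c (some (some t)) ∉ N := by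
      intro t
      show (1 : G)⁻¹ * (t * a) ∉ N
      rw [inv_one, one_mul]
      intro h1
      apply ha
      exact (N.mul_mem_cancel_left (hTN t.2)).1 h1
    have h12 : ∀ t : T, (c (some none))⁻¹ * c (some (some t)) ∉ N := by
      intro t
      show b⁻¹ * (t * a) ∉ N
      rw [← mul_assoc]
      exact hcon t t.2
    intro i j hij
    rcases i with _ | _ | s <;> rcases j with _ | _ | t
    · exact absurd rfl hij
    · exact h01
    · exact h02 t
    · exact fun h1 => h01 (key _ _ hij h1)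
    · exact absurd rfl hij
    · exact h12 t
    · exact fun h1 => h02 s (key _ _ hij h1)
    · exact fun h1 => h12 s (key _ _ hij h1)
    · show ((s : G) * a)⁻¹ * (t * a) ∉ N
      have e : ((s : G) * a)⁻¹ * (t * a) = a⁻¹ * ((s : G)⁻¹ * t) * a := by group
      rw [e]
      refine h.conj_not_mem ha (mul_mem (inv_mem s.2) t.2) ?_
      intro h1
      apply hij
      have h2 : (t : G) = s := by
        rw [inv_mul_eq_one] at h1
        exact h1.symm
      rw [show t = s from Subtype.ext h2]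
  -- the injection
  let D : Type u := {m : V // m ∈ M ∧ m ∉ Z}
  have hinj : Function.Injective (fun x : Z ⊕ (Option (Option T) × D) =>
      (Sum.elim (fun z : Z => (z : V)) (fun y : Option (Option T) × D => c y.1 • (y.2 : V)) x : V)) := by
    rintro (z | ⟨i, m⟩) (z' | ⟨j, m'⟩) hxy
    · exact congrArg Sum.inl (Subtype.ext hxy)
    · exfalso
      have h1 : (z : V) = c j • (m' : V) := hxy
      have h2 : c j • (m' : V) ∈ Z := h1 ▸ z.2
      exact m'.2.2 (h.Zinv'.1 h2)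
    · exfalso
      have h1 : c i • (m : V) = (z' : V) := hxy
      have h2 : c i • (m : V) ∈ Z := h1 ▸ z'.2
      exact m.2.2 (h.Zinv'.1 h2)
    · have h1 : c i • (m : V) = c j • (m' : V) := hxy
      by_cases hij : i = j
      · subst hij
        have h2 : m = m' := Subtype.ext (smul_left_cancel _ h1)
        rw [h2]
      · exact absurd (h.tr_inf hSQ (hc i j hij) m.2.1 m'.2.1 h1) m.2.2
  have h1 := Nat.card_le_card_of_injective _ hinj
  have hD : Nat.card D + Nat.card Z = Nat.card M := by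
    have h2 : Nat.card D = ((M : Set V) \ (Z : Set V)).ncard := rfl
    have h3 := Set.ncard_sdiff_add_ncard_of_subset (s := (Z : Set V)) (t := (M : Set V)) h.ZM
    rw [h2]
    exact h3
  have hO : Nat.card (Option (Option T)) = Nat.card T + 2 := by
    rw [Finite.card_option, Finite.card_option]
  rw [Nat.card_sum, Nat.card_prod, hO, h.cV] at h1
  rw [h.cM] at hD
  have hz : 0 < Nat.card Z := Nat.card_pos
  have h2 := h.card_T
  obtain ⟨k, hk⟩ : ∃ k, Nat.card T = k + 2 := ⟨Nat.card T - 2, by omega⟩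
  rw [hk] at h1 hD
  have h3 : Nat.card D = Nat.card Z * (k + 1) := by linarith only [hD]
  rw [h3] at h1
  nlinarith only [hz, h1]

theorem two_smul_mem {v : V} {Z' : AddSubgroup V} (hv : v + v ∈ Z') : v ∈ Z' := by
  have hodd : Odd p := hp.out.odd_of_ne_two h.p2
  obtain ⟨k, hk⟩ := hodd
  have h1 : v = p • v - k • (v + v) := by
    rw [hk, add_smul, one_smul, mul_comm, mul_smul, two_smul]
    abel
  rw [h1, h.pV, zero_sub]
  exact neg_mem (nsmul_mem hv k)

/-- an element acting as `-1` on `V/Z` -/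
theorem exists_z (hSQ : StSQ.{u}) : ∃ z : G, (∀ v : V, z • v + v ∈ Z) ∧ ∀ ζ ∈ Z, z • ζ = ζ := by
  obtain ⟨g, s0, hs0, hgs0⟩ := h.nonn
  have hg : g ∉ Subgroup.normalizer (T : Set G) := fun h1 =>
    hgs0 ((Subgroup.mem_normalizer_iff.1 h1 s0).1 hs0)
  obtain ⟨x, hx, hx1⟩ := h.exists_t
  have hg' : g⁻¹ ∉ Subgroup.normalizer (T : Set G) := fun h1 => hg (by
    have h2 := inv_mem h1
    rwa [inv_inv] at h2)
  obtain ⟨t, ht, htN⟩ := h.exists_N hSQ (h.conj_not_mem hg hx hx1) hg'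
  have e1 : (g⁻¹)⁻¹ * t * (g⁻¹ * x * g) = g * t * g⁻¹ * x * g := by group
  rw [e1] at htN
  have ht1 : t ≠ 1 := by
    intro h1
    apply hg
    rw [h1] at htN
    have e2 : g * 1 * g⁻¹ * x * g = x * g := by group
    rw [e2] at htN
    exact (Subgroup.mul_mem_cancel_left _ (Subgroup.le_normalizer hx)).1 htN
  obtain ⟨y, hy⟩ : ∃ y, y = g * t * g⁻¹ := ⟨_, rfl⟩
  rw [← hy] at htN
  have hF := h.inf_eq hSQ hg
  have hxZ : ∀ ζ ∈ Z, x • ζ = ζ := h.TZ x hx
  have hyZ : ∀ ζ ∈ Z, y • ζ = ζ := fun ζ hζ => by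
    rw [hy]; exact h.pelt_Z (h.conj_pelt (h.pelt_T ht)) hζ
  have hxV : ∀ v : V, x • v - v ∈ M := h.TM x hx
  have hyV : ∀ v : V, y • v - v ∈ tM M g := fun v => by rw [hy]; exact h.TM' ht v
  have hxM : ∀ m ∈ M, x • m - m ∈ Z := fun m hm => h.TMZ hx hm
  have hyM : ∀ m ∈ tM M g, y • m - m ∈ Z := fun m hm => by rw [hy]; exact h.TMZ' ht hm
  -- `(y-1)(x-1) = -1` on `M2`
  have h1 : ∀ m ∈ tM M g, y • (x • m - m) - (x • m - m) + m ∈ Z := by
    intro m hm
    rw [← hF]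
    constructor
    · have h2 : y • x • m ∈ M := by
        have h3 := h.N_smul htN (mem_tM.1 hm)
        have e : (y * x * g) • g⁻¹ • m = y • x • m := by
          rw [mul_smul, smul_inv_smul, mul_smul]
        rwa [e] at h3
      have h3 := sub_mem (sub_mem h2 (h.ZM (hyM m hm))) (hxV m)
      have e : y • x • m - (y • m - m) - (x • m - m) = y • (x • m - m) - (x • m - m) + m := by
        rw [smul_sub]; abel
      rwa [e] at h3
    · exact add_mem (hyV _) hm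
  -- `(x-1)(y-1) = -1` on `M`
  have h2 : ∀ m ∈ M, x • (y • m - m) - (y • m - m) + m ∈ Z := by
    intro m hm
    rw [← hF]
    have h3 : x • (y • m - m) - (y • m - m) + m ∈ M := add_mem (hxV _) hm
    refine ⟨h3, ?_⟩
    refine h.M1' ht ht1 ?_
    have h4 := h1 (y • m - m) (hyV m)
    have e : y • (x • (y • m - m) - (y • m - m) + m) - (x • (y • m - m) - (y • m - m) + m) =
        y • (x • (y • m - m) - (y • m - m)) - (x • (y • m - m) - (y • m - m)) + (y • m - m) := by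
      rw [smul_add]; abel
    rw [← hy, e]
    exact h4
  -- `w = xyx`
  obtain ⟨w, hw⟩ : ∃ w, w = x * y * x := ⟨_, rfl⟩
  have hwZ : ∀ ζ ∈ Z, w • ζ = ζ := by
    intro ζ hζ
    rw [hw, mul_smul, mul_smul, hxZ ζ hζ, hyZ ζ hζ, hxZ ζ hζ]
  have h3 : ∀ m ∈ tM M g, w • m - (x • m - m) ∈ Z := by
    intro m hm
    have h4 : y • x • m - (x • m - m) ∈ Z := by
      have h5 := add_mem (h1 m hm) (hyM m hm)
      have e : y • (x • m - m) - (x • m - m) + m + (y • m - m) = y • x • m - (x • m - m) := by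
        rw [smul_sub]; abel
      rwa [e] at h5
    have h5 := add_mem (h.Zinv x _ h4) (hxM _ (hxV m))
    have e : x • (y • x • m - (x • m - m)) + (x • (x • m - m) - (x • m - m)) = w • m - (x • m - m) := by
      rw [hw, mul_smul (x * y), mul_smul x y, smul_sub x (y • x • m)]; abel
    rwa [e] at h5
  have h4 : ∀ m ∈ M, w • m - (y • m - m) ∈ Z := by
    intro m hm
    have h5 := h.Zinv (x * y) _ (hxM m hm)
    have h6 := add_mem h5 (add_mem (h2 m hm) (hxM m hm))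
    have e : (x * y) • (x • m - m) + (x • (y • m - m) - (y • m - m) + m + (x • m - m)) =
        w • m - (y • m - m) := by
      rw [hw, mul_smul (x * y) x, smul_sub (x * y), mul_smul x y m, smul_sub x (y • m)]; abel
    rwa [e] at h6
  have h5 : ∀ m ∈ tM M g, (w * w) • m + m ∈ Z := by
    intro m hm
    have h6 := add_mem (add_mem (h.Zinv w _ (h3 m hm)) (h4 _ (hxV m))) (h1 m hm)
    have e : w • (w • m - (x • m - m)) + (w • (x • m - m) - (y • (x • m - m) - (x • m - m))) +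
        (y • (x • m - m) - (x • m - m) + m) = (w * w) • m + m := by
      rw [smul_sub w (w • m), mul_smul w w]; abel
    rwa [e] at h6
  have h6 : ∀ m ∈ M, (w * w) • m + m ∈ Z := by
    intro m hm
    have h7 := add_mem (add_mem (h.Zinv w _ (h4 m hm)) (h3 _ (hyV m))) (h2 m hm)
    have e : w • (w • m - (y • m - m)) + (w • (y • m - m) - (x • (y • m - m) - (y • m - m))) +
        (x • (y • m - m) - (y • m - m) + m) = (w * w) • m + m := by
      rw [smul_sub w (w • m), mul_smul w w]; abel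
    rwa [e] at h7
  -- `V = M + M2`
  have htop : M ⊔ tM M g = ⊤ := by
    apply AddSubgroup.eq_top_of_card_eq
    apply le_antisymm (AddSubgroup.card_le_card_addGroup _)
    have h7 := add_card_le (B₁ := M) (B₂ := tM M g) (B₃ := M ⊔ tM M g) le_sup_left le_sup_right
    rw [card_tM, hF, h.cM] at h7
    rw [h.cV]
    have hz : 0 < Nat.card Z := Nat.card_pos
    refine Nat.le_of_mul_le_mul_left ?_ hz
    calc Nat.card Z * (Nat.card Z * Nat.card T ^ 2) = Nat.card Z * Nat.card T * (Nat.card Z * Nat.card T) := by ring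
      _ ≤ _ := h7
  refine ⟨w * w, fun v => ?_, fun ζ hζ => by rw [mul_smul, hwZ ζ hζ, hwZ ζ hζ]⟩
  have hv : v ∈ M ⊔ tM M g := by rw [htop]; exact AddSubgroup.mem_top v
  obtain ⟨a, ha, b, hb, rfl⟩ := AddSubgroup.mem_sup.1 hv
  have h7 := add_mem (h6 a ha) (h5 b hb)
  have e : (w * w) • a + a + ((w * w) • b + b) = (w * w) • (a + b) + (a + b) := by
    rw [smul_add]; abel
  rwa [e] at h7

theorem triv_K1 {c : G} (hc : ∀ v : V, c • v - v ∈ Z) (hcZ : ∀ ζ ∈ Z, c • ζ = ζ) : c = 1 := by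
  let C : Subgroup G := {
    carrier := {c | (∀ v : V, c • v - v ∈ Z) ∧ ∀ z ∈ Z, c • z = z}
    one_mem' := ⟨fun v => by rw [one_smul, sub_self]; exact zero_mem _, fun z _ => one_smul _ z⟩
    mul_mem' := by
      rintro a b ⟨ha1, ha2⟩ ⟨hb1, hb2⟩
      refine ⟨fun v => ?_, fun z hz => by rw [mul_smul, hb2 z hz, ha2 z hz]⟩
      have h1 := add_mem (h.Zinv a _ (hb1 v)) (ha1 v)
      have e : a • (b • v - v) + (a • v - v) = (a * b) • v - v := by rw [mul_smul, smul_sub]; abel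
      rwa [e] at h1
    inv_mem' := by
      rintro a ⟨ha1, ha2⟩
      refine ⟨fun v => ?_, fun z hz => by rw [inv_smul_eq_iff, ha2 z hz]⟩
      have h1 := neg_mem (h.Zinv a⁻¹ _ (ha1 v))
      have e : -(a⁻¹ • (a • v - v)) = a⁻¹ • v - v := by rw [smul_sub, inv_smul_smul]; abel
      rwa [e] at h1 }
  have hCn : C.Normal := by
    refine ⟨?_⟩
    rintro c ⟨h1, h2⟩ g
    refine ⟨fun v => ?_, fun z hz => ?_⟩
    · have h3 := h.Zinv g _ (h1 (g⁻¹ • v))
      have e : g • (c • g⁻¹ • v - g⁻¹ • v) = (g * c * g⁻¹) • v - v := by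
        rw [smul_sub, smul_inv_smul, mul_smul, mul_smul]
      rwa [e] at h3
    · rw [mul_smul, mul_smul, h2 _ (h.Zinv _ _ hz), smul_inv_smul]
  have hCp : IsPGroup p C := by
    rintro ⟨c, hc1, hc2⟩
    refine ⟨1, Subtype.ext ?_⟩
    rw [pow_one]
    exact pow_p_eq_one h.pV h.p2 h.faith (M' := Z) (Z' := Z) hc1 (fun m _ => hc1 m) hc2
  obtain ⟨t, ht, ht1⟩ := h.exists_t
  have h1 := SE.normal_p h.seN (Subgroup.le_normalizer ht) ht1 (h.pelt_T ht) hCp
  have h2 : c ∈ C := ⟨hc, hcZ⟩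
  rwa [h1, Subgroup.mem_bot] at h2

/-- **no such module** -/
protected theorem false (hSQ : StSQ.{u}) : False := by
  obtain ⟨z, hz, hzZ⟩ := h.exists_z hSQ
  -- `z² = 1`
  have hz2 : z * z = 1 := by
    refine h.triv_K1 (fun v => ?_) (fun ζ hζ => by rw [mul_smul, hzZ ζ hζ, hzZ ζ hζ])
    have h1 := sub_mem (h.Zinv z _ (hz v)) (hz v)
    have e : z • (z • v + v) - (z • v + v) = (z * z) • v - v := by rw [smul_add, mul_smul]; abel
    rwa [e] at h1
  -- `z` commutes with `T`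
  have hzT : ∀ t ∈ T, z * t = t * z := by
    intro t ht
    have h1 : z * t * z⁻¹ * t⁻¹ = 1 := by
      refine h.triv_K1 (fun v => ?_) (fun ζ hζ => ?_)
      · set u := z⁻¹ • t⁻¹ • v with hu
        have hv : v = t • z • u := by rw [hu, smul_inv_smul, smul_inv_smul]
        have h2 := sub_mem (hz (t • u)) (h.Zinv t _ (hz u))
        have e : z • t • u + t • u - t • (z • u + u) = (z * t * z⁻¹ * t⁻¹) • v - v := by
          have e2 : (z * t * z⁻¹ * t⁻¹) • v = z • t • u := by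
            rw [hu, mul_smul, mul_smul, mul_smul]
          rw [e2, hv, smul_add]; abel
        rwa [e] at h2
      · have e1 : t⁻¹ • ζ = ζ := by rw [inv_smul_eq_iff, h.TZ t ht ζ hζ]
        have e2 : z⁻¹ • ζ = ζ := by rw [inv_smul_eq_iff, hzZ ζ hζ]
        rw [mul_smul, mul_smul, mul_smul, e1, e2, h.TZ t ht ζ hζ, hzZ ζ hζ]
    rw [mul_inv_eq_one] at h1
    rw [mul_inv_eq_iff_eq_mul] at h1
    exact h1
  -- the `-1` space
  let D : AddSubgroup V := {
    carrier := {v | z • v = -v}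
    zero_mem' := by show z • (0 : V) = -0; rw [smul_zero, neg_zero]
    add_mem' := by
      intro a b ha hb
      show z • (a + b) = -(a + b)
      rw [smul_add, show z • a = -a from ha, show z • b = -b from hb, neg_add]
    neg_mem' := by
      intro a ha
      show z • (-a) = -(-a)
      rw [smul_neg, show z • a = -a from ha] }
  have hDT : ∀ (t : T) (v : V), v ∈ D → (t : G) • v ∈ D := by
    intro t v hv
    show z • (t : G) • v = -((t : G) • v)
    rw [← mul_smul, hzT t t.2, mul_smul, show z • v = -v from hv, smul_neg]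
  let : DistribMulAction T D := {
    smul := fun t v => ⟨(t : G) • (v : V), hDT t v v.2⟩
    one_smul := fun v => Subtype.ext (one_smul G (v : V))
    mul_smul := fun a b v => Subtype.ext (mul_smul (a : G) (b : G) (v : V))
    smul_zero := fun a => Subtype.ext (smul_zero (a : G))
    smul_add := fun a v w => Subtype.ext (smul_add (a : G) (v : V) (w : V)) }
  have hd0 : ∀ d ∈ D, d ∈ Z → d = 0 := by
    intro d hd hdZ
    have h1 : z • d = -d := hd
    rw [hzZ d hdZ] at h1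
    have h2 : d + d = 0 := by
      nth_rw 1 [h1]
      exact neg_add_cancel d
    have h3 : d ∈ (⊥ : AddSubgroup V) := h.two_smul_mem (by rw [h2]; exact zero_mem _)
    exact AddSubgroup.mem_bot.1 h3
  have hne : ∃ d : D, d ≠ 0 := by
    have h1 : ∃ v : V, v ∉ Z := by
      by_contra hcon
      push Not at hcon
      have h2 : Z = ⊤ := by
        rw [eq_top_iff]
        exact fun v _ => hcon v
      have h3 := h.cV
      have h4 : Nat.card Z = Nat.card V := by rw [h2, AddSubgroup.card_top]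
      rw [← h4] at h3
      have h5 : 0 < Nat.card Z := Nat.card_pos
      have h6 := h.card_T
      have h7 : 1 < Nat.card T ^ 2 := Nat.one_lt_pow (by norm_num) (by omega)
      nlinarith only [h3, h5, h7]
    obtain ⟨v, hv⟩ := h1
    refine ⟨⟨v - z • v, ?_⟩, ?_⟩
    · show z • (v - z • v) = -(v - z • v)
      rw [smul_sub, ← mul_smul, hz2, one_smul]; abel
    · intro h1
      apply hv
      have h2 : v - z • v = 0 := congrArg Subtype.val h1
      have h3 := hz v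
      apply h.two_smul_mem
      have e : v + v = z • v + v := by rw [← sub_eq_zero.1 h2]
      rwa [e]
  obtain ⟨d, hd0', hd⟩ := exists_fixed (A := T) (Q := D) h.Tp (fun m => Subtype.ext (by
    rw [AddSubgroup.coe_nsmul, h.pV]; rfl)) hne
  apply hd0'
  apply Subtype.ext
  exact hd0 d d.2 (h.fix d fun t ht => congrArg Subtype.val (hd ⟨t, ht⟩))

end RoHyp

/-- the action of a representation -/
@[reducible] def repAct {G V : Type u} [Group G] {p : ℕ} [AddCommGroup V] [Module (ZMod p) V]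
    (ρ : Representation (ZMod p) G V) : DistribMulAction G V where
  smul g v := ρ g v
  one_smul v := by
    show ρ 1 v = v
    rw [map_one]; rfl
  mul_smul a b v := by
    show ρ (a * b) v = ρ a (ρ b v)
    rw [map_mul]; rfl
  smul_zero a := map_zero (ρ a)
  smul_add a v w := map_add (ρ a) v w

/-- the abstract half of (Ro) -/
theorem roAbs_of (hSQ : StSQ.{u}) {G : Type u} [Group G] [Finite G] {p : ℕ} [Fact p.Prime] {V : Type u}
    [AddCommGroup V] [Module (ZMod p) V] [Finite V] (ρ : Representation (ZMod p) G V) (T X : Subgroup G)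
    (Z M : Submodule (ZMod p) V) (hp2 : p ≠ 2) (hinj : Function.Injective ρ) (hX : SE p X) (hTX : T ≤ X)
    (hTp : IsPGroup p T) (hT : T ≠ ⊥) (hsyl : ∀ P : Subgroup G, IsPGroup p P → ∃ g, ∀ x ∈ P, g * x * g⁻¹ ∈ T)
    (hZM : Z ≤ M) (hZ : ∀ g, ∀ z ∈ Z, ρ g z ∈ Z) (hTZ : ∀ t ∈ T, ∀ z ∈ Z, ρ t z = z)
    (hfix : ∀ v, (∀ t ∈ T, ρ t v = v) → v ∈ Z) (hTM : ∀ t ∈ T, ∀ v, ρ t v - v ∈ M)
    (hM1 : ∀ t ∈ T, t ≠ 1 → ∀ v, ρ t v - v ∈ Z ↔ v ∈ M) (hcV : Nat.card V = Nat.card Z * Nat.card T ^ 2)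
    (hcM : Nat.card M = Nat.card Z * Nat.card T) : False := by
  let := repAct ρ
  have pV : ∀ v : V, p • v = 0 := fun v => by
    rw [← Nat.cast_smul_eq_nsmul (ZMod p), ZMod.natCast_self, zero_smul]
  have hpelt : ∀ {t : G}, t ∈ T → ∃ k, t ^ p ^ k = 1 := by
    intro t ht
    obtain ⟨k, hk⟩ := hTp ⟨t, ht⟩
    exact ⟨k, congrArg Subtype.val hk⟩
  obtain ⟨t, ht, ht1⟩ : ∃ t ∈ T, t ≠ 1 := by
    obtain ⟨⟨t, ht⟩, ht1⟩ := Subgroup.ne_bot_iff_exists_ne_one.1 hT
    exact ⟨t, ht, fun h1 => ht1 (Subtype.ext h1)⟩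
  have h : RoHyp (G := G) (V := V) p T Z.toAddSubgroup M.toAddSubgroup := {
    pV := pV
    p2 := hp2
    faith := by
      intro g hg
      apply hinj
      rw [map_one]
      ext v
      exact hg v
    Tp := hTp
    T1 := hT
    nonn := by
      by_contra hcon
      push Not at hcon
      have hn : T.Normal := ⟨fun t ht g => hcon g t ht⟩
      exact hT (SE.normal_p hX (hTX ht) ht1 (hpelt ht) hTp)
    syl := hsyl
    ZM := hZM
    Zinv := hZ
    TZ := hTZ
    fix := hfix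
    TM := hTM
    M1 := hM1
    cV := hcV
    cM := hcM }
  exact h.false hSQ

end Cfsg.Agent.H218.TE
end

-- part: H218/TE/P2
section
/-!
# S5261 engine: StP2, StP2c, StP2w, StBd, StSecC, StSecW from S3083
-/

set_option autoImplicit false
set_option linter.unusedVariables false

namespace Cfsg.Agent.H218.TE

open Cfsg Cfsg.FusionSystem Cfsg.Agent.H756.PU Cfsg.Agent.H802 Cfsg.Agent.H802.TE Cfsg.Agent.H218.Fus
open Cfsg.Agent.H218.Count Cfsg.Agent.H218.CountQ Cfsg.Agent.H218.Glob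

universe u

/-- the general inequality on a section -/
theorem sec_p2 (hSQ : StSQ.{u}) {Ω : Type u} [Group Ω] {S E : Subgroup Ω} {p : ℕ} {Γ : Subgroup (MulAut E)}
    (h : Ess S E p Γ) {W0 W A B : Subgroup Ω} (hW0 : Inv Γ W0) (hW : Inv Γ W) (hle : W0 ≤ W)
    (hEW : Com E W W0) (hWp : ∀ w ∈ W, w ^ p ∈ W0)
    (hf : ∀ x ∈ normalizerIn S E, (∀ w ∈ W, x * w * x⁻¹ * w⁻¹ ∈ W0) → x ∈ E)
    (hker : (∀ γ ∈ Γ, (∀ e : E, (e : Ω) ∈ W → ((γ e : E) : Ω) * (e : Ω)⁻¹ ∈ W0) → γ ∈ Inn E) ∨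
      ∃ A0 : Subgroup Ω, A0 ≤ normalizerIn S E ∧ Com A0 A0 E ∧ (∀ x ∈ A0, x ^ p ∈ E) ∧ p < E.relIndex A0)
    (hA : A ≤ normalizerIn S E) (hB : B ≤ normalizerIn S E) (hBE : ¬ B ≤ E) :
    ∃ fA fB cA cB : ℕ, (E.relIndex A) ^ 2 ≤ fA * fB ∧ (E.relIndex A) ^ 2 ≤ cA * cB ∧
      (E.relIndex A) ^ 2 ≤ W0.relIndex W ∧
      (∀ K : Subgroup Ω, K ≤ W → Com A K W0 → fA ≤ K.relIndex W) ∧
      (∀ K : Subgroup Ω, K ≤ W → Com B K W0 → fB ≤ K.relIndex W) ∧
      (∀ V : Subgroup Ω, V ≤ W → Com A W V → cA ≤ W0.relIndex V) ∧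
      (∀ V : Subgroup Ω, V ≤ W → Com B W V → cB ≤ W0.relIndex V) ∧
      (∀ b : Ω, B = Subgroup.zpowers b → cB = fB) := by
  classical
  have hp : Fact p.Prime := ⟨h.pp⟩
  have hfE := finE h
  have hfW : Finite W := Finite.of_injective (Subgroup.inclusion hW.1) (Subgroup.inclusion_injective _)
  have hN := normal_sub h hW0 hW.1
  have hc : Com W W W0 := fun a ha m hm => hEW a (hW.1 ha) m hm
  let := cgS hN hc
  let := actS hN hc hW0 hW
  obtain ⟨H, hHΓ, hHne, hTH, hTI, hse⟩ := h.spe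
  have hI : ((Inn E).subgroupOf Γ).Normal := inferInstance
  have hsm : ∀ (γ : Γ) (w : W), γ • (Additive.ofMul (QuotientGroup.mk w) : Additive (W ⧸ W0.subgroupOf W)) =
    Additive.ofMul (QuotientGroup.mk (res hW γ w)) := fun γ w => rfl
  have hsub : ∀ (γ : Γ) (w : W), γ • (Additive.ofMul (QuotientGroup.mk w) : Additive (W ⧸ W0.subgroupOf W)) -
    Additive.ofMul (QuotientGroup.mk w) = Additive.ofMul (QuotientGroup.mk (res hW γ w * w⁻¹)) := by
    intro γ w
    rw [sub_eq_add_neg]; rfl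
  have hsmi : ∀ (γ : Γ) (w : W), γ • (Additive.ofMul (QuotientGroup.mk w) : Additive (W ⧸ W0.subgroupOf W)) =
      Additive.ofMul (QuotientGroup.mk w) ↔ ((res hW γ w : W) : Ω) * (w : Ω)⁻¹ ∈ W0 := by
    intro γ w
    rw [hsm, Additive.ofMul.apply_eq_iff_eq, QuotientGroup.eq_iff_div_mem, Subgroup.mem_subgroupOf, div_eq_mul_inv]
    rfl
  have hSEm : SEm p ((Inn E).subgroupOf Γ) (H.subgroupOf Γ) := by
    refine ⟨fun x hx => ?_, ?_, ?_⟩
    · rw [Subgroup.mem_subgroupOf] at hx ⊢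
      exact hTH (inn_le_T h hx)
    · by_contra hcon
      push Not at hcon
      apply hHne
      apply le_antisymm hHΓ
      intro g hg
      have := hcon ⟨g, hg⟩
      rwa [Subgroup.mem_subgroupOf] at this
    · rintro q hq hqI ⟨k, hk⟩ g hg hmem
      rw [Subgroup.mem_subgroupOf] at hq hqI hg hmem
      exact hqI (hse g g.2 hg q hq hmem ⟨k, congrArg Subtype.val hk⟩)
  have hpM : ∀ m : Additive (W ⧸ W0.subgroupOf W), p • m = 0 := by
    intro m
    obtain ⟨w, hw⟩ := QuotientGroup.mk_surjective m.toMul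
    obtain rfl : Additive.ofMul (QuotientGroup.mk w) = m := congrArg Additive.ofMul hw
    rw [← ofMul_pow, ← QuotientGroup.mk_pow]
    refine congrArg Additive.ofMul ((QuotientGroup.eq_one_iff _).2 ?_)
    rw [Subgroup.mem_subgroupOf]
    exact hWp w w.2
  have hItriv : ∀ γ ∈ (Inn E).subgroupOf Γ, ∀ m : Additive (W ⧸ W0.subgroupOf W), γ • m = m := by
    intro γ hγ m
    obtain ⟨w, hw⟩ := QuotientGroup.mk_surjective m.toMul
    obtain rfl : Additive.ofMul (QuotientGroup.mk w) = m := congrArg Additive.ofMul hw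
    rw [hsmi]
    rw [Subgroup.mem_subgroupOf] at hγ
    obtain ⟨e, he⟩ := hγ
    rw [res_coe, ← he]
    exact hEW e e.2 w w.2
  have hfI : ∀ γ : Γ, (∀ m : Additive (W ⧸ W0.subgroupOf W), γ • m = m) → (∃ k, γ ^ p ^ k = 1) →
      γ ∈ (Inn E).subgroupOf Γ := by
    rintro γ hγ ⟨k, hk⟩
    rw [Subgroup.mem_subgroupOf]
    have hzp : IsPGroup p (Subgroup.zpowers (γ : MulAut E)) := by
      apply isPGroup_zpowers
      exact ⟨k, congrArg Subtype.val hk⟩
    obtain ⟨g, hg, hgx⟩ := h.syl _ ((Subgroup.zpowers_le).2 γ.2) hzp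
    have h1 := hgx _ (Subgroup.mem_zpowers _)
    obtain ⟨x, hx, hxc⟩ := (mem_autInducedBy_iff S E _).1 h1
    have hxE : x ∈ E := by
      refine hf x ⟨hx, mem_normalizer_of_aut hxc⟩ fun w hw => ?_
      have h2 := hγ ((⟨g, hg⟩ : Γ)⁻¹ • Additive.ofMul (QuotientGroup.mk ⟨w, hw⟩))
      rw [← mul_smul] at h2
      have h3 : ((⟨g, hg⟩ : Γ) * γ * (⟨g, hg⟩ : Γ)⁻¹) •
          (Additive.ofMul (QuotientGroup.mk ⟨w, hw⟩) : Additive (W ⧸ W0.subgroupOf W)) =
          Additive.ofMul (QuotientGroup.mk ⟨w, hw⟩) := by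
        rw [mul_assoc, mul_smul, h2, smul_inv_smul]
      rw [hsmi, res_coe] at h3
      have h4 := hxc ⟨w, hW.1 hw⟩
      have h5 : (((⟨g, hg⟩ : Γ) * γ * (⟨g, hg⟩ : Γ)⁻¹ : Γ) : MulAut E) = g * (γ : MulAut E) * g⁻¹ := rfl
      rw [h5, h4] at h3
      exact h3
    have h6 : g * (γ : MulAut E) * g⁻¹ ∈ Inn E := by
      refine ⟨⟨x, hxE⟩, ?_⟩
      ext e
      exact (hxc e).symm
    have h7 := (innNormal E).conj_mem _ h6 g⁻¹
    have e : g⁻¹ * (g * (γ : MulAut E) * g⁻¹) * g⁻¹⁻¹ = γ := by group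
    rwa [e] at h7
  have hrange : ∀ {C : Subgroup Ω} (hC : C ≤ normalizerIn S E), (cjA h hC).range ≤ H.subgroupOf Γ := by
    rintro C hC _ ⟨a, rfl⟩
    rw [Subgroup.mem_subgroupOf]
    exact hTH (cjA_mem_T h hC a)
  have hrangep : ∀ {C : Subgroup Ω} (hC : C ≤ normalizerIn S E), IsPGroup p (cjA h hC).range := by
    intro C hC
    have h1 : IsPGroup p C := h.pgr.to_le (hC.trans inf_le_left)
    exact h1.of_surjective (cjA h hC).rangeRestrict (cjA h hC).rangeRestrict_surjective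
  have hidx : ∀ {C : Subgroup Ω} (hC : C ≤ normalizerIn S E),
      ((Inn E).subgroupOf Γ).relIndex (cjA h hC).range = E.relIndex C := by
    intro C hC
    rw [← Subgroup.index_comap]
    unfold Subgroup.relIndex
    congr 1
    ext a
    rw [Subgroup.mem_comap, Subgroup.mem_subgroupOf, Subgroup.mem_subgroupOf, cjA_inn]
  have hkerX : ∀ γ : Γ, (∀ m : Additive (W ⧸ W0.subgroupOf W), γ • m = m) → γ ∈ H.subgroupOf Γ := by
    rcases hker with hk | ⟨A0, hA0, hA0c, hA0p, hA0i⟩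
    · intro γ hγ
      rw [Subgroup.mem_subgroupOf]
      refine hTH (inn_le_T h (hk γ γ.2 fun e he => ?_))
      have h1 := hγ (Additive.ofMul (QuotientGroup.mk ⟨e, he⟩))
      rw [hsmi] at h1
      exact h1
    · refine mod_kernel_le hSEm hItriv hfI (hrange hA0) ?_ ?_ ((hidx hA0).symm ▸ hA0i)
      · rintro _ ⟨a, rfl⟩ _ ⟨b, rfl⟩
        rw [← map_inv, ← map_inv, ← map_mul, ← map_mul, ← map_mul, Subgroup.mem_subgroupOf, cjA_inn]
        exact hA0c a a.2 b b.2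
      · rintro _ ⟨a, rfl⟩
        rw [← map_pow, Subgroup.mem_subgroupOf, cjA_inn]
        exact hA0p a a.2
  have hIp : IsPGroup p ((Inn E).subgroupOf Γ) := by
    have h1 : IsPGroup p (Inn E) := (isPGroup_T h).to_le (inn_le_T h)
    exact h1.comap_subtype
  have hmain := mod_p2 hSQ (M := Additive (W ⧸ W0.subgroupOf W)) (A := (cjA h hA).range) (B := (cjA h hB).range)
    hpM hSEm hIp hItriv hfI hkerX (hrange hA) (hrange hB) (hrangep hA) (hrangep hB) (by
      intro h1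
      apply hBE
      intro b hb
      have h2 := h1 ⟨⟨b, hb⟩, rfl⟩
      rw [Subgroup.mem_subgroupOf, cjA_inn] at h2
      exact h2)
  rw [hidx] at hmain
  have hfix : ∀ {C : Subgroup Ω} (hC : C ≤ normalizerIn S E) (K : Subgroup Ω), K ≤ W → Com C K W0 →
      (fx (Additive (W ⧸ W0.subgroupOf W)) (cjA h hC).range).index ≤ K.relIndex W := by
    intro C hC K hK hCK
    let F : Subgroup (W ⧸ W0.subgroupOf W) :=
      Subgroup.toAddSubgroup.symm (fx (Additive (W ⧸ W0.subgroupOf W)) (cjA h hC).range)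
    have h1 : (fx (Additive (W ⧸ W0.subgroupOf W)) (cjA h hC).range).index = F.index := rfl
    rw [h1]
    refine idx_le hN F ?_
    intro w hw
    rintro _ ⟨a, rfl⟩
    show (cjA h hC a) • (Additive.ofMul (QuotientGroup.mk w) : Additive (W ⧸ W0.subgroupOf W)) =
      Additive.ofMul (QuotientGroup.mk w)
    rw [hsmi]
    exact hCK a a.2 w hw
  have hcom : ∀ {C : Subgroup Ω} (hC : C ≤ normalizerIn S E) (V : Subgroup Ω), V ≤ W → Com C W V →
      Nat.card (cm (Additive (W ⧸ W0.subgroupOf W)) (cjA h hC).range) ≤ W0.relIndex V := by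
    intro C hC V hV hCV
    let F : Subgroup (W ⧸ W0.subgroupOf W) :=
      Subgroup.toAddSubgroup.symm (cm (Additive (W ⧸ W0.subgroupOf W)) (cjA h hC).range)
    have h1 : Nat.card (cm (Additive (W ⧸ W0.subgroupOf W)) (cjA h hC).range) = Nat.card F := rfl
    rw [h1]
    refine card_le hN hV F ?_
    have h2 : cm (Additive (W ⧸ W0.subgroupOf W)) (cjA h hC).range ≤ Subgroup.toAddSubgroup
        ((V.subgroupOf W).map (QuotientGroup.mk' (W0.subgroupOf W))) := by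
      unfold cm
      rw [AddSubgroup.closure_le]
      rintro _ ⟨_, ⟨a, rfl⟩, u, rfl⟩
      obtain ⟨w, hw⟩ := QuotientGroup.mk_surjective u.toMul
      obtain rfl : Additive.ofMul (QuotientGroup.mk w) = u := congrArg Additive.ofMul hw
      rw [hsub]
      refine ⟨res hW (cjA h hC a) w * w⁻¹, ?_, rfl⟩
      rw [SetLike.mem_coe, Subgroup.mem_subgroupOf]
      exact hCV a a.2 w w.2
    exact h2
  refine ⟨_, _, _, _, hmain.1, hmain.2.1, ?_, hfix hA, hfix hB, hcom hA, hcom hB, ?_⟩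
  · refine hmain.2.2.trans (le_of_eq ?_)
    rfl
  · intro b hb
    subst hb
    have h1 : (cjA h hB).range = Subgroup.zpowers (cjA h hB ⟨b, Subgroup.mem_zpowers b⟩) := by
      apply le_antisymm
      · rintro _ ⟨⟨c, n, hn⟩, rfl⟩
        refine ⟨n, ?_⟩
        show (cjA h hB ⟨b, Subgroup.mem_zpowers b⟩) ^ n = _
        rw [← map_zpow]
        congr 1
        exact Subtype.ext hn
      · rw [Subgroup.zpowers_le]
        exact ⟨_, rfl⟩
    rw [h1]
    exact card_cm_zpowers _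

end Cfsg.Agent.H218.TE
end

-- part: H218/TE/P2S
section
/-!
# S5261 engine: `eng_of : StSQ → Eng`
-/

set_option autoImplicit false
set_option linter.unusedVariables false

namespace Cfsg.Agent.H218.TE

open Cfsg Cfsg.FusionSystem Cfsg.Agent.H756.PU Cfsg.Agent.H802 Cfsg.Agent.H802.TE Cfsg.Agent.H218.Fus

universe u

theorem faithful_phi {Ω : Type*} [Group Ω] {S E : Subgroup Ω} {p : ℕ} {Γ : Subgroup (MulAut E)}
    (h : Ess S E p Γ) : ∀ γ ∈ Γ, (∀ e : E, (e : Ω) ∈ E → ((γ e : E) : Ω) * (e : Ω)⁻¹ ∈ phi E) → γ ∈ Inn E := by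
  intro γ hγ he
  exact le_inn_Γ h (K := trv Γ (inv_E Γ) (inv_phi Γ)) (fun γ hγ => hγ.1)
    (fun g hg γ hγ => trv_conj _ _ hg hγ) (isPGroup_trv_phi h Γ) ⟨hγ, he⟩

theorem relIndex_mono {Ω : Type*} [Group Ω] {Y Z W : Subgroup Ω} (hW : Finite W) (h : Y ≤ Z) :
    Z.relIndex W ≤ Y.relIndex W := by
  refine Subgroup.relIndex_le_of_le_left h ?_
  exact Subgroup.index_ne_zero_of_finite

theorem fin_le {Ω : Type*} [Group Ω] {E W : Subgroup Ω} (hE : Finite E) (h : W ≤ E) : Finite W :=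
  Finite.of_injective (Subgroup.inclusion h) (Subgroup.inclusion_injective _)

theorem stP2 (hSQ : StSQ.{u}) : StP2.{u} := by
  intro Ω _ S E p Γ h A B W W' Y Y' hA hB hBE hW hW' hAW hBW hY hY'
  have hfE := finE h
  obtain ⟨fA, fB, cA, cB, h1, h2, h3, h4, h5, h6, h7, h8⟩ := sec_p2 hSQ h (inv_phi Γ) (inv_E Γ) (phi_le E) (com_E h)
    (pow_E h) (phi_faithful h) (Or.inl (faithful_phi h)) hA hB hBE
  exact h2.trans (Nat.mul_le_mul ((h6 W hW hAW).trans (relIndex_mono (fin_le hfE hW) hY))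
    ((h7 W' hW' hBW).trans (relIndex_mono (fin_le hfE hW') hY')))

theorem stP2w (hSQ : StSQ.{u}) : StP2w.{u} := by
  intro Ω _ S E p Γ h A B X X' hA hB hBE hX hX' hAX hBX
  obtain ⟨fA, fB, cA, cB, h1, h88⟩ := sec_p2 hSQ h (inv_phi Γ) (inv_E Γ) (phi_le E) (com_E h)
    (pow_E h) (phi_faithful h) (Or.inl (faithful_phi h)) hA hB hBE
  revert h88; rintro ⟨h2, h3, h4, h5, h6, h88⟩
  revert h88; rintro ⟨h7, h8⟩
  exact h1.trans (Nat.mul_le_mul (h4 X hX hAX) (h5 X' hX' hBX))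

theorem stP2c (hSQ : StSQ.{u}) : StP2c.{u} := by
  intro Ω _ S E p Γ h A W Y X b hA hb hbE hW hAW hY hX hbX
  have hfE := finE h
  have hB : Subgroup.zpowers b ≤ normalizerIn S E := (Subgroup.zpowers_le).2 hb
  have hBE : ¬ Subgroup.zpowers b ≤ E := fun h1 => hbE (h1 (Subgroup.mem_zpowers b))
  obtain ⟨fA, fB, cA, cB, h1, h2, h3, h4, h5, h6, h7, h8⟩ := sec_p2 hSQ h (inv_phi Γ) (inv_E Γ) (phi_le E) (com_E h)
    (pow_E h) (phi_faithful h) (Or.inl (faithful_phi h)) hA hB hBE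
  have hbX' : Com (Subgroup.zpowers b) X (phi E) := by
    -- the elements `c` of `N(E)` centralizing `X` modulo `Φ(E)`; `X` may be enlarged to a `b`-invariant subgroup
    intro c hc x hx
    -- use the action on `E/Φ(E)`: elements fixing the coset of `x`
    let C : Subgroup Ω := {
      carrier := {c | c ∈ Subgroup.normalizer (E : Set Ω) ∧ c * x * c⁻¹ * x⁻¹ ∈ phi E}
      one_mem' := ⟨one_mem _, by simp⟩
      mul_mem' := by
        rintro c d ⟨hc, hc'⟩ ⟨hd, hd'⟩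
        refine ⟨mul_mem hc hd, ?_⟩
        have h1 := mul_mem (conj_phi hc hd') hc'
        have e : c * (d * x * d⁻¹ * x⁻¹) * c⁻¹ * (c * x * c⁻¹ * x⁻¹) = c * d * x * (c * d)⁻¹ * x⁻¹ := by group
        rwa [e] at h1
      inv_mem' := by
        rintro c ⟨hc, hc'⟩
        refine ⟨inv_mem hc, ?_⟩
        have h1 := conj_phi (inv_mem hc) (inv_mem hc')
        have e : c⁻¹ * (c * x * c⁻¹ * x⁻¹)⁻¹ * c⁻¹⁻¹ = c⁻¹ * x * c⁻¹⁻¹ * x⁻¹ := by group
        rwa [e] at h1 }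
    have h9 : Subgroup.zpowers b ≤ C := (Subgroup.zpowers_le).2 ⟨hb.2, hbX x hx⟩
    exact (h9 hc).2
  have h9 := h5 X hX hbX'
  rw [← h8 b rfl] at h9
  exact h2.trans (Nat.mul_le_mul ((h6 W hW hAW).trans (relIndex_mono (fin_le hfE hW) hY)) h9)

theorem stBd (hSQ : StSQ.{u}) : StBd.{u} := by
  intro Ω _ S E p Γ h A Y hA hY
  have hfE := finE h
  by_cases hAE : A ≤ E
  · have h1 : E.relIndex A = 1 := Subgroup.relIndex_eq_one.2 hAE
    rw [h1, one_pow]
    exact Nat.pos_of_ne_zero Subgroup.index_ne_zero_of_finite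
  obtain ⟨fA, fB, cA, cB, h1, h2, h3, h4, h5, h6, h7, h8⟩ := sec_p2 hSQ h (inv_phi Γ) (inv_E Γ) (phi_le E) (com_E h)
    (pow_E h) (phi_faithful h) (Or.inl (faithful_phi h)) hA hA hAE
  exact h3.trans (relIndex_mono hfE hY)

theorem stSecC (hSQ : StSQ.{u}) : StSecC.{u} := by
  intro Ω _ S E p Γ h N M A0 A B W W' hN hM hle hEM hMp hf hA0 hA0c hA0p hA0i hA hB hBE hW hW' hAW hBW
  obtain ⟨fA, fB, cA, cB, h1, h88⟩ := sec_p2 hSQ h hN hM hle hEM hMp hf
    (Or.inr ⟨A0, hA0, hA0c, hA0p, hA0i⟩) hA hB hBE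
  revert h88; rintro ⟨h2, h3, h4, h5, h6, h88⟩
  revert h88; rintro ⟨h7, h8⟩
  exact h2.trans (Nat.mul_le_mul (h6 W hW hAW) (h7 W' hW' hBW))

theorem stSecW (hSQ : StSQ.{u}) : StSecW.{u} := by
  intro Ω _ S E p Γ h N M A0 A B X X' hN hM hle hEM hMp hf hA0 hA0c hA0p hA0i hA hB hBE hX hX' hAX hBX
  obtain ⟨fA, fB, cA, cB, h1, h2, h3, h4, h5, h6, h7, h8⟩ := sec_p2 hSQ h hN hM hle hEM hMp hf
    (Or.inr ⟨A0, hA0, hA0c, hA0p, hA0i⟩) hA hB hBE
  exact h1.trans (Nat.mul_le_mul (h4 X hX hAX) (h5 X' hX' hBX))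

/-- **the engine of S5261** -/
theorem eng_of (hSQ : StSQ.{u}) : Eng.{u} where
  phi := stPhi
  p2 := stP2 hSQ
  p2c := stP2c hSQ
  p2w := stP2w hSQ
  bd := stBd hSQ
  ch := stCh
  hull := stHull
  l := stL
  cj := stConj
  cm := stCm
  secC := stSecC hSQ
  secW := stSecW hSQ

end Cfsg.Agent.H218.TE
end

-- part: H780/D4/Asm
section
/-!
# S5261: the assembly (helper780)
-/

set_option autoImplicit false

namespace Cfsg.Agent.H780.D4

open Cfsg Cfsg.FusionSystem Cfsg.Agent.H802 Cfsg.Agent.H765.D3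
open Cfsg.Agent.H765.D3.Sy (Q1 Q2 Z1 Z2 Z3 Z4 u1 u2 u3 u4 u5 u6)
open Cfsg.Agent.Hex.Defs (sh cr nm tr)
open Cfsg.Agent.H756.PU (Inv Ess NormAut TIAut AF StEss StCon StSame StTrans StTwist StCompl topHom mem_AF_iff
  autGroup_top_eq_of_AF res_mem syl_of_normal ext_mem mem_range_sup map_conj_range top_le_normalizer_of_char inv_top_of_char
  not_norm_of_ess fullyNorm_of_normal)

universe u v

/-- all the pieces except the transport to `Sy φ` -/
structure Pieces : Prop where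
  ess : StEss.{u}
  con : StCon.{u}
  same : StSame.{u}
  twist : StTwist.{u}
  compl : StCompl.{u}
  tialp : StTIAlp.{u}
  grp : StGrpD.{u}
  e : Cfsg.Agent.H802.TE.StE.{u}
  pos : StPosD.{u}
  tor : StTor.{u}
  l1a : StL1a.{u}
  l1 : StL1.{u}
  l2a : StL2a.{u}
  l2 : StL2.{u}
  real : StRealD.{u}

section

variable {F K : Type u} [Field F] [Field K] [Algebra F K] {φ : K ≃ₐ[F] K} [Cub φ] {p n : ℕ}

theorem finite_F (hK : HypD φ p n) : Finite F :=
  Nat.finite_of_card_ne_zero (by rw [hK.card]; exact pow_ne_zero _ hK.pp.ne_zero)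

theorem finite_Sy (hK : HypD φ p n) : Finite (Sy φ) := by
  have := hK.fin
  have := finite_F hK
  infer_instance

theorem map_char {Q : Subgroup (Sy φ)} [hQ : Q.Characteristic] (α : MulAut (Sy φ)) : Q.map α.toMonoidHom = Q :=
  (Subgroup.characteristic_iff_map_eq.1 hQ) α

theorem map_Q (Q : Subgroup (Sy φ)) (hQ : Q = Q1 φ ∨ Q = Q2 φ) (α : MulAut (Sy φ)) : Q.map α.toMonoidHom = Q := by
  rcases hQ with rfl | rfl
  · exact map_char α
  · exact map_char α

theorem cent_Q (Q : Subgroup (Sy φ)) (hQ : Q = Q1 φ ∨ Q = Q2 φ) : centralizerIn ⊤ Q ≤ Q := by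
  have key : centralizerIn ⊤ Q ≤ Subgroup.centralizer (Q : Set (Sy φ)) := by
    intro x hx
    exact hx.2
  rcases hQ with rfl | rfl
  · refine key.trans ?_
    rw [Sy.centralizer_Q1]
    exact (Sy.Z1_le_Z2.trans (Sy.Z2_le_Z3.trans Sy.Z3_le_Z4)).trans Sy.Z4_le_Q1
  · refine key.trans ?_
    rw [Sy.centralizer_Q2]
    exact (Sy.Z2_le_Z3.trans Sy.Z3_le_Z4).trans Sy.Z4_le_Q2

theorem nQ12 : ¬ Q1 φ ≤ Q2 φ := by
  intro h
  have h1 : (u6 φ (1 : F)) ∈ Q2 φ := h (Sy.u6_mem 1)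
  have h2 : (1 : F) = 0 := h1
  exact one_ne_zero h2

theorem nQ21 : ¬ Q2 φ ≤ Q1 φ := by
  intro h
  have h1 : (u1 φ (1 : K)) ∈ Q1 φ := h (Sy.u1_mem 1)
  have h2 : (1 : K) = 0 := h1
  exact one_ne_zero h2

theorem ess_cases (H : Pieces.{u}) (hK : HypD φ p n) {Fs : FusionSystem (⊤ : Subgroup (Sy φ))}
    (hF : Fs.IsSaturated p) {E : Subgroup (Sy φ)} (hE : Fs.IsEssential p E) : E = Q1 φ ∨ E = Q2 φ := by
  have : Fact p.Prime := ⟨hK.pp⟩
  have := hK.fin
  have := finite_F hK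
  have hfin : Finite (Sy φ) := finite_Sy hK
  have := hK.char
  have hS : IsPGroup p (⊤ : Subgroup (Sy φ)) := (H.grp hK).2.1
  exact H.e (H.ess Fs E hS hF hE)

theorem ti_of (H : Pieces.{u}) (hK : HypD φ p n) {Fs : FusionSystem (⊤ : Subgroup (Sy φ))}
    (hF : Fs.IsSaturated p) (Q : Subgroup (Sy φ)) (hQ : Q = Q1 φ ∨ Q = Q2 φ) :
    TIAut (⊤ : Subgroup (Sy φ)) (Fs.autGroup Q) := by
  have : Fact p.Prime := ⟨hK.pp⟩
  have hfin : Finite (Sy φ) := finite_Sy hK
  have hS : IsPGroup p (⊤ : Subgroup (Sy φ)) := (H.grp hK).2.1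
  rcases hQ with rfl | rfl
  · exact H.tialp Fs (Q1 φ) (Q2 φ) hS hF (fun E hE => ess_cases H hK hF hE) nQ12 (cent_Q _ (Or.inl rfl))
      (map_Q _ (Or.inl rfl))
  · exact H.tialp Fs (Q2 φ) (Q1 φ) hS hF (fun E hE => (ess_cases H hK hF hE).symm) nQ21 (cent_Q _ (Or.inr rfl))
      (map_Q _ (Or.inr rfl))

theorem par_of (H : Pieces.{u}) (hK : HypD φ p n) {Fs : FusionSystem (⊤ : Subgroup (Sy φ))}
    (hF : Fs.IsSaturated p) {Q : Subgroup (Sy φ)} (hQ : Q = Q1 φ ∨ Q = Q2 φ)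
    (hnn : ¬ ∀ γ ∈ Fs.autGroup Q, NormAut (⊤ : Subgroup (Sy φ)) γ)
    {D : Subgroup (MulAut (Sy φ))} (hD : D ≤ TT φ) (hDc : (Nat.card D).Coprime p)
    (hAF : AF Fs = (MulAut.conj : Sy φ →* MulAut (Sy φ)).range ⊔ D) : Par p Q (Fs.autGroup Q) D := by
  have : Fact p.Prime := ⟨hK.pp⟩
  have hfin : Finite (Sy φ) := finite_Sy hK
  have hS : IsPGroup p (⊤ : Subgroup (Sy φ)) := (H.grp hK).2.1
  have hn := top_le_normalizer_of_char (map_Q Q hQ)
  refine ⟨autInducedBy_le_autGroup Fs le_top, syl_of_normal hS hF hn, hnn, ti_of H hK hF Q hQ,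
    hD, hDc, ?_, ?_⟩
  · intro d hd γ hγ
    have h1 : d ∈ AF Fs := by
      rw [hAF]
      exact Subgroup.mem_sup_right hd
    exact res_mem h1 hγ
  · intro γ hγ hN
    obtain ⟨β, hβ, he⟩ := ext_mem hS hF hn hγ hN
    rw [hAF] at hβ
    obtain ⟨x, d, hd, rfl⟩ := mem_range_sup hβ
    exact ⟨x, d, hd, fun e => he e⟩

theorem hasT_of (H : Pieces.{u}) (hK : HypD φ p n) {Γ1 : Subgroup (MulAut (Q1 φ))} {Γ2 : Subgroup (MulAut (Q2 φ))}
    {D : Subgroup (MulAut (Sy φ))} (h1 : Par p (Q1 φ) Γ1 D) (h2 : Par p (Q2 φ) Γ2 D) : HasT D := by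
  obtain ⟨a1, -, -⟩ := H.l2a hK Γ2 D h2
  obtain ⟨b1, -, -⟩ := H.l1a hK Γ1 D h1 (fun _ α hα => by
    refine a1 (-1) α (by norm_num) ?_
    have e1 : (algebraMap F K (-1))⁻¹ = -1 := by
      rw [map_neg, map_one]
      norm_num
    rw [e1, neg_one_sq]
    exact hα)
  exact H.tor hK D b1 a1

theorem real_of_tt (H : Pieces.{u}) (hK : HypD φ p n) {Fs : FusionSystem (⊤ : Subgroup (Sy φ))}
    (hF : Fs.IsSaturated p) (hE1 : Fs.IsEssential p (Q1 φ)) (hE2 : Fs.IsEssential p (Q2 φ))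
    {D : Subgroup (MulAut (Sy φ))} (hD : D ≤ TT φ) (hDc : (Nat.card D).Coprime p)
    (hAF : AF Fs = (MulAut.conj : Sy φ →* MulAut (Sy φ)).range ⊔ D) : Fs.IsRealizable p := by
  have : Fact p.Prime := ⟨hK.pp⟩
  have hfin : Finite (Sy φ) := finite_Sy hK
  have hS : IsPGroup p (⊤ : Subgroup (Sy φ)) := (H.grp hK).2.1
  have P1 := par_of H hK hF (Or.inl rfl) (not_norm_of_ess (H.ess Fs _ hS hF hE1)) hD hDc hAF
  have P2 := par_of H hK hF (Or.inr rfl) (not_norm_of_ess (H.ess Fs _ hS hF hE2)) hD hDc hAF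
  have hT := hasT_of H hK P1 P2
  have g1 := H.l1 hK _ D P1 hT
  have g2 := H.l2 hK _ D P2 hT
  obtain ⟨F', hF', hR, hAF', hN1, hN2⟩ := H.real hK D hD hDc hT
  have P1' := par_of H hK hF' (Or.inl rfl) hN1 hD hDc hAF'
  have P2' := par_of H hK hF' (Or.inr rfl) hN2 hD hDc hAF'
  have g1' := H.l1 hK _ D P1' hT
  have g2' := H.l2 hK _ D P2' hT
  have hsame := H.same Fs F' (Q1 φ) (Q2 φ) hS hF hF' le_top le_top
    (fun E hE => ess_cases H hK hF hE) (fun E hE => ess_cases H hK hF' hE)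
    (autGroup_top_eq_of_AF (hAF.trans hAF'.symm))
    (Subgroup.ext fun γ => (g1 γ).trans (g1' γ).symm) (Subgroup.ext fun γ => (g2 γ).trans (g2' γ).symm)
  rw [fusionSystem_ext hsame]
  exact hR

theorem real_of (H : Pieces.{u}) (hK : HypD φ p n) {Fs : FusionSystem (⊤ : Subgroup (Sy φ))}
    (hF : Fs.IsSaturated p) : Fs.IsRealizable p := by
  have : Fact p.Prime := ⟨hK.pp⟩
  have hfin : Finite (Sy φ) := finite_Sy hK
  have hS : IsPGroup p (⊤ : Subgroup (Sy φ)) := (H.grp hK).2.1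
  have con : ∀ Q : Subgroup (Sy φ), (Q = Q1 φ ∨ Q = Q2 φ) → (∀ E, Fs.IsEssential p E → E = Q) →
      Fs.IsRealizable p := by
    intro Q hQ hu
    have hchar := map_Q Q hQ
    exact H.con Fs Q hS hF le_top (top_le_normalizer_of_char hchar) (cent_Q Q hQ) hu (inv_top_of_char hchar)
  by_cases hE1 : Fs.IsEssential p (Q1 φ)
  · by_cases hE2 : Fs.IsEssential p (Q2 φ)
    · obtain ⟨D0, hD0, hD0e⟩ := H.compl Fs hS hF
      obtain ⟨θ, hθ⟩ := H.pos hK D0 hD0
      obtain ⟨F', hF', hR, hAF', hess⟩ := H.twist Fs θ hF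
      have hc1 := map_Q (Q1 φ) (Or.inl rfl)
      have hc2 := map_Q (Q2 φ) (Or.inr rfl)
      have hE1' : F'.IsEssential p (Q1 φ) := by
        have := (hess (Q1 φ)).1 hE1
        rwa [hc1] at this
      have hE2' : F'.IsEssential p (Q2 φ) := by
        have := (hess (Q2 φ)).1 hE2
        rwa [hc2] at this
      apply hR
      refine real_of_tt H hK hF' hE1' hE2' (D := D0.map (MulAut.conj θ).toMonoidHom) ?_ ?_ ?_
      · rintro _ ⟨d, hd, rfl⟩
        exact hθ d hd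
      · have : Nat.card (D0.map (MulAut.conj θ).toMonoidHom) = Nat.card D0 :=
          (Nat.card_congr (D0.equivMapOfInjective _ (MulAut.conj θ).injective).toEquiv).symm
        rwa [this]
      · rw [hAF', ← hD0e, Subgroup.map_sup, map_conj_range]
    · refine con (Q1 φ) (Or.inl rfl) fun E hE => ?_
      rcases ess_cases H hK hF hE with h | h
      · exact h
      · subst h
        exact absurd hE hE2
  · refine con (Q2 φ) (Or.inr rfl) fun E hE => ?_
    rcases ess_cases H hK hF hE with h | h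
    · subst h
      exact absurd hE hE1
    · exact h

end

theorem final_of (H : Pieces.{v}) (hTr : StTrans.{u, v})
    {Ω : Type u} [Group Ω] {S : Subgroup Ω} [Finite S] (p : ℕ) [Fact p.Prime] (Fs : Cfsg.FusionSystem S)
    (hF : Fs.IsSaturated p) {K : Type v} [Field K] [Fintype K] [CharP K p] (n : ℕ) (hn : 1 ≤ n)
    (hK : Fintype.card K = (p ^ n) ^ 3) (T : Sylow p ↥(Cfsg.Lie.twistedD4 K (p ^ n)))
    (e : ↥S ≃* ↥(T : Subgroup ↥(Cfsg.Lie.twistedD4 K (p ^ n)))) : Fs.IsRealizable p := by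
  obtain ⟨F, φ, hC, hFc, hφ, ⟨e'⟩⟩ := exists_iso hn hK T
  have hyp : HypD φ p n := ⟨Fact.out, hn, inferInstance, hFc, by rw [Nat.card_eq_fintype_card]; exact hK, inferInstance, hφ⟩
  obtain ⟨F', hF', hR⟩ := hTr Fs (e.trans e') hF
  exact hR (real_of H hyp hF')

end Cfsg.Agent.H780.D4
end

-- part: H805/D4/TIAlp
section
/-!
# S5261 (D3-TIALP): TI of `Aut_S(Q1)` from Alperin's fusion theorem (helper805)
-/

set_option autoImplicit false

namespace Cfsg.Agent.H805.D4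

open Cfsg Cfsg.FusionSystem Cfsg.Agent.H802 Cfsg.Agent.H756.PU

universe u

variable {G0 : Type u} [Group G0]

/-- `α` is an `F`-automorphism of the whole group -/
def IsA (F : FusionSystem (⊤ : Subgroup G0)) (α : MulAut G0) : Prop :=
  α.toMonoidHom.comp (⊤ : Subgroup G0).subtype ∈ F.Hom ⊤

theorem isA_mul {F : FusionSystem (⊤ : Subgroup G0)} {α β : MulAut G0} (ha : IsA F α) (hb : IsA F β) :
    IsA F (α * β) := by
  obtain ⟨χ, hχ, he⟩ := exists_comp hb ha (fun _ => Subgroup.mem_top _)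
  exact mem_of_apply_eq hχ (fun x => (he x).symm)

theorem isA_conj (F : FusionSystem (⊤ : Subgroup G0)) (g : G0) : IsA F (MulAut.conj g) :=
  mem_of_apply_eq (F.conj_mem (P := ⊤) (g := g) le_rfl (Subgroup.mem_top g)) (fun _ => rfl)

theorem isA_inv {F : FusionSystem (⊤ : Subgroup G0)} {α : MulAut G0} (ha : IsA F α) : IsA F α⁻¹ := by
  obtain ⟨ψ, hψ, -, h1, -⟩ := exists_inv (Q := ⊤) ha (by
    rw [eq_top_iff]
    rintro x -
    exact ⟨⟨α.symm x, Subgroup.mem_top _⟩, α.apply_symm_apply x⟩)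
  refine mem_of_apply_eq hψ (fun x => ?_)
  have h2 := h1 ⟨α.symm x, Subgroup.mem_top _⟩ (Subgroup.mem_top _)
  have h3 : (α.toMonoidHom.comp (⊤ : Subgroup G0).subtype) ⟨α.symm x, Subgroup.mem_top _⟩ = (x : G0) :=
    α.apply_symm_apply x
  have h4 : (⟨(α.toMonoidHom.comp (⊤ : Subgroup G0).subtype) ⟨α.symm x, Subgroup.mem_top _⟩, Subgroup.mem_top _⟩ :
      (⊤ : Subgroup G0)) = x := Subtype.ext h3
  rw [h4] at h2
  exact h2.symm

/-- the subsystem of the maps which extend to the whole group when their source or image is larger than `Q` -/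
def extSys (F : FusionSystem (⊤ : Subgroup G0)) (Q : Subgroup G0)
    (hQ : ∀ α : MulAut G0, Q.map α.toMonoidHom = Q) : FusionSystem (⊤ : Subgroup G0) where
  Hom P := {φ | φ ∈ F.Hom P ∧ ((Q < P ∨ Q < φ.range) → ∃ α : MulAut G0, IsA F α ∧ ∀ x : P, φ x = α x)}
  le_of_mem h := F.le_of_mem h.1
  injective_of_mem h := F.injective_of_mem h.1
  conj_mem hP hg := ⟨F.conj_mem hP hg, fun _ => ⟨MulAut.conj _, isA_conj F _, fun _ => rfl⟩⟩
  comp_mem := by
    rintro P R φ ψ ⟨h1, h2⟩ ⟨h3, h4⟩ h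
    refine ⟨F.comp_mem h1 h3 h, ?_⟩
    -- images under `IsA`
    have key : ∀ (P R : Subgroup G0) (φ : P →* G0) (α : MulAut G0), (∀ x : P, φ x = α x) → φ.range = R →
        (Q < P ↔ Q < R) := by
      intro P R φ α hφ hR
      have h5 : R = P.map α.toMonoidHom := by
        rw [← hR]
        ext y
        constructor
        · rintro ⟨x, rfl⟩
          exact ⟨x, x.2, (hφ x).symm⟩
        · rintro ⟨x, hx, rfl⟩
          exact ⟨⟨x, hx⟩, hφ _⟩
      have h6 : Q < P ↔ Q.map α.toMonoidHom < P.map α.toMonoidHom :=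
        ⟨fun h => (Subgroup.map_lt_map_iff_of_injective α.injective).2 h,
          fun h => (Subgroup.map_lt_map_iff_of_injective α.injective).1 h⟩
      rw [h6, hQ, h5]
    rintro (h5 | h5)
    · obtain ⟨α, ha, ha'⟩ := h2 (Or.inl h5)
      have h6 : Q < φ.range := (key P φ.range φ α ha' rfl).1 h5
      have h7 : φ.range ≤ R := by
        rintro _ ⟨x, rfl⟩
        exact h x
      obtain ⟨β, hb, hb'⟩ := h4 (Or.inl (lt_of_lt_of_le h6 h7))
      refine ⟨β * α, isA_mul hb ha, fun x => ?_⟩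
      show ψ ⟨φ x, h x⟩ = β (α x)
      rw [hb']
      show β (φ x) = _
      rw [ha']
    · have h6 : (ψ.comp (φ.codRestrict R h)).range ≤ ψ.range := by
        rintro _ ⟨x, rfl⟩
        exact ⟨_, rfl⟩
      obtain ⟨β, hb, hb'⟩ := h4 (Or.inr (lt_of_lt_of_le h5 h6))
      have h7 : Q < φ.range := by
        refine (key φ.range (ψ.comp (φ.codRestrict R h)).range (β.toMonoidHom.comp φ.range.subtype) β
          (fun _ => rfl) ?_).2 h5
        ext y
        constructor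
        · rintro ⟨⟨_, x, rfl⟩, rfl⟩
          exact ⟨x, by show ψ ⟨φ x, h x⟩ = β (φ x); rw [hb']⟩
        · rintro ⟨x, rfl⟩
          exact ⟨⟨φ x, x, rfl⟩, by show β (φ x) = ψ ⟨φ x, h x⟩; rw [hb']⟩
      obtain ⟨α, ha, ha'⟩ := h2 (Or.inr h7)
      refine ⟨β * α, isA_mul hb ha, fun x => ?_⟩
      show ψ ⟨φ x, h x⟩ = β (α x)
      rw [hb']
      show β (φ x) = _
      rw [ha']
  inv_mem := by
    rintro P φ ⟨h1, h2⟩
    obtain ⟨ψ, hψ, hr, h3, h4⟩ := exists_inv h1 rfl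
    refine ⟨ψ, ⟨hψ, ?_⟩, fun x => h3 x _⟩
    intro h
    rw [hr] at h
    obtain ⟨α, ha, ha'⟩ := h2 h.symm
    refine ⟨α⁻¹, isA_inv ha, ?_⟩
    rintro ⟨_, x, rfl⟩
    refine (h3 x ⟨x, rfl⟩).trans ?_
    show (x : G0) = α⁻¹ (φ x)
    rw [ha']
    exact (α.symm_apply_apply (x : G0)).symm

/-- (TIALP) -/
theorem stTIAlp : Cfsg.Agent.H780.D4.StTIAlp.{u} := by
  intro G0 _ _ p _ F Q1 Q2 hS hF hess hle hcen hinv
  have hfull := le_of_essential hS hF (extSys F Q1 hinv) (by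
    intro α hα
    rw [mem_autGroup_iff _ le_rfl] at hα ⊢
    refine ⟨hα, fun _ => ?_⟩
    refine ⟨(MulAut.congr Subgroup.topEquiv) α, ?_, ?_⟩
    · refine mem_of_apply_eq hα (fun x => ?_)
      show ((MulAut.congr Subgroup.topEquiv) α) (x : G0) = ((α x : (⊤ : Subgroup G0)) : G0)
      rfl
    · intro x
      rfl) (by
    intro Q hQ _ α hα
    have hQS : Q ≤ ⊤ := le_top
    rw [mem_autGroup_iff _ hQS] at hα ⊢
    refine ⟨hα, fun h => ?_⟩
    exfalso
    have hr : (Q.subtype.comp α.toMonoidHom).range = Q := by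
      ext y
      constructor
      · rintro ⟨x, rfl⟩
        exact (α x).2
      · intro hy
        exact ⟨α.symm ⟨y, hy⟩, congrArg Subtype.val (α.apply_symm_apply ⟨y, hy⟩)⟩
    rw [hr, or_self] at h
    rcases hess Q hQ with rfl | rfl
    · exact lt_irrefl _ h
    · exact hle h.le)
  have hnor : ∀ g : G0, g ∈ Subgroup.normalizer (Q1 : Set G0) := by
    intro g
    rw [Subgroup.mem_normalizer_iff]
    intro x
    have h1 := hinv (MulAut.conj g)
    constructor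
    · intro hx
      rw [← h1]
      exact ⟨x, hx, rfl⟩
    · intro hx
      rw [← h1] at hx
      obtain ⟨y, hy, hyx⟩ := hx
      have : y = x := (MulAut.conj g).injective hyx
      rwa [← this]
  have hfn : F.IsFullyNormalized Q1 := by
    refine ⟨le_top, fun R _ => ?_⟩
    refine Subgroup.card_le_of_le ?_
    intro g _
    exact ⟨Subgroup.mem_top g, hnor g⟩
  have hrec := isReceptive_of_isFullyNormalized hS hF hfn
  intro γ hγ x hx hxI hγx
  obtain ⟨g, -, hg⟩ := (mem_autInducedBy_iff _ _ _).1 hx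
  obtain ⟨h, -, hh⟩ := (mem_autInducedBy_iff _ _ _).1 hγx
  have hgQ : g ∉ Q1 := by
    intro hgQ
    apply hxI
    refine ⟨⟨g, hgQ⟩, ?_⟩
    ext e
    exact (hg e).symm
  rw [mem_autGroup_iff F le_top] at hγ
  have hr : (Q1.subtype.comp γ.toMonoidHom).range = Q1 := by
    ext y
    constructor
    · rintro ⟨x, rfl⟩
      exact (γ x).2
    · intro hy
      exact ⟨γ.symm ⟨y, hy⟩, congrArg Subtype.val (γ.apply_symm_apply ⟨y, hy⟩)⟩
  obtain ⟨ψ, hψ, hψe⟩ := hrec.2 Q1 _ hγ hr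
  have hgE : g ∈ extender (⊤ : Subgroup G0) Q1 (Q1.subtype.comp γ.toMonoidHom) := by
    refine Subgroup.subset_closure ⟨Subgroup.mem_top g, hnor g, h, Subgroup.mem_top h, ?_⟩
    intro e he
    have h1 := hh (γ e)
    have h2 : (γ * x * γ⁻¹) (γ e) = γ (x e) := by
      rw [MulAut.mul_apply, MulAut.mul_apply, MulAut.inv_apply_self]
    rw [h2] at h1
    show ((γ ⟨g * e * g⁻¹, he⟩ : Q1) : G0) = h * ((γ e : Q1) : G0) * h⁻¹
    rw [← h1]
    have h3 : (⟨g * e * g⁻¹, he⟩ : Q1) = x e := Subtype.ext (hg e).symm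
    rw [h3]
  have hQE : Q1 ≤ extender (⊤ : Subgroup G0) Q1 (Q1.subtype.comp γ.toMonoidHom) := by
    intro c hc
    refine Subgroup.subset_closure ⟨Subgroup.mem_top c, hnor c, ((γ ⟨c, hc⟩ : Q1) : G0), Subgroup.mem_top _, ?_⟩
    intro e he
    show ((γ ⟨c * e * c⁻¹, he⟩ : Q1) : G0) = _
    have h3 : (⟨c * e * c⁻¹, he⟩ : Q1) = ⟨c, hc⟩ * e * ⟨c, hc⟩⁻¹ := Subtype.ext rfl
    rw [h3, map_mul, map_mul, map_inv]
    rfl
  have hlt : Q1 < extender (⊤ : Subgroup G0) Q1 (Q1.subtype.comp γ.toMonoidHom) :=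
    lt_of_le_of_ne hQE (fun heq => hgQ (by rw [heq]; exact hgE))
  obtain ⟨α, -, hα⟩ := (hfull _ hψ).2 (Or.inl hlt)
  have hγα : ∀ e : Q1, ((γ e : Q1) : G0) = α e := by
    intro e
    have h1 := hψe e e.2 (hQE e.2)
    rw [hα] at h1
    exact h1.symm
  intro y hy
  obtain ⟨k, -, hk⟩ := (mem_autInducedBy_iff _ _ _).1 hy
  refine (mem_autInducedBy_iff _ _ _).2 ⟨α k, Subgroup.mem_top _, fun e => ?_⟩
  obtain ⟨e', rfl⟩ := γ.surjective e
  have h2 : (γ * y * γ⁻¹) (γ e') = γ (y e') := by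
    rw [MulAut.mul_apply, MulAut.mul_apply, MulAut.inv_apply_self]
  rw [h2, hγα, hk, hγα, map_mul, map_mul, map_inv]

end Cfsg.Agent.H805.D4
end

-- part: H812/D4t/Tor
section
/-!
# S5261, (TOR): the torus of `³D₄(q)` is generated by the tori of the two rank one groups (helper812)
-/

set_option autoImplicit false

namespace Cfsg.Agent.H812.D4t

open Cfsg Cfsg.Agent.H765.D3 Cfsg.Agent.H780.D4
open Cfsg.Agent.Hex.Defs (sh cr nm tr)

universe u

variable {F K : Type u} [Field F] [Field K] [Algebra F K] {φ : K ≃ₐ[F] K} [Cub φ]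

omit [Cub φ] in
/-- the parameters determine the automorphism -/
theorem isTor_unique {α β : MulAut (Sy φ)} {s : K} {t : F} {τ : K ≃+* K} {ρ : F ≃+* F} (hα : IsTor α s t τ ρ)
    (hβ : IsTor β s t τ ρ) : α = β := by
  ext g
  · rw [hα.x1, hβ.x1]
  · rw [hα.x6, hβ.x6]
  · rw [hα.x5, hβ.x5]
  · rw [hα.x3, hβ.x3]
  · rw [hα.x2, hβ.x2]
  · rw [hα.x4, hβ.x4]

/-- products in the torus -/
theorem isTor_mul {α β : MulAut (Sy φ)} {s s' : K} {t t' : F} (hα : IsTor α s t (RingEquiv.refl K) (RingEquiv.refl F))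
    (hβ : IsTor β s' t' (RingEquiv.refl K) (RingEquiv.refl F)) :
    IsTor (α * β) (s * s') (t * t') (RingEquiv.refl K) (RingEquiv.refl F) := by
  refine ⟨mul_ne_zero hα.nes hβ.nes, mul_ne_zero hα.net hβ.net, fun x => rfl, ?_, ?_, ?_, ?_, ?_, ?_⟩
  · intro g
    rw [MulAut.mul_apply, hα.x1, hβ.x1]
    simp only [RingEquiv.refl_apply]
    ring
  · intro g
    rw [MulAut.mul_apply, hα.x6, hβ.x6]
    simp only [RingEquiv.refl_apply]
    ring
  · intro g
    rw [MulAut.mul_apply, hα.x5, hβ.x5]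
    simp only [RingEquiv.refl_apply, Algebra.smul_def, map_mul]
    ring
  · intro g
    rw [MulAut.mul_apply, hα.x3, hβ.x3]
    simp only [RingEquiv.refl_apply, Algebra.smul_def, map_mul, sh_mul]
    ring
  · intro g
    rw [MulAut.mul_apply, hα.x2, hβ.x2]
    simp only [RingEquiv.refl_apply, nm_mul]
    ring
  · intro g
    rw [MulAut.mul_apply, hα.x4, hβ.x4]
    simp only [RingEquiv.refl_apply, nm_mul]
    ring

/-- the arithmetic of the torus -/
theorem exists_ab {p n : ℕ} (h : HypD φ p n) {s : K} {t : F} (hs : s ≠ 0) (ht : t ≠ 0) :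
    ∃ (a : K) (b : F), a ≠ 0 ∧ b ≠ 0 ∧ a ^ 2 * (algebraMap F K b)⁻¹ = s ∧ (nm φ a)⁻¹ * b ^ 2 = t := by
  set b : F := t ^ 2 * nm φ s with hb
  have hN : nm φ s ≠ 0 := fun h => hs ((nm_eq_zero φ).1 h)
  have hb0 : b ≠ 0 := mul_ne_zero (pow_ne_zero 2 ht) hN
  have hb' : algebraMap F K b ≠ 0 := fun h => hb0 ((map_eq_zero _).1 h)
  obtain ⟨a, ha⟩ : ∃ a : K, a ^ 2 = s * algebraMap F K b := by
    obtain ⟨k, hk⟩ := Nat.even_mul_succ_self (p ^ n)
    refine ⟨algebraMap F K t * s ^ (1 + k), ?_⟩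
    rw [hb, map_mul, map_pow, coe_nm, h.phi, h.phi, mul_pow, ← pow_mul, ← pow_mul]
    have h1 : s ^ ((1 + k) * 2) = s * (s * s ^ p ^ n * s ^ (p ^ n * p ^ n)) := by
      rw [show (1 + k) * 2 = 1 + 1 + (k + k) by ring, ← hk, pow_add, pow_add, pow_one,
        show p ^ n * (p ^ n + 1) = p ^ n + p ^ n * p ^ n by ring, pow_add]
      ring
    rw [h1]
    ring
  have ha0 : a ≠ 0 := by
    rintro rfl
    rw [zero_pow two_ne_zero] at ha
    exact mul_ne_zero hs hb' ha.symm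
  have key : ∀ a : K, a ^ 2 = s * algebraMap F K b → nm φ a = b ^ 2 / t →
      ∃ (a : K) (b : F), a ≠ 0 ∧ b ≠ 0 ∧ a ^ 2 * (algebraMap F K b)⁻¹ = s ∧ (nm φ a)⁻¹ * b ^ 2 = t := by
    intro a ha hn
    refine ⟨a, b, ?_, hb0, ?_, ?_⟩
    · rintro rfl
      rw [zero_pow two_ne_zero] at ha
      exact mul_ne_zero hs hb' ha.symm
    · rw [ha, mul_assoc, mul_inv_cancel₀ hb', mul_one]
    · rw [hn]
      field_simp
  have h2 : nm φ a ^ 2 = (b ^ 2 / t) ^ 2 := by
    have h3 : nm φ a ^ 2 = nm φ (a ^ 2) := by rw [pow_two, pow_two, nm_mul]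
    have h4 : nm φ (algebraMap F K b) = b ^ 3 := by
      rw [show algebraMap F K b = b • (1 : K) by rw [Algebra.smul_def, mul_one], nm_smul, nm_one, mul_one]
    rw [h3, ha, nm_mul, h4]
    have h5 : nm φ s = b / t ^ 2 := by
      rw [hb]
      field_simp
    rw [h5]
    field_simp
  rcases sq_eq_sq_iff_eq_or_eq_neg.1 h2 with h3 | h3
  · exact key a ha h3
  · refine key (-a) (by rw [neg_pow_two, ha]) ?_
    rw [nm_neg, h3, neg_neg]

/-- **(TOR)** -/
theorem stTor_of (hG : StGrpD.{u}) : StTor.{u} := by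
  intro F K _ _ _ φ _ p n h D h1 h2 s t α hα
  obtain ⟨a, b, ha, hb, hab, hab'⟩ := exists_ab h hα.nes hα.net
  obtain ⟨-, -, hex, -⟩ := hG h
  have hb' : algebraMap F K b ≠ 0 := fun h => hb ((map_eq_zero _).1 h)
  obtain ⟨α1, hα1⟩ := hex (a ^ 2) (nm φ a)⁻¹ (RingEquiv.refl K) (RingEquiv.refl F) (pow_ne_zero 2 ha)
    (inv_ne_zero fun h => ha ((nm_eq_zero φ).1 h)) (fun x => rfl)
  obtain ⟨α2, hα2⟩ := hex (algebraMap F K b)⁻¹ (b ^ 2) (RingEquiv.refl K) (RingEquiv.refl F) (inv_ne_zero hb')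
    (pow_ne_zero 2 hb) (fun x => rfl)
  have h3 := isTor_mul hα1 hα2
  rw [hab, hab'] at h3
  rw [isTor_unique hα h3]
  exact D.mul_mem (h1 a α1 ha hα1) (h2 b α2 hb hα2)

end Cfsg.Agent.H812.D4t
end

-- part: H25/D4/NLift
section
/-!
# S5261: lifting of Weyl elements (helper25)
-/

set_option autoImplicit false

namespace Cfsg.Agent.H25.D4

open Subgroup Pointwise

universe u

/-- a subgroup `H` of order prime to that of the normal subgroup `N` with `N ⊔ H = ⊤` is a complement -/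
theorem isCompl_of {G : Type*} [Group G] [Finite G] {N H : Subgroup G} [N.Normal]
    (hcop : (Nat.card N).Coprime (Nat.card H)) (hsup : N ⊔ H = ⊤) : IsComplement' N H := by
  refine isComplement'_of_disjoint_and_mul_eq_univ ?_ ?_
  · exact disjoint_iff.2 (Subgroup.inf_eq_bot_of_coprime hcop)
  · rw [← Subgroup.normal_mul, hsup]; rfl

theorem stNLift : H780.D4.StNLift.{u} := by
  intro A _ _ p _ C Γ D hCn hC hDΓ hD hfix w γ₀ hγ₀ hwC hw
  have hp : p.Prime := Fact.out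
  set I := Γ ⊓ C with hI
  have hIn : ∀ g ∈ Γ, ∀ i ∈ I, g * i * g⁻¹ ∈ I := fun g hg i hi =>
    ⟨Γ.mul_mem (Γ.mul_mem hg hi.1) (Γ.inv_mem hg), hCn.conj_mem i hi.2 g⟩
  have hIp : IsPGroup p I := hC.to_le inf_le_right
  obtain ⟨a, ha⟩ := IsPGroup.iff_card.1 hIp
  have hcop : ∀ X : Subgroup A, (Nat.card X).Coprime p → (Nat.card I).Coprime (Nat.card X) := by
    intro X hX
    rw [ha]
    exact (Nat.Coprime.pow_right a hX).symm
  have hCD : ∀ x ∈ C, x ∈ D → x = 1 := by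
    intro x hxC hxD
    obtain ⟨b, hb⟩ := IsPGroup.iff_card.1 hC
    have h1 : (Nat.card C).Coprime (Nat.card D) := by
      rw [hb]; exact (Nat.Coprime.pow_right b hD).symm
    have h2 : x ∈ C ⊓ D := ⟨hxC, hxD⟩
    rw [Subgroup.inf_eq_bot_of_coprime h1] at h2
    exact (Subgroup.mem_bot).1 h2
  -- the conjugate of `D`
  set D' := D.map (MulAut.conj γ₀).toMonoidHom with hD'
  have hcD' : Nat.card D' = Nat.card D := Subgroup.card_map_of_injective (MulAut.conj γ₀).injective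
  set M := I ⊔ D with hM
  have hIM : I ≤ M := le_sup_left
  have hDM : D ≤ M := le_sup_right
  have hMΓ : M ≤ Γ := sup_le inf_le_left hDΓ
  have hkey : ∀ d ∈ D, ∃ d' ∈ D, ∃ i ∈ I, γ₀ * d * γ₀⁻¹ = d' * i := by
    intro d hd
    refine ⟨w * d * w⁻¹, hw d hd, (w * d * w⁻¹)⁻¹ * (γ₀ * d * γ₀⁻¹), ⟨?_, ?_⟩, by group⟩
    · exact Γ.mul_mem (Γ.inv_mem (hDΓ (hw d hd))) (Γ.mul_mem (Γ.mul_mem hγ₀ (hDΓ hd)) (Γ.inv_mem hγ₀))
    · set c := w * γ₀⁻¹ with hc
      have h1 : (w * d * w⁻¹)⁻¹ * (γ₀ * d * γ₀⁻¹) = ((w * d * w⁻¹)⁻¹ * c⁻¹ * ((w * d * w⁻¹)⁻¹)⁻¹) * c := by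
        rw [hc]; group
      rw [h1]
      exact C.mul_mem (hCn.conj_mem _ (C.inv_mem hwC) _) hwC
  have hD'M : D' ≤ M := by
    rintro _ ⟨d, hd, rfl⟩
    obtain ⟨d', hd', i, hi, h⟩ := hkey d hd
    show γ₀ * d * γ₀⁻¹ ∈ M
    rw [h]
    exact M.mul_mem (hDM hd') (hIM hi)
  have hIMn : (I.subgroupOf M).Normal := ⟨fun n hn g => hIn g (hMΓ g.2) n hn⟩
  have hcard : ∀ X : Subgroup A, X ≤ M → Nat.card (X.subgroupOf M) = Nat.card X := fun X hX =>
    Nat.card_congr (Subgroup.subgroupOfEquivOfLe hX).toEquiv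
  have hc1 : IsComplement' (I.subgroupOf M) (D.subgroupOf M) := by
    refine isCompl_of (by rw [hcard I hIM, hcard D hDM]; exact hcop D hD) ?_
    rw [← Subgroup.subgroupOf_sup hIM hDM, ← hM, Subgroup.subgroupOf_self]
  have hidx : (I.subgroupOf M).index = Nat.card D := by
    rw [← hcard D hDM]
    exact hc1.symm.index_eq_card
  have hcopM : (Nat.card (I.subgroupOf M)).Coprime (I.subgroupOf M).index := by
    rw [hidx, hcard I hIM]; exact hcop D hD
  have hc2 : IsComplement' (I.subgroupOf M) (D'.subgroupOf M) :=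
    Solvable.SchurZassenhausConj.isComplement'_of_card_eq_index _ _ hcopM (by
      rw [hidx, hcard D' hD'M, hcD'])
  have hsolv : Group.IsSolvable (I.subgroupOf M) := by
    have h1 : IsPGroup p (I.subgroupOf M) := hIp.of_equiv (Subgroup.subgroupOfEquivOfLe hIM).symm
    have h2 : Group.IsNilpotent (I.subgroupOf M) := h1.isNilpotent
    infer_instance
  obtain ⟨g, hg⟩ := Solvable.SchurZassenhausConj.conj_of_solvable (I.subgroupOf M) hcopM (Or.inl hsolv) _ _ hc2 hc1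
  have hgD : MulAut.conj (g : A) • D' = D :=
    Solvable.SchurZassenhausConj.conj_of_conj_subgroupOf M D' D hD'M hDM g hg
  -- `g = d i`
  have hg2 : (g : A) ∈ D ⊔ I := by rw [sup_comm, ← hM]; exact g.2
  obtain ⟨d₀, hd₀, i, hi, hdi⟩ : ∃ d₀ ∈ D, ∃ i ∈ I, d₀ * i = (g : A) := by
    have h1 : g ∈ D.subgroupOf M ⊔ I.subgroupOf M := by
      rw [hc1.symm.sup_eq_top]; trivial
    obtain ⟨d, hd, i, hi, h⟩ := Subgroup.mem_sup_of_normal_right.1 h1
    exact ⟨d, hd, i, hi, congrArg Subtype.val h⟩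
  have hiD : ∀ x ∈ D, i * (γ₀ * x * γ₀⁻¹) * i⁻¹ ∈ D := by
    intro x hx
    have h1 : (g : A) * (γ₀ * x * γ₀⁻¹) * (g : A)⁻¹ ∈ D := by
      rw [← hgD]
      exact Subgroup.smul_mem_pointwise_smul _ (MulAut.conj (g : A)) _ ⟨x, hx, rfl⟩
    have h2 : i * (γ₀ * x * γ₀⁻¹) * i⁻¹ = d₀⁻¹ * ((g : A) * (γ₀ * x * γ₀⁻¹) * (g : A)⁻¹) * d₀ := by
      rw [← hdi]; group
    rw [h2]
    exact D.mul_mem (D.mul_mem (D.inv_mem hd₀) h1) hd₀
  set γ₁ := i * γ₀ with hγ₁
  have hγ₁Γ : γ₁ ∈ Γ := Γ.mul_mem hi.1 hγ₀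
  have hγ₁D : ∀ x ∈ D, γ₁ * x * γ₁⁻¹ ∈ D := by
    intro x hx
    have := hiD x hx
    rwa [show i * (γ₀ * x * γ₀⁻¹) * i⁻¹ = γ₁ * x * γ₁⁻¹ by rw [hγ₁]; group] at this
  have hγ₁D' : ∀ x ∈ D, γ₁⁻¹ * x * γ₁ ∈ D := by
    intro x hx
    have h1 : D.map (MulAut.conj γ₁).toMonoidHom = D := by
      apply Subgroup.eq_of_le_of_card_ge
      · rintro _ ⟨y, hy, rfl⟩
        exact hγ₁D y hy
      · rw [Subgroup.card_map_of_injective (MulAut.conj γ₁).injective]
    have h2 : x ∈ D.map (MulAut.conj γ₁).toMonoidHom := by rw [h1]; exact hx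
    obtain ⟨y, hy, hyx⟩ := h2
    have h3 : γ₁ * y * γ₁⁻¹ = x := hyx
    rw [← h3]
    have h4 : γ₁⁻¹ * (γ₁ * y * γ₁⁻¹) * γ₁ = y := by group
    rwa [h4]
  have hcC : w * γ₁⁻¹ ∈ C := by
    have h1 : w * γ₁⁻¹ = (w * γ₀⁻¹) * i⁻¹ := by rw [hγ₁]; group
    rw [h1]
    exact C.mul_mem hwC (C.inv_mem hi.2)
  have hc1' : w * γ₁⁻¹ = 1 := by
    refine hfix _ hcC fun x hx => ?_
    set c := w * γ₁⁻¹ with hc
    have h1 : c * x * c⁻¹ ∈ D := by
      have h2 : c * x * c⁻¹ = w * (γ₁⁻¹ * x * γ₁) * w⁻¹ := by rw [hc]; group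
      rw [h2]
      exact hw _ (hγ₁D' x hx)
    have h3 : c * x * c⁻¹ * x⁻¹ ∈ C := by
      have h4 : c * x * c⁻¹ * x⁻¹ = c * (x * c⁻¹ * x⁻¹) := by group
      rw [h4]
      exact C.mul_mem hcC (hCn.conj_mem _ (C.inv_mem hcC) x)
    have h5 := hCD _ h3 (D.mul_mem h1 (D.inv_mem hx))
    have h6 : c * x * c⁻¹ = x := mul_inv_eq_one.1 h5
    have h7 : c * x = x * c := mul_inv_eq_iff_eq_mul.1 h6
    exact h7.symm
  rw [mul_inv_eq_one] at hc1'
  rw [hc1']
  exact hγ₁Γ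

end Cfsg.Agent.H25.D4
end

-- part: H932/D4/LOne
section
/-!
# S5261, (L1A): the action of `Aut_F(Q₁)` on `V₁ = Q₁/Z₁` (helper932)

`toV : MulAut (Q1 φ) →* Equiv.Perm (V1 F K)` and `stL1a : StGrpD → StLin1 → StL1a`.
-/

set_option autoImplicit false
set_option linter.unusedSectionVars false

namespace Cfsg.Agent.H932.D4

open Cfsg Cfsg.FusionSystem Cfsg.Agent.H765.D3 Cfsg.Agent.H780.D4
open Cfsg.Agent.H765.D3.Sy (Q1 Q2 Z1 Z2 Z3 Z4 u1 u2 u3 u4 u5 u6 form)
open Cfsg.Agent.Hex.Defs (sh cr nm tr)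
open Cfsg.Agent.H756.PU (Inv Ess NormAut TIAut AF)
open scoped commutatorElement

universe u

variable {F K : Type u} [Field F] [Field K] [Algebra F K] {φ : K ≃ₐ[F] K} [Cub φ]

/-- the coordinates on `V₁` -/
def pr (e : Sy φ) : V1 F K := (e.x6, e.x5, e.x3, e.x2)

theorem pr_mul {x : Sy φ} (hx : x ∈ Q1 φ) (y : Sy φ) : pr (x * y) = pr x + pr y := by
  have hx' : x.x1 = 0 := hx
  refine Prod.ext ?_ (Prod.ext ?_ (Prod.ext ?_ ?_))
  · rfl
  · show (x * y).x5 = x.x5 + y.x5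
    rw [Sy.mul_x5, hx', smul_zero, add_zero]
  · show (x * y).x3 = x.x3 + y.x3
    rw [Sy.mul_x3, hx', cr_zero_left, sh_zero, smul_zero, add_zero, add_zero]
  · show (x * y).x2 = x.x2 + y.x2
    rw [Sy.mul_x2, hx', sh_zero, nm_zero, zero_mul, zero_mul, mul_zero, tr_zero, add_zero, add_zero, add_zero]

theorem pr_Z1 {z : Sy φ} (hz : z ∈ Z1 φ) : pr z = 0 := by
  obtain ⟨h1, h2, h3, h4, h5⟩ := hz
  exact Prod.ext h2 (Prod.ext h3 (Prod.ext h4 h5))

/-- the central element -/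
def c4 (φ : K ≃ₐ[F] K) [Cub φ] (w : F) : Q1 φ := ⟨u4 φ w, rfl⟩

theorem mul_c4 (e : Q1 φ) (w : F) : ((e * c4 φ w : Q1 φ) : Sy φ) =
    ⟨(e : Sy φ).x1, (e : Sy φ).x6, (e : Sy φ).x5, (e : Sy φ).x3, (e : Sy φ).x2, (e : Sy φ).x4 + w⟩ := by
  obtain ⟨e, he⟩ := e
  have he' : e.x1 = 0 := he
  show e * u4 φ w = _
  ext
  · simp [Sy.mul_def, u4]
  · simp [Sy.mul_def, u4]
  · simp only [Sy.mul_def, u4, he']; cub
  · simp only [Sy.mul_def, u4, he']; cub
  · simp only [Sy.mul_def, u4, he']; apply (algebraMap F K).injective; cub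
  · simp only [Sy.mul_def, u4, he']; apply (algebraMap F K).injective; cub

theorem eq_mul_c4 {e e' : Q1 φ} (h : pr (e : Sy φ) = pr (e' : Sy φ)) :
    e' = e * c4 φ ((e' : Sy φ).x4 - (e : Sy φ).x4) := by
  apply Subtype.ext
  rw [mul_c4]
  have h1 : (e : Sy φ).x1 = 0 := e.2
  have h1' : (e' : Sy φ).x1 = 0 := e'.2
  ext
  · rw [h1, h1']
  · exact (congrArg Prod.fst h).symm
  · exact (congrArg (fun v : V1 F K => v.2.1) h).symm
  · exact (congrArg (fun v : V1 F K => v.2.2.1) h).symm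
  · exact (congrArg (fun v : V1 F K => v.2.2.2) h).symm
  · ring

theorem mem_Z1_iff {z : Sy φ} (hz : z ∈ Q1 φ) : z ∈ Z1 φ ↔ ∀ y : Q1 φ, y * ⟨z, hz⟩ = ⟨z, hz⟩ * y := by
  rw [← Sy.centralizer_Q1, Subgroup.mem_centralizer_iff]
  constructor
  · intro h y
    exact Subtype.ext (h y y.2)
  · intro h y hy
    exact congrArg Subtype.val (h ⟨y, hy⟩)

/-- automorphisms of `Q₁` preserve `Z₁` -/
theorem map_Z1' (γ : MulAut (Q1 φ)) {z : Q1 φ} (hz : (z : Sy φ) ∈ Z1 φ) : ((γ z : Q1 φ) : Sy φ) ∈ Z1 φ := by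
  rw [mem_Z1_iff (γ z).2]
  rw [mem_Z1_iff z.2] at hz
  intro y
  obtain ⟨x, rfl⟩ := γ.surjective y
  exact (map_mul γ x z).symm.trans ((congrArg γ (hz x)).trans (map_mul γ z x))

theorem pr_congr (γ : MulAut (Q1 φ)) {e e' : Q1 φ} (h : pr (e : Sy φ) = pr (e' : Sy φ)) :
    pr ((γ e : Q1 φ) : Sy φ) = pr ((γ e' : Q1 φ) : Sy φ) := by
  rw [eq_mul_c4 h, map_mul, Subgroup.coe_mul, pr_mul (γ e).2, pr_Z1 (map_Z1' γ (z := c4 φ _) (Sy.u4_mem _)), add_zero]

/-- the section -/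
def sec (φ : K ≃ₐ[F] K) [Cub φ] (v : V1 F K) : Q1 φ := ⟨⟨0, v.1, v.2.1, v.2.2.1, v.2.2.2, 0⟩, rfl⟩

theorem pr_sec (v : V1 F K) : pr (sec φ v : Sy φ) = v := rfl

variable (φ) in
/-- the action on `V₁` -/
noncomputable def toV : MulAut (Q1 φ) →* Equiv.Perm (V1 F K) :=
  MonoidHom.toHomPerm
    { toFun := fun γ => (fun v => pr ((γ (sec φ v) : Q1 φ) : Sy φ) : Function.End (V1 F K))
      map_one' := rfl
      map_mul' := fun γ δ => by
        funext v
        show pr ((γ (δ (sec φ v)) : Q1 φ) : Sy φ) = pr ((γ (sec φ (pr ((δ (sec φ v) : Q1 φ) : Sy φ))) : Q1 φ) : Sy φ)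
        exact pr_congr γ rfl }

theorem toV_apply (γ : MulAut (Q1 φ)) (v : V1 F K) : toV φ γ v = pr ((γ (sec φ v) : Q1 φ) : Sy φ) := rfl

theorem toV_pr (γ : MulAut (Q1 φ)) (e : Q1 φ) : toV φ γ (pr (e : Sy φ)) = pr ((γ e : Q1 φ) : Sy φ) :=
  pr_congr γ rfl

theorem toV_eq_iff (γ δ : MulAut (Q1 φ)) : toV φ γ = toV φ δ ↔ Same1 γ δ := by
  constructor
  · intro h e
    have h1 := congrArg (fun g : Equiv.Perm (V1 F K) => g (pr (e : Sy φ))) h
    simp only [toV_pr] at h1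
    exact ⟨congrArg Prod.fst h1, congrArg (fun v : V1 F K => v.2.1) h1, congrArg (fun v : V1 F K => v.2.2.1) h1,
      congrArg (fun v : V1 F K => v.2.2.2) h1⟩
  · intro h
    ext1 v
    obtain ⟨h1, h2, h3, h4⟩ := h (sec φ v)
    exact Prod.ext h1 (Prod.ext h2 (Prod.ext h3 h4))

theorem toV_add (γ : MulAut (Q1 φ)) (v w : V1 F K) : toV φ γ (v + w) = toV φ γ v + toV φ γ w := by
  have h1 : pr ((sec φ v * sec φ w : Q1 φ) : Sy φ) = v + w := by
    rw [Subgroup.coe_mul, pr_mul (sec φ v).2, pr_sec, pr_sec]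
  rw [← h1, toV_pr, map_mul, Subgroup.coe_mul, pr_mul (γ _).2, toV_apply, toV_apply]

/-! ### Conjugations -/

/-- `Aut_S(Q₁)` -/
theorem aut_eq : autInducedBy ⊤ (Q1 φ) = (MulAut.conjNormal : Sy φ →* MulAut (Q1 φ)).range := by
  apply le_antisymm
  · rw [autInducedBy, Subgroup.closure_le]
    rintro α ⟨g, -, hg⟩
    refine ⟨g, ?_⟩
    refine MulEquiv.ext fun e => Subtype.ext ?_
    rw [MulAut.conjNormal_apply, hg]
  · rintro _ ⟨g, rfl⟩
    exact Subgroup.subset_closure ⟨g, trivial, fun e => MulAut.conjNormal_apply g e⟩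

theorem conj_mem (x : Sy φ) : MulAut.conjNormal x ∈ autInducedBy ⊤ (Q1 φ) := by
  rw [aut_eq]
  exact ⟨x, rfl⟩

theorem isActV_conj (x : Sy φ) : IsActV φ (toV φ (MulAut.conjNormal x)) x.x1 := by
  intro v
  rw [toV_apply, MulAut.conjNormal_apply]
  set s : Sy φ := (sec φ v : Sy φ) with hs
  have e : x * s = (x * s * x⁻¹) * x := by group
  set c : Sy φ := x * s * x⁻¹ with hc
  have c1 : c.x1 = 0 := by
    have := congrArg Sy.x1 e
    rw [Sy.mul_x1, Sy.mul_x1] at this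
    have s1 : s.x1 = 0 := rfl
    rw [s1] at this
    linear_combination -this
  have h6 := congrArg Sy.x6 e
  have h5 := congrArg Sy.x5 e
  have h3 := congrArg Sy.x3 e
  have h2 := congrArg Sy.x2 e
  rw [Sy.mul_x6, Sy.mul_x6] at h6
  rw [Sy.mul_x5, Sy.mul_x5, c1, smul_zero] at h5
  rw [Sy.mul_x3, Sy.mul_x3, c1, cr_zero_left, sh_zero, smul_zero] at h3
  rw [Sy.mul_x2, Sy.mul_x2, c1, sh_zero, nm_zero, zero_mul, zero_mul, mul_zero, tr_zero] at h2
  refine Prod.ext ?_ (Prod.ext ?_ (Prod.ext ?_ ?_))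
  · show c.x6 = s.x6
    linear_combination -h6
  · show c.x5 = s.x5 + s.x6 • x.x1
    linear_combination -h5
  · show c.x3 = s.x3 + cr φ x.x1 s.x5 + s.x6 • sh φ x.x1
    linear_combination -h3
  · show c.x2 = s.x2 + tr φ (x.x1 * s.x3) + tr φ (sh φ x.x1 * s.x5) + s.x6 * nm φ x.x1
    linear_combination -h2

theorem act_unique {g g' : Equiv.Perm (V1 F K)} {a : K} (h : IsActV φ g a) (h' : IsActV φ g' a) : g = g' := by
  ext1 v
  rw [h v, h' v]

theorem tor_unique {g g' : Equiv.Perm (V1 F K)} {s : K} {t : F} {τ : K ≃+* K} {ρ : F ≃+* F}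
    (h : IsTorV φ g s t τ ρ) (h' : IsTorV φ g' s t τ ρ) : g = g' := by
  ext1 v
  rw [h.app v, h'.app v]

theorem act_zero {g : Equiv.Perm (V1 F K)} (h : IsActV φ g 0) : g = 1 := by
  refine act_unique h ?_
  have := isActV_conj (φ := φ) 1
  rwa [map_one, map_one] at this

/-- inner automorphisms of `Q₁` act trivially on `V₁` -/
theorem toV_inn {γ : MulAut (Q1 φ)} (h : γ ∈ Inn (Q1 φ)) : toV φ γ = 1 := by
  obtain ⟨x, rfl⟩ := h
  have h1 : MulAut.conj x = MulAut.conjNormal (x : Sy φ) := by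
    refine MulEquiv.ext fun e => Subtype.ext ?_
    rw [MulAut.conjNormal_apply]
    rfl
  rw [h1]
  apply act_zero (φ := φ)
  have := isActV_conj (x : Sy φ)
  have hx : (x : Sy φ).x1 = 0 := x.2
  rwa [hx] at this

/-! ### The kernel -/

theorem form_pr (x y : Sy φ) : formV φ (pr x) (pr y) = form x y := rfl

/-- `γ` on `Z₁` -/
theorem c4_comm (w : F) : c4 φ w = ⁅(⟨u6 φ w, rfl⟩ : Q1 φ), (⟨u2 φ 1, rfl⟩ : Q1 φ)⁆ := by
  apply Subtype.ext
  show u4 φ w = ⁅u6 φ w, u2 φ 1⁆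
  rw [Sy.comm_Z2 (Sy.u2_mem 1)]
  simp [u6, u2]

theorem coe_comm (x y : Q1 φ) : ⁅x, y⁆ = c4 φ (form (x : Sy φ) (y : Sy φ)) :=
  Subtype.ext (Sy.comm_Q1 x.2 y.2)

theorem c4_add (a b : F) : c4 φ (a + b) = c4 φ a * c4 φ b := Subtype.ext (Sy.u4_add a b)

theorem c4_zero : c4 φ 0 = 1 := rfl

theorem ker_c4 {γ : MulAut (Q1 φ)} (h : toV φ γ = 1) (w : F) : γ (c4 φ w) = c4 φ w := by
  have h1 : ∀ e : Q1 φ, pr ((γ e : Q1 φ) : Sy φ) = pr (e : Sy φ) := fun e => by
    rw [← toV_pr, h]; rfl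
  rw [c4_comm, map_commutatorElement, coe_comm, coe_comm, ← form_pr, ← form_pr, h1, h1]

theorem ker_apply {γ : MulAut (Q1 φ)} (h : toV φ γ = 1) (e : Q1 φ) :
    γ e = e * c4 φ (((γ e : Q1 φ) : Sy φ).x4 - (e : Sy φ).x4) := by
  apply eq_mul_c4
  rw [← toV_pr, h]; rfl

theorem ker_pow {γ : MulAut (Q1 φ)} (h : toV φ γ = 1) (e : Q1 φ) (k : ℕ) :
    (γ ^ k) e = e * c4 φ (k * (((γ e : Q1 φ) : Sy φ).x4 - (e : Sy φ).x4)) := by
  obtain ⟨z, hz⟩ : ∃ z, z = ((γ e : Q1 φ) : Sy φ).x4 - (e : Sy φ).x4 := ⟨_, rfl⟩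
  have he : γ e = e * c4 φ z := by rw [hz]; exact ker_apply h e
  rw [← hz]
  induction k with
  | zero => rw [Nat.cast_zero, zero_mul, c4_zero, mul_one]; rfl
  | succ k ih =>
    rw [pow_succ', MulAut.mul_apply, ih, map_mul, ker_c4 h, he, mul_assoc, ← c4_add, Nat.cast_succ, add_mul, one_mul,
      add_comm]

theorem ker_pGroup {p : ℕ} [CharP F p] : IsPGroup p (toV φ).ker := by
  rintro ⟨γ, hγ⟩
  refine ⟨1, Subtype.ext ?_⟩
  show γ ^ p ^ 1 = 1
  rw [pow_one]
  ext1 e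
  rw [ker_pow hγ, CharP.cast_eq_zero, zero_mul, c4_zero, mul_one]
  rfl

/-! ### The form -/

/-- the action on `Z₁` -/
noncomputable def zet (γ : MulAut (Q1 φ)) : F ≃+ F where
  toFun w := ((γ (c4 φ w) : Q1 φ) : Sy φ).x4
  invFun w := ((γ⁻¹ (c4 φ w) : Q1 φ) : Sy φ).x4
  left_inv w := by
    have h1 : γ (c4 φ w) = c4 φ (((γ (c4 φ w) : Q1 φ) : Sy φ).x4) :=
      Subtype.ext (Sy.eq_u4 (map_Z1' γ (Sy.u4_mem w)))
    show ((γ⁻¹ (c4 φ (((γ (c4 φ w) : Q1 φ) : Sy φ).x4)) : Q1 φ) : Sy φ).x4 = w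
    rw [← h1, MulAut.inv_apply_self]
    rfl
  right_inv w := by
    have h1 : γ⁻¹ (c4 φ w) = c4 φ (((γ⁻¹ (c4 φ w) : Q1 φ) : Sy φ).x4) :=
      Subtype.ext (Sy.eq_u4 (map_Z1' γ⁻¹ (Sy.u4_mem w)))
    show ((γ (c4 φ (((γ⁻¹ (c4 φ w) : Q1 φ) : Sy φ).x4)) : Q1 φ) : Sy φ).x4 = w
    rw [← h1, MulAut.apply_inv_self]
    rfl
  map_add' a b := by
    have h1 : ∀ w, γ (c4 φ w) = c4 φ (((γ (c4 φ w) : Q1 φ) : Sy φ).x4) := fun w =>
      Subtype.ext (Sy.eq_u4 (map_Z1' γ (Sy.u4_mem w)))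
    rw [c4_add, map_mul]
    conv_lhs => rw [h1 a, h1 b, ← c4_add]
    rfl

theorem zet_c4 (γ : MulAut (Q1 φ)) (w : F) : γ (c4 φ w) = c4 φ (zet γ w) :=
  Subtype.ext (Sy.eq_u4 (map_Z1' γ (Sy.u4_mem w)))

theorem c4_inj {a b : F} (h : c4 φ a = c4 φ b) : a = b :=
  congrArg (fun e : Q1 φ => (e : Sy φ).x4) h

theorem toV_form (γ : MulAut (Q1 φ)) (v w : V1 F K) :
    formV φ (toV φ γ v) (toV φ γ w) = zet γ (formV φ v w) := by
  apply c4_inj (φ := φ)
  rw [← zet_c4, toV_apply, toV_apply, form_pr, ← coe_comm, ← map_commutatorElement, coe_comm, ← form_pr, pr_sec, pr_sec]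

theorem sq_eq (h2 : (2 : F) = 0) (e : Q1 φ) : e * e = c4 φ (quadV φ (pr (e : Sy φ))) := by
  obtain ⟨e, he⟩ := e
  have he' : e.x1 = 0 := he
  have h2K : (2 : K) = 0 := by
    have := congrArg (algebraMap F K) h2
    rwa [map_zero, map_ofNat] at this
  apply Subtype.ext
  show e * e = u4 φ (quadV φ (pr e))
  ext
  · show e.x1 + e.x1 = 0
    rw [he', add_zero]
  · show e.x6 + e.x6 = 0
    linear_combination e.x6 * h2
  · rw [Sy.mul_x5, he', smul_zero, add_zero]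
    show e.x5 + e.x5 = 0
    linear_combination e.x5 * h2K
  · rw [Sy.mul_x3, he', cr_zero_left, sh_zero, smul_zero, add_zero, add_zero]
    show e.x3 + e.x3 = 0
    linear_combination e.x3 * h2K
  · rw [Sy.mul_x2, he', sh_zero, nm_zero, zero_mul, zero_mul, mul_zero, tr_zero, add_zero, add_zero, add_zero]
    show e.x2 + e.x2 = 0
    linear_combination e.x2 * h2
  · rw [Sy.mul_x4, he', sh_zero, nm_zero, zero_mul, zero_mul, mul_zero, tr_zero, mul_zero, smul_zero, add_zero, add_zero,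
      add_zero, add_zero]
    show e.x4 + e.x4 - e.x2 * e.x6 + tr φ (e.x3 * e.x5) = e.x2 * e.x6 + tr φ (e.x3 * e.x5)
    linear_combination (e.x4 - e.x2 * e.x6) * h2

theorem toV_quad (h2 : (2 : F) = 0) (γ : MulAut (Q1 φ)) (v : V1 F K) :
    quadV φ (toV φ γ v) = zet γ (quadV φ v) := by
  apply c4_inj (φ := φ)
  rw [← zet_c4, toV_apply, ← sq_eq h2, ← map_mul, sq_eq h2, pr_sec]

/-! ### Restriction -/

variable (φ) in
/-- restriction to `Q₁` -/
noncomputable def res : MulAut (Sy φ) →* MulAut (Q1 φ) where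
  toFun α :=
    { toFun := fun e => ⟨α e, Sy.map_Q1 α e.2⟩
      invFun := fun e => ⟨α.symm e, Sy.map_Q1 α.symm e.2⟩
      left_inv := fun e => Subtype.ext (α.symm_apply_apply _)
      right_inv := fun e => Subtype.ext (α.apply_symm_apply _)
      map_mul' := fun e e' => Subtype.ext (map_mul α _ _) }
  map_one' := rfl
  map_mul' _ _ := rfl

theorem isR_res (α : MulAut (Sy φ)) : IsR α (res φ α) := fun _ => rfl

theorem isTorV_res {α : MulAut (Sy φ)} {s : K} {t : F} {τ : K ≃+* K} {ρ : F ≃+* F} (h : IsTor α s t τ ρ) :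
    IsTorV φ (toV φ (res φ α)) s t τ ρ where
  nes := h.nes
  net := h.net
  res := h.res
  app v := by
    rw [toV_apply]
    exact Prod.ext (h.x6 _) (Prod.ext (h.x5 _) (Prod.ext (h.x3 _) (h.x2 _)))

theorem isTor_unique {α β : MulAut (Sy φ)} {s : K} {t : F} {τ : K ≃+* K} {ρ : F ≃+* F} (h : IsTor α s t τ ρ)
    (h' : IsTor β s t τ ρ) : α = β := by
  ext1 g
  ext
  · rw [h.x1, h'.x1]
  · rw [h.x6, h'.x6]
  · rw [h.x5, h'.x5]
  · rw [h.x3, h'.x3]
  · rw [h.x2, h'.x2]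
  · rw [h.x4, h'.x4]

theorem isW1V_toV {γ : MulAut (Q1 φ)} (h : IsW1 γ) : IsW1V (toV φ γ) := by
  intro v
  rw [toV_apply]
  exact Prod.ext (h.x6 _) (Prod.ext (h.x5 _) (Prod.ext (h.x3 _) (h.x2 _)))

theorem w1V_unique {g g' : Equiv.Perm (V1 F K)} (h : IsW1V g) (h' : IsW1V g') : g = g' := by
  ext1 v
  rw [h v, h' v]

/-! ### `Γ` -/

section Par

variable {p : ℕ} {Γ : Subgroup (MulAut (Q1 φ))} {D : Subgroup (MulAut (Sy φ))}

theorem ker_le [CharP F p] (P : Par p (Q1 φ) Γ D) {γ : MulAut (Q1 φ)} (hγ : γ ∈ Γ) (h : toV φ γ = 1) :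
    γ ∈ autInducedBy ⊤ (Q1 φ) := by
  obtain ⟨g, hg, hg'⟩ := P.syl (Γ ⊓ (toV φ).ker) inf_le_left (ker_pGroup.to_le inf_le_right)
  have := hg' (g⁻¹ * γ * g) ⟨mul_mem (mul_mem (Γ.inv_mem hg) hγ) hg, by
    show toV φ (g⁻¹ * γ * g) = 1
    rw [map_mul, map_mul, h, mul_one, ← map_mul, inv_mul_cancel, map_one]⟩
  have e : g * (g⁻¹ * γ * g) * g⁻¹ = γ := by group
  rwa [e] at this

theorem mem_aut_of_act [CharP F p] (P : Par p (Q1 φ) Γ D) {γ : MulAut (Q1 φ)} (hγ : γ ∈ Γ) {b : K}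
    (h : IsActV φ (toV φ γ) b) : γ ∈ autInducedBy ⊤ (Q1 φ) := by
  have h1 : toV φ γ = toV φ (MulAut.conjNormal (u1 φ b)) := act_unique h (isActV_conj (u1 φ b))
  have h2 := ker_le P (mul_mem hγ (Γ.inv_mem (P.indu (conj_mem (u1 φ b))))) (by
    rw [map_mul, map_inv, h1, mul_inv_cancel])
  have h3 := mul_mem h2 (conj_mem (u1 φ b))
  rwa [inv_mul_cancel_right] at h3

theorem act_of_mem_aut {γ : MulAut (Q1 φ)} (h : γ ∈ autInducedBy ⊤ (Q1 φ)) : ∃ b, IsActV φ (toV φ γ) b := by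
  rw [aut_eq] at h
  obtain ⟨x, rfl⟩ := h
  exact ⟨x.x1, isActV_conj x⟩

/-- the parameters of `D` -/
def Dc (D : Subgroup (MulAut (Sy φ))) : Set (K × F × (K ≃+* K) × (F ≃+* F)) :=
  {c | ∃ d ∈ D, IsTor d c.1 c.2.1 c.2.2.1 c.2.2.2}

theorem lpar (hG : StGrpD.{u}) {n : ℕ} (hyp : HypD φ p n) (P : Par p (Q1 φ) Γ D) :
    LPar φ p (Γ.map (toV φ)) (Dc D) := by
  have := hyp.char
  have hCF : CharP F p := (algebraMap F K).charP (algebraMap F K).injective p
  have : Fact p.Prime := ⟨hyp.pp⟩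
  obtain ⟨-, -, -, hTT, -, -⟩ := hG hyp
  refine ⟨?_, ?_, ?_, ?_, ?_, ?_, ?_, ?_, ?_, ?_⟩
  · rintro _ ⟨γ, -, rfl⟩ v w
    exact toV_add γ v w
  · intro a g hg
    exact ⟨_, P.indu (conj_mem (u1 φ a)), act_unique (isActV_conj (u1 φ a)) hg⟩
  · intro P0 hP0 hp0
    have h1 : IsPGroup p (P0.comap (toV φ)) := by
      have h2 : IsPGroup p ((toV φ).ker) := ker_pGroup
      exact hp0.comap_of_ker_isPGroup (toV φ) h2
    obtain ⟨g, hg, hg'⟩ := P.syl (P0.comap (toV φ) ⊓ Γ) inf_le_right (h1.to_le inf_le_left)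
    refine ⟨toV φ g, ⟨g, hg, rfl⟩, fun x hx => ?_⟩
    obtain ⟨γ, hγ, rfl⟩ := hP0 hx
    have h3 := act_of_mem_aut (hg' γ ⟨hx, hγ⟩)
    rwa [map_mul, map_mul, map_inv] at h3
  · have h1 := P.nn
    push Not at h1
    obtain ⟨γ, hγ, h2⟩ := h1
    unfold NormAut at h2
    push Not at h2
    obtain ⟨x, hx, hx'⟩ := h2
    obtain ⟨a, ha⟩ := act_of_mem_aut hx
    refine ⟨toV φ γ, ⟨γ, hγ, rfl⟩, a, toV φ x, ha, ?_⟩
    rintro ⟨b, hb⟩
    rw [← map_inv, ← map_mul, ← map_mul] at hb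
    exact hx' (mem_aut_of_act P (mul_mem (mul_mem hγ (P.indu hx)) (Γ.inv_mem hγ)) hb)
  · rintro _ ⟨γ, hγ, rfl⟩ a x hx hx1 ⟨b, hb⟩ a' x' hx'
    have e1 : x = toV φ (MulAut.conjNormal (u1 φ a)) := act_unique hx (isActV_conj (u1 φ a))
    have e2 : x' = toV φ (MulAut.conjNormal (u1 φ a')) := act_unique hx' (isActV_conj (u1 φ a'))
    rw [e1, ← map_inv, ← map_mul, ← map_mul] at hb
    have h1 := mem_aut_of_act P (mul_mem (mul_mem hγ (P.indu (conj_mem (u1 φ a)))) (Γ.inv_mem hγ)) hb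
    have h2 := P.ti γ hγ _ (conj_mem (u1 φ a)) (fun h => hx1 (by rw [e1]; exact toV_inn h)) h1
    have h3 := act_of_mem_aut (h2 _ (conj_mem (u1 φ a')))
    rw [map_mul, map_mul, map_inv] at h3
    rw [e2]
    exact h3
  · rintro _ ⟨γ, -, rfl⟩
    exact ⟨zet γ, toV_form γ⟩
  · rintro rfl _ ⟨γ, -, rfl⟩
    exact ⟨zet γ, toV_quad (by exact_mod_cast CharP.cast_eq_zero F 2) γ⟩
  · rintro s t τ ρ ⟨d, hd, h⟩
    exact ⟨_, ⟨_, P.D_res d hd _ (isR_res d), rfl⟩, isTorV_res h⟩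
  · refine ⟨D.map ((toV φ).comp (res φ)), ?_, fun g => ⟨?_, ?_⟩⟩
    · exact Nat.Coprime.coprime_dvd_left (Subgroup.card_map_dvd _ _) P.D_cop
    · rintro ⟨d, hd, rfl⟩
      obtain ⟨s, t, τ, ρ, h⟩ := hTT d (P.D_le hd)
      exact ⟨s, t, τ, ρ, ⟨d, hd, h⟩, isTorV_res h⟩
    · rintro ⟨s, t, τ, ρ, ⟨d, hd, h⟩, h'⟩
      exact ⟨d, hd, tor_unique (isTorV_res h) h'⟩
  · rintro _ ⟨γ, hγ, rfl⟩ h
    obtain ⟨x, d, hd, h1⟩ := P.norm γ hγ (fun x hx => by
      obtain ⟨a, ha⟩ := act_of_mem_aut hx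
      obtain ⟨b, hb⟩ := h a _ ha
      rw [← map_inv, ← map_mul, ← map_mul] at hb
      exact mem_aut_of_act P (mul_mem (mul_mem hγ (P.indu hx)) (Γ.inv_mem hγ)) hb)
    obtain ⟨s, t, τ, ρ, h2⟩ := hTT d (P.D_le hd)
    refine ⟨s, t, τ, ρ, ⟨d, hd, h2⟩, toV φ (MulAut.conjNormal x), toV φ (res φ d), ⟨x.x1, isActV_conj x⟩,
      isTorV_res h2, ?_⟩
    rw [← map_mul]
    congr 1
    refine MulEquiv.ext fun e => Subtype.ext ?_
    rw [h1, MulAut.mul_apply, MulAut.conjNormal_apply]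
    rfl

end Par

/-- **(L1A)** -/
theorem stL1a (hG : StGrpD.{u}) (hL : StLin1.{u}) : StL1a.{u} := by
  intro F K _ _ _ φ _ p n hyp Γ D P h3
  obtain ⟨-, -, hex, hTT, ⟨w1, hw1⟩, -⟩ := hG hyp
  obtain ⟨c1, c2, c3⟩ := hL hyp _ _ (lpar hG hyp P) (fun h => by
    obtain ⟨α, hα⟩ := hex (-1) 1 (RingEquiv.refl K) (RingEquiv.refl F) (neg_ne_zero.2 one_ne_zero) one_ne_zero
      (fun _ => rfl)
    exact ⟨α, h3 h α hα, hα⟩)
  refine ⟨?_, ?_, ?_⟩
  · intro a α ha hα
    obtain ⟨d, hd, h⟩ := c1 a ha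
    rwa [isTor_unique hα h]
  · intro l hl
    have h1 : toV φ l ∈ Γ.map (toV φ) := by
      have h2 : Lam1 φ ≤ (Γ.map (toV φ)).comap (toV φ) := by
        rw [Lam1, sup_le_iff, Subgroup.closure_le]
        refine ⟨fun x hx => ⟨x, P.indu hx, rfl⟩, fun x hx => c2 _ (isW1V_toV hx)⟩
      exact h2 hl
    obtain ⟨γ, hγ, h2⟩ := h1
    exact ⟨γ, hγ, (toV_eq_iff γ l).1 h2⟩
  · intro γ hγ
    obtain ⟨l, hl, s, t, τ, ρ, ⟨d, hd, h1⟩, y, hy, h2⟩ := c3 (toV φ γ) ⟨γ, hγ, rfl⟩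
    have h4 : l ∈ (Lam1 φ).map (toV φ) := by
      have h5 : Subgroup.closure {x : Equiv.Perm (V1 F K) | (∃ a, IsActV φ x a) ∨ IsW1V x} ≤
          (Lam1 φ).map (toV φ) := by
        rw [Subgroup.closure_le]
        rintro x (⟨a, hx⟩ | hx)
        · exact ⟨_, (le_sup_left : _ ≤ Lam1 φ) (conj_mem (u1 φ a)), act_unique (isActV_conj (u1 φ a)) hx⟩
        · exact ⟨w1, (le_sup_right : _ ≤ Lam1 φ) (Subgroup.subset_closure hw1), w1V_unique (isW1V_toV hw1) hx⟩
      exact h5 hl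
    obtain ⟨l', hl', rfl⟩ := h4
    refine ⟨l', hl', d, hd, res φ d, isR_res d, ?_⟩
    rw [← toV_eq_iff, h2, map_mul, tor_unique hy (isTorV_res h1)]

end Cfsg.Agent.H932.D4
end

-- part: H7/D4/LTwoA
section
/-!
# S5261: the statement `StL2a` (helper7)

`piZ γ` is the action of `γ ∈ Aut(Q₂)` on `Z₂ = F²`, `piW γ` the action on `Z₃/Z₂ = K`. The elements with `piW γ = 1`
act `F`-linearly on `Z₂` and the action on `Q₂/Z₃` is determined by `piW`, `piZ`.
-/

set_option autoImplicit false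
set_option linter.unusedSectionVars false

namespace Cfsg.Agent.H7.D4.LTwoA

open Cfsg Cfsg.FusionSystem Cfsg.Agent.H765.D3 Cfsg.Agent.H780.D4
open Cfsg.Agent.H765.D3.Sy
open Cfsg.Agent.Hex.Defs (sh cr nm tr)
open Cfsg.Agent.H756.PU (Inv Ess NormAut TIAut AF)
open scoped commutatorElement

universe u

variable {F K : Type u} [Field F] [Field K] [Algebra F K] {φ : K ≃ₐ[F] K} [Cub φ]

/-! ### Invariance of `Z₂`, `Z₃` under `Aut(Q₂)` -/

theorem map_comm (γ : MulAut (Q2 φ)) (a b : Q2 φ) :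
    ((γ ⁅a, b⁆ : Q2 φ) : Sy φ) = ⁅((γ a : Q2 φ) : Sy φ), ((γ b : Q2 φ) : Sy φ)⁆ := by
  rw [commutatorElement_def, map_mul, map_mul, map_mul, map_inv, map_inv]
  rfl

theorem comm_x3' {x y : Sy φ} (hx : x ∈ Q2 φ) (hy : y ∈ Q2 φ) :
    (⁅x, y⁆).x3 = cr φ x.x1 y.x5 - cr φ y.x1 x.x5 := by
  have := congrArg Sy.x3 (comm_mul x y)
  rw [mul_x3, mul_x3, mul_x3, comm_x1, mem_Q2.1 hx, mem_Q2.1 hy] at this
  rw [show (y * x).x6 = 0 by rw [mul_x6, mem_Q2.1 hx, mem_Q2.1 hy, add_zero]] at this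
  simp only [cr_zero_left, zero_smul, add_zero] at this
  linear_combination -this

theorem mem_Z3_Q2 {e : Sy φ} (he : e ∈ Q2 φ) : e ∈ Z3 φ ↔ ∀ y ∈ Q2 φ, ⁅y, e⁆ ∈ Z2 φ := by
  constructor
  · exact fun h y _ => comm_mem_Z2 h
  · intro h
    have h5 : e.x5 = 0 := cr_nondeg φ fun a => by
      have h1 := (h (u1 φ a) (u1_mem a)).2.2.2
      rw [comm_x3' (u1_mem a) he] at h1
      simpa [u1, cr_zero_right] using h1
    have h1 : e.x1 = 0 := cr_nondeg' φ fun c => by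
      have h1 := (h (u5 φ c) (Z4_le_Q2 (u5_mem c))).2.2.2
      rw [comm_x3' (Z4_le_Q2 (u5_mem c)) he] at h1
      simpa [u5, cr_zero_left] using h1
    exact ⟨h1, he, h5⟩

theorem inv_Z2 (γ : MulAut (Q2 φ)) {e : Q2 φ} (he : (e : Sy φ) ∈ Z2 φ) : ((γ e : Q2 φ) : Sy φ) ∈ Z2 φ := by
  rw [← centralizer_Q2, Subgroup.mem_centralizer_iff] at he ⊢
  intro y hy
  have h1 := he (γ⁻¹ ⟨y, hy⟩ : Q2 φ) (γ⁻¹ ⟨y, hy⟩ : Q2 φ).2
  have h2 : (γ⁻¹ ⟨y, hy⟩ : Q2 φ) * e = e * (γ⁻¹ ⟨y, hy⟩ : Q2 φ) := Subtype.ext h1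
  have h3 := congrArg γ h2
  rw [map_mul, map_mul, MulAut.apply_inv_self (Q2 φ) γ ⟨y, hy⟩] at h3
  exact congrArg Subtype.val h3

theorem inv_Z3 (γ : MulAut (Q2 φ)) {e : Q2 φ} (he : (e : Sy φ) ∈ Z3 φ) : ((γ e : Q2 φ) : Sy φ) ∈ Z3 φ := by
  rw [mem_Z3_Q2 (γ e).2]
  intro y hy
  have h1 := (mem_Z3_Q2 e.2).1 he (γ⁻¹ ⟨y, hy⟩ : Q2 φ) (γ⁻¹ ⟨y, hy⟩ : Q2 φ).2
  have h2 := inv_Z2 γ (e := ⁅(γ⁻¹ ⟨y, hy⟩ : Q2 φ), e⁆) h1
  rw [map_comm, MulAut.apply_inv_self (Q2 φ) γ ⟨y, hy⟩] at h2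
  exact h2

/-! ### The action on `Z₂` -/

/-- the elements of `Z₂` -/
def zz (φ : K ≃ₐ[F] K) [Cub φ] (v : F × F) : Q2 φ := ⟨⟨0, 0, 0, 0, v.1, v.2⟩, rfl⟩

/-- the coordinates `x2`, `x4` -/
def co (e : Q2 φ) : F × F := ((e : Sy φ).x2, (e : Sy φ).x4)

theorem zz_mem (v : F × F) : ((zz φ v : Q2 φ) : Sy φ) ∈ Z2 φ := ⟨rfl, rfl, rfl, rfl⟩

theorem co_zz (v : F × F) : co (zz φ v) = v := rfl

theorem zz_co {e : Q2 φ} (he : (e : Sy φ) ∈ Z2 φ) : zz φ (co e) = e := by
  obtain ⟨h1, h6, h5, h3⟩ := he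
  apply Subtype.ext
  ext
  · exact h1.symm
  · exact h6.symm
  · exact h5.symm
  · exact h3.symm
  · rfl
  · rfl

theorem zz_add (v w : F × F) : zz φ (v + w) = zz φ v * zz φ w := by
  apply Subtype.ext
  show (⟨0, 0, 0, 0, v.1 + w.1, v.2 + w.2⟩ : Sy φ) = ⟨0, 0, 0, 0, v.1, v.2⟩ * ⟨0, 0, 0, 0, w.1, w.2⟩
  ext
  all_goals simp only [mul_def]
  · rw [add_zero]
  · rw [add_zero]
  · rw [smul_zero, add_zero, add_zero]
  · rw [cr_zero_left, zero_smul, add_zero, add_zero, add_zero]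
  · rw [zero_mul, sh_zero, zero_mul, tr_zero, nm_zero, mul_zero]; ring
  · simp only [sh_zero, smul_zero, nm_zero, add_zero, mul_zero, tr_zero, sub_zero]

theorem co_mul {e e' : Q2 φ} (he : (e : Sy φ) ∈ Z2 φ) (he' : (e' : Sy φ) ∈ Z2 φ) : co (e * e') = co e + co e' := by
  rw [← zz_co he, ← zz_co he', ← zz_add]
  rfl

variable (φ) in
/-- the action on `Z₂` -/
noncomputable def piZ : MulAut (Q2 φ) →* Equiv.Perm (F × F) where
  toFun γ :=
    { toFun := fun v => co (γ (zz φ v))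
      invFun := fun v => co (γ⁻¹ (zz φ v))
      left_inv := fun v => by
        show co (γ⁻¹ (zz φ (co (γ (zz φ v))))) = v
        rw [zz_co (inv_Z2 γ (zz_mem v)), MulAut.inv_apply_self (Q2 φ) γ (zz φ v), co_zz]
      right_inv := fun v => by
        show co (γ (zz φ (co (γ⁻¹ (zz φ v))))) = v
        rw [zz_co (inv_Z2 γ⁻¹ (zz_mem v)), MulAut.apply_inv_self (Q2 φ) γ (zz φ v), co_zz] }
  map_one' := by
    ext1 v
    rfl
  map_mul' γ δ := by
    ext1 v
    show co ((γ * δ) (zz φ v)) = co (γ (zz φ (co (δ (zz φ v)))))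
    rw [zz_co (inv_Z2 δ (zz_mem v)), MulAut.mul_apply]

theorem piZ_apply (γ : MulAut (Q2 φ)) (v : F × F) : piZ φ γ v = co (γ (zz φ v)) := rfl

theorem piZ_co (γ : MulAut (Q2 φ)) {e : Q2 φ} (he : (e : Sy φ) ∈ Z2 φ) : piZ φ γ (co e) = co (γ e) := by
  rw [piZ_apply, zz_co he]

theorem piZ_add (γ : MulAut (Q2 φ)) (v w : F × F) : piZ φ γ (v + w) = piZ φ γ v + piZ φ γ w := by
  rw [piZ_apply, zz_add, map_mul, co_mul (inv_Z2 γ (zz_mem v)) (inv_Z2 γ (zz_mem w))]
  rfl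

/-! ### The action on `Z₃/Z₂` -/

/-- the elements of `U₃` -/
def ww (φ : K ≃ₐ[F] K) [Cub φ] (b : K) : Q2 φ := ⟨u3 φ b, rfl⟩

theorem ww_mem (b : K) : ((ww φ b : Q2 φ) : Sy φ) ∈ Z3 φ := ⟨rfl, rfl, rfl⟩

theorem ww_x3 (b : K) : ((ww φ b : Q2 φ) : Sy φ).x3 = b := rfl

theorem mul_x3' {x y : Sy φ} (hx : x ∈ Z3 φ) (hy : y ∈ Z3 φ) : (x * y).x3 = x.x3 + y.x3 := by
  rw [mul_x3, hx.1, hy.2.1, cr_zero_left, zero_smul, add_zero, add_zero]

theorem x3_congr (γ : MulAut (Q2 φ)) {e e' : Q2 φ} (he : (e : Sy φ) ∈ Z3 φ) (he' : (e' : Sy φ) ∈ Z3 φ)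
    (h : (e : Sy φ).x3 = (e' : Sy φ).x3) : ((γ e : Q2 φ) : Sy φ).x3 = ((γ e' : Q2 φ) : Sy φ).x3 := by
  have h1 : (((e⁻¹ * e' : Q2 φ)) : Sy φ) ∈ Z3 φ := mul_mem (inv_mem he) he'
  have h2 : (((e⁻¹ * e' : Q2 φ)) : Sy φ) ∈ Z2 φ := by
    refine ⟨h1.1, h1.2.1, h1.2.2, ?_⟩
    have h3 := mul_x3' he h1
    have h4 : (e : Sy φ) * ((e⁻¹ * e' : Q2 φ) : Sy φ) = (e' : Sy φ) := by
      show (e : Sy φ) * ((e : Sy φ)⁻¹ * (e' : Sy φ)) = (e' : Sy φ)
      rw [mul_inv_cancel_left]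
    rw [h4, ← h] at h3
    exact (left_eq_add.1 h3)
  have h5 : γ e' = γ e * γ (e⁻¹ * e') := by rw [← map_mul, mul_inv_cancel_left]
  have h6 := mul_x3' (inv_Z3 γ he) (Z2_le_Z3 (inv_Z2 γ h2))
  rw [(inv_Z2 γ h2).2.2.2, add_zero] at h6
  rw [h5]
  exact h6.symm

variable (φ) in
/-- the action on `Z₃/Z₂` -/
noncomputable def piW : MulAut (Q2 φ) →* Equiv.Perm K where
  toFun γ :=
    { toFun := fun b => ((γ (ww φ b) : Q2 φ) : Sy φ).x3
      invFun := fun b => ((γ⁻¹ (ww φ b) : Q2 φ) : Sy φ).x3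
      left_inv := fun b => by
        show ((γ⁻¹ (ww φ ((γ (ww φ b) : Q2 φ) : Sy φ).x3) : Q2 φ) : Sy φ).x3 = b
        rw [x3_congr γ⁻¹ (ww_mem _) (inv_Z3 γ (ww_mem b)) (ww_x3 _), MulAut.inv_apply_self (Q2 φ) γ (ww φ b)]
        rfl
      right_inv := fun b => by
        show ((γ (ww φ ((γ⁻¹ (ww φ b) : Q2 φ) : Sy φ).x3) : Q2 φ) : Sy φ).x3 = b
        rw [x3_congr γ (ww_mem _) (inv_Z3 γ⁻¹ (ww_mem b)) (ww_x3 _), MulAut.apply_inv_self (Q2 φ) γ (ww φ b)]
        rfl }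
  map_one' := by
    ext1 b
    rfl
  map_mul' γ δ := by
    ext1 b
    show (((γ * δ) (ww φ b) : Q2 φ) : Sy φ).x3 = ((γ (ww φ ((δ (ww φ b) : Q2 φ) : Sy φ).x3) : Q2 φ) : Sy φ).x3
    rw [x3_congr γ (ww_mem _) (inv_Z3 δ (ww_mem b)) (ww_x3 _), MulAut.mul_apply]

theorem piW_x3 (γ : MulAut (Q2 φ)) {e : Q2 φ} (he : (e : Sy φ) ∈ Z3 φ) :
    piW φ γ (e : Sy φ).x3 = ((γ e : Q2 φ) : Sy φ).x3 :=
  x3_congr γ (ww_mem _) he (ww_x3 _)

/-! ### The pairing -/

theorem comm_ww (e : Q2 φ) (b : K) : ⁅e, ww φ b⁆ = zz φ (tr φ ((e : Sy φ).x1 * b), -tr φ (b * (e : Sy φ).x5)) := by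
  have h0 : ((⁅e, ww φ b⁆ : Q2 φ) : Sy φ) ∈ Z2 φ := comm_mem_Z2 (ww_mem b)
  rw [← zz_co h0]
  congr 1
  apply Prod.ext
  · show (⁅(e : Sy φ), ((ww φ b : Q2 φ) : Sy φ)⁆).x2 = _
    rw [comm_x2' (ww_mem b)]
    rfl
  · show (⁅(e : Sy φ), ((ww φ b : Q2 φ) : Sy φ)⁆).x4 = _
    rw [comm_x4' (ww_mem b), mem_Q2.1 e.2]
    show 0 * _ - tr φ (b * (e : Sy φ).x5) + 0 * _ = _
    ring

/-- **The pairing.** -/
theorem pair (γ : MulAut (Q2 φ)) (e : Q2 φ) (b : K) :
    piZ φ γ (tr φ ((e : Sy φ).x1 * b), -tr φ (b * (e : Sy φ).x5)) =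
      (tr φ (((γ e : Q2 φ) : Sy φ).x1 * piW φ γ b), -tr φ (piW φ γ b * ((γ e : Q2 φ) : Sy φ).x5)) := by
  rw [piZ_apply, ← comm_ww]
  have h1 := map_comm γ e (ww φ b)
  have h3 := inv_Z3 γ (ww_mem b)
  apply Prod.ext
  · show ((γ ⁅e, ww φ b⁆ : Q2 φ) : Sy φ).x2 = _
    rw [h1, comm_x2' h3]
    rfl
  · show ((γ ⁅e, ww φ b⁆ : Q2 φ) : Sy φ).x4 = _
    rw [h1, comm_x4' h3, mem_Q2.1 (γ e).2]
    show 0 * _ - tr φ (piW φ γ b * ((γ e : Q2 φ) : Sy φ).x5) + 0 * _ = _
    ring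

/-- the action on `Q₂/Z₃` is determined -/
theorem same_of_eq {γ δ : MulAut (Q2 φ)} (h1 : piZ φ γ = piZ φ δ) (h2 : piW φ γ = piW φ δ) : Same2 γ δ := by
  refine ⟨fun e => ?_, fun e he => ?_, fun e he => ?_⟩
  · have h3 : ∀ b : K, (tr φ (((γ e : Q2 φ) : Sy φ).x1 * b), -tr φ (b * ((γ e : Q2 φ) : Sy φ).x5)) =
        (tr φ (((δ e : Q2 φ) : Sy φ).x1 * b), -tr φ (b * ((δ e : Q2 φ) : Sy φ).x5)) := by
      intro b
      obtain ⟨c, rfl⟩ := (piW φ γ).surjective b
      rw [← pair, h1, h2, ← pair]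
    constructor
    · rw [← sub_eq_zero]
      apply tr_nondeg φ
      intro t
      have h4 : tr φ (((γ e : Q2 φ) : Sy φ).x1 * t) = tr φ (((δ e : Q2 φ) : Sy φ).x1 * t) :=
        congrArg Prod.fst (h3 t)
      rw [sub_mul, tr_sub, h4, sub_self]
    · rw [← sub_eq_zero]
      apply tr_nondeg φ
      intro t
      have h4 : -tr φ (t * ((γ e : Q2 φ) : Sy φ).x5) = -tr φ (t * ((δ e : Q2 φ) : Sy φ).x5) :=
        congrArg Prod.snd (h3 t)
      rw [sub_mul, tr_sub, mul_comm _ t, mul_comm _ t, neg_inj.1 h4, sub_self]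
  · rw [← piW_x3 γ he, ← piW_x3 δ he, h2]
  · have h3 : co (γ e) = co (δ e) := by rw [← piZ_co γ he, ← piZ_co δ he, h1]
    exact ⟨congrArg Prod.fst h3, congrArg Prod.snd h3⟩

/-- elements acting trivially on `Z₃/Z₂` act linearly on `Z₂` -/
theorem piZ_smul {γ : MulAut (Q2 φ)} (h : piW φ γ = 1) (s : F) (v : F × F) : piZ φ γ (s • v) = s • piZ φ γ v := by
  obtain ⟨t, ht⟩ := exists_tr_ne φ
  obtain ⟨t0, ht0⟩ : ∃ t0, tr φ t0 = 1 := ⟨(tr φ t)⁻¹ • t, by rw [tr_smul, inv_mul_cancel₀ ht]⟩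
  set e : Q2 φ := ⟨⟨v.1 • 1, 0, (-v.2) • 1, 0, 0, 0⟩, rfl⟩ with he
  have key : ∀ r : F, piZ φ γ (r • v) =
      r • (tr φ (((γ e : Q2 φ) : Sy φ).x1 * t0), -tr φ (t0 * ((γ e : Q2 φ) : Sy φ).x5)) := by
    intro r
    have h1 := pair γ e (r • t0)
    have e1 : tr φ ((e : Sy φ).x1 * (r • t0)) = r * v.1 := by
      show tr φ ((v.1 • (1 : K)) * (r • t0)) = r * v.1
      rw [smul_mul_smul_comm, one_mul, tr_smul, ht0]; ring
    have e2 : -tr φ ((r • t0) * (e : Sy φ).x5) = r * v.2 := by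
      show -tr φ ((r • t0) * ((-v.2) • (1 : K))) = r * v.2
      rw [smul_mul_smul_comm, mul_one, tr_smul, ht0]; ring
    rw [e1, e2, h, Equiv.Perm.one_apply, mul_smul_comm, smul_mul_assoc, tr_smul, tr_smul] at h1
    have e3 : r • v = (r * v.1, r * v.2) := rfl
    rw [e3, h1]
    apply Prod.ext
    · rfl
    · show -(r * _) = r * -_
      ring
  have h1 := key 1
  rw [one_smul, one_smul] at h1
  rw [key s, h1]

/-- `M v` -/
def ml (M : Matrix (Fin 2) (Fin 2) F) (v : F × F) : F × F :=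
  (M 0 0 * v.1 + M 0 1 * v.2, M 1 0 * v.1 + M 1 1 * v.2)

theorem ml_mul (M N : Matrix (Fin 2) (Fin 2) F) (v : F × F) : ml (M * N) v = ml M (ml N v) := by
  apply Prod.ext
  · simp only [ml, Matrix.mul_apply, Fin.sum_univ_two]; ring
  · simp only [ml, Matrix.mul_apply, Fin.sum_univ_two]; ring

theorem exists_matrix {γ : MulAut (Q2 φ)} (h : piW φ γ = 1) :
    ∃ M : Matrix (Fin 2) (Fin 2) F, ∀ v, piZ φ γ v = ml M v := by
  refine ⟨!![(piZ φ γ (1, 0)).1, (piZ φ γ (0, 1)).1; (piZ φ γ (1, 0)).2, (piZ φ γ (0, 1)).2], fun v => ?_⟩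
  have e1 : v = v.1 • ((1, 0) : F × F) + v.2 • ((0, 1) : F × F) := by
    apply Prod.ext
    · show v.1 = v.1 * 1 + v.2 * 0
      ring
    · show v.2 = v.1 * 0 + v.2 * 1
      ring
  have e2 : piZ φ γ v = v.1 • piZ φ γ (1, 0) + v.2 • piZ φ γ (0, 1) := by
    conv_lhs => rw [e1]
    rw [piZ_add, piZ_smul h, piZ_smul h]
  rw [e2]
  apply Prod.ext
  · show v.1 * _ + v.2 * _ = _ * v.1 + _ * v.2
    simp only [Matrix.of_apply, Matrix.cons_val', Matrix.cons_val_zero, Matrix.cons_val_one, Matrix.cons_val_fin_one]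
    ring
  · show v.1 * _ + v.2 * _ = _ * v.1 + _ * v.2
    simp only [Matrix.of_apply, Matrix.cons_val', Matrix.cons_val_zero, Matrix.cons_val_one, Matrix.cons_val_fin_one]
    ring

/-! ### Conjugations -/

theorem conj_w {c : MulAut (Q2 φ)} {x : Sy φ} (hc : ∀ e : Q2 φ, ((c e : Q2 φ) : Sy φ) = x * e * x⁻¹) :
    piW φ c = 1 := by
  ext1 b
  rw [Equiv.Perm.one_apply]
  show ((c (ww φ b) : Q2 φ) : Sy φ).x3 = b
  have h1 : x * ((ww φ b : Q2 φ) : Sy φ) * x⁻¹ = ⁅x, ((ww φ b : Q2 φ) : Sy φ)⁆ * ((ww φ b : Q2 φ) : Sy φ) := by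
    rw [commutatorElement_def]; group
  have h2 := comm_mem_Z2 (x := x) (ww_mem (φ := φ) b)
  rw [hc, h1, mul_x3' (Z2_le_Z3 h2) (ww_mem b), h2.2.2.2, zero_add]
  rfl

theorem conj_z {c : MulAut (Q2 φ)} {x : Sy φ} (hc : ∀ e : Q2 φ, ((c e : Q2 φ) : Sy φ) = x * e * x⁻¹) (v : F × F) :
    piZ φ c v = (v.1, x.x6 * v.1 + v.2) := by
  have h1 : x * ((zz φ v : Q2 φ) : Sy φ) * x⁻¹ = ⁅x, ((zz φ v : Q2 φ) : Sy φ)⁆ * ((zz φ v : Q2 φ) : Sy φ) := by
    rw [commutatorElement_def]; group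
  have h2 : c (zz φ v) = zz φ (0, x.x6 * v.1) * zz φ v := by
    apply Subtype.ext
    rw [hc, h1, comm_Z2 (zz_mem v)]
    rfl
  rw [piZ_apply, h2, ← zz_add, co_zz]
  apply Prod.ext
  · show 0 + v.1 = v.1
    rw [zero_add]
  · rfl

theorem exists_conj (x : Sy φ) : ∃ c ∈ autInducedBy ⊤ (Q2 φ), ∀ e : Q2 φ, ((c e : Q2 φ) : Sy φ) = x * e * x⁻¹ := by
  refine ⟨MulAut.conjNormal x, (H802.mem_autInducedBy_iff _ _ _).2 ⟨x, trivial, fun e => ?_⟩, fun e => ?_⟩
  · rfl
  · rfl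

/-- lower unipotent matrices -/
theorem exists_low (r : F) : ∃ c ∈ autInducedBy ⊤ (Q2 φ), piW φ c = 1 ∧ ∀ v : F × F, piZ φ c v = ml !![1, 0; r, 1] v := by
  obtain ⟨c, hc, h⟩ := exists_conj (u6 φ r)
  refine ⟨c, hc, conj_w h, fun v => ?_⟩
  rw [conj_z h]
  apply Prod.ext
  · show v.1 = 1 * v.1 + 0 * v.2
    ring
  · show r * v.1 + v.2 = r * v.1 + 1 * v.2
    ring

theorem aut_low {c : MulAut (Q2 φ)} (hc : c ∈ autInducedBy ⊤ (Q2 φ)) :
    piW φ c = 1 ∧ ∃ r : F, ∀ v : F × F, piZ φ c v = ml !![1, 0; r, 1] v := by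
  obtain ⟨x, -, h⟩ := (H802.mem_autInducedBy_iff _ _ _).1 hc
  refine ⟨conj_w h, x.x6, fun v => ?_⟩
  rw [conj_z h]
  apply Prod.ext
  · show v.1 = 1 * v.1 + 0 * v.2
    ring
  · show x.x6 * v.1 + v.2 = x.x6 * v.1 + 1 * v.2
    ring

/-! ### The kernel -/

theorem ker_pow {γ : MulAut (Q2 φ)} (h1 : piZ φ γ = 1) (h2 : piW φ γ = 1) {N : ℕ} (hN : ∀ x : Q2 φ, x ^ N = 1) :
    γ ^ (N * N) = 1 := by
  have hs := same_of_eq (γ := γ) (δ := 1) (by rw [h1, map_one]) (by rw [h2, map_one])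
  have hV : ∀ v ∈ (Z2 φ).subgroupOf (Q2 φ), ∀ x : Q2 φ, v * x = x * v := by
    intro v hv x
    have h3 : (v : Sy φ) ∈ Z2 φ := hv
    rw [← centralizer_Q2, Subgroup.mem_centralizer_iff] at h3
    exact Subtype.ext (h3 x x.2).symm
  have hfix : ∀ v ∈ (Z2 φ).subgroupOf (Q2 φ), γ v = v := by
    intro v hv
    have h3 : (v : Sy φ) ∈ Z2 φ := hv
    rw [← zz_co (inv_Z2 γ h3), ← piZ_co γ h3, h1]
    exact zz_co h3
  have s0 : ∀ x : Q2 φ, x⁻¹ * γ x ∈ (Z3 φ).subgroupOf (Q2 φ) := by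
    intro x
    obtain ⟨e1, e5⟩ := hs.1 x
    show (x : Sy φ)⁻¹ * ((γ x : Q2 φ) : Sy φ) ∈ Z3 φ
    have e1' : ((γ x : Q2 φ) : Sy φ).x1 = (x : Sy φ).x1 := e1
    have e5' : ((γ x : Q2 φ) : Sy φ).x5 = (x : Sy φ).x5 := e5
    refine mem_Z3.2 ⟨?_, ?_, ?_⟩
    · rw [mul_x1, inv_x1, e1', neg_add_cancel]
    · rw [mul_x6, inv_x6, mem_Q2.1 x.2, mem_Q2.1 (γ x).2, neg_zero, add_zero]
    · rw [mul_x5, inv_x5, e5', mem_Q2.1 x.2, mem_Q2.1 (γ x).2, zero_smul, zero_smul, add_zero, add_zero, neg_add_cancel]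
  have s1 : ∀ x ∈ (Z3 φ).subgroupOf (Q2 φ), x⁻¹ * γ x ∈ (Z2 φ).subgroupOf (Q2 φ) := by
    intro x hx
    have h3 : (x : Sy φ) ∈ Z3 φ := hx
    have h4 := mul_mem (inv_mem h3) (inv_Z3 γ h3)
    show (x : Sy φ)⁻¹ * ((γ x : Q2 φ) : Sy φ) ∈ Z2 φ
    have h4' := mem_Z3.1 h4
    refine mem_Z2.2 ⟨h4'.1, h4'.2.1, h4'.2.2, ?_⟩
    have h5 := mul_x3' h3 h4
    rw [mul_inv_cancel_left, hs.2.1 x h3] at h5
    exact left_eq_add.1 h5
  have s2 : ∀ x : Q2 φ, x⁻¹ * (γ ^ N) x ∈ (Z2 φ).subgroupOf (Q2 φ) := fun x =>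
    H294.PU.step_triv hV γ (fun v hv => by rw [hfix v hv]; exact hv) s1 hN x (s0 x)
  have hfix' : ∀ v ∈ (Z2 φ).subgroupOf (Q2 φ), (γ ^ N) v = v := by
    intro v hv
    generalize N = m
    induction m with
    | zero => rfl
    | succ m ih => rw [pow_succ, MulAut.mul_apply, hfix v hv, ih]
  have s3 : ∀ x : Q2 φ, x⁻¹ * ((γ ^ N) ^ N) x ∈ (⊥ : Subgroup (Q2 φ)) := fun x =>
    H294.PU.step_triv (V := ⊥) (N1 := (Z2 φ).subgroupOf (Q2 φ)) (fun v hv x => by
      rw [Subgroup.mem_bot] at hv; subst hv; simp) (γ ^ N)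
      (fun v hv => by rw [Subgroup.mem_bot] at hv ⊢; subst hv; simp only [_root_.map_one])
      (fun v hv => by rw [hfix' v hv, Subgroup.mem_bot]; group) hN x (s2 x)
  rw [pow_mul]
  ext1 x
  have h3 := Subgroup.mem_bot.1 (s3 x)
  rw [MulAut.one_apply]
  exact (inv_mul_eq_one.1 h3).symm

theorem pai {X : Type*} (f : Equiv.Perm X) (x : X) : f (f⁻¹ x) = x := by
  rw [← Equiv.Perm.mul_apply, mul_inv_cancel, Equiv.Perm.one_apply]

/-! ### Matrices -/

/-- a set of matrices closed under products containing the lower unipotents and the Weyl element contains `SL₂(F)` -/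
theorem gen_sl {P : Matrix (Fin 2) (Fin 2) F → Prop} (hmul : ∀ A B, P A → P B → P (A * B))
    (hL : ∀ r, P !![1, 0; r, 1]) (hw : P !![0, 1; -1, 0]) (M : Matrix (Fin 2) (Fin 2) F) (hM : M.det = 1) : P M := by
  have hw3 : P !![0, -1; 1, 0] := by
    have h1 := hmul _ _ (hmul _ _ hw hw) hw
    have h2 : (!![0, 1; -1, 0] * !![0, 1; -1, 0] * !![0, 1; -1, 0] : Matrix (Fin 2) (Fin 2) F) = !![0, -1; 1, 0] := by
      ext i j; (revert i j; simp only [Matrix.mul_apply, Fin.sum_univ_two, _root_.Fin.forall_fin_succ, _root_.Matrix.cons_mul, _root_.Nat.succ_eq_add_one, Nat.reduceAdd, _root_.Matrix.vecMul_cons, _root_.Matrix.head_cons, _root_.zero_smul, _root_.Matrix.tail_cons, _root_.one_smul, _root_.Matrix.empty_vecMul, _root_.add_zero, _root_.zero_add, _root_.neg_smul, _root_.Matrix.neg_cons, _root_.neg_zero, _root_.Matrix.neg_empty, _root_.Matrix.empty_mul, _root_.Equiv.symm_apply_apply, _root_.Matrix.of_apply, _root_.Matrix.cons_val',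 _root_.Matrix.cons_val_fin_one, Fin.isValue, _root_.Matrix.cons_val_zero, _root_.Matrix.cons_val_one, _root_.MulZeroClass.mul_zero, _root_.mul_neg, _root_.mul_one, _root_.Matrix.cons_val_succ, _root_.implies_true, _root_.and_true, _root_.neg_neg, _root_.and_self])
    rwa [h2] at h1
  have hU : ∀ r, P !![1, r; 0, 1] := by
    intro r
    have h1 := hmul _ _ (hmul _ _ hw (hL (-r))) hw3
    have h2 : (!![0, 1; -1, 0] * !![1, 0; -r, 1] * !![0, -1; 1, 0] : Matrix (Fin 2) (Fin 2) F) = !![1, r; 0, 1] := by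
      ext i j; (revert i j; simp only [Matrix.mul_apply, Fin.sum_univ_two, _root_.Fin.forall_fin_succ, _root_.Matrix.cons_mul, _root_.Nat.succ_eq_add_one, Nat.reduceAdd, _root_.Matrix.vecMul_cons, _root_.Matrix.head_cons, _root_.zero_smul, _root_.Matrix.tail_cons, _root_.one_smul, _root_.Matrix.empty_vecMul, _root_.add_zero, _root_.zero_add, _root_.neg_smul, _root_.Matrix.neg_cons, _root_.neg_zero, _root_.Matrix.neg_empty, _root_.Matrix.empty_mul, _root_.Equiv.symm_apply_apply, _root_.Matrix.of_apply, _root_.Matrix.cons_val', _root_.Matrix.cons_val_fin_one, Fin.isValue, _root_.Matrix.cons_val_zero, _root_.Matrix.cons_val_one, _root_.MulZeroClass.mul_zero, _root_.mul_one, _root_.Matrix.cons_val_succ, _root_.mul_neg, _root_.forall_const, _root_.true_and, _root_.neg_neg, _root_.implies_true, _root_.and_self])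
    rwa [h2] at h1
  have hc : ∀ M : Matrix (Fin 2) (Fin 2) F, M.det = 1 → M 0 1 ≠ 0 → P M := by
    intro M hdet h0
    rw [Matrix.det_fin_two] at hdet
    have h1 := hmul _ _ (hmul _ _ (hL ((M 1 1 - 1) / M 0 1)) (hU (M 0 1))) (hL ((M 0 0 - 1) / M 0 1))
    have h2 : (!![1, 0; (M 1 1 - 1) / M 0 1, 1] * !![1, M 0 1; 0, 1] * !![1, 0; (M 0 0 - 1) / M 0 1, 1] :
        Matrix (Fin 2) (Fin 2) F) = M := by
      ext i j
      fin_cases i <;> fin_cases j
      · simp only [Matrix.mul_apply, Fin.sum_univ_two, _root_.Fin.isValue, _root_.Matrix.cons_mul, _root_.Nat.succ_eq_add_one, _root_.Nat.reduceAdd, _root_.Matrix.vecMul_cons, _root_.Matrix.head_cons, _root_.one_smul, _root_.Matrix.tail_cons, _root_.zero_smul, _root_.Matrix.empty_vecMul, _root_.add_zero, _root_.Matrix.smul_cons, _root_.smul_eq_mul, _root_.mul_one, _root_.Matrix.smul_empty, _root_.Matrix.add_cons, _root_.Matrix.empty_add_empty, _root_.Matrix.empty_mul, _root_.Equiv.symm_apply_apply,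 _root_.Fin.zero_eta, _root_.Matrix.mul_apply, _root_.Matrix.of_apply, _root_.Matrix.cons_val', _root_.Matrix.cons_val_fin_one, _root_.Matrix.cons_val_zero, _root_.Fin.sum_univ_two, _root_.Matrix.cons_val_one]; field_simp; ring
      · simp [Matrix.mul_apply, Fin.sum_univ_two]
      · simp only [Matrix.mul_apply, Fin.sum_univ_two, _root_.Fin.isValue, _root_.Matrix.cons_mul, _root_.Nat.succ_eq_add_one, _root_.Nat.reduceAdd, _root_.Matrix.vecMul_cons, _root_.Matrix.head_cons, _root_.one_smul, _root_.Matrix.tail_cons, _root_.zero_smul, _root_.Matrix.empty_vecMul, _root_.add_zero, _root_.Matrix.smul_cons, _root_.smul_eq_mul, _root_.mul_one, _root_.Matrix.smul_empty, _root_.Matrix.add_cons, _root_.Matrix.empty_add_empty, _root_.Matrix.empty_mul, _root_.Equiv.symm_apply_apply, _root_.Fin.mk_one, _root_.Fin.zero_eta, _root_.Matrix.mul_apply, _root_.Matrix.of_apply, _root_.Matrix.cons_val', _root_.Matrix.cons_val_fin_one,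 _root_.Matrix.cons_val_one, _root_.Matrix.cons_val_zero, _root_.Fin.sum_univ_two]; field_simp; linear_combination hdet
      · simp [Matrix.mul_apply, Fin.sum_univ_two]; field_simp; ring
    rwa [h2] at h1
  by_cases h0 : M 0 1 = 0
  · have hdet := hM
    rw [Matrix.det_fin_two, h0, zero_mul, sub_zero] at hdet
    have h00 : M 0 0 ≠ 0 := by
      intro h1
      rw [h1, zero_mul] at hdet
      exact zero_ne_one hdet
    have h1 : P (M * !![0, 1; -1, 0]) := by
      apply hc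
      · rw [Matrix.det_mul, hM, Matrix.det_fin_two_of]; ring
      · simp [Matrix.mul_apply, Fin.sum_univ_two, h00]
    have h2 := hmul _ _ h1 hw3
    have h3 : M * !![0, 1; -1, 0] * !![0, -1; 1, 0] = M := by
      rw [mul_assoc]
      have h4 : (!![0, 1; -1, 0] * !![0, -1; 1, 0] : Matrix (Fin 2) (Fin 2) F) = 1 := by
        ext i j; (revert i j; simp only [Matrix.mul_apply, Fin.sum_univ_two, _root_.Fin.forall_fin_succ, _root_.Matrix.of_apply, _root_.Matrix.cons_val', _root_.Matrix.cons_val_fin_one, Fin.isValue, _root_.Matrix.cons_val_zero, _root_.Matrix.cons_val_one, _root_.MulZeroClass.mul_zero, _root_.mul_one, _root_.zero_add, _root_.Matrix.cons_val_succ, _root_.mul_neg, _root_.add_zero, _root_.IsEmpty.forall_iff, _root_.and_true, _root_.Matrix.one_apply_eq, _root_.neg_zero, Nat.reduceAdd, _root_.Fin.succ_zero_eq_one, _root_.ne_eq, _root_.zero_ne_one, _root_.not_false_eq_true, _root_.Matrix.one_apply_ne, _root_.and_self,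 _root_.Fin.succ_ne_zero, _root_.neg_neg, _root_.true_and])
      rw [h4, mul_one]
    rwa [h3] at h2
  · exact hc M hM h0

/-- the matrices represented in `Γ` -/
def Rep (Γ : Subgroup (MulAut (Q2 φ))) (M : Matrix (Fin 2) (Fin 2) F) : Prop :=
  ∃ γ ∈ Γ, piW φ γ = 1 ∧ ∀ v, piZ φ γ v = ml M v

theorem Rep.mul {Γ : Subgroup (MulAut (Q2 φ))} {A B : Matrix (Fin 2) (Fin 2) F} (hA : Rep Γ A) (hB : Rep Γ B) :
    Rep Γ (A * B) := by
  obtain ⟨a, ha, h1, h2⟩ := hA
  obtain ⟨b, hb, h3, h4⟩ := hB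
  refine ⟨a * b, mul_mem ha hb, by rw [map_mul, h1, h3, mul_one], fun v => ?_⟩
  rw [map_mul, Equiv.Perm.mul_apply, h4, h2, ml_mul]

/-- two unipotent subgroups generate the Weyl element -/
theorem rep_w {Γ : Subgroup (MulAut (Q2 φ))} (hL : ∀ r, Rep Γ !![1, 0; r, 1]) {A : Matrix (Fin 2) (Fin 2) F}
    (hA : Rep Γ A) (h0 : A 0 1 ≠ 0) (hd : A.det ≠ 0) : Rep Γ !![0, 1; -1, 0] := by
  set b := A 0 1 with hb
  set δ := A.det with hδ
  have hδ' : δ = A 0 0 * A 1 1 - b * A 1 0 := by rw [hδ, Matrix.det_fin_two]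
  have hB := ((hL (-(A 1 1) / b)).mul hA).mul (hL (-(A 0 0) / b))
  have e1 : (!![1, 0; -(A 1 1) / b, 1] * A * !![1, 0; -(A 0 0) / b, 1] : Matrix (Fin 2) (Fin 2) F) =
      !![0, b; -δ / b, 0] := by
    obtain ⟨a, b', c, d, hA'⟩ : ∃ a b' c d, A = !![a, b'; c, d] := ⟨_, _, _, _, Matrix.eta_fin_two A⟩
    have h00 : A 0 0 = a := by rw [hA']; rfl
    have h01 : A 0 1 = b' := by rw [hA']; rfl
    have h10 : A 1 0 = c := by rw [hA']; rfl
    have h11 : A 1 1 = d := by rw [hA']; rfl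
    rw [h00, h11, h10] at hδ'
    rw [h01] at hb
    rw [h00, h11, hA']
    subst hb
    rw [hδ']
    ext i j
    fin_cases i <;> fin_cases j
    · simp only [Matrix.mul_apply, Fin.sum_univ_two, _root_.Matrix.cons_mul, _root_.Nat.succ_eq_add_one, _root_.Nat.reduceAdd, _root_.Matrix.vecMul_cons, _root_.Matrix.head_cons, _root_.one_smul, _root_.Matrix.tail_cons, _root_.zero_smul, _root_.Matrix.empty_vecMul, _root_.add_zero, _root_.Matrix.smul_cons, _root_.smul_eq_mul, _root_.Matrix.smul_empty, _root_.Matrix.add_cons, _root_.Matrix.empty_add_empty, _root_.Matrix.empty_mul, _root_.Equiv.symm_apply_apply, _root_.Fin.zero_eta, _root_.Fin.isValue, _root_.Matrix.mul_apply, _root_.Matrix.of_apply, _root_.Matrix.cons_val', _root_.Matrix.cons_val_fin_one, _root_.Matrix.cons_val_zero, _root_.Fin.sum_univ_two, _root_.mul_one, _root_.Matrix.cons_val_one, _root_.neg_sub]; field_simp; ring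
    · simp [Matrix.mul_apply, Fin.sum_univ_two]
    · simp only [Matrix.mul_apply, Fin.sum_univ_two, _root_.Matrix.cons_mul, _root_.Nat.succ_eq_add_one, _root_.Nat.reduceAdd, _root_.Matrix.vecMul_cons, _root_.Matrix.head_cons, _root_.one_smul, _root_.Matrix.tail_cons, _root_.zero_smul, _root_.Matrix.empty_vecMul, _root_.add_zero, _root_.Matrix.smul_cons, _root_.smul_eq_mul, _root_.Matrix.smul_empty, _root_.Matrix.add_cons, _root_.Matrix.empty_add_empty, _root_.Matrix.empty_mul, _root_.Equiv.symm_apply_apply, _root_.Fin.mk_one, _root_.Fin.isValue, _root_.Fin.zero_eta, _root_.Matrix.mul_apply, _root_.Matrix.of_apply, _root_.Matrix.cons_val', _root_.Matrix.cons_val_fin_one, _root_.Matrix.cons_val_one, _root_.Matrix.cons_val_zero, _root_.Fin.sum_univ_two, _root_.mul_one, _root_.neg_sub]; field_simp; ring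
    · simp only [Matrix.mul_apply, Fin.sum_univ_two, _root_.Matrix.cons_mul, _root_.Nat.succ_eq_add_one, _root_.Nat.reduceAdd, _root_.Matrix.vecMul_cons, _root_.Matrix.head_cons, _root_.one_smul, _root_.Matrix.tail_cons, _root_.zero_smul, _root_.Matrix.empty_vecMul, _root_.add_zero, _root_.Matrix.smul_cons, _root_.smul_eq_mul, _root_.Matrix.smul_empty, _root_.Matrix.add_cons, _root_.Matrix.empty_add_empty, _root_.Matrix.empty_mul, _root_.Equiv.symm_apply_apply, _root_.Fin.mk_one, _root_.Fin.isValue, _root_.Matrix.mul_apply, _root_.Matrix.of_apply, _root_.Matrix.cons_val', _root_.Matrix.cons_val_fin_one, _root_.Matrix.cons_val_one, _root_.Fin.sum_univ_two, _root_.Matrix.cons_val_zero, _root_.MulZeroClass.mul_zero, _root_.mul_one, _root_.zero_add, _root_.neg_sub]; field_simp; ring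
  rw [e1] at hB
  have hU : Rep Γ !![1, 1; 0, 1] := by
    obtain ⟨β, hβ, h1, h2⟩ := hB
    obtain ⟨c, hc, h3, h4⟩ := hL (-δ / b ^ 2)
    refine ⟨β * c * β⁻¹, mul_mem (mul_mem hβ hc) (inv_mem hβ), by rw [map_mul, map_mul, map_inv, h1, h3]; rfl,
      fun v => ?_⟩
    have h5 : (piZ φ β)⁻¹ v = (-(b / δ) * v.2, v.1 / b) := by
      apply (piZ φ β).injective
      rw [pai, h2]
      apply Prod.ext
      · show v.1 = 0 * (-(b / δ) * v.2) + b * (v.1 / b)
        field_simp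
        ring
      · show v.2 = -δ / b * (-(b / δ) * v.2) + 0 * (v.1 / b)
        field_simp
        ring
    rw [map_mul, map_mul, map_inv, Equiv.Perm.mul_apply, Equiv.Perm.mul_apply, h5, h4, h2]
    apply Prod.ext
    · simp only [ml, Matrix.of_apply, Matrix.cons_val', Matrix.cons_val_zero, Matrix.cons_val_one,
        Matrix.cons_val_fin_one]
      field_simp
      ring
    · simp only [ml, Matrix.of_apply, Matrix.cons_val', Matrix.cons_val_zero, Matrix.cons_val_one,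
        Matrix.cons_val_fin_one]
      field_simp
      ring
  have h6 := (hU.mul (hL (-1))).mul hU
  have e2 : (!![1, 1; 0, 1] * !![1, 0; -1, 1] * !![1, 1; 0, 1] : Matrix (Fin 2) (Fin 2) F) = !![0, 1; -1, 0] := by
    ext i j; (revert i j; simp only [Matrix.mul_apply, Fin.sum_univ_two, _root_.Fin.forall_fin_succ, _root_.Matrix.cons_mul, _root_.Nat.succ_eq_add_one, Nat.reduceAdd, _root_.Matrix.vecMul_cons, _root_.Matrix.head_cons, _root_.one_smul, _root_.Matrix.tail_cons, _root_.Matrix.empty_vecMul, _root_.add_zero, _root_.Matrix.add_cons, _root_.add_neg_cancel, _root_.zero_add, _root_.Matrix.empty_add_empty, _root_.zero_smul, _root_.Matrix.empty_mul, _root_.Equiv.symm_apply_apply, _root_.Matrix.of_apply, _root_.Matrix.cons_val', _root_.Matrix.cons_val_fin_one, Fin.isValue, _root_.Matrix.cons_val_zero, _root_.Matrix.cons_val_one, _root_.mul_one, _root_.MulZeroClass.mul_zero, _root_.Matrix.cons_val_succ, _root_.forall_const,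 _root_.true_and, _root_.neg_add_cancel, _root_.implies_true, _root_.and_self])
  rwa [e2] at h6

/-! ### The group `Γ` -/

theorem pow_low {x : MulAut (Q2 φ)} {r : F} (h : ∀ v : F × F, piZ φ x v = ml !![1, 0; r, 1] v) (j : ℕ) (v : F × F) :
    ((piZ φ x) ^ j) v = (v.1, j * r * v.1 + v.2) := by
  induction j with
  | zero =>
    rw [pow_zero, Equiv.Perm.one_apply]
    apply Prod.ext
    · rfl
    · show v.2 = ((0 : ℕ) : F) * r * v.1 + v.2
      rw [Nat.cast_zero]; ring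
  | succ j ih =>
    rw [pow_succ', Equiv.Perm.mul_apply, ih, h]
    apply Prod.ext
    · show 1 * v.1 + 0 * (j * r * v.1 + v.2) = v.1
      ring
    · show r * v.1 + 1 * (j * r * v.1 + v.2) = ((j + 1 : ℕ) : F) * r * v.1 + v.2
      rw [Nat.cast_add, Nat.cast_one]; ring

/-- lower triangular elements of order `p` -/
theorem unip {p : ℕ} [Fact p.Prime] [CharP F p] {δ : MulAut (Q2 φ)} (hδ : (piZ φ δ) ^ p = 1)
    {M : Matrix (Fin 2) (Fin 2) F} (hM : ∀ v, piZ φ δ v = ml M v) (h01 : M 0 1 = 0) : M 0 0 = 1 ∧ M 1 1 = 1 := by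
  have h1 : ∀ j : ℕ, (((piZ φ δ) ^ j) (1, 0)).1 = M 0 0 ^ j := by
    intro j
    induction j with
    | zero => rw [pow_zero, pow_zero, Equiv.Perm.one_apply]
    | succ j ih =>
      rw [pow_succ', Equiv.Perm.mul_apply, hM]
      show M 0 0 * _ + M 0 1 * _ = _
      rw [ih, h01]; ring
  have h2 : ∀ j : ℕ, ((piZ φ δ) ^ j) (0, 1) = (0, M 1 1 ^ j) := by
    intro j
    induction j with
    | zero => rw [pow_zero, pow_zero, Equiv.Perm.one_apply]
    | succ j ih =>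
      rw [pow_succ', Equiv.Perm.mul_apply, hM, ih]
      apply Prod.ext
      · show M 0 0 * 0 + M 0 1 * _ = 0
        rw [h01]; ring
      · show M 1 0 * 0 + M 1 1 * _ = _
        ring
  have h3 := h1 p
  have h4 := h2 p
  rw [hδ, Equiv.Perm.one_apply] at h3 h4
  constructor
  · apply frobenius_inj F p
    rw [frobenius_def, frobenius_def, one_pow]
    exact h3.symm
  · apply frobenius_inj F p
    rw [frobenius_def, frobenius_def, one_pow]
    exact (congrArg Prod.snd h4).symm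

theorem ml_low {M : Matrix (Fin 2) (Fin 2) F} (h00 : M 0 0 = 1) (h01 : M 0 1 = 0) (h11 : M 1 1 = 1) (v : F × F) :
    ml M v = ml !![1, 0; M 1 0, 1] v := by
  apply Prod.ext
  · show M 0 0 * v.1 + M 0 1 * v.2 = 1 * v.1 + 0 * v.2
    rw [h00, h01]
  · show M 1 0 * v.1 + M 1 1 * v.2 = M 1 0 * v.1 + 1 * v.2
    rw [h11]

theorem exists_restr (d : MulAut (Sy φ)) : ∃ δ : MulAut (Q2 φ), IsR d δ := by
  refine ⟨{ toFun := fun e => ⟨d e, map_Q2 d e.2⟩
            invFun := fun e => ⟨d.symm e, map_Q2 d.symm e.2⟩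
            left_inv := fun e => Subtype.ext (d.symm_apply_apply _)
            right_inv := fun e => Subtype.ext (d.apply_symm_apply _)
            map_mul' := fun x y => Subtype.ext (map_mul d _ _) }, fun e => rfl⟩

theorem isTor_unique {d d' : MulAut (Sy φ)} {s : K} {t : F} {τ : K ≃+* K} {ρ : F ≃+* F} (hd : IsTor d s t τ ρ)
    (hd' : IsTor d' s t τ ρ) : d = d' := by
  ext1 g
  apply Sy.ext
  · rw [hd.x1, hd'.x1]
  · rw [hd.x6, hd'.x6]
  · rw [hd.x5, hd'.x5]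
  · rw [hd.x3, hd'.x3]
  · rw [hd.x2, hd'.x2]
  · rw [hd.x4, hd'.x4]

section Gamma

variable {p n : ℕ} (hG : StGrpD.{u}) (h : HypD φ p n) {Γ : Subgroup (MulAut (Q2 φ))} {D : Subgroup (MulAut (Sy φ))}
  (hp : Par p (Q2 φ) Γ D)
include hG h hp

/-- the kernel lies in `Aut_S(Q₂)` -/
theorem ker_le {γ : MulAut (Q2 φ)} (hγ : γ ∈ Γ) (h1 : piZ φ γ = 1) (h2 : piW φ γ = 1) :
    γ ∈ autInducedBy ⊤ (Q2 φ) := by
  have hN : ∀ x : Q2 φ, x ^ (p ^ (n * 12)) = 1 := by
    intro x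
    apply Subtype.ext
    have h3 := (hG h).1
    rw [← pow_mul] at h3
    rw [← h3]
    exact pow_card_eq_one'
  have hP : IsPGroup p ↥(Γ ⊓ ((piZ φ).ker ⊓ (piW φ).ker)) := by
    rintro ⟨x, hx, hx1, hx2⟩
    refine ⟨n * 12 + n * 12, Subtype.ext ?_⟩
    show x ^ p ^ (n * 12 + n * 12) = 1
    rw [pow_add]
    exact ker_pow hx1 hx2 hN
  obtain ⟨g, hg, hs⟩ := hp.syl _ inf_le_left hP
  have h3 : g⁻¹ * γ * g ∈ Γ ⊓ ((piZ φ).ker ⊓ (piW φ).ker) := by
    refine Subgroup.mem_inf.2 ⟨mul_mem (mul_mem (inv_mem hg) hγ) hg, Subgroup.mem_inf.2 ⟨?_, ?_⟩⟩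
    · show piZ φ (g⁻¹ * γ * g) = 1
      rw [map_mul, map_mul, map_inv, h1, mul_one, inv_mul_cancel]
    · show piW φ (g⁻¹ * γ * g) = 1
      rw [map_mul, map_mul, map_inv, h2, mul_one, inv_mul_cancel]
  have h4 := hs _ h3
  have h5 : g * (g⁻¹ * γ * g) * g⁻¹ = γ := by group
  rwa [h5] at h4

theorem mem_aut {γ : MulAut (Q2 φ)} (hγ : γ ∈ Γ) (h2 : piW φ γ = 1) {r : F}
    (h1 : ∀ v : F × F, piZ φ γ v = ml !![1, 0; r, 1] v) : γ ∈ autInducedBy ⊤ (Q2 φ) := by
  obtain ⟨c, hc, hcw, hcz⟩ := exists_low (φ := φ) r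
  have h3 : piZ φ c = piZ φ γ := by
    ext1 v
    rw [hcz, h1]
  have h4 : c⁻¹ * γ ∈ autInducedBy ⊤ (Q2 φ) := by
    apply ker_le hG h hp (mul_mem (inv_mem (hp.indu hc)) hγ)
    · rw [map_mul, map_inv, h3, inv_mul_cancel]
    · rw [map_mul, map_inv, hcw, h2]; rfl
  have h5 := mul_mem hc h4
  rwa [mul_inv_cancel_left] at h5

omit hG hp in
theorem char_F : CharP F p := by
  have := h.char
  exact (algebraMap F K).charP (algebraMap F K).injective p

omit hG hp in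
theorem pow_conj {x : MulAut (Q2 φ)} (hx : x ∈ autInducedBy ⊤ (Q2 φ)) (γ : MulAut (Q2 φ)) :
    piW φ (γ * x * γ⁻¹) = 1 ∧ (piZ φ (γ * x * γ⁻¹)) ^ p = 1 := by
  obtain ⟨h1, r, h2⟩ := aut_low hx
  have := char_F h
  constructor
  · rw [map_mul, map_mul, h1, map_inv, mul_one, mul_inv_cancel]
  · rw [map_mul, map_mul, map_inv, conj_pow]
    have h3 : (piZ φ x) ^ p = 1 := by
      ext1 v
      rw [pow_low h2, CharP.cast_eq_zero, zero_mul, zero_mul, zero_add]
      rfl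
    rw [h3, mul_one, mul_inv_cancel]

/-- the elements fixing the line `Z₁` normalize `Aut_S(Q₂)` -/
theorem normAut {γ : MulAut (Q2 φ)} (hγ : γ ∈ Γ) (h1 : (piZ φ γ (0, 1)).1 = 0) : NormAut ⊤ γ := by
  intro x hx
  have := char_F h
  have : Fact p.Prime := ⟨h.pp⟩
  obtain ⟨h2, h3⟩ := pow_conj h hx γ
  obtain ⟨-, r, hr⟩ := aut_low hx
  obtain ⟨M, hM⟩ := exists_matrix h2
  have h4 : (piZ φ γ (0, 1)).2 ≠ 0 := by
    intro h5
    have h6 : piZ φ γ (0, 1) = piZ φ γ 0 := by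
      have h7 : piZ φ γ 0 = 0 := by
        have := piZ_add γ 0 0
        rw [add_zero] at this
        exact left_eq_add.1 this
      rw [h7]
      exact Prod.ext h1 h5
    have h7 := congrArg Prod.snd ((piZ φ γ).injective h6)
    exact one_ne_zero h7
  have h5 : piZ φ (γ * x * γ⁻¹) (piZ φ γ (0, 1)) = piZ φ γ (0, 1) := by
    rw [← Equiv.Perm.mul_apply, ← map_mul, inv_mul_cancel_right, map_mul, Equiv.Perm.mul_apply, hr]
    congr 1
    apply Prod.ext
    · show 1 * 0 + 0 * 1 = 0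
      ring
    · show r * 0 + 1 * 1 = 1
      ring
  have h01 : M 0 1 = 0 := by
    have h6 := congrArg Prod.fst (hM (piZ φ γ (0, 1)))
    rw [h5] at h6
    simp only [ml] at h6
    rw [h1, mul_zero, zero_add] at h6
    rcases mul_eq_zero.1 h6.symm with h7 | h7
    · exact h7
    · exact (h4 h7).elim
  obtain ⟨h00, h11⟩ := unip h3 hM h01
  exact mem_aut hG h hp (mul_mem (mul_mem hγ (hp.indu hx)) (inv_mem hγ)) h2 (r := M 1 0)
    fun v => (hM v).trans (ml_low h00 h01 h11 v)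

/-- **`SL₂(F)` is represented in `Γ`.** -/
theorem rep_all (M : Matrix (Fin 2) (Fin 2) F) (hM : M.det = 1) : Rep Γ M := by
  have := char_F h
  have : Fact p.Prime := ⟨h.pp⟩
  have hL : ∀ r, Rep Γ !![1, 0; r, 1] := fun r => by
    obtain ⟨c, hc, h1, h2⟩ := exists_low (φ := φ) r
    exact ⟨c, hp.indu hc, h1, h2⟩
  refine gen_sl (fun A B hA hB => hA.mul hB) hL ?_ M hM
  have hnn := hp.nn
  simp only [NormAut] at hnn
  push Not at hnn
  obtain ⟨γ, hγ, x, hx, hno⟩ := hnn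
  obtain ⟨h2, h3⟩ := pow_conj h hx γ
  have hδ : γ * x * γ⁻¹ ∈ Γ := mul_mem (mul_mem hγ (hp.indu hx)) (inv_mem hγ)
  obtain ⟨A, hA⟩ := exists_matrix h2
  have h01 : A 0 1 ≠ 0 := by
    intro h01
    obtain ⟨h00, h11⟩ := unip h3 hA h01
    exact hno (mem_aut hG h hp hδ h2 (r := A 1 0) fun v => (hA v).trans (ml_low h00 h01 h11 v))
  refine rep_w hL ⟨_, hδ, h2, hA⟩ h01 ?_
  intro hdet
  rw [Matrix.det_fin_two] at hdet
  have h4 : piZ φ (γ * x * γ⁻¹) (A 0 1, - A 0 0) = piZ φ (γ * x * γ⁻¹) 0 := by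
    rw [hA, hA]
    apply Prod.ext
    · show A 0 0 * A 0 1 + A 0 1 * - A 0 0 = A 0 0 * 0 + A 0 1 * 0
      ring
    · show A 1 0 * A 0 1 + A 1 1 * - A 0 0 = A 1 0 * 0 + A 1 1 * 0
      linear_combination -hdet
  exact h01 (congrArg Prod.fst ((piZ φ (γ * x * γ⁻¹)).injective h4))

omit hp in
theorem rep_lam (M : Matrix (Fin 2) (Fin 2) F) (hM : M.det = 1) : Rep (Lam2 φ) M := by
  refine gen_sl (fun A B hA hB => hA.mul hB) (fun r => ?_) ?_ M hM
  · obtain ⟨c, hc, h1, h2⟩ := exists_low (φ := φ) r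
    exact ⟨c, (le_sup_left : _ ≤ Lam2 φ) hc, h1, h2⟩
  · obtain ⟨w, hw⟩ := (hG h).2.2.2.2.2
    refine ⟨w, (le_sup_right : _ ≤ Lam2 φ) (Subgroup.subset_closure hw), ?_, fun v => ?_⟩
    · ext1 b
      show ((w (ww φ b) : Q2 φ) : Sy φ).x3 = b
      rw [hw.x3]
      show b - cr φ 0 0 = b
      rw [cr_zero_left, sub_zero]
    · rw [piZ_apply]
      apply Prod.ext
      · show ((w (zz φ v) : Q2 φ) : Sy φ).x2 = 0 * v.1 + 1 * v.2
        rw [hw.x2]
        show v.2 - tr φ (0 * 0) + tr φ (0 * sh φ 0) = _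
        rw [zero_mul, zero_mul, tr_zero]; ring
      · show ((w (zz φ v) : Q2 φ) : Sy φ).x4 = -1 * v.1 + 0 * v.2
        rw [hw.x4]
        show -v.1 + tr φ (0 * 0) - tr φ (sh φ 0 * 0) = _
        rw [mul_zero, mul_zero, tr_zero]; ring

/-- elements which fix the line `Z₁` -/
theorem norm_form {γ : MulAut (Q2 φ)} (hγ : γ ∈ Γ) (h1 : (piZ φ γ (0, 1)).1 = 0) :
    ∃ (x : Sy φ) (c : MulAut (Q2 φ)) (d : MulAut (Sy φ)) (s : K) (t : F) (τ : K ≃+* K) (ρ : F ≃+* F)
      (δ : MulAut (Q2 φ)), (∀ e : Q2 φ, ((c e : Q2 φ) : Sy φ) = x * e * x⁻¹) ∧ c ∈ autInducedBy ⊤ (Q2 φ) ∧ d ∈ D ∧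
      IsTor d s t τ ρ ∧ IsR d δ ∧ γ = c * δ := by
  obtain ⟨x, d, hd, hx⟩ := hp.norm γ hγ (normAut hG h hp hγ h1)
  obtain ⟨s, t, τ, ρ, hdt⟩ := (hG h).2.2.2.1 d (hp.D_le hd)
  obtain ⟨δ, hδ⟩ := exists_restr d
  obtain ⟨c, hc, hcx⟩ := exists_conj (φ := φ) x
  refine ⟨x, c, d, s, t, τ, ρ, δ, hcx, hc, hd, hdt, hδ, ?_⟩
  ext1 e
  apply Subtype.ext
  rw [MulAut.mul_apply, hcx, hδ, hx]

end Gamma

/-- **(L2A)** -/
theorem stL2a (hG : StGrpD.{u}) : StL2a.{u} := by
  intro F K _ _ _ φ _ p n h Γ D hp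
  refine ⟨?_, ?_, ?_⟩
  · intro b α hb hα
    obtain ⟨γ, hγ, hw, hz⟩ := rep_all hG h hp !![b⁻¹, 0; 0, b] (by
      rw [Matrix.det_fin_two_of, inv_mul_cancel₀ hb]; ring)
    have hz' : ∀ v : F × F, piZ φ γ v = (b⁻¹ * v.1, b * v.2) := by
      intro v
      rw [hz]
      apply Prod.ext
      · show b⁻¹ * v.1 + 0 * v.2 = _
        ring
      · show 0 * v.1 + b * v.2 = _
        ring
    obtain ⟨x, c, d, s, t, h88⟩ := norm_form hG h hp hγ (by
      rw [hz']; exact mul_zero _)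
    revert h88; rintro ⟨τ, ρ, δ, hcx, hc, h88⟩
    revert h88; rintro ⟨hd, hdt, hδ, hγc⟩
    have e1 : ∀ y : K, t • (sh φ s * τ y) = y := by
      intro y
      have h1 : piW φ γ y = y := by rw [hw]; rfl
      rw [hγc, map_mul, conj_w hcx, one_mul] at h1
      have h2 : piW φ δ y = t • (sh φ s * τ y) := by
        show ((δ (ww φ y) : Q2 φ) : Sy φ).x3 = _
        rw [hδ, hdt.x3]
        rfl
      rw [h2] at h1
      exact h1
    have e2 : ∀ v : F × F, piZ φ δ v = (nm φ s * t * ρ v.1, nm φ s * t ^ 2 * ρ v.2) := by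
      intro v
      rw [piZ_apply]
      apply Prod.ext
      · show ((δ (zz φ v) : Q2 φ) : Sy φ).x2 = _
        rw [hδ, hdt.x2]
        rfl
      · show ((δ (zz φ v) : Q2 φ) : Sy φ).x4 = _
        rw [hδ, hdt.x4]
        rfl
    have e3 : ∀ v : F × F, (b⁻¹ * v.1, b * v.2) = (nm φ s * t * ρ v.1,
        x.x6 * (nm φ s * t * ρ v.1) + nm φ s * t ^ 2 * ρ v.2) := by
      intro v
      rw [← hz', hγc, map_mul, Equiv.Perm.mul_apply, conj_z hcx, e2]
    have f1 : ∀ y : F, b⁻¹ * y = nm φ s * t * ρ y := fun y => congrArg Prod.fst (e3 (y, 0))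
    have f2 : b * 1 = x.x6 * (nm φ s * t * ρ 0) + nm φ s * t ^ 2 * ρ 1 := congrArg Prod.snd (e3 (0, 1))
    have f3 : nm φ s * t = b⁻¹ := by
      have := f1 1
      rw [map_one, mul_one, mul_one] at this
      exact this.symm
    have ht : t = b ^ 2 := by
      rw [map_zero, map_one, mul_zero, mul_zero, zero_add, mul_one, mul_one, pow_two, ← mul_assoc, f3] at f2
      rw [pow_two]
      nth_rewrite 1 [f2]
      field_simp
    have hρ : ρ = RingEquiv.refl F := by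
      ext y
      have := f1 y
      rw [f3] at this
      exact (mul_left_cancel₀ (inv_ne_zero hb) this).symm
    have f4 : t • sh φ s = 1 := by
      have := e1 1
      rwa [map_one, mul_one] at this
    have hτ : τ = RingEquiv.refl K := by
      ext y
      have := e1 y
      rw [← smul_mul_assoc, f4, one_mul] at this
      exact this
    have hs : s = (algebraMap F K b)⁻¹ := by
      have h1 : (t • sh φ s) * s = s := by rw [f4, one_mul]
      rw [smul_mul_assoc, sh_mul_self, Algebra.smul_def, ← map_mul, mul_comm t, f3, map_inv₀] at h1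
      exact h1.symm
    rw [hs, ht, hτ, hρ] at hdt
    rw [isTor_unique hα hdt]
    exact hd
  · set P := (piZ φ).prod (piW φ) with hP
    have hle : Lam2 φ ≤ (Γ.map P).comap P := by
      refine sup_le ?_ ((Subgroup.closure_le _).2 ?_)
      · intro x hx
        exact ⟨x, hp.indu hx, rfl⟩
      · intro w hw
        obtain ⟨γ, hγ, h1, h2⟩ := rep_all hG h hp !![0, 1; -1, 0] (by rw [Matrix.det_fin_two_of]; ring)
        refine ⟨γ, hγ, Prod.ext ?_ ?_⟩
        · show piZ φ γ = piZ φ w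
          ext1 v
          have hw' : IsW2 w := hw
          rw [h2, piZ_apply]
          apply Prod.ext
          · show 0 * v.1 + 1 * v.2 = ((w (zz φ v) : Q2 φ) : Sy φ).x2
            rw [hw'.x2]
            show _ = v.2 - tr φ (0 * 0) + tr φ (0 * sh φ 0)
            simp only [zero_mul, mul_zero, tr_zero]; ring
          · show -1 * v.1 + 0 * v.2 = ((w (zz φ v) : Q2 φ) : Sy φ).x4
            rw [hw'.x4]
            show _ = -v.1 + tr φ (0 * 0) - tr φ (sh φ 0 * 0)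
            simp only [zero_mul, mul_zero, tr_zero]; ring
        · show piW φ γ = piW φ w
          have hw' : IsW2 w := hw
          rw [h1]
          ext1 b
          show b = ((w (ww φ b) : Q2 φ) : Sy φ).x3
          rw [hw'.x3]
          show b = b - cr φ 0 0
          rw [cr_zero_left, sub_zero]
    intro l hl
    obtain ⟨γ, hγ, hγl⟩ := hle hl
    exact ⟨γ, hγ, same_of_eq (congrArg Prod.fst hγl) (congrArg Prod.snd hγl)⟩
  · intro γ hγ
    obtain ⟨v, hv⟩ : ∃ v, v = piZ φ γ (0, 1) := ⟨_, rfl⟩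
    have hv0 : ¬ (v.1 = 0 ∧ v.2 = 0) := by
      rintro ⟨h1, h2⟩
      have h3 : piZ φ γ (0, 1) = piZ φ γ 0 := by
        have h4 : piZ φ γ 0 = 0 := by
          have := piZ_add γ 0 0
          rw [add_zero] at this
          exact left_eq_add.1 this
        rw [h4, ← hv]
        exact Prod.ext h1 h2
      have h4 := congrArg Prod.snd ((piZ φ γ).injective h3)
      exact one_ne_zero h4
    obtain ⟨N, hNdet, hN⟩ : ∃ N : Matrix (Fin 2) (Fin 2) F, N.det = 1 ∧ (ml N v).1 = 0 := by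
      by_cases h1 : v.1 = 0
      · refine ⟨1, Matrix.det_one, ?_⟩
        show (1 : Matrix (Fin 2) (Fin 2) F) 0 0 * v.1 + (1 : Matrix (Fin 2) (Fin 2) F) 0 1 * v.2 = 0
        rw [h1, Matrix.one_apply_ne (show (0 : Fin 2) ≠ 1 by decide)]; ring
      · refine ⟨!![v.2, -v.1; v.1⁻¹, 0], ?_, ?_⟩
        · rw [Matrix.det_fin_two_of]
          field_simp
          ring
        · show v.2 * v.1 + -v.1 * v.2 = 0
          ring
    obtain ⟨l, hl, hlw, hlz⟩ := rep_all hG h hp N hNdet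
    obtain ⟨x, c, d, s, t, h88⟩ := norm_form hG h hp (mul_mem hl hγ) (by
      rw [map_mul, Equiv.Perm.mul_apply, ← hv, hlz]; exact hN)
    revert h88; rintro ⟨τ, ρ, δ, hcx, hc, h88⟩
    revert h88; rintro ⟨hd, hdt, hδ, hγc⟩
    -- the matrix of `l⁻¹ c`
    obtain ⟨r, hr⟩ := (aut_low hc).2
    obtain ⟨lam, hlam, hlw', hlz'⟩ := rep_lam hG h (!![N 1 1, -N 0 1; -N 1 0, N 0 0] * !![1, 0; r, 1]) (by
      rw [Matrix.det_mul, Matrix.det_fin_two_of, Matrix.det_fin_two_of]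
      rw [Matrix.det_fin_two] at hNdet
      linear_combination hNdet)
    refine ⟨lam, hlam, d, hd, δ, hδ, same_of_eq ?_ ?_⟩
    · have h1 : γ = l⁻¹ * c * δ := by rw [mul_assoc, ← hγc, inv_mul_cancel_left]
      rw [h1, map_mul, map_mul, map_mul]
      congr 1
      ext1 w
      rw [Equiv.Perm.mul_apply]
      apply (piZ φ l).injective
      rw [map_inv, pai, hlz, hlz', ml_mul, hr]
      rw [Matrix.det_fin_two] at hNdet
      generalize ml !![1, 0; r, 1] w = y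
      apply Prod.ext
      · show y.1 = N 0 0 * (N 1 1 * y.1 + -N 0 1 * y.2) + N 0 1 * (-N 1 0 * y.1 + N 0 0 * y.2)
        linear_combination -y.1 * hNdet
      · show y.2 = N 1 0 * (N 1 1 * y.1 + -N 0 1 * y.2) + N 1 1 * (-N 1 0 * y.1 + N 0 0 * y.2)
        linear_combination -y.2 * hNdet
    · have h1 : γ = l⁻¹ * c * δ := by rw [mul_assoc, ← hγc, inv_mul_cancel_left]
      rw [h1, map_mul, map_mul, map_mul, map_inv, hlw, hlw', conj_w hcx]
      rfl

end Cfsg.Agent.H7.D4.LTwoA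
end

-- part: H640/D4/L2
section
/-!
# S5261 (`³D₄(q)`), task D3-L2: `StL2` from `StL2a`, `StNLift`, `StGrpD`

Plan: `tools/plans/S5261_L.md`, section 9 (helper780). `C` is the group of the automorphisms of `Q₂` acting trivially on
`Q₂/Z₃`, `Z₃/Z₂`, `Z₂`; `D₁` the group of the restrictions of the torus elements; `C_C(D₁) = 1`; the Weyl element normalizes
`D₁`.
-/

set_option autoImplicit false
set_option linter.unusedSectionVars false

namespace Cfsg.Agent.H640.D4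

open Cfsg Cfsg.FusionSystem Cfsg.Agent.H765.D3 Cfsg.Agent.H780.D4
open Cfsg.Agent.H765.D3.Sy
open Cfsg.Agent.Hex.Defs (sh cr nm tr)
open Cfsg.Agent.H756.PU (Inv Ess NormAut TIAut AF)
open scoped commutatorElement

universe u

variable {F K : Type u} [Field F] [Field K] [Algebra F K] {φ : K ≃ₐ[F] K} [Cub φ]

/-! ### `Z₂` and `Z₃` are characteristic in `Q₂` -/

theorem coe_comm (x y : Q2 φ) : ((⁅x, y⁆ : Q2 φ) : Sy φ) = ⁅(x : Sy φ), (y : Sy φ)⁆ := by
  rw [commutatorElement_def, commutatorElement_def]; rfl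

theorem comm_x3_Q2 {x y : Sy φ} (hx : x ∈ Q2 φ) (hy : y ∈ Q2 φ) :
    (⁅x, y⁆).x3 = cr φ x.x1 y.x5 - cr φ y.x1 x.x5 := by
  have hx' : x.x6 = 0 := hx
  have hy' : y.x6 = 0 := hy
  have := congrArg Sy.x3 (comm_mul x y)
  rw [mul_x3, mul_x3, mul_x3, comm_x1, hx', hy', mul_x6, hx', hy'] at this
  simp only [cr_zero_left, zero_smul, add_zero] at this
  linear_combination -this

theorem mem_Z2_iff' {x : Q2 φ} : (x : Sy φ) ∈ Z2 φ ↔ ∀ y : Q2 φ, ⁅x, y⁆ = 1 := by
  rw [← centralizer_Q2, mem_centralizer]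
  constructor
  · intro h y
    apply Subtype.ext
    rw [coe_comm]
    exact h y y.2
  · intro h y hy
    have := congrArg Subtype.val (h ⟨y, hy⟩)
    rw [coe_comm] at this
    exact this

theorem mem_Z3_iff' {x : Q2 φ} : (x : Sy φ) ∈ Z3 φ ↔ ∀ y : Q2 φ, ((⁅x, y⁆ : Q2 φ) : Sy φ) ∈ Z2 φ := by
  constructor
  · intro h y
    rw [coe_comm, ← commutatorElement_inv]
    exact (Z2 φ).inv_mem (comm_mem_Z2 h)
  · intro h
    have h1 : ∀ y ∈ Q2 φ, cr φ (x : Sy φ).x1 y.x5 - cr φ y.x1 (x : Sy φ).x5 = 0 := by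
      intro y hy
      have := h ⟨y, hy⟩
      rw [coe_comm] at this
      rw [← comm_x3_Q2 x.2 hy]
      exact this.2.2.2
    refine ⟨?_, x.2, ?_⟩
    · apply cr_nondeg' φ
      intro a
      have := h1 _ (Z4_le_Q2 (u5_mem (φ := φ) a))
      simpa [u5, cr_zero_left] using this
    · apply cr_nondeg φ
      intro a
      have := h1 _ (u1_mem (φ := φ) a)
      simpa [u1, cr_zero_right] using this

theorem map_comm' (γ : MulAut (Q2 φ)) (x y : Q2 φ) : γ ⁅x, y⁆ = ⁅γ x, γ y⁆ := map_commutatorElement _ _ _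

theorem inv_apply_self' (γ : MulAut (Q2 φ)) (x : Q2 φ) : γ (γ⁻¹ x) = x := MulAut.apply_inv_self _ γ x

theorem aut_Z2 (γ : MulAut (Q2 φ)) {x : Q2 φ} (hx : (x : Sy φ) ∈ Z2 φ) : ((γ x : Q2 φ) : Sy φ) ∈ Z2 φ := by
  rw [mem_Z2_iff'] at hx ⊢
  intro y
  have := hx (γ⁻¹ y)
  have h2 := congrArg γ this
  rw [map_comm', inv_apply_self', map_one] at h2
  exact h2

theorem aut_Z3 (γ : MulAut (Q2 φ)) {x : Q2 φ} (hx : (x : Sy φ) ∈ Z3 φ) : ((γ x : Q2 φ) : Sy φ) ∈ Z3 φ := by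
  rw [mem_Z3_iff'] at hx ⊢
  intro y
  have h2 := aut_Z2 γ (hx (γ⁻¹ y))
  rw [map_comm', inv_apply_self'] at h2
  exact h2

/-! ### the stabilizer of the chain -/

/-- acting trivially on the factors -/
def Tr2 (γ : MulAut (Q2 φ)) : Prop :=
  (∀ e : Q2 φ, ((e⁻¹ * γ e : Q2 φ) : Sy φ) ∈ Z3 φ) ∧
  (∀ e : Q2 φ, (e : Sy φ) ∈ Z3 φ → ((e⁻¹ * γ e : Q2 φ) : Sy φ) ∈ Z2 φ) ∧
  (∀ e : Q2 φ, (e : Sy φ) ∈ Z2 φ → γ e = e)

theorem quo_Z3 {x y : Sy φ} (hx : x ∈ Q2 φ) (hy : y ∈ Q2 φ) : x⁻¹ * y ∈ Z3 φ ↔ y.x1 = x.x1 ∧ y.x5 = x.x5 := by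
  have hx' : x.x6 = 0 := hx
  have hy' : y.x6 = 0 := hy
  rw [mem_Z3, mul_x1, mul_x6, mul_x5, inv_x1, inv_x6, inv_x5, hx', hy']
  simp only [zero_smul, neg_zero, add_zero]
  constructor
  · rintro ⟨h1, -, h2⟩
    exact ⟨by linear_combination h1, by linear_combination h2⟩
  · rintro ⟨h1, h2⟩
    exact ⟨by rw [h1]; ring, trivial, by rw [h2]; ring⟩

theorem quo_Z2 {x y : Sy φ} (hx : x ∈ Z3 φ) (hy : y ∈ Z3 φ) : x⁻¹ * y ∈ Z2 φ ↔ y.x3 = x.x3 := by
  obtain ⟨a1, a2, a3⟩ := hx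
  obtain ⟨b1, b2, b3⟩ := hy
  rw [mem_Z2, mul_x1, mul_x6, mul_x5, mul_x3, inv_x1, inv_x6, inv_x5, inv_x3, a1, a2, a3, b1, b2, b3]
  simp only [zero_smul, neg_zero, add_zero, cr_zero_left, sub_zero, smul_zero]
  constructor
  · rintro ⟨-, -, -, h⟩
    linear_combination h
  · intro h
    exact ⟨trivial, trivial, trivial, by rw [h]; ring⟩

theorem tr2_iff (γ : MulAut (Q2 φ)) : Same2 γ 1 ↔ Tr2 γ := by
  constructor
  · rintro ⟨h1, h2, h3⟩
    refine ⟨fun e => ?_, fun e he => ?_, fun e he => ?_⟩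
    · exact (quo_Z3 e.2 (γ e).2).2 (h1 e)
    · exact (quo_Z2 he (aut_Z3 γ he)).2 (h2 e he)
    · have ha := aut_Z2 γ he
      apply Subtype.ext
      ext
      · exact ha.1.trans he.1.symm
      · exact ha.2.1.trans he.2.1.symm
      · exact ha.2.2.1.trans he.2.2.1.symm
      · exact ha.2.2.2.trans he.2.2.2.symm
      · exact (h3 e he).1
      · exact (h3 e he).2
  · rintro ⟨h1, h2, h3⟩
    refine ⟨fun e => ?_, fun e he => ?_, fun e he => ?_⟩
    · exact (quo_Z3 e.2 (γ e).2).1 (h1 e)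
    · exact (quo_Z2 he (aut_Z3 γ he)).1 (h2 e he)
    · rw [h3 e he]
      exact ⟨rfl, rfl⟩

variable (φ) in
/-- the stabilizer of the chain -/
def CC : Subgroup (MulAut (Q2 φ)) where
  carrier := {γ | Tr2 γ}
  one_mem' := by
    refine ⟨fun e => ?_, fun e he => ?_, fun e he => rfl⟩
    · rw [MulAut.one_apply, inv_mul_cancel]; exact one_mem _
    · rw [MulAut.one_apply, inv_mul_cancel]; exact one_mem _
  mul_mem' {γ δ} hγ hδ := by
    refine ⟨fun e => ?_, fun e he => ?_, fun e he => ?_⟩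
    · have h1 := hδ.1 e
      have h2 := hγ.1 (δ e)
      have : e⁻¹ * (γ * δ) e = (e⁻¹ * δ e) * ((δ e)⁻¹ * γ (δ e)) := by
        rw [MulAut.mul_apply]; group
      rw [this]
      exact mul_mem h1 h2
    · have h1 := hδ.2.1 e he
      have h2 := hγ.2.1 (δ e) (aut_Z3 δ he)
      have : e⁻¹ * (γ * δ) e = (e⁻¹ * δ e) * ((δ e)⁻¹ * γ (δ e)) := by
        rw [MulAut.mul_apply]; group
      rw [this]
      exact mul_mem h1 h2
    · rw [MulAut.mul_apply, hδ.2.2 e he, hγ.2.2 e he]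
  inv_mem' {γ} hγ := by
    refine ⟨fun e => ?_, fun e he => ?_, fun e he => ?_⟩
    · have h1 := hγ.1 (γ⁻¹ e)
      rw [inv_apply_self'] at h1
      have : e⁻¹ * γ⁻¹ e = ((γ⁻¹ e)⁻¹ * e)⁻¹ := by group
      rw [this]
      exact inv_mem h1
    · have h1 := hγ.2.1 (γ⁻¹ e) (aut_Z3 _ he)
      rw [inv_apply_self'] at h1
      have : e⁻¹ * γ⁻¹ e = ((γ⁻¹ e)⁻¹ * e)⁻¹ := by group
      rw [this]
      exact inv_mem h1
    · have h1 := hγ.2.2 (γ⁻¹ e) (aut_Z2 _ he)
      rw [inv_apply_self'] at h1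
      exact h1.symm

theorem mem_CC {γ : MulAut (Q2 φ)} : γ ∈ CC φ ↔ Tr2 γ := Iff.rfl

instance : (CC φ).Normal := ⟨fun γ hγ δ => by
  rw [mem_CC] at hγ ⊢
  refine ⟨fun e => ?_, fun e he => ?_, fun e he => ?_⟩
  · have h1 := aut_Z3 δ (hγ.1 (δ⁻¹ e))
    have : δ ((δ⁻¹ e)⁻¹ * γ (δ⁻¹ e)) = e⁻¹ * (δ * γ * δ⁻¹) e := by
      rw [map_mul, map_inv, inv_apply_self', MulAut.mul_apply, MulAut.mul_apply]
    rw [this] at h1
    exact h1
  · have h1 := aut_Z2 δ (hγ.2.1 (δ⁻¹ e) (aut_Z3 _ he))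
    have : δ ((δ⁻¹ e)⁻¹ * γ (δ⁻¹ e)) = e⁻¹ * (δ * γ * δ⁻¹) e := by
      rw [map_mul, map_inv, inv_apply_self', MulAut.mul_apply, MulAut.mul_apply]
    rw [this] at h1
    exact h1
  · rw [MulAut.mul_apply, MulAut.mul_apply, hγ.2.2 _ (aut_Z2 _ he), inv_apply_self']⟩

/-- iterating -/
theorem pow_apply_of_fix (γ : MulAut (Q2 φ)) (e : Q2 φ) (h : γ (e⁻¹ * γ e) = e⁻¹ * γ e) (k : ℕ) :
    (γ ^ k) e = e * (e⁻¹ * γ e) ^ k := by
  induction k with
  | zero => simp only [_root_.pow_zero, _root_.MulAut.one_apply, _root_.mul_one]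
  | succ k ih =>
    rw [pow_succ', MulAut.mul_apply, ih, map_mul, map_pow, h, pow_succ', ← mul_assoc, mul_inv_cancel_left]

theorem isPGroup_CC {p : ℕ} [Finite (Sy φ)] (hp : IsPGroup p (⊤ : Subgroup (Sy φ))) : IsPGroup p (CC φ) := by
  have hel : ∀ x : Q2 φ, ∃ k : ℕ, x ^ p ^ k = 1 := by
    intro x
    obtain ⟨k, hk⟩ := hp ⟨(x : Sy φ), trivial⟩
    refine ⟨k, Subtype.ext ?_⟩
    have := congrArg Subtype.val hk
    simpa only [_root_.SubmonoidClass.coe_pow, _root_.OneMemClass.coe_one] using this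
  have hfin : Finite (Q2 φ) := inferInstance
  -- a common exponent
  obtain ⟨m, hm⟩ : ∃ m : ℕ, ∀ x : Q2 φ, x ^ p ^ m = 1 := by
    cases nonempty_fintype (Q2 φ)
    choose k hk using hel
    refine ⟨Finset.univ.sup k, fun x => ?_⟩
    obtain ⟨j, hj⟩ := Nat.exists_eq_add_of_le (Finset.le_sup (f := k) (Finset.mem_univ x))
    rw [hj, pow_add, pow_mul, hk, one_pow]
  rintro ⟨γ, hγ⟩
  refine ⟨m + m, Subtype.ext ?_⟩
  rw [Subgroup.coe_pow, Subgroup.coe_one]
  -- `γ ^ p ^ m` is trivial on `Z₃`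
  have h3 : ∀ e : Q2 φ, (e : Sy φ) ∈ Z3 φ → (γ ^ p ^ m) e = e := by
    intro e he
    rw [pow_apply_of_fix γ e (hγ.2.2 _ (hγ.2.1 e he)), hm, mul_one]
  have h4 : γ ^ p ^ m ∈ CC φ := pow_mem hγ _
  apply MulEquiv.ext
  intro e
  rw [pow_add, pow_mul, pow_apply_of_fix _ e (h3 _ (h4.1 e)), hm, mul_one]
  rfl

/-! ### the torus -/

theorem isTor_mul {α β : MulAut (Sy φ)} {s s' : K} {t t' : F}
    (h : IsTor α s t (RingEquiv.refl K) (RingEquiv.refl F)) (h' : IsTor β s' t' (RingEquiv.refl K) (RingEquiv.refl F)) :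
    IsTor (α * β) (s * s') (t * t') (RingEquiv.refl K) (RingEquiv.refl F) where
  nes := mul_ne_zero h.nes h'.nes
  net := mul_ne_zero h.net h'.net
  res := fun _ => rfl
  x1 g := by rw [MulAut.mul_apply, h.x1, h'.x1]; simp only [RingEquiv.refl_apply]; ring
  x6 g := by rw [MulAut.mul_apply, h.x6, h'.x6]; simp only [RingEquiv.refl_apply]; ring
  x5 g := by rw [MulAut.mul_apply, h.x5, h'.x5]; simp only [RingEquiv.refl_apply]; cub
  x3 g := by rw [MulAut.mul_apply, h.x3, h'.x3]; simp only [RingEquiv.refl_apply]; cub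
  x2 g := by
    rw [MulAut.mul_apply, h.x2, h'.x2]; simp only [RingEquiv.refl_apply]
    rw [nm_mul]; ring
  x4 g := by
    rw [MulAut.mul_apply, h.x4, h'.x4]; simp only [RingEquiv.refl_apply]
    rw [nm_mul]; ring

theorem isTor_unique {α β : MulAut (Sy φ)} {s : K} {t : F} {τ : K ≃+* K} {ρ : F ≃+* F}
    (h : IsTor α s t τ ρ) (h' : IsTor β s t τ ρ) : α = β := by
  apply MulEquiv.ext
  intro g
  ext
  · rw [h.x1, h'.x1]
  · rw [h.x6, h'.x6]
  · rw [h.x5, h'.x5]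
  · rw [h.x3, h'.x3]
  · rw [h.x2, h'.x2]
  · rw [h.x4, h'.x4]

theorem sh_one : sh φ (1 : K) = 1 := by cub

theorem isTor_one : IsTor (1 : MulAut (Sy φ)) 1 1 (RingEquiv.refl K) (RingEquiv.refl F) where
  nes := one_ne_zero
  net := one_ne_zero
  res := fun _ => rfl
  x1 g := by simp
  x6 g := by simp
  x5 g := by simp
  x3 g := by simp [sh_one]
  x2 g := by simp [nm_one]
  x4 g := by simp [nm_one]

theorem isTor_pow {α : MulAut (Sy φ)} {s : K} {t : F} (h : IsTor α s t (RingEquiv.refl K) (RingEquiv.refl F)) (k : ℕ) :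
    IsTor (α ^ k) (s ^ k) (t ^ k) (RingEquiv.refl K) (RingEquiv.refl F) := by
  induction k with
  | zero => simpa using isTor_one
  | succ k ih => rw [pow_succ, pow_succ, pow_succ]; exact isTor_mul ih h

theorem isTor_inv {α : MulAut (Sy φ)} {s : K} {t : F} (h : IsTor α s t (RingEquiv.refl K) (RingEquiv.refl F)) :
    IsTor (α⁻¹) s⁻¹ t⁻¹ (RingEquiv.refl K) (RingEquiv.refl F) := by
  have hs := h.nes
  have ht := h.net
  have key : ∀ g : Sy φ, α (α⁻¹ g) = g := fun g => MulAut.apply_inv_self _ α g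
  have hn : nm φ s ≠ 0 := fun e => hs ((nm_eq_zero φ).1 e)
  have hnn : nm φ s⁻¹ * nm φ s = 1 := by rw [← nm_mul, inv_mul_cancel₀ hs, nm_one]
  have hsh : sh φ s⁻¹ * sh φ s = 1 := by rw [← sh_mul, inv_mul_cancel₀ hs, sh_one]
  have htt : algebraMap F K t⁻¹ * algebraMap F K t = 1 := by rw [← map_mul, inv_mul_cancel₀ ht, map_one]
  refine ⟨inv_ne_zero hs, inv_ne_zero ht, fun _ => rfl, fun g => ?_, fun g => ?_, fun g => ?_, fun g => ?_, fun g => ?_,
    fun g => ?_⟩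
  · have e := h.x1 (α⁻¹ g)
    rw [key] at e
    simp only [RingEquiv.refl_apply] at e ⊢
    rw [e, inv_mul_cancel_left₀ hs]
  · have e := h.x6 (α⁻¹ g)
    rw [key] at e
    simp only [RingEquiv.refl_apply] at e ⊢
    rw [e, inv_mul_cancel_left₀ ht]
  · have e := h.x5 (α⁻¹ g)
    rw [key] at e
    simp only [RingEquiv.refl_apply, Algebra.smul_def] at e ⊢
    rw [e]
    have : algebraMap F K t⁻¹ * (s⁻¹ * (algebraMap F K t * (s * (α⁻¹ g).x5))) =
      (algebraMap F K t⁻¹ * algebraMap F K t) * (s⁻¹ * s) * (α⁻¹ g).x5 := by ring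
    rw [this, htt, inv_mul_cancel₀ hs]; ring
  · have e := h.x3 (α⁻¹ g)
    rw [key] at e
    simp only [RingEquiv.refl_apply, Algebra.smul_def] at e ⊢
    rw [e]
    have : algebraMap F K t⁻¹ * (sh φ s⁻¹ * (algebraMap F K t * (sh φ s * (α⁻¹ g).x3))) =
      (algebraMap F K t⁻¹ * algebraMap F K t) * (sh φ s⁻¹ * sh φ s) * (α⁻¹ g).x3 := by ring
    rw [this, htt, hsh]; ring
  · have e := h.x2 (α⁻¹ g)
    rw [key] at e
    simp only [RingEquiv.refl_apply] at e ⊢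
    rw [e]
    have : nm φ s⁻¹ * t⁻¹ * (nm φ s * t * (α⁻¹ g).x2) = (nm φ s⁻¹ * nm φ s) * (t⁻¹ * t) * (α⁻¹ g).x2 := by ring
    rw [this, hnn, inv_mul_cancel₀ ht]; ring
  · have e := h.x4 (α⁻¹ g)
    rw [key] at e
    simp only [RingEquiv.refl_apply] at e ⊢
    rw [e]
    have : nm φ s⁻¹ * t⁻¹ ^ 2 * (nm φ s * t ^ 2 * (α⁻¹ g).x4) =
      (nm φ s⁻¹ * nm φ s) * (t⁻¹ * t) ^ 2 * (α⁻¹ g).x4 := by ring
    rw [this, hnn, inv_mul_cancel₀ ht]; ring

variable (φ) in
/-- the restrictions of the torus elements to `Q₂` -/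
def DD : Subgroup (MulAut (Q2 φ)) where
  carrier := {δ | ∃ s t, ∃ α : MulAut (Sy φ), IsTor α s t (RingEquiv.refl K) (RingEquiv.refl F) ∧ IsR α δ}
  one_mem' := ⟨1, 1, 1, isTor_one, fun _ => rfl⟩
  mul_mem' {γ δ} hγ hδ := by
    obtain ⟨s, t, α, h1, h2⟩ := hγ
    obtain ⟨s', t', β, h1', h2'⟩ := hδ
    refine ⟨s * s', t * t', α * β, isTor_mul h1 h1', fun e => ?_⟩
    rw [MulAut.mul_apply, MulAut.mul_apply, h2, h2']
  inv_mem' {γ} hγ := by
    obtain ⟨s, t, α, h1, h2⟩ := hγ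
    refine ⟨s⁻¹, t⁻¹, α⁻¹, isTor_inv h1, fun e => ?_⟩
    apply α.injective
    rw [← h2, inv_apply_self']
    exact (MulAut.apply_inv_self _ α _).symm

/-- restriction to `Q₂` -/
noncomputable def res2 (α : MulAut (Sy φ)) : MulAut (Q2 φ) where
  toFun e := ⟨α e, map_Q2 α e.2⟩
  invFun e := ⟨α.symm e, map_Q2 α.symm e.2⟩
  left_inv _ := Subtype.ext (α.symm_apply_apply _)
  right_inv _ := Subtype.ext (α.apply_symm_apply _)
  map_mul' _ _ := Subtype.ext (map_mul α _ _)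

theorem isR_res2 (α : MulAut (Sy φ)) : IsR α (res2 α) := fun _ => rfl

theorem fin_F {p n : ℕ} (h : HypD φ p n) : Finite F :=
  Nat.finite_of_card_ne_zero (by rw [h.card]; exact pow_ne_zero _ h.pp.ne_zero)

theorem card_DD {p n : ℕ} (h : HypD φ p n) : (Nat.card (DD φ)).Coprime p := by
  have := h.fin
  have := fin_F h
  have : Fact p.Prime := ⟨h.pp⟩
  have : Finite (Q2 φ) := inferInstance
  have : Finite (MulAut (Q2 φ)) := inferInstance
  cases nonempty_fintype K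
  have hp : p ∣ Nat.card K := by
    rw [h.cardK, ← pow_mul]
    exact dvd_pow_self _ (by have := h.hn; omega)
  have hK1 : 1 < Nat.card K := Finite.one_lt_card
  rw [Nat.coprime_comm, (Nat.Prime.coprime_iff_not_dvd h.pp)]
  intro hd
  obtain ⟨⟨δ, hδ⟩, ho⟩ := exists_prime_orderOf_dvd_card' p hd
  obtain ⟨s, t, α, h1, h2⟩ := hδ
  have hs : s ^ (Nat.card K - 1) = 1 := by
    rw [Nat.card_eq_fintype_card]; exact FiniteField.pow_card_sub_one_eq_one s h1.nes
  have ht : t ^ (Nat.card K - 1) = 1 := by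
    apply (algebraMap F K).injective
    rw [map_pow, map_one, Nat.card_eq_fintype_card]
    exact FiniteField.pow_card_sub_one_eq_one _ (by simpa using h1.net)
  have h3 := isTor_pow h1 (Nat.card K - 1)
  rw [hs, ht] at h3
  have h4 : α ^ (Nat.card K - 1) = 1 := isTor_unique h3 isTor_one
  have h5 : δ ^ (Nat.card K - 1) = 1 := by
    apply MulEquiv.ext
    intro e
    apply Subtype.ext
    have : ∀ k : ℕ, ∀ e : Q2 φ, (((δ ^ k) e : Q2 φ) : Sy φ) = (α ^ k) e := by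
      intro k
      induction k with
      | zero => intro e; rfl
      | succ k ih => intro e; rw [pow_succ', pow_succ', MulAut.mul_apply, MulAut.mul_apply, h2, ih]
    rw [this, h4]
    rfl
  have h6 : orderOf (⟨δ, ⟨s, t, α, h1, h2⟩⟩ : DD φ) ∣ Nat.card K - 1 :=
    orderOf_dvd_of_pow_eq_one (Subtype.ext h5)
  rw [ho] at h6
  have h7 : p ∣ 1 := by
    have h8 := Nat.dvd_sub hp h6
    have h9 : Nat.card K - (Nat.card K - 1) = 1 := by omega
    rwa [h9] at h8
  exact h.pp.one_lt.ne' (Nat.dvd_one.1 h7)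

/-! ### no fixed points -/

/-- additive maps `K → F` whose kernel is stable under multiplication -/
theorem ker_arg [Finite K] [Finite F] (hlt : Nat.card F < Nat.card K) (f : K → F) (hadd : ∀ a b, f (a + b) = f a + f b)
    (hst : ∀ s : K, s ≠ 0 → ∀ a, f a = 0 → f (s * a) = 0) : ∀ a, f a = 0 := by
  have hni : ¬ Function.Injective f := fun hi => absurd (Nat.card_le_card_of_injective f hi) (not_le.2 hlt)
  rw [Function.Injective] at hni
  push Not at hni
  obtain ⟨a, b, hab, hne⟩ := hni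
  have h0 : f 0 = 0 := by
    have := hadd 0 0
    simpa using this
  have hsub : f (a - b) = 0 := by
    have := hadd (a - b) b
    rw [sub_add_cancel, hab] at this
    linear_combination -this
  intro c
  by_cases hc : c = 0
  · rw [hc, h0]
  have := hst (c / (a - b)) (div_ne_zero hc (sub_ne_zero.2 hne)) (a - b) hsub
  rwa [div_mul_cancel₀ _ (sub_ne_zero.2 hne)] at this

variable (φ) in
theorem sh_arg (f : K → K) (hadd : ∀ a b, f (a + b) = f a + f b)
    (hst : ∀ s : K, s ≠ 0 → ∀ a, f (s * a) = sh φ s * f a) : ∀ a, f a = 0 := by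
  have h0 : f 0 = 0 := by
    have := hadd 0 0
    simpa using this
  have h1 : ∀ s, f s = sh φ s * f 1 := by
    intro s
    by_cases hs : s = 0
    · rw [hs, h0, sh_zero, zero_mul]
    · have := hst s hs 1
      rwa [mul_one] at this
  have h2 : ∀ s s' : K, cr φ s s' * f 1 = 0 := by
    intro s s'
    have := hadd s s'
    rw [h1 (s + s'), h1 s, h1 s', sh_add] at this
    linear_combination this
  have h3 : f 1 = 0 := by
    by_contra hne
    exact one_ne_zero (cr_nondeg φ (c := (1 : K)) fun a => (mul_eq_zero.1 (h2 a 1)).resolve_right hne)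
  intro a
  rw [h1, h3, mul_zero]

/-- `u1 a` in `Q₂` -/
def e1 (φ : K ≃ₐ[F] K) [Cub φ] (a : K) : Q2 φ := ⟨u1 φ a, u1_mem a⟩

/-- `u5 a` in `Q₂` -/
def e5 (φ : K ≃ₐ[F] K) [Cub φ] (a : K) : Q2 φ := ⟨u5 φ a, Z4_le_Q2 (u5_mem a)⟩

theorem same2_of_CC {γ : MulAut (Q2 φ)} (h : γ ∈ CC φ) : Same2 γ 1 := (tr2_iff γ).2 h

theorem fix_e1 {p n : ℕ} (h : HypD φ p n)
    (hex : ∀ (s : K) (t : F), s ≠ 0 → t ≠ 0 →
      ∃ α : MulAut (Sy φ), IsTor α s t (RingEquiv.refl K) (RingEquiv.refl F))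
    {c : MulAut (Q2 φ)} (hc : c ∈ CC φ) (hD : ∀ d ∈ DD φ, d * c = c * d) (a : K) : c (e1 φ a) = e1 φ a := by
  have := h.fin
  have := fin_F h
  have hlt : Nat.card F < Nat.card K := by
    rw [h.card, h.cardK]
    have h1 : 1 < p ^ n := Nat.one_lt_pow (by have := h.hn; omega) h.pp.one_lt
    calc p ^ n = (p ^ n) ^ 1 := (pow_one _).symm
      _ < (p ^ n) ^ 3 := Nat.pow_lt_pow_right h1 (by norm_num)
  have hS := same2_of_CC hc
  have hx1 : ∀ a, ((c (e1 φ a) : Q2 φ) : Sy φ).x1 = a := fun a => (hS.1 (e1 φ a)).1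
  have hx5 : ∀ a, ((c (e1 φ a) : Q2 φ) : Sy φ).x5 = 0 := fun a => (hS.1 (e1 φ a)).2
  have hx6 : ∀ a, ((c (e1 φ a) : Q2 φ) : Sy φ).x6 = 0 := fun a => (c (e1 φ a)).2
  have heq : ∀ s : K, s ≠ 0 → ∀ a, ∃ α : MulAut (Sy φ), IsTor α s 1 (RingEquiv.refl K) (RingEquiv.refl F) ∧
      ((c (e1 φ (s * a)) : Q2 φ) : Sy φ) = α (c (e1 φ a) : Q2 φ) := by
    intro s hs a
    obtain ⟨α, hα⟩ := hex s 1 hs one_ne_zero
    refine ⟨α, hα, ?_⟩
    have h1 := hD (res2 α) ⟨s, 1, α, hα, isR_res2 α⟩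
    have h2 := congrArg (fun γ : MulAut (Q2 φ) => ((γ (e1 φ a) : Q2 φ) : Sy φ)) h1
    simp only [MulAut.mul_apply] at h2
    rw [isR_res2 α (c (e1 φ a))] at h2
    rw [h2]
    have h3 : res2 α (e1 φ a) = e1 φ (s * a) := by
      apply Subtype.ext
      rw [isR_res2 α]
      ext
      · rw [hα.x1]; rfl
      · rw [hα.x6]; simp [e1, u1]
      · rw [hα.x5]; simp [e1, u1]
      · rw [hα.x3]; simp [e1, u1]
      · rw [hα.x2]; simp [e1, u1]
      · rw [hα.x4]; simp [e1, u1]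
    rw [h3]
  have hadd : ∀ a b, ((c (e1 φ (a + b)) : Q2 φ) : Sy φ) = (c (e1 φ a) : Q2 φ) * (c (e1 φ b) : Q2 φ) := by
    intro a b
    have : e1 φ (a + b) = e1 φ a * e1 φ b := Subtype.ext (u1_add a b)
    rw [this, map_mul]
    rfl
  have hA := sh_arg φ (fun a => ((c (e1 φ a) : Q2 φ) : Sy φ).x3)
    (fun a b => by
      have := congrArg Sy.x3 (hadd a b)
      rw [mul_x3, hx5, hx6, cr_zero_right, zero_smul, add_zero, add_zero] at this
      exact this)
    (fun s hs a => by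
      obtain ⟨α, hα, h1⟩ := heq s hs a
      have := congrArg Sy.x3 h1
      rw [hα.x3, one_smul] at this
      exact this)
  have hB := ker_arg hlt (fun a => ((c (e1 φ a) : Q2 φ) : Sy φ).x2)
    (fun a b => by
      have := congrArg Sy.x2 (hadd a b)
      rw [mul_x2, hx5, hx6, hA b, mul_zero, mul_zero, tr_zero, zero_mul, add_zero, add_zero, add_zero] at this
      exact this)
    (fun s hs a ha => by
      obtain ⟨α, hα, h1⟩ := heq s hs a
      have := congrArg Sy.x2 h1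
      rw [hα.x2] at this
      simp only [RingEquiv.refl_apply] at this ha ⊢
      rw [ha, mul_zero] at this
      exact this)
  have hC := ker_arg hlt (fun a => ((c (e1 φ a) : Q2 φ) : Sy φ).x4)
    (fun a b => by
      have := congrArg Sy.x4 (hadd a b)
      rw [mul_x4, hx5, hx6, hA a] at this
      simp only [sh_zero, mul_zero, zero_mul, tr_zero, add_zero, sub_zero, ne_eq, OfNat.ofNat_ne_zero,
        not_false_eq_true, zero_pow] at this
      exact this)
    (fun s hs a ha => by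
      obtain ⟨α, hα, h1⟩ := heq s hs a
      have := congrArg Sy.x4 h1
      rw [hα.x4] at this
      simp only [RingEquiv.refl_apply] at this ha ⊢
      rw [ha, mul_zero] at this
      exact this)
  apply Subtype.ext
  ext
  · exact hx1 a
  · exact hx6 a
  · exact hx5 a
  · exact hA a
  · exact hB a
  · exact hC a

theorem fix_e5 {p n : ℕ} (h : HypD φ p n)
    (hex : ∀ (s : K) (t : F), s ≠ 0 → t ≠ 0 →
      ∃ α : MulAut (Sy φ), IsTor α s t (RingEquiv.refl K) (RingEquiv.refl F))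
    {c : MulAut (Q2 φ)} (hc : c ∈ CC φ) (hD : ∀ d ∈ DD φ, d * c = c * d) (a : K) : c (e5 φ a) = e5 φ a := by
  have := h.fin
  have := fin_F h
  have hlt : Nat.card F < Nat.card K := by
    rw [h.card, h.cardK]
    have h1 : 1 < p ^ n := Nat.one_lt_pow (by have := h.hn; omega) h.pp.one_lt
    calc p ^ n = (p ^ n) ^ 1 := (pow_one _).symm
      _ < (p ^ n) ^ 3 := Nat.pow_lt_pow_right h1 (by norm_num)
  have hS := same2_of_CC hc
  have hx1 : ∀ a, ((c (e5 φ a) : Q2 φ) : Sy φ).x1 = 0 := fun a => (hS.1 (e5 φ a)).1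
  have hx5 : ∀ a, ((c (e5 φ a) : Q2 φ) : Sy φ).x5 = a := fun a => (hS.1 (e5 φ a)).2
  have hx6 : ∀ a, ((c (e5 φ a) : Q2 φ) : Sy φ).x6 = 0 := fun a => (c (e5 φ a)).2
  have heq : ∀ s : K, s ≠ 0 → ∀ a, ∃ α : MulAut (Sy φ), IsTor α s 1 (RingEquiv.refl K) (RingEquiv.refl F) ∧
      ((c (e5 φ (s * a)) : Q2 φ) : Sy φ) = α (c (e5 φ a) : Q2 φ) := by
    intro s hs a
    obtain ⟨α, hα⟩ := hex s 1 hs one_ne_zero
    refine ⟨α, hα, ?_⟩
    have h1 := hD (res2 α) ⟨s, 1, α, hα, isR_res2 α⟩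
    have h2 := congrArg (fun γ : MulAut (Q2 φ) => ((γ (e5 φ a) : Q2 φ) : Sy φ)) h1
    simp only [MulAut.mul_apply] at h2
    rw [isR_res2 α (c (e5 φ a))] at h2
    rw [h2]
    have h3 : res2 α (e5 φ a) = e5 φ (s * a) := by
      apply Subtype.ext
      rw [isR_res2 α]
      ext
      · rw [hα.x1]; simp [e5, u5]
      · rw [hα.x6]; simp [e5, u5]
      · rw [hα.x5]; simp [e5, u5]
      · rw [hα.x3]; simp [e5, u5]
      · rw [hα.x2]; simp [e5, u5]
      · rw [hα.x4]; simp [e5, u5]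
    rw [h3]
  have hadd : ∀ a b, ((c (e5 φ (a + b)) : Q2 φ) : Sy φ) = (c (e5 φ a) : Q2 φ) * (c (e5 φ b) : Q2 φ) := by
    intro a b
    have : e5 φ (a + b) = e5 φ a * e5 φ b := Subtype.ext (u5_add a b)
    rw [this, map_mul]
    rfl
  have hA := sh_arg φ (fun a => ((c (e5 φ a) : Q2 φ) : Sy φ).x3)
    (fun a b => by
      have := congrArg Sy.x3 (hadd a b)
      rw [mul_x3, hx1, hx6, cr_zero_left, zero_smul, add_zero, add_zero] at this
      exact this)
    (fun s hs a => by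
      obtain ⟨α, hα, h1⟩ := heq s hs a
      have := congrArg Sy.x3 h1
      rw [hα.x3, one_smul] at this
      exact this)
  have hB := ker_arg hlt (fun a => ((c (e5 φ a) : Q2 φ) : Sy φ).x2)
    (fun a b => by
      have := congrArg Sy.x2 (hadd a b)
      rw [mul_x2, hx1, hx6, sh_zero, zero_mul, zero_mul, tr_zero, zero_mul, add_zero, add_zero, add_zero] at this
      exact this)
    (fun s hs a ha => by
      obtain ⟨α, hα, h1⟩ := heq s hs a
      have := congrArg Sy.x2 h1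
      rw [hα.x2] at this
      simp only [RingEquiv.refl_apply] at this ha ⊢
      rw [ha, mul_zero] at this
      exact this)
  have hC := ker_arg hlt (fun a => ((c (e5 φ a) : Q2 φ) : Sy φ).x4)
    (fun a b => by
      have := congrArg Sy.x4 (hadd a b)
      rw [mul_x4, hx1, hx6, hA a] at this
      simp only [sh_zero, mul_zero, zero_mul, tr_zero, add_zero, sub_zero, ne_eq, OfNat.ofNat_ne_zero,
        not_false_eq_true, zero_pow] at this
      exact this)
    (fun s hs a ha => by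
      obtain ⟨α, hα, h1⟩ := heq s hs a
      have := congrArg Sy.x4 h1
      rw [hα.x4] at this
      simp only [RingEquiv.refl_apply] at this ha ⊢
      rw [ha, mul_zero] at this
      exact this)
  apply Subtype.ext
  ext
  · exact hx1 a
  · exact hx6 a
  · exact hx5 a
  · exact hA a
  · exact hB a
  · exact hC a

/-- `C_C(D₁) = 1` -/
theorem fix_all {p n : ℕ} (h : HypD φ p n)
    (hex : ∀ (s : K) (t : F), s ≠ 0 → t ≠ 0 →
      ∃ α : MulAut (Sy φ), IsTor α s t (RingEquiv.refl K) (RingEquiv.refl F))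
    {c : MulAut (Q2 φ)} (hc : c ∈ CC φ) (hD : ∀ d ∈ DD φ, d * c = c * d) : c = 1 := by
  have h1 := fix_e1 h hex hc hD
  have h5 := fix_e5 h hex hc hD
  have h3 : ∀ z : Q2 φ, (z : Sy φ) ∈ Z3 φ → c z = z := by
    intro z hz
    obtain ⟨a, b, b', hs⟩ := exists_cr_add φ (z : Sy φ).x3
    set y : Q2 φ := ⁅e1 φ a, e5 φ b⁆ * ⁅e1 φ 1, e5 φ b'⁆ with hy
    have hcy : c y = y := by
      rw [hy, map_mul, map_comm', map_comm', h1, h5, h1, h5]
    have hyS : (y : Sy φ) = ⁅u1 φ a, u5 φ b⁆ * ⁅u1 φ 1, u5 φ b'⁆ := by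
      rw [hy, Subgroup.coe_mul, coe_comm, coe_comm]
      rfl
    have hy3 : (y : Sy φ) ∈ Z3 φ := by
      rw [hyS]
      exact mul_mem (comm_mem_Z3 (u5_mem _)) (comm_mem_Z3 (u5_mem _))
    have hx3 : (z : Sy φ).x3 = (y : Sy φ).x3 := by
      rw [hyS, mul_x3, (comm_mem_Z3 (x := u1 φ a) (u5_mem (φ := φ) b)).1,
        (comm_mem_Z3 (x := u1 φ 1) (u5_mem (φ := φ) b')).2.1, comm_x3 (u5_mem _), comm_x3 (u5_mem _),
        cr_zero_left, zero_smul, add_zero, add_zero]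
      exact hs
    have h6 : ((y⁻¹ * z : Q2 φ) : Sy φ) ∈ Z2 φ := (quo_Z2 hy3 hz).2 hx3
    have h7 := hc.2.2 _ h6
    calc c z = c (y * (y⁻¹ * z)) := by rw [mul_inv_cancel_left]
      _ = z := by rw [map_mul, hcy, h7, mul_inv_cancel_left]
  apply MulEquiv.ext
  intro e
  set y : Q2 φ := e5 φ (e : Sy φ).x5 * e1 φ (e : Sy φ).x1 with hy
  have hcy : c y = y := by rw [hy, map_mul, h1, h5]
  have hyS : (y : Sy φ) = u5 φ (e : Sy φ).x5 * u1 φ (e : Sy φ).x1 := rfl
  have h6 : ((y⁻¹ * e : Q2 φ) : Sy φ) ∈ Z3 φ := by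
    rw [Subgroup.coe_mul, Subgroup.coe_inv]
    refine (quo_Z3 (x := (y : Sy φ)) (y := (e : Sy φ)) y.2 e.2).2 ⟨?_, ?_⟩
    · rw [hyS, mul_x1]; simp [u5, u1]
    · rw [hyS, mul_x5]; simp [u5, u1]
  have h7 := h3 _ h6
  calc c e = c (y * (y⁻¹ * e)) := by rw [mul_inv_cancel_left]
    _ = e := by rw [map_mul, hcy, h7, mul_inv_cancel_left]

/-! ### the Weyl element normalizes the torus -/

theorem w2_norm (hex : ∀ (s : K) (t : F), s ≠ 0 → t ≠ 0 →
      ∃ α : MulAut (Sy φ), IsTor α s t (RingEquiv.refl K) (RingEquiv.refl F))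
    {w : MulAut (Q2 φ)} (hw : IsW2 w) {d : MulAut (Q2 φ)} (hd : d ∈ DD φ) : w * d * w⁻¹ ∈ DD φ := by
  obtain ⟨s, t, α, h1, h2⟩ := hd
  have hs := h1.nes
  have ht := h1.net
  have htK : algebraMap F K t ≠ 0 := by simpa using ht
  obtain ⟨β, hβ⟩ := hex (s * algebraMap F K t) t⁻¹ (mul_ne_zero hs htK) (inv_ne_zero ht)
  have htt : algebraMap F K t⁻¹ * algebraMap F K t = 1 := by rw [← map_mul, inv_mul_cancel₀ ht, map_one]
  have key : w * d = res2 β * w := by
    apply MulEquiv.ext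
    intro e
    apply Subtype.ext
    rw [MulAut.mul_apply, MulAut.mul_apply, isR_res2 β]
    ext
    · rw [hw.x1, h2, h1.x5, hβ.x1, hw.x1]
      simp only [RingEquiv.refl_apply]
      cub
    · rw [hβ.x6, show ((w e : Q2 φ) : Sy φ).x6 = 0 from (w e).2,
        show ((w (d e) : Q2 φ) : Sy φ).x6 = 0 from (w (d e)).2]
      simp
    · rw [hw.x5, h2, h1.x1, hβ.x5, hw.x5]
      simp only [RingEquiv.refl_apply, Algebra.smul_def]
      linear_combination (-(s * (e : Sy φ).x1)) * htt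
    · rw [hw.x3, h2, h1.x3, h1.x1, h1.x5, hβ.x3, hw.x3]
      simp only [RingEquiv.refl_apply, Algebra.smul_def, sh, cr, map_mul, phi_coe]
      linear_combination (-(algebraMap F K t * φ s * φ (φ s) * ((e : Sy φ).x3 -
        (φ (e : Sy φ).x1 * φ (φ (e : Sy φ).x5) + φ (φ (e : Sy φ).x1) * φ (e : Sy φ).x5)))) * htt
    · rw [hw.x2, h2, h1.x4, h1.x3, h1.x1, h1.x5, hβ.x2, hw.x2]
      simp only [RingEquiv.refl_apply]
      have e1 : nm φ (s * algebraMap F K t) * t⁻¹ = nm φ s * t ^ 2 := by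
        have : nm φ (algebraMap F K t) = t ^ 3 := by
          apply FK_inj φ
          rw [coe_nm, phi_coe, phi_coe, map_pow]; ring
        rw [nm_mul, this]
        field_simp
      rw [e1]
      apply FK_inj φ
      cub
    · rw [hw.x4, h2, h1.x2, h1.x3, h1.x1, h1.x5, hβ.x4, hw.x4]
      simp only [RingEquiv.refl_apply]
      have e1 : nm φ (s * algebraMap F K t) * t⁻¹ ^ 2 = nm φ s * t := by
        have : nm φ (algebraMap F K t) = t ^ 3 := by
          apply FK_inj φ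
          rw [coe_nm, phi_coe, phi_coe, map_pow]; ring
        rw [nm_mul, this]
        field_simp
      rw [e1]
      apply FK_inj φ
      cub
  rw [key, mul_assoc, mul_inv_cancel, mul_one]
  exact ⟨_, _, β, hβ, isR_res2 β⟩

theorem mem_CC_of_same {γ δ : MulAut (Q2 φ)} (h : Same2 γ δ) : γ * δ⁻¹ ∈ CC φ := by
  rw [mem_CC, ← tr2_iff]
  obtain ⟨h1, h2, h3⟩ := h
  refine ⟨fun e => ?_, fun e he => ?_, fun e he => ?_⟩
  · have := h1 (δ⁻¹ e)
    rw [inv_apply_self'] at this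
    exact this
  · have := h2 (δ⁻¹ e) (aut_Z3 _ he)
    rw [inv_apply_self'] at this
    exact this
  · have := h3 (δ⁻¹ e) (aut_Z2 _ he)
    rw [inv_apply_self'] at this
    exact this

/-- (D3-L2) -/
theorem st_L2 (hA : StL2a.{u}) (hN : StNLift.{u}) (hG : StGrpD.{u}) : StL2.{u} := by
  intro F K _ _ _ φ _ p n h Γ D hP hT γ
  obtain ⟨-, h1, h2⟩ := hA h Γ D hP
  obtain ⟨-, hpg, hex', -, -, -⟩ := hG h
  have hex : ∀ (s : K) (t : F), s ≠ 0 → t ≠ 0 →
      ∃ α : MulAut (Sy φ), IsTor α s t (RingEquiv.refl K) (RingEquiv.refl F) :=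
    fun s t hs ht => hex' s t _ _ hs ht fun _ => rfl
  have := h.fin
  have := fin_F h
  have : Fact p.Prime := ⟨h.pp⟩
  have : Finite (Q2 φ) := inferInstance
  have : Finite (MulAut (Q2 φ)) := inferInstance
  have hCp : IsPGroup p (CC φ) := isPGroup_CC hpg
  have hDD : DD φ ≤ Γ := by
    rintro δ ⟨s, t, α, h1, h2⟩
    exact hP.D_res α (hT s t α h1) δ h2
  have hLam : Lam2 φ ≤ Γ := by
    refine sup_le hP.indu ((Subgroup.closure_le _).2 fun w hw => ?_)
    have hw' : IsW2 w := hw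
    obtain ⟨γ0, hγ0, hs⟩ := h1 w (Subgroup.mem_sup_right (Subgroup.subset_closure hw))
    refine hN (CC φ) Γ (DD φ) inferInstance hCp hDD (card_DD h) (fun c hc hd => fix_all h hex hc hd) w γ0 hγ0 ?_
      fun d hd => w2_norm hex hw' hd
    have := (CC φ).inv_mem (mem_CC_of_same hs)
    rwa [mul_inv_rev, inv_inv] at this
  constructor
  · intro hγ
    obtain ⟨l, hl, d, hd, δ, hδ, hs⟩ := h2 γ hγ
    have hδΓ : δ ∈ Γ := hP.D_res d hd δ hδ
    have hc : γ * (l * δ)⁻¹ ∈ CC φ ⊓ Γ :=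
      ⟨mem_CC_of_same hs, Γ.mul_mem hγ (Γ.inv_mem (Γ.mul_mem (hLam hl) hδΓ))⟩
    obtain ⟨g, hg, hg'⟩ := hP.syl (CC φ ⊓ Γ) inf_le_right (hCp.to_le inf_le_left)
    have hc' : g⁻¹ * (γ * (l * δ)⁻¹) * g ∈ CC φ ⊓ Γ := by
      refine ⟨?_, Γ.mul_mem (Γ.mul_mem (Γ.inv_mem hg) hc.2) hg⟩
      have := (inferInstance : (CC φ).Normal).conj_mem _ hc.1 g⁻¹
      rwa [inv_inv] at this
    have h3 := hg' _ hc'
    have h4 : g * (g⁻¹ * (γ * (l * δ)⁻¹) * g) * g⁻¹ = γ * (l * δ)⁻¹ := by group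
    rw [h4] at h3
    refine ⟨γ * (l * δ)⁻¹ * l, mul_mem (Subgroup.mem_sup_left h3) hl, d, hd, δ, hδ, ?_⟩
    group
  · rintro ⟨l, hl, d, hd, δ, hδ, rfl⟩
    exact mul_mem (hLam hl) (hP.D_res d hd δ hδ)

end Cfsg.Agent.H640.D4
end

-- part: H802/TE/Mid
section
/-!
# S5261: all pieces from the two facts with a large import closure (`StRk1` and the statement S3083)
-/

set_option autoImplicit false

namespace Cfsg.Agent.H802.TE

universe u v

theorem stE_of_sq (h : Cfsg.Agent.H218.TE.StSQ.{u}) : StE.{u} :=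
  @stE_pre (Cfsg.Agent.H218.TE.eng_of h) (Cfsg.Agent.H218.TE.roAbs_of h)

theorem pieces_of (hsq : Cfsg.Agent.H218.TE.StSQ.{u}) (hrk : Cfsg.Agent.H780.D4.StRk1.{u}) :
    Cfsg.Agent.H780.D4.Pieces.{u} := by
  have grp : Cfsg.Agent.H780.D4.StGrpD.{u} := Cfsg.Agent.H765.D4.stGrpD
  have lin1 : Cfsg.Agent.H780.D4.StLin1.{u} := Cfsg.Agent.H673.D4.stLin1 hrk Cfsg.Agent.H200.D4.stLin1b
  have l1a : Cfsg.Agent.H780.D4.StL1a.{u} := Cfsg.Agent.H932.D4.stL1a grp lin1
  have l2a : Cfsg.Agent.H780.D4.StL2a.{u} := Cfsg.Agent.H7.D4.LTwoA.stL2a grp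
  have nl : Cfsg.Agent.H780.D4.StNLift.{u} := Cfsg.Agent.H25.D4.stNLift
  exact
    { ess := Cfsg.Agent.H245.PU.stEss
      con := Cfsg.Agent.H546.PU.stCon
      same := Cfsg.Agent.H546.PU.stSame
      twist := Cfsg.Agent.H805.PU.stTwist
      compl := Cfsg.Agent.H805.PU.stCompl
      tialp := Cfsg.Agent.H805.D4.stTIAlp
      grp := grp
      e := stE_of_sq hsq
      pos := Cfsg.Agent.H765.D4.stPosD
      tor := Cfsg.Agent.H812.D4t.stTor_of grp
      l1a := l1a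
      l1 := Cfsg.Agent.H131.D3L1.stL1 nl grp l1a
      l2a := l2a
      l2 := Cfsg.Agent.H640.D4.st_L2 l2a nl grp
      real := Cfsg.Agent.H491.D4.stRealD_of grp }

theorem final (hsq : Cfsg.Agent.H218.TE.StSQ.{v}) (hrk : Cfsg.Agent.H780.D4.StRk1.{v})
    {Ω : Type u} [Group Ω] {S : Subgroup Ω} [Finite S] (p : ℕ) [Fact p.Prime] (F : Cfsg.FusionSystem S)
    (hF : F.IsSaturated p) {K : Type v} [Field K] [Fintype K] [CharP K p] (n : ℕ) (hn : 1 ≤ n)
    (hK : Fintype.card K = (p ^ n) ^ 3) (T : Sylow p ↥(Cfsg.Lie.twistedD4 K (p ^ n)))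
    (e : ↥S ≃* ↥(T : Subgroup ↥(Cfsg.Lie.twistedD4 K (p ^ n)))) : F.IsRealizable p :=
  Cfsg.Agent.H780.D4.final_of (pieces_of hsq hrk) Cfsg.Agent.H805.PU.stTrans p F hF n hn hK T e

end Cfsg.Agent.H802.TE
end

private theorem dce_8a360e31cbb7 : _root_.True := by
  try have : _root_.True := by simp only [_root_.Cfsg.Agent.H756.PU.NormAut.eq_1]
  try have : _root_.True := by simp only [_root_.Cfsg.Agent.H640.D4.e1.eq_1]
  try have : _root_.True := by simp only [_root_.Cfsg.Agent.H7.D4.LTwoA.ml.eq_1]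
  try have : _root_.True := by simp only [_root_.Cfsg.Agent.H640.D4.e5.eq_1]
  try have : _root_.True := by simp only [_root_.Cfsg.Agent.H780.D4.Lam1.eq_1]
  exact _root_.True.intro
end
end
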